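import Cfsg.Agent.H698.U33.Clo.Rows

/-!
# S5525: the closure certificate, rows 0 to 11 (helper698; data of helper819, helper763)
-/

set_option autoImplicit false
set_option maxRecDepth 100000
set_option Elab.async false

namespace Cfsg.Agent.H698.U33.Clo

def r0 : List (ℕ × Bool × List ℕ) := [(156, false, [4, 0, 4, 0, 1, 3, 1, 0, 4, 3, 1]), (121, true, [4, 0, 1, 3, 1, 0, 4, 3, 4, 3, 1, 0, 1, 0, 1]), (117, false, [0, 1, 0, 2, 4, 0, 1, 3, 4]), (178, false, [2, 0, 4, 0, 4, 0, 4, 3, 1, 3, 1, 0, 4, 0]), (121, true, [4, 3, 4, 0, 1, 0, 1, 0]), (183, true, [4, 0, 1, 0, 4, 3, 1, 3, 1, 3, 4, 0, 4, 3]), (266, false, [1, 0, 1, 2, 0, 1, 0, 1, 0, 1, 0, 1, 0, 4, 0]), (179, false, [3, 4, 0, 4, 3, 4, 0, 4, 3, 1]), (30, false, [1, 2,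 0, 1, 3, 1, 3, 4, 3, 4, 3, 4, 0, 4]), (147, true, [4, 0, 1, 3, 4, 0, 4, 3, 1, 0, 4]), (236, false, [2, 4, 0, 4, 0, 4, 3, 4, 0, 4, 3, 4, 3]), (257, false, [0, 1, 3, 1, 3, 4, 3, 4, 3]), (89, false, [3, 1, 0, 1, 3, 1, 3, 4, 0, 1, 3]), (230, true, [1, 0, 2, 4, 0, 1, 0, 4, 3, 1, 0]), (186, true, [1, 0, 1, 0, 2, 4, 0, 1, 3, 1, 3, 1, 3, 4]), (153, true, [1, 2, 0, 4, 0, 1, 3, 1, 3, 1, 0, 1, 3, 4, 0, 4, 0]), (183, false, [0, 1, 3, 1, 0, 1, 3, 1, 0, 4, 3, 4, 0, 4]), (281, true, [2, 4, 0, 1, 0, 1, 3, 1, 0, 4, 0, 4, 3, 1]), (182, false, [0, 1, 0, 1, 3, 1, 3, 1, 0, 1, 0, 1, 0, 4]), (256, false, [0, 1, 0, 1, 0, 4, 3, 4, 0, 1, 3, 4, 3, 4, 0]), (236, true, [1, 3, 1, 3, 1, 0, 4, 3, 4, 3, 4, 0, 4, 0, 1, 0]), (76, false, [3, 4, 3, 1,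 0, 4, 3, 4, 3, 4, 0, 4, 3, 1, 3]), (186, true, [2, 4, 3, 1, 3, 1, 0, 1, 0, 1, 3, 1, 3, 4, 0, 1]), (257, false, [1, 0, 1, 0, 4, 0, 4, 3, 4, 0, 4, 3, 1, 3, 1]), (257, true, [0, 4, 0, 1, 0, 1, 3, 4, 3, 1, 0, 1, 0]), (117, false, [1, 3, 1, 0, 4, 3, 4, 0, 1, 3, 4, 0]), (91, false, [4, 0, 4, 0, 4, 3, 1, 0, 1, 0, 1, 3, 4, 0, 1]), (188, false, [3, 4, 3, 4, 0, 4, 0, 4, 3, 4, 3, 1, 0, 4]), (121, false, [1, 0, 2, 4, 3, 4, 3, 4, 3]), (121, false, [4, 0, 4, 0, 1, 3, 4, 0, 4, 0, 1, 3]), (267, true, [1, 3, 4, 0, 1, 3, 1, 3, 4, 3, 4, 0, 4]), (89, false, [2, 4, 3, 1, 3, 4, 0, 1, 0, 1, 3, 1, 0, 1]), (188, true, [0, 2, 4, 3, 1, 0, 4, 3, 4, 0, 1, 0, 1, 0, 1, 3]), (76, true, [0, 4, 3, 1, 0, 1, 0, 4, 0, 4, 0, 1, 3, 4]), (183, true, [1, 0,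 1, 2, 0, 1, 0, 4, 3, 1, 3, 1, 3, 1, 0, 4, 3]), (76, true, [4, 3, 4, 3, 4, 0, 4, 0, 4, 3, 4, 0]), (147, false, [4, 3, 4, 0, 4, 3, 4, 0, 4, 3]), (230, true, [0, 1, 2, 0, 4, 0, 4, 0, 1, 3, 4]), (56, true, [4, 3, 1, 0, 4, 3, 4, 0, 1, 0, 4]), (236, true, [0, 1, 0, 2, 4, 3, 4, 0, 4, 0, 4, 3, 1, 3, 4]), (266, true, [1, 2, 0, 1, 3, 1, 3, 1, 3, 4, 3, 4, 3, 4, 0]), (238, false, [0, 2, 4, 3, 1, 0, 1, 0, 1, 3, 4, 0, 4]), (178, true, [1, 2, 0, 4, 3, 4, 0, 1, 3, 4, 3, 4, 0, 1]), (238, true, [1, 3, 1, 3, 4, 0, 4, 3, 1, 0, 1, 0]), (91, true, [2, 0, 4, 3, 4, 0, 1, 0, 1, 3, 4, 0, 4, 3]), (91, true, [0, 1, 0, 1, 3, 1, 3, 4, 0, 4, 0, 4, 0, 4, 3]), (178, false, [4, 3, 4, 0, 4, 0, 1, 3, 4, 0, 4, 3, 1, 3, 4, 0]), (182, true, [1, 3, 1, 0,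 1, 0, 1, 3, 4, 3, 4, 0, 1, 3, 1, 0]), (266, false, [3, 1, 0, 1, 0, 1, 0, 4, 3, 4, 0, 1, 0]), (257, true, [4, 0, 1, 3, 4, 0, 4, 0, 1, 3, 1, 3, 4]), (255, false, [0, 1, 0, 1, 3, 1, 3, 4, 0, 4, 0, 4, 0, 4, 3]), (255, true, [4, 0, 4, 0, 4, 3, 1, 0, 1, 0, 1, 3, 4, 0, 1]), (179, true, [3, 1, 0, 4, 3, 1, 0, 1, 0, 1, 3, 4, 0, 4, 0]), (117, true, [3, 1, 0, 1, 3, 1, 3, 4, 3, 4, 3, 4, 0, 4, 0]), (183, false, [0, 2, 4, 0, 4, 3, 4, 0, 4, 3, 4, 3, 4, 3, 1, 0, 1]), (188, true, [0, 1, 3, 1, 0, 4, 3, 4, 3, 4, 3, 4, 0, 1, 0]), (76, false, [1, 0, 4, 0, 1, 3, 1, 3, 4, 0, 4, 3, 1]), (256, true, [0, 2, 4, 0, 1, 0, 4, 3, 4, 3, 1, 0, 1, 3, 4, 3]), (239, true, [3, 1, 0, 1, 0, 1, 0, 4, 0]), (188, true, [2, 4, 0, 1, 0, 4, 3, 4, 3, 4, 3, 4, 3,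 4, 0, 1, 0, 1]), (236, false, [1, 3, 4, 0, 1, 3, 1, 3, 4, 0, 4, 0, 4, 3, 4]), (188, true, [4, 0, 1, 3, 4, 0, 4, 3, 1, 3]), (153, false, [0, 2, 4, 0, 4, 0, 1, 3, 1, 3, 1, 3, 1, 0, 1]), (186, false, [1, 0, 4, 3, 4, 0, 4, 3, 4, 3, 1, 0, 1]), (129, true, [3, 1, 0, 1, 0, 1, 3, 1, 3, 1, 0, 1]), (239, false, [1, 2, 0, 4, 3, 1, 0, 1, 0, 4, 0, 4, 0, 1]), (121, false, [0, 2, 4, 0, 1, 3, 4, 3, 1]), (153, true, [1, 3, 1, 0, 1, 0, 1, 0, 4, 0, 4, 3, 4, 3]), (117, true, [0, 4, 3, 1, 3, 4, 0, 4, 0]), (121, true, [1, 3, 1, 3, 1, 0, 1, 0, 1, 0, 4, 0, 4, 0, 1, 0]), (121, true, [4, 3, 4, 0, 1, 0, 1, 0]), (182, true, [2, 4, 0, 4, 3, 1, 0, 1, 3, 1, 3, 1, 0, 4, 3, 1]), (266, true, [4, 0, 4, 0, 4, 3, 1, 0, 1, 0, 4, 0, 4, 3, 1, 0]), (76, false,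 [1, 3, 1, 0, 4, 0, 4, 3, 1, 3, 1, 3, 1, 0, 1, 3]), (188, false, [0, 1, 0, 1, 0, 1, 3, 1, 3, 4, 0, 4, 0, 1]), (256, false, [2, 4, 3, 4, 0, 4, 0, 4, 3, 4, 0, 4]), (117, false, [3, 4, 3, 1, 0, 4, 3, 4, 0, 1, 3]), (182, false, [2, 4, 0, 4, 3, 4, 0, 4, 0, 4, 3, 4, 0, 1, 0]), (188, false, [1, 0, 2, 4, 3, 4, 0, 4, 0, 4, 3, 4, 3, 4, 3, 1]), (169, false, [4, 3, 1, 0, 1, 0, 4, 3, 4, 0, 4, 0]), (230, false, [0, 1, 3, 4, 0, 1, 3, 1, 3, 4, 0, 4, 0]), (91, false, [2, 4, 3, 4, 0, 1, 3, 1, 3, 1, 0, 1, 3, 4, 3, 1]), (30, true, [0, 4, 0, 4, 0, 1, 3, 1, 3, 4, 0, 4, 0, 4, 0]), (169, true, [3, 1, 3, 4, 3, 4, 3, 4, 0, 1, 0]), (89, true, [0, 1, 0, 2, 4, 0, 1, 3, 1, 0, 1, 0, 1, 3, 1]), (281, false, [3, 4, 3, 4, 0, 4, 3, 1, 3, 1, 3, 1]), (153,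 false, [0, 4, 3, 4, 3, 1, 0, 1, 0, 4, 3, 4, 3, 1, 0, 1]), (255, false, [2, 0, 4, 3, 4, 0, 1, 0, 1, 3, 4, 0, 4, 3]), (255, true, [2, 4, 3, 4, 0, 1, 3, 1, 3, 1, 0, 1, 3, 4, 3, 1]), (89, true, [0, 1, 0, 4, 3, 1, 0, 1, 3, 4, 3, 1]), (169, true, [2, 4, 3, 1, 0, 1, 3, 4, 3, 4, 0, 1, 3, 4, 0]), (188, true, [0, 1, 2, 0, 1, 0, 1, 0, 4, 3, 1, 0]), (230, false, [0, 4, 0, 4, 0, 1, 3, 4, 3, 4, 0, 1, 0, 1, 3, 1]), (188, true, [0, 1, 0, 1, 0, 1, 0, 4, 3, 1, 0]), (186, false, [1, 0, 1, 0, 1, 0, 4, 0, 4, 0, 1]), (243, false, [3, 1, 0, 4, 0, 4, 0, 4, 3, 4, 0, 4, 3, 1, 3]), (267, false, [1, 0, 1, 0, 1, 0, 4, 0, 4, 3]), (256, true, [0, 1, 0, 1, 0, 4, 0, 4, 0, 4, 0, 1, 3]), (188, false, [0, 2, 4, 3, 1, 0, 1, 0, 1, 3, 1, 0]), (129, false,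 [0, 1, 0, 1, 3, 1, 0, 1, 3, 1, 3]), (169, false, [0, 1, 0, 4, 3, 4, 3, 1, 0, 4, 3, 1]), (179, true, [2, 0, 1, 3, 1, 0, 1, 3, 1, 3, 1, 0, 4, 3, 4, 0]), (76, true, [0, 1, 3, 4, 3, 1, 0, 1, 0, 1, 3, 1, 3, 4, 3, 4]), (121, false, [4, 0, 4, 0, 1, 3, 4, 0, 4, 0, 1, 3]), (179, false, [2, 0, 4, 3, 4, 0, 4, 3, 1, 0, 1, 3, 1]), (117, true, [0, 4, 3, 1, 3, 4, 0, 4, 0, 4, 0, 4, 3, 1, 3, 1]), (156, true, [2, 4, 0, 4, 0, 4, 3, 1, 3, 1, 0, 4, 3, 4, 0]), (188, false, [0, 1, 2, 0, 4, 3, 4, 0, 4, 0, 4, 3, 4, 0, 1, 3, 4]), (56, false, [0, 1, 0, 1, 0, 1, 0, 4, 0, 4, 3, 1, 3, 1, 3]), (188, false, [3, 1, 3, 4, 3, 4, 0, 4, 0, 4, 3, 4, 3, 4, 3, 1]), (178, true, [1, 3, 4, 3, 1, 0, 1, 0, 1, 0, 1, 3, 4, 0, 1, 0]), (243, true, [3, 4, 3, 4, 0,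 1, 3, 1, 0, 4, 0, 4, 0])]
def r1 : List (ℕ × Bool × List ℕ) := [(190, false, [0, 4, 3, 4, 3, 1, 0, 4, 3, 4]), (29, true, [1, 2, 0, 4, 0, 1, 3, 1, 3, 4, 0, 4, 3]), (199, false, [1, 0, 1, 2, 0, 4, 0, 4, 3, 4, 3, 1, 0, 1, 0]), (43, false, [4, 3, 1, 0, 1, 3, 4, 0, 4, 3, 1, 3, 4, 0, 4]), (244, false, [0, 1, 3, 4, 0, 1, 3, 1, 3, 1, 0, 4, 3, 4, 0]), (276, false, [2, 0, 4, 0, 4, 0, 4, 3, 1, 3, 4, 0, 4, 3]), (128, false, [1, 0, 1, 0, 1, 0, 1, 2, 0, 4, 3, 4, 0, 4, 3, 4, 3]), (274, true, [0, 1, 3, 1, 0, 1, 0, 1, 0, 4, 3, 4, 0]), (281, false, [1, 3, 1, 0, 1, 3, 4, 3, 4, 0, 1, 0, 4]), (109, true, [3, 4, 0, 4, 3, 4, 3, 1, 0, 1, 0, 1, 3]), (128, true, [0, 1, 0, 1, 2, 0, 1, 0, 4, 3, 1, 0, 1, 3, 4]), (115, true, [0, 4, 0, 1, 3, 4, 3,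 4, 3, 4, 0, 4, 3, 1]), (58, false, [2, 0, 4, 3, 4, 3, 1, 0, 1, 0, 1, 0, 1, 3, 1, 3]), (126, true, [1, 2, 0, 1, 3, 4, 0, 4, 0, 4, 0, 1, 3, 1, 0]), (267, false, [1, 0, 1, 0, 1, 2, 0, 1, 0, 1, 0, 4]), (272, true, [1, 3, 1, 0, 1, 0, 1, 3, 1, 3, 4, 0, 1]), (251, false, [1, 3, 4, 3, 1, 0, 4, 0, 4]), (95, false, [0, 1, 3, 1, 3, 1, 3, 4, 3, 4, 3, 4, 0, 1, 0]), (190, true, [4, 0, 1, 0, 4, 3, 4, 0, 1, 3, 1, 3, 4, 3]), (105, true, [2, 0, 4, 3, 1, 0, 4, 3, 4, 3, 4, 0, 4, 3, 1, 0]), (128, false, [4, 3, 4, 0, 1, 0, 1, 0, 4, 3, 4, 0, 1, 0, 1, 3]), (270, true, [4, 0, 1, 3, 1, 3, 1, 0, 4, 3, 4, 3, 4, 0, 1]), (183, false, [1, 0, 1, 0, 1, 0, 1, 2, 0, 1, 0]), (257, true, [1, 0, 1, 0, 4, 3, 4, 0, 4, 0, 1, 3]), (257, false, [3, 4, 3, 1,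 3, 1, 3, 1, 0, 4, 3, 4, 0, 1, 0]), (276, true, [2, 0, 4, 0, 1, 3, 4, 0, 4, 0, 4, 3, 1, 3]), (256, false, [0, 1, 0, 1, 3, 1, 0, 1, 3, 1, 3, 1, 3]), (200, false, [0, 4, 0, 1, 3, 1, 3, 4, 0, 4, 0, 1, 3, 1, 0]), (29, false, [0, 1, 3, 4, 0, 4, 0, 4, 3, 4, 3, 4, 0, 4, 0, 1]), (115, true, [0, 4, 0, 1, 3, 4, 3, 4, 3, 4, 0, 4, 3, 1]), (183, false, [4, 3, 4, 0, 4, 3, 1, 3, 1, 3, 1, 0, 4, 3]), (105, false, [4, 3, 4, 3, 1, 0, 4, 0, 4, 3, 4, 0, 1, 0]), (200, true, [0, 1, 0, 2, 4, 0, 4, 0, 4, 3, 1, 0, 1, 0, 1, 3, 4, 3]), (193, false, [1, 3, 1, 0, 1, 3, 4, 3, 1, 0, 1, 0, 1, 3]), (251, true, [1, 3, 1, 0, 1, 3, 1, 0, 4, 0, 4, 0, 1, 3]), (270, false, [1, 2, 0, 4, 0, 4, 0, 4, 3, 4, 3, 4, 3, 4, 0, 1]), (109, false, [1, 2, 0, 1, 3, 1, 3,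 1, 0, 4, 3, 4, 0, 1, 0, 1, 3]), (75, true, [1, 2, 0, 1, 0, 1, 3, 1, 0, 1, 3, 4]), (270, false, [3, 4, 3, 1, 3, 1, 3, 1, 0, 4, 0, 4, 3, 4, 3]), (276, true, [2, 0, 4, 0, 1, 0, 1, 3, 4, 3, 1, 0, 1]), (199, true, [2, 0, 1, 3, 1, 0, 1, 0, 1, 3]), (126, true, [0, 4, 3, 4, 3, 1, 0, 1, 0, 4, 3, 4, 0]), (169, true, [1, 0, 1, 2, 0, 1, 0, 1, 3, 4, 3, 4, 0, 1, 0]), (126, false, [0, 2, 4, 0, 4, 3, 4, 3, 1, 0, 4, 3]), (256, true, [1, 0, 1, 2, 0, 1, 3, 4, 3, 4, 0, 4, 3, 4]), (58, false, [3, 1, 3, 4, 3, 4, 0, 4, 0, 4, 3, 1, 0, 1, 3, 1]), (169, false, [1, 3, 1, 0, 4, 0, 4, 3, 4, 0, 1, 0, 1, 0]), (103, false, [0, 1, 0, 1, 0, 1, 3, 4, 0, 1, 0, 1, 3, 1]), (199, false, [0, 1, 3, 1, 0, 4, 3, 4, 0, 1, 0, 1, 0, 1, 0, 4]), (115, false, [1,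 0, 2, 4, 3, 4, 0, 4, 0, 4, 3, 1, 0]), (71, false, [2, 0, 1, 0, 1, 0, 1, 3, 4, 3, 4, 0, 4, 3]), (162, true, [1, 0, 4, 3, 1, 0, 4, 0, 4, 3, 1, 3]), (178, false, [1, 3, 4, 0, 1, 3, 1, 3, 4, 0, 1, 0, 1, 0]), (276, false, [4, 0, 4, 3, 4, 3, 4, 0, 4, 0, 4, 0, 4, 0]), (276, true, [3, 1, 0, 1, 3, 1, 0, 1, 3, 1, 3, 4, 0]), (72, true, [1, 2, 0, 4, 3, 1, 3, 1, 3, 1, 0, 4, 0, 1]), (193, false, [2, 4, 0, 4, 3, 1, 0, 1, 0, 4, 0, 4, 3, 1, 3]), (105, false, [1, 3, 1, 0, 1, 0, 1, 3, 1, 0, 4, 3]), (178, false, [2, 0, 1, 3, 4, 3, 4, 0, 4, 0, 4, 0, 4, 3, 4]), (184, true, [4, 0, 1, 0, 4, 3, 1, 3, 1, 0, 1, 3, 4, 3]), (276, false, [1, 3, 1, 3, 4, 0, 4, 3, 4, 3, 1, 3]), (109, true, [2, 0, 4, 0, 1, 3, 1, 0, 1, 3, 4, 0, 1]), (72, false, [2,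 4, 0, 4, 0, 4, 3, 4, 3, 4, 0, 4, 3, 1, 3]), (183, true, [3, 1, 0, 4, 3, 1, 0, 1, 0, 4, 0, 4, 3, 1, 0]), (43, false, [1, 0, 2, 4, 3, 1, 0, 1, 3, 1, 3, 1, 0]), (178, true, [3, 4, 0, 1, 0, 1, 0, 4, 3, 4, 0, 4, 0, 4, 3]), (244, false, [1, 0, 4, 3, 4, 3, 1, 0, 4, 0, 4, 3, 4, 0]), (72, true, [1, 3, 1, 3, 1, 0, 1, 0, 1, 3, 4, 3]), (199, true, [3, 4, 3, 1, 3, 1, 3, 1, 0, 1, 3, 4, 0, 1]), (244, true, [0, 1, 0, 1, 2, 0, 4, 0, 4, 3, 4, 3, 1]), (115, false, [1, 0, 2, 4, 3, 4, 0, 4, 0, 4, 3, 1, 0]), (190, false, [0, 1, 0, 1, 0, 2, 4, 0, 4]), (128, true, [4, 3, 1, 0, 4, 3, 1, 3, 1, 0, 4]), (187, true, [2, 4, 0, 1, 0, 4, 3, 4, 3, 4, 3, 4, 0, 1, 3, 4]), (184, false, [4, 0, 4, 3, 4, 3, 4, 3, 1, 0, 4, 0, 4]), (256, true, [1, 0, 1, 3,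 1, 0, 4, 0, 4, 0, 4, 3, 4]), (276, true, [3, 4, 3, 1, 3, 1, 0, 4, 3, 1, 0, 1]), (103, true, [4, 3, 4, 0, 1, 0, 1, 0, 4, 0, 4, 3]), (242, true, [1, 3, 4, 3, 4, 3, 1, 0, 1, 3, 4, 0, 1]), (272, false, [1, 2, 0, 1, 3, 4, 0, 4, 3, 4, 0, 4, 3, 1, 0]), (75, false, [1, 0, 4, 3, 1, 3, 4, 0, 4, 3, 1, 0, 4]), (58, true, [1, 0, 2, 4, 0, 4, 3, 1, 3, 1, 3, 4, 3, 4, 0, 4]), (281, true, [4, 0, 1, 0, 4, 3, 1]), (272, false, [4, 0, 1, 3, 1, 0, 1, 3, 1, 0, 4]), (58, true, [1, 0, 1, 3, 1, 3, 1, 3, 4, 3, 4, 0, 4]), (95, true, [3, 1, 0, 1, 3, 4, 0, 1, 3, 1, 3, 1, 0, 4]), (272, false, [0, 2, 4, 0, 4, 3, 4, 0, 4, 3, 4, 3, 1, 0, 1]), (162, false, [3, 1, 0, 1, 3, 4, 3, 4, 3, 4, 3]), (71, true, [1, 3, 1, 0, 4, 0, 4, 3, 1, 3, 1, 3, 1, 0, 1, 0]),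 (105, true, [2, 4, 3, 1, 0, 1, 3, 1, 0, 1, 3, 1]), (200, false, [0, 2, 4, 0, 1, 0, 1, 0, 4, 3, 4, 0, 1, 3, 4]), (193, true, [3, 4, 3, 1, 0, 1, 0, 1, 3, 1, 0, 4, 3, 1, 0]), (126, false, [3, 1, 0, 1, 0, 1, 0, 4, 3, 1, 0, 1, 0, 1, 0]), (242, false, [3, 4, 0, 1, 3, 1, 0, 4, 3, 4, 3, 4, 3, 4, 0, 4]), (267, true, [3, 4, 3, 4, 0, 4, 0, 4, 3, 1, 0, 1, 0, 4]), (71, false, [3, 4, 0, 4, 3, 4, 0, 4, 3, 4, 0, 1]), (183, true, [2, 4, 0, 4, 0, 4, 3, 4, 0, 4, 3, 4, 0]), (256, false, [2, 4, 0, 1, 3, 1, 3, 1, 3, 1, 0, 4, 0, 4, 3]), (72, false, [1, 3, 4, 0, 4, 3, 1, 0, 1, 0, 4, 0, 4, 3, 4]), (43, true, [3, 1, 3, 1, 0, 1, 3, 4, 0, 4, 0, 4, 3]), (200, true, [0, 4, 3, 1, 3, 1, 0, 1, 3, 4, 0, 4, 0]), (274, false, [0, 2, 4, 0, 4, 3]), (187,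 false, [4, 3, 1, 3, 1, 0, 4, 0]), (244, true, [3, 4, 0, 4, 3, 4, 3, 1, 0, 1, 3, 1, 0]), (178, true, [1, 2, 0, 4, 0, 4, 0, 1, 3, 4, 3, 4, 0, 1, 0]), (276, false, [1, 0, 1, 2, 0, 1, 0, 1, 3, 1, 3, 4, 0, 4]), (190, true, [2, 0, 1, 3, 1, 3, 4, 0, 4, 3, 1, 3, 1, 3, 4]), (109, false, [0, 1, 0, 4, 3, 1, 3, 4, 0, 4, 3, 1, 0, 4, 3]), (270, true, [1, 2, 0, 1, 0, 1, 3, 1, 3, 1, 0, 1, 0, 1, 0, 4, 0]), (193, true, [2, 4, 3, 4, 3, 1, 0, 1, 3]), (43, true, [1, 0, 1, 2, 0, 1, 0, 1, 3, 4, 3, 1, 0]), (71, true, [1, 0, 2, 4, 0, 4, 0, 4, 3, 4, 3, 4, 3])]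
def r2 : List (ℕ × Bool × List ℕ) := [(55, false, [3, 4, 3, 4, 0, 4, 0, 4, 3, 4]), (47, true, [3, 1, 3, 1, 3, 4, 0, 4, 3, 4, 0, 4]), (216, true, [1, 3, 1, 3, 1, 3, 1, 0, 1, 0, 1, 3, 4, 3]), (234, true, [2, 0, 4, 0, 1, 3, 1, 0, 4, 3, 1, 3, 4, 0]), (13, false, [3, 1, 0, 1, 0, 1, 3, 4, 0, 4, 3, 1, 0]), (172, false, [0, 1, 2, 0, 1, 3, 1, 3, 1, 0, 1, 0, 1, 3]), (268, false, [0, 1, 2, 0, 1, 0, 1, 3, 4, 0, 1, 0, 4]), (7, false, [1, 0, 1, 0, 1, 2, 0, 4, 3, 1, 3]), (125, false, [1, 0, 4, 3, 1, 3, 1, 3, 4, 0, 4, 3, 1, 3]), (135, false, [4, 0, 4, 3, 4, 3, 4, 0, 1, 3, 4, 0]), (180, true, [0, 1, 3, 4, 3, 1, 0, 4, 0, 4, 0, 4, 3, 1]), (23, true, [1, 0, 2, 4, 3, 4, 0, 1, 0, 1, 3, 1, 3, 1]), (234, false, [2, 0, 4, 3, 1, 0, 4, 0, 4,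 3, 4, 0, 1]), (180, false, [2, 0, 1, 3, 4, 0, 4, 3, 4, 3, 1, 0, 4, 0, 4, 0]), (260, false, [1, 0, 1, 3, 4, 3, 4, 3, 1, 0, 1, 3, 4, 3]), (49, true, [0, 1, 2, 0, 1, 3, 4, 0, 4, 0, 4, 0, 1, 3, 4]), (55, false, [4, 0, 4, 0, 1, 3, 1, 0, 4, 3, 4, 3]), (214, true, [3, 4, 0, 4, 3, 1, 3, 1, 0, 4, 0, 4, 3, 1, 0]), (55, false, [4, 0, 4, 0, 1, 3, 1, 0, 4, 3, 4, 3]), (249, true, [2, 4, 3, 4, 3, 1, 0, 4, 0, 4, 0, 1, 3]), (18, false, [3, 1, 3, 1, 0, 4, 3, 4, 3, 4, 0, 4, 0]), (69, false, [0, 1, 3, 1, 3, 1, 3, 1, 3, 4, 0]), (18, true, [3, 4, 0, 1, 0, 1, 3, 4, 0, 4, 3]), (260, true, [0, 1, 0, 2, 4, 0, 4, 0, 1, 3, 1, 3, 1, 0, 1, 0, 4]), (265, false, [3, 1, 0, 4, 3, 4, 0, 4]), (180, false, [1, 3, 1, 3, 1, 0, 4, 0, 4, 3, 1, 0, 4, 0, 4,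 0]), (280, false, [2, 4, 3, 1, 3, 1, 0, 4, 3, 1, 3, 1, 0]), (200, false, [0, 2, 4, 0, 1, 3, 1, 0, 1, 0, 1, 3, 1, 3, 4, 3]), (24, true, [1, 2, 0, 1, 3, 1, 3, 1, 0, 1]), (172, true, [0, 4, 0, 1, 3, 4, 3, 4, 0, 4, 3, 1, 0]), (200, true, [4, 0, 1, 0, 1, 3, 4, 3, 1, 0, 1, 3, 4, 0, 4]), (214, false, [2, 0, 1, 0, 4, 0, 4, 3, 1, 0, 1]), (69, true, [0, 4, 0, 4, 0, 4, 3, 1, 3, 4, 0, 1]), (200, false, [3, 4, 0, 1, 0, 1, 3, 1, 3, 1, 0, 1, 0, 4]), (243, false, [4, 3, 4, 3, 4, 3, 4, 0, 1, 3]), (152, false, [0, 1, 0, 2, 4, 0, 4, 3, 1, 3, 1, 0, 4, 3, 1, 0]), (50, false, [1, 0, 1, 2, 0, 1, 0, 1, 3, 4, 3, 4, 0, 1, 0, 1]), (16, true, [4, 3, 1, 0, 4, 0, 4, 3]), (113, false, [2, 4, 3, 1, 0, 4, 3, 4, 3, 4, 0, 4, 3, 1]), (18, true, [2, 4,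 0, 4, 3, 1, 0, 1, 0, 1, 3]), (125, false, [0, 1, 2, 0, 1, 3, 1, 3, 1, 3, 4]), (152, true, [1, 0, 4, 0, 1, 3, 1, 3, 4, 0, 4]), (249, false, [0, 4, 0, 1, 3, 1, 3, 4, 0, 1, 3, 1, 3]), (172, false, [0, 1, 0, 1, 0, 1, 3, 1, 3, 1, 0, 1, 0]), (168, false, [2, 4, 3, 4, 0, 1, 3, 1, 0, 4, 3, 4, 3, 1, 0]), (49, true, [4, 3, 4, 3, 4, 0, 1, 0, 1, 3, 1, 3]), (135, true, [2, 4, 3, 1, 3, 1, 0, 4, 3, 4, 0, 4, 0]), (125, true, [0, 1, 3, 4, 3, 4, 0, 1, 3, 1, 3, 1, 0, 4]), (38, true, [4, 3, 1, 3, 4, 0, 4, 3, 1, 0, 4, 0, 4, 3]), (113, true, [0, 1, 3, 1, 3, 4, 0, 4, 0, 1, 3, 1, 0, 4, 0]), (49, false, [0, 1, 2, 0, 1, 0, 4, 3, 4, 0]), (243, true, [3, 4, 0, 4, 3, 4, 0, 1, 3, 1, 3, 1]), (280, true, [1, 0, 1, 2, 0, 4, 0, 4, 3, 4, 0, 4, 0]), (180,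 true, [3, 4, 0, 1, 0, 1, 3, 4, 0, 1, 0, 1, 0, 4]), (29, true, [3, 4, 3, 1, 3, 1, 0, 4, 3, 4, 3, 4, 3]), (125, true, [2, 4, 3, 1, 0, 1, 0, 1, 0, 1, 3, 4, 3, 4, 0, 4]), (152, false, [4, 0, 4, 0, 1, 3, 4, 3, 4, 3, 4, 0, 4, 3]), (50, true, [4, 3, 1, 0, 1, 3, 1, 3, 4, 0, 1, 3]), (168, false, [4, 3, 1, 3, 1, 3, 4, 0, 4, 3, 4, 0]), (214, false, [1, 3, 1, 0, 4, 0, 4, 3, 1, 3, 1, 3, 1, 0, 1]), (13, true, [1, 3, 4, 3, 4, 0, 4, 0, 4, 3, 1, 0]), (7, true, [0, 4, 3, 4, 0, 4, 3, 4, 0]), (38, false, [0, 1, 0, 2, 4, 3, 4, 3, 1, 0, 1, 3, 4, 0, 4, 3]), (23, false, [2, 0, 4, 3, 1, 3, 1, 0, 4, 3, 4, 0, 4, 3, 4, 3]), (49, false, [1, 2, 0, 1, 3, 4, 0, 4, 0, 4, 3, 4, 3, 1, 0, 1]), (168, true, [0, 2, 4, 3, 1, 0, 1, 3, 1, 0, 4, 3, 1, 3]), (69,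 true, [0, 2, 4, 3, 4, 0, 4, 3, 4, 0, 4, 0, 4, 3, 1]), (38, false, [1, 0, 4, 0, 4, 0, 4, 3, 4, 3, 4, 3]), (38, true, [1, 0, 1, 0, 1, 3, 4, 0, 4, 3, 4, 0]), (172, true, [1, 0, 2, 4, 3, 4, 3, 1, 0, 1, 3, 4, 3, 4, 3, 4, 0]), (268, true, [1, 3, 1, 0, 1, 0, 4, 0, 4, 0, 4, 3, 4, 0, 1, 3]), (24, true, [1, 0, 1, 3, 4, 3, 4, 0, 4, 3, 1, 0]), (29, false, [4, 0, 1, 0, 1, 0, 1, 3, 4, 0, 4, 3, 4, 0]), (55, false, [3, 4, 3, 4, 0, 4, 0, 4, 3, 4]), (7, true, [0, 2, 4, 3, 1, 0, 1, 0, 4, 3, 4, 0, 1, 3, 1]), (177, true, [1, 3, 4, 0, 4, 0, 1, 3, 1, 0, 4, 0, 4]), (268, true, [2, 4, 3, 4, 3, 1, 0, 1, 3, 4, 3, 4, 3, 1, 0]), (38, true, [0, 1, 3, 1, 3, 1, 0, 1, 3, 4, 0]), (260, false, [0, 1, 0, 1, 2, 0, 1, 0, 1, 0, 4, 0, 4, 3, 1, 0, 1]), (180,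 false, [0, 2, 4, 0, 1, 3, 4, 0, 4, 3, 4, 3, 4, 0, 4, 3]), (16, false, [3, 4, 3, 4, 0, 4, 3, 1, 3, 4]), (214, true, [0, 2, 4, 0, 1, 0, 4, 3, 4, 0, 1, 3, 1, 3, 4, 0]), (38, false, [1, 3, 1, 3, 1, 3, 1, 3, 1, 3, 4]), (23, true, [1, 0, 4, 0, 4, 3, 1, 0, 1, 3, 1, 3, 1]), (249, false, [1, 3, 1, 0, 1, 3, 1, 0, 1, 0, 4, 0, 4, 0, 4]), (249, true, [2, 0, 1, 0, 1, 0, 1, 3, 1, 0, 4, 0]), (200, true, [0, 1, 2, 0, 4, 0, 4, 3, 1, 3, 4, 0, 4, 0, 1, 3, 4, 3]), (24, false, [2, 0, 1, 3, 1, 3, 1, 0, 1, 0, 1, 3]), (152, true, [1, 0, 2, 4, 3, 4, 3, 1, 0, 1, 0, 1, 0, 4, 3, 4]), (234, true, [3, 1, 3, 1, 0, 1, 0, 1, 3, 1, 3, 1, 3]), (23, false, [4, 3, 4, 0, 1, 0, 1, 3, 4, 0, 1, 0, 4]), (180, true, [1, 0, 1, 2, 0, 1, 0, 4, 3, 1, 3, 1, 3]), (113,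 false, [2, 4, 3, 1, 0, 1, 3, 4, 0, 4, 3]), (265, true, [0, 4, 0, 4, 0, 4, 0, 1, 3, 4, 0]), (260, true, [4, 0, 1, 3, 4, 0, 4, 3, 4, 3, 1, 0, 4, 3, 4]), (180, true, [0, 1, 2, 0, 4, 0, 1, 3, 1, 0, 4, 3, 1]), (268, false, [0, 1, 0, 4, 3, 1, 3, 1, 0, 1, 0, 1, 3, 1]), (168, true, [0, 2, 4, 0, 4, 3, 4, 0, 1, 3, 1, 3, 4]), (216, false, [2, 0, 4, 0, 4, 0, 4, 3, 1, 0, 1, 3, 4, 3]), (7, false, [0, 1, 3, 1, 0, 4, 0, 4, 3, 4, 3, 4, 3]), (2, true, []), (135, false, [4, 0, 4, 0, 4, 3, 1, 3, 1, 0]), (47, false, [1, 0, 2, 4, 3, 4, 3, 4, 0, 1, 3]), (180, false, [0, 1, 3, 4, 3, 1, 0, 1, 3, 1, 0, 1, 3, 1]), (177, false, [1, 0, 1, 0, 1, 0, 1, 3, 1, 3, 1, 3, 4, 0, 4]), (69, false, [2, 0, 1, 3, 1, 0, 4, 0, 4, 3, 1, 3, 1, 0, 1]), (24, false,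 [0, 1, 0, 1, 3, 1, 3, 1, 0, 1, 0]), (234, false, [4, 3, 1, 0, 1, 0, 1, 0, 1, 3, 1, 3, 1, 0, 4, 0]), (2, true, []), (18, false, [4, 3, 1, 0, 4, 3, 4, 3, 1, 0, 1, 0, 1]), (135, true, [2, 0, 1, 3, 1, 3, 1, 0, 4, 0, 4, 3]), (113, true, [2, 0, 4, 3, 4, 3, 4, 0, 4, 3, 1, 3, 4, 0, 4])]
def r3 : List (ℕ × Bool × List ℕ) := [(43, true, [1, 0, 1, 0, 1, 3, 4, 0, 1, 3, 1, 0, 1]), (177, false, [0, 4, 3, 1, 0, 1, 0, 1, 3, 1, 0, 1, 3, 1, 0, 4]), (205, false, [3, 1, 3, 4, 0, 4, 0, 4, 3, 4, 3, 4, 0, 4, 0]), (233, true, [1, 2, 0, 4, 0, 1, 3, 1, 3]), (154, false, [0, 4, 3, 1, 3, 4, 0, 4, 3, 4, 3, 4, 0, 1, 0, 1]), (110, true, [0, 2, 4, 0, 4, 0, 4, 3, 1, 0, 1, 0, 1, 3, 4, 0, 1]), (274, true, [3, 4, 0, 1, 3, 4, 3, 4, 0, 4, 3]), (193, false,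 [0, 2, 4, 3, 1, 0, 4, 3, 4, 3, 4, 3, 4, 0, 1]), (92, false, [1, 3, 1, 0, 4, 3, 1, 0, 1, 0, 4, 3, 1, 3]), (268, false, [3, 1, 0, 4, 3, 4, 3, 1, 0, 1, 0, 4, 3, 4, 3]), (153, true, [3, 4, 3, 1, 3, 1, 3, 4, 3, 4, 0, 1, 3, 1, 0, 4]), (57, true, [0, 1, 3, 4, 3, 4, 0, 4, 3, 4, 0, 4, 3, 4, 3]), (154, true, [1, 3, 1, 3, 1, 3, 1, 3, 4, 3, 4, 0, 4, 3, 4]), (200, false, [1, 3, 4, 3, 4, 0, 1, 0, 1, 0, 4]), (220, false, [0, 2, 4, 0, 4, 3, 4, 0, 4, 3, 1, 3, 1, 3]), (3, true, []), (43, true, [1, 0, 2, 4, 3, 1, 0, 1]), (182, false, [4, 0, 1, 3, 1, 0, 1, 0, 1, 3, 1, 0, 1]), (131, true, [0, 1, 0, 4, 0, 4, 3, 1, 0, 4, 0, 1]), (57, true, [2, 4, 0, 4, 0, 1, 3, 4, 0, 4, 3, 1, 3, 1, 0, 1, 3]), (182, false, [1, 0, 2, 4, 3, 1, 0, 1, 3, 1, 3,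 1, 0, 1, 0]), (67, true, [2, 0, 1, 0, 1, 3, 1, 0]), (193, false, [0, 4, 0, 1, 3, 4, 0, 4, 3, 4, 3, 4, 0, 1]), (148, false, [0, 1, 0, 1, 2, 0, 1, 3, 1, 3, 1, 0, 1]), (199, false, [2, 4, 0, 4, 0, 1, 3, 4, 3, 4, 0, 1, 0]), (73, false, [1, 0, 2, 4, 0, 1, 0, 1, 3, 1, 3]), (270, false, [1, 0, 1, 0, 2, 4, 0, 4, 0, 1, 3, 4, 3, 4, 0, 4, 0, 1]), (200, false, [2, 0, 4, 0, 1, 0, 1, 0, 4, 3, 1, 3, 4, 0, 4, 3]), (80, false, [1, 3, 4, 3, 4, 3, 4, 3, 1, 0, 4, 0, 1]), (127, true, [2, 0, 1, 0, 4, 0, 4, 0, 1, 3, 1]), (248, false, [1, 0, 1, 2, 0, 4, 0, 4, 3, 4, 3, 1, 0]), (105, false, [1, 2, 0, 1, 3, 4, 0, 4, 3, 4, 0, 4, 0, 4, 3]), (64, true, [3, 1, 3, 4, 0, 4, 0, 1, 3, 1, 0, 1, 3]), (211, false, [0, 1, 0, 4, 3, 4, 0, 4, 3, 1, 0, 4]),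 (225, true, [4, 0, 4, 3, 4, 0, 4, 3, 4, 0, 1, 0, 1, 0]), (105, false, [1, 0, 4, 3, 4, 0, 1, 0, 1, 3, 4, 3, 1, 0]), (30, false, [4, 3, 4, 0, 4, 3, 4, 0, 4, 3, 4, 3, 4, 3, 1, 0]), (3, false, [1, 0, 1, 0, 1, 3, 4, 0, 1, 3, 1, 0, 1, 0, 4]), (277, true, [1, 0, 2, 4, 3, 4, 0, 4, 0, 4, 3, 1, 3, 4]), (246, true, [2, 0, 1, 3, 4, 0, 1, 3, 1, 3, 1, 0, 4, 3, 4, 3]), (67, true, [3, 4, 3, 1, 0, 1, 3, 4, 0, 4]), (276, false, [0, 1, 0, 1, 0, 1, 0, 2, 4, 3, 4, 0, 1, 3, 4]), (127, true, [0, 1, 3, 1, 3, 1, 3, 1, 0, 4, 0, 4, 3, 1, 3, 1, 0]), (233, true, [0, 1, 3, 1, 3, 1, 0, 1, 0, 1, 0, 4, 0, 4, 0]), (100, false, [3, 4, 3, 4, 0, 1, 3, 1, 0, 4, 3]), (167, true, [1, 0, 1, 0, 1, 2, 0, 4, 0, 4, 0, 1, 3]), (110, true, [4, 3, 1, 3, 1, 3, 4,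 3, 4, 0, 4, 3, 4]), (153, true, [2, 0, 1, 0, 4, 3, 4, 3, 1, 0, 1, 3, 1]), (199, false, [1, 3, 1, 0, 4, 0, 4, 3, 1, 0, 1, 0, 1, 3, 4]), (228, false, [0, 1, 0, 1, 3, 4, 0, 4, 0]), (154, false, [0, 1, 2, 0, 4, 3, 4, 0, 4, 0, 4, 3, 1, 0]), (277, false, [1, 2, 0, 1, 0, 1, 3, 4, 3, 1, 0, 1, 3, 4, 0, 1]), (225, true, [0, 2, 4, 0, 4, 3, 1, 0, 1, 3, 4, 3, 1, 0]), (184, false, [0, 1, 3, 1, 3, 1, 3, 4, 3, 4, 0, 1, 0]), (110, true, [2, 0, 4, 0, 1, 3, 4, 3, 1, 0, 1, 0, 1, 0, 4]), (85, false, [1, 2, 0, 1, 3, 4, 0, 1, 3, 1, 3, 4, 3, 4, 0, 1]), (43, false, [1, 0, 2, 4, 0, 1, 0, 4, 3, 4, 0, 1, 3, 4, 3, 1]), (119, false, [0, 2, 4, 0, 4, 3, 4, 3, 1, 0, 1, 3, 4, 3]), (56, true, [3, 1, 3, 1, 3, 4, 3, 4, 3, 4, 0, 1, 0, 1]), (43, false, [1,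 3, 4, 3, 4, 0, 1, 3, 4, 3, 1]), (34, false, [3, 1, 3, 1, 0, 4, 3, 1, 3, 4, 0, 4, 3, 4, 3]), (276, false, [1, 3, 1, 0, 1, 0, 4, 3, 4, 0, 1, 3]), (171, false, [0, 1, 3, 4, 0, 4, 0, 1, 3, 1, 0, 1, 0]), (181, true, [3, 4, 3, 4, 0, 4, 3, 1, 0, 1, 0, 1]), (36, true, [4, 3, 1, 3, 1, 0, 1, 0, 1, 0, 4, 0, 4]), (239, false, [4, 3, 4, 0, 4, 3, 4, 0, 1, 0]), (103, false, [0, 1, 3, 1, 3, 1, 3, 4, 3, 4, 0, 1, 3, 1]), (103, false, [1, 2, 0, 1, 3, 1, 3, 1, 3, 4, 0, 4, 3, 1]), (73, false, [3, 1, 3, 1, 0, 1, 3, 1, 3, 1, 0, 1]), (3, false, [0, 1, 3, 4, 0, 4, 0, 1, 3, 4, 0, 1]), (277, true, [4, 0, 1, 3, 1, 3, 4, 3, 4, 0, 1, 0, 1]), (47, false, [1, 2, 0, 4, 0, 4, 0, 4, 3, 1, 3, 4, 0]), (35, false, [0, 1, 2, 0, 1, 3, 1, 0, 1, 3, 1, 0, 1,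 3]), (197, false, [2, 0, 4, 3, 1, 0, 1, 3, 4, 0, 4, 0, 1, 3, 4]), (95, true, [1, 3, 1, 3, 1, 3, 4, 3]), (177, false, [3, 4, 3, 1, 0, 4, 3, 4, 3, 1, 0, 4]), (248, true, [3, 1, 0, 4, 0, 4, 3, 1, 0, 1, 3]), (171, true, [0, 1, 2, 0, 4, 3, 4, 3, 1, 0, 1, 3, 1, 3]), (154, true, [2, 0, 4, 0, 1, 0, 1, 0, 4, 0, 4, 3, 1, 0, 1, 3, 4]), (171, true, [4, 0, 4, 3, 1, 0, 1, 3, 4, 3, 1, 0, 4, 0]), (53, false, [0, 2, 4, 0, 1, 3, 4, 3, 4, 0, 4, 3, 1, 0]), (184, false, [1, 0, 2, 4, 0, 1, 0, 4, 3, 4, 3, 1, 0, 4]), (64, true, [2, 0, 1, 3, 1, 0, 1, 3, 4, 3, 4, 0, 4, 0, 1]), (170, false, [1, 2, 0, 4, 0, 1, 3, 1, 0, 1, 3, 1, 3, 4, 3]), (3, false, [0, 1, 2, 0, 4, 3, 4, 3, 4, 0, 4, 3, 4, 0, 1]), (170, false, [1, 3, 1, 3, 1, 3, 1, 0, 1, 0, 4,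 0, 4, 0]), (211, true, [4, 0, 4, 3, 4, 0, 1, 3, 1, 3, 4]), (122, true, [2, 0, 1, 0, 1, 3, 1, 0, 4, 0, 4, 3, 4, 3, 1]), (95, true, [3, 4, 0, 4, 3, 1, 3]), (148, false, [1, 3, 4, 0, 1, 0, 1, 3, 1, 3]), (268, false, [0, 1, 0, 2, 4, 0, 4, 0, 1, 3, 4, 3, 4, 0, 1, 0, 4]), (205, false, [4, 0, 1, 0, 1, 3, 1, 0, 1, 3, 4, 3, 4, 3]), (248, true, [3, 4, 0, 1, 0, 1, 0, 4, 3, 1, 3, 1, 0, 1]), (171, false, [0, 2, 4, 0, 1, 0, 1, 3, 4]), (233, true, [3, 4, 3, 1, 0, 1, 3, 4, 3, 1, 0, 1, 3]), (85, false, [1, 3, 1, 0, 4, 3, 1, 0, 1, 3, 4, 3, 4, 0, 1]), (59, false, [0, 1, 0, 2, 4, 0, 1, 3, 4, 3]), (168, false, [0, 1, 3, 1, 0, 1, 3, 1, 3, 1, 0, 1]), (108, false, [0, 4, 0, 4, 3, 1, 0, 1, 3, 1, 0, 1, 0, 4, 0, 4]), (246, true, [4, 3, 1, 3,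 1, 0, 1, 0, 1, 3, 4, 3, 1, 0, 1]), (49, false, [2, 0, 1, 3, 1, 3, 4, 0, 1, 3, 1]), (181, true, [1, 0, 1, 0, 2, 4, 0, 1, 0, 4, 3, 4, 3, 4]), (270, false, [3, 1, 0, 1, 0, 4, 3, 1, 3, 1, 3]), (211, false, [2, 0, 4, 0, 4, 3, 4, 0, 4]), (277, false, [0, 4, 3, 1, 0, 1, 0, 1, 0, 1, 3, 1, 3, 4, 0]), (92, false, [2, 0, 1, 3, 4, 3, 4, 0, 1, 0, 1, 0, 1]), (122, true, [3, 4, 0, 1, 3, 1, 0, 4, 0, 4, 3, 1, 0, 1, 0, 1]), (220, false, [3, 4, 3, 4, 3, 1, 0, 1, 3, 4]), (110, true, [4, 3, 4, 3, 1, 0, 1, 0, 1, 0, 4, 3, 1, 3]), (184, false, [1, 3, 4, 0, 4, 0, 4, 3, 4, 0, 4, 3, 4, 0, 4]), (233, true, [0, 4, 3, 4, 3, 4, 0, 1, 3, 1, 3, 4]), (113, true, [2, 0, 4, 0, 4, 0, 1, 3, 4, 3, 4, 0, 4, 0])]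
def r4 : List (ℕ × Bool × List ℕ) := [(269, true, [1, 2, 0, 1, 3, 1, 3, 1, 0, 1, 3, 4, 3, 4, 3, 1, 0, 1]), (87, false, [1, 2, 0, 4, 0, 4, 0, 4, 0, 4, 0, 4, 0]), (87, true, [2, 0, 4, 3, 4, 0, 1, 3, 1, 3, 1, 0, 1, 0, 1, 3, 4]), (253, true, [0, 4, 3, 4, 0, 4, 0, 1, 3, 1, 3, 1, 3, 4, 3, 4]), (126, true, [1, 0, 1, 2, 0, 4, 3, 1, 0, 1, 3]), (76, false, [1, 0, 1, 3, 1, 3, 4, 0, 1, 3, 1, 0, 4]), (253, true, [0, 2, 4, 0, 1, 0, 4, 3, 4, 0, 1, 3, 1, 0, 4, 0]), (251, false, [4, 3, 4, 0, 1, 0, 1, 3, 4, 3, 4, 0, 1, 0, 1]), (269, false, [0, 2, 4, 3, 1, 0, 1, 0, 4, 0, 4, 0, 4, 3, 4, 0, 4]), (257, true, [4, 3, 1, 0, 1, 0, 1, 0, 1, 3, 4, 0, 4]), (280, false, [1, 0, 1, 3, 1, 0, 1, 3, 1, 3, 1, 0, 1]), (24, true, [1, 0, 2, 4, 0, 1, 3, 4,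 3, 1]), (91, true, [1, 0, 1, 0, 2, 4, 0, 4, 3, 4, 3, 1, 0, 1]), (200, false, [4, 0, 4, 3, 1, 0, 1, 0, 1, 0, 4, 3, 4]), (188, false, [0, 4, 0, 4, 3, 1, 0, 1]), (52, false, [0, 1, 3, 1, 3, 4, 3, 4]), (252, false, [1, 2, 0, 1, 0, 4, 3, 4, 0, 1, 0, 1, 0, 1, 3, 1, 0]), (257, false, [0, 2, 4, 3, 4, 0, 4, 3, 1, 3, 1, 0, 1]), (172, true, [1, 0, 1, 0, 1, 0, 1, 3, 1, 3, 4, 0, 4, 3, 1]), (188, false, [0, 1, 0, 1, 2, 0, 4, 3, 4, 0, 4, 0, 1, 3, 4, 0, 4]), (117, true, [0, 4, 3, 1, 3, 1, 0, 4, 3, 4, 3, 4, 0, 4, 0]), (52, true, [3, 4, 0, 4, 0, 4, 3, 1, 3, 4, 0, 1, 3]), (58, true, [2, 0, 1, 0, 1, 0, 1, 0, 4, 3, 1, 0]), (253, true, [1, 0, 4, 3, 4, 0, 4, 3, 4, 3, 4, 3, 1, 0]), (267, false, [3, 4, 3, 1, 0, 1, 0, 1, 0, 1, 3, 4, 3, 4, 3]),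 (267, true, [2, 4, 0, 1, 3, 4, 3, 4, 0, 1, 0, 1, 3, 4]), (243, false, [1, 0, 1, 2, 0, 1, 0, 1]), (242, false, [4, 3, 1, 3, 1, 0, 1, 3, 1, 0, 1, 0, 1]), (67, true, [0, 1, 3, 4, 0, 4, 3, 1, 3, 1, 0, 1, 3, 1]), (115, true, [0, 2, 4, 0, 4, 0, 4, 0, 4, 3, 1, 0, 4, 3]), (71, false, [1, 2, 0, 1, 0, 1, 3, 4, 3, 1, 0, 1, 3, 1, 3, 1]), (251, true, [4, 0, 1, 3, 1, 3, 4, 3, 4, 3, 1, 0, 4]), (179, true, [1, 0, 4, 3, 4, 0, 4, 3, 4, 0, 4, 0, 4, 0]), (112, true, [0, 4, 0, 1, 3, 1, 3, 1, 0, 1, 0, 1, 0, 1, 3, 4, 3]), (87, true, [0, 2, 4, 0, 1, 3, 1, 0, 1, 3, 4]), (172, true, [1, 3, 4, 3, 1, 0, 1, 3, 4, 0, 4, 0, 4, 0, 1, 3]), (135, false, [0, 1, 2, 0, 1, 3, 1, 3, 4, 0, 1, 0, 1, 0, 4]), (186, false, [3, 4, 3, 4, 3, 1, 0, 1, 3, 4, 0, 4,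 3]), (268, true, [2, 4, 3, 1, 0, 4, 0, 4, 0, 4, 3, 1, 3, 1]), (123, true, [2, 4, 3, 1, 3, 1, 0, 1, 0, 1, 3, 1]), (67, false, [0, 4, 0, 1, 0, 1, 0, 4, 0, 4, 3, 1, 0, 1, 3, 4, 0]), (71, true, [2, 0, 4, 0, 1, 3, 1, 0, 4, 3, 4, 3, 4, 3, 1, 0, 4]), (158, false, [2, 0, 1, 3, 1, 3, 1, 0, 4, 3, 4, 0, 4, 3, 1]), (71, false, [2, 0, 1, 0, 1, 3, 1, 3, 1, 0, 1, 0, 1, 0, 4, 0]), (183, true, [0, 1, 3, 1, 3, 1, 3, 4, 3, 4, 3, 1, 0, 1]), (230, false, [2, 4, 3, 4, 0, 1, 3, 1, 3, 4, 0, 4, 0]), (188, true, [2, 4, 0, 1, 3, 1, 0, 1, 3, 4, 0, 1, 0, 4]), (172, false, [4, 0, 1, 0, 4, 3, 4, 3, 4, 0, 4, 3]), (87, false, [2, 4, 0, 1, 3, 1, 0, 1, 0, 4, 0, 4, 0, 4, 0, 4, 3]), (71, false, [0, 2, 4, 0, 1, 0, 1, 0, 1, 3, 1, 3, 1, 3, 1, 0, 4]), (179,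 false, [0, 1, 3, 4, 0, 4, 3, 4, 3, 1, 0, 1, 3, 1, 3]), (234, true, [1, 3, 1, 0, 1, 0, 1, 0, 1, 3, 1, 3, 1, 0, 4, 0]), (256, false, [0, 1, 3, 1, 3, 4, 0, 4, 0, 4, 3, 4, 0, 1, 0, 1]), (256, false, [1, 0, 1, 2, 0, 4, 0, 4, 3, 4, 3, 1, 0, 4, 3]), (178, true, [2, 4, 0, 1, 0, 4, 3, 4, 0, 1, 3, 1, 0, 4]), (58, true, [2, 0, 1, 0, 1, 0, 1, 0, 4, 3, 1, 0]), (115, false, [2, 4, 0, 4, 0, 1, 3, 1, 0]), (183, false, [0, 1, 0, 4, 3, 4, 3, 4, 3, 4, 0, 1, 0, 4]), (231, false, [0, 2, 4, 3, 1, 3, 1, 3, 1]), (259, true, [2, 0, 1, 3, 1, 0, 4, 3, 1, 3, 4, 0, 4, 0]), (183, false, [0, 1, 0, 1, 0, 1, 0, 1, 0, 1, 0, 1, 0, 1]), (158, true, [1, 0, 1, 2, 0, 4, 0, 1, 3, 1, 3, 4, 3, 4, 3, 1]), (171, true, [4, 3, 1, 3, 1, 3, 4, 3, 4, 3, 4, 0, 4, 0,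 4, 0]), (24, false, [1, 0, 1, 0, 1, 2, 0, 4, 3, 1, 0, 1]), (231, true, [3, 4, 0, 4, 3, 1, 0, 4, 0, 1]), (135, true, [1, 0, 1, 2, 0, 1, 3, 1, 0, 4, 3, 1, 3, 1, 0]), (128, true, [1, 2, 0, 1, 0, 4, 3, 4, 0, 1, 0, 1, 0, 1, 3, 1, 3]), (199, true, [1, 3, 1, 3, 1, 3, 4, 0, 1, 3, 1, 3, 1, 0, 4]), (252, false, [0, 1, 0, 1, 2, 0, 4, 0]), (76, true, [4, 0, 4, 3, 4, 0, 4, 3, 1, 0, 1, 0]), (112, false, [3, 1, 0, 4, 3, 1, 0, 1, 0, 1, 3, 1, 0, 4, 0]), (56, false, [0, 1, 0, 1, 0, 1, 0, 1, 3, 4, 3, 1, 0, 4, 3]), (128, false, [1, 0, 1, 2, 0, 4, 0]), (199, false, [1, 3, 4, 3, 4, 3, 4, 0, 4, 0, 4, 0, 4, 3, 1]), (91, false, [0, 1, 3, 1, 3, 1, 3, 1, 3, 4, 3, 4, 0, 4, 3, 4]), (253, false, [3, 4, 3, 4, 0, 1, 0, 1, 3, 1, 0, 4, 0]), (253, false,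 [0, 1, 2, 0, 1, 0, 4, 3, 1, 3, 1, 0, 4]), (56, true, [4, 3, 4, 3, 1, 0, 4, 3, 4, 0, 1, 3]), (188, true, [4, 3, 1, 0, 1, 3, 4, 3, 4, 3, 1, 0, 1, 3, 4]), (183, true, [0, 4, 3, 1, 0, 4, 3, 4, 0, 1, 3, 4]), (267, true, [0, 4, 0, 4, 3, 4, 0, 1, 0, 1, 0, 4, 3]), (91, true, [1, 0, 1, 3, 1, 0, 1, 0, 4, 3, 4, 0, 1]), (158, true, [2, 4, 0, 4, 3, 4, 3, 1, 0, 4, 0]), (117, false, [0, 1, 3, 1, 3, 1, 3, 4, 0, 1, 0, 1, 3, 4, 3]), (209, true, [1, 0, 4, 0, 4, 3, 1, 0, 1, 0, 4, 0]), (179, true, [0, 1, 0, 1, 0, 1, 0, 4, 0, 4, 0, 1, 0]), (242, true, [0, 4, 3, 4, 3, 4, 3, 4, 0, 4, 0, 4, 3, 1, 0, 1]), (58, false, [1, 0, 2, 4, 3, 4, 0, 4, 3, 4, 0, 1, 0, 1]), (172, false, [3, 1, 0, 1, 3, 4, 3, 4, 0, 1, 3, 4, 3, 4, 3]), (256, true, [1, 3, 1,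 3, 4, 0, 1, 3, 1, 3, 1, 0]), (123, false, [1, 2, 0, 4, 0, 4, 3, 4, 3, 4, 0, 4, 3]), (200, true, [0, 1, 0, 1, 3, 1, 3, 1, 0, 4, 3, 1, 3, 1, 0, 1]), (71, true, [0, 2, 4, 0, 4, 0, 1, 3, 4, 0, 4, 0, 1, 3, 4, 0]), (186, true, [2, 4, 3, 4, 3, 4, 0, 4, 0, 4, 3, 4]), (253, false, [0, 1, 3, 1, 0, 1, 0, 1, 3, 1, 3, 1, 3, 4, 3, 4]), (126, false, [2, 0, 1, 3, 1, 3, 1, 0, 1, 3, 1, 0, 1, 3, 1, 3, 1, 0, 1]), (71, true, [2, 4, 3, 1, 0, 4, 3, 4, 0, 4, 0, 4, 0, 4]), (230, true, [0, 2, 4, 0, 1, 3, 1, 3, 1, 3, 4, 3, 4, 0, 4]), (171, false, [4, 0, 4, 3, 1, 0, 1, 3, 1, 3, 1, 0, 4, 0, 1]), (179, false, [0, 1, 0, 1, 3, 1, 0, 4, 3, 4, 3, 4, 0]), (280, true, [3, 1, 3, 4, 0, 1, 0, 1, 0, 4, 3, 1, 3, 1]), (209, true, [1, 0, 4, 0, 4, 3, 1, 3, 4,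 0, 4, 0, 1, 3, 1, 0]), (234, false, [0, 4, 0, 1, 3, 1, 3, 4, 0, 1, 3, 1, 0]), (268, false, [1, 2, 0, 1, 3, 4, 3, 4, 0, 4, 3]), (91, false, [0, 1, 2, 0, 4, 0, 1, 3, 1, 0, 1, 3, 1, 3, 4, 0]), (178, false, [0, 2, 4, 3, 1, 0, 4, 0, 4, 3, 1, 3]), (158, false, [2, 4, 0, 1, 3, 4, 3, 4, 3, 1, 0, 1, 3, 4, 3, 4, 3]), (243, true, [4, 3, 4, 0, 1, 3, 4, 3]), (267, false, [0, 4, 3, 1, 0, 4, 0]), (58, false, [1, 0, 2, 4, 3, 4, 0, 4, 3, 4, 0, 1, 0, 1]), (259, false, [4, 3, 1, 3, 4, 0, 1, 3, 1, 3, 1, 0, 4, 3]), (256, true, [2, 0, 1, 0, 4, 0, 4, 0, 4, 0, 1, 3])]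
def r5 : List (ℕ × Bool × List ℕ) := [(104, false, [0, 2, 4, 3, 1, 3, 1, 0, 4, 3, 1, 3]), (268, true, [0, 1, 0, 1, 3, 4, 0, 4, 3, 1, 3, 1, 3, 4, 3]), (151, false, [2, 4, 0, 4, 0, 4, 3, 4, 3, 4, 3, 4, 0, 4]), (97, false, [4, 0, 4, 0, 4, 0, 4, 3, 1, 3, 1, 0, 4]), (105, false, [2, 0, 4, 0, 4, 0, 4, 0, 4, 3, 1, 3, 1, 0, 4]), (194, true, [4, 3, 1, 0, 1, 3, 1, 0, 4, 3, 1, 3, 4]), (270, true, [4, 3, 4, 3, 1, 0, 1]), (49, false, [0, 1, 3, 1, 0, 1, 0, 1, 3, 4, 0, 4, 0]), (70, false, [0, 1, 3, 4, 0, 4, 3, 1, 0, 1, 3]), (153, false, [2, 4, 0, 4, 3, 4, 3, 4, 3, 4, 0, 4, 0]), (109, false, [1, 0, 1, 0, 1, 0, 4, 3, 4, 0, 1, 3, 1, 3, 4]), (199, false, [4, 3, 4, 0, 1, 3, 4, 0]), (205, false, [2, 0, 1, 0, 1, 0, 4, 0, 4, 3, 1, 3, 4, 0,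 4]), (277, false, [2, 4, 0, 4, 3, 1, 3, 4, 0, 4, 0, 4, 0, 4, 3, 1, 3]), (180, true, [1, 0, 2, 4, 0, 4, 0, 4, 0, 1]), (270, true, [4, 3, 1, 3, 1, 3, 1, 0, 1, 0, 4]), (57, false, [1, 0, 4, 0, 1, 3, 1, 3, 4, 0, 4, 0, 4, 0]), (199, true, [1, 3, 1, 0, 4, 3, 1, 3, 4, 0, 4, 0, 4, 3]), (276, false, [2, 0, 1, 0, 1, 0, 4, 3, 4, 3, 1, 0, 1, 0, 1, 3, 1]), (268, false, [2, 4, 0, 1, 0, 4, 3, 4, 3, 1, 0, 1, 0, 4, 0]), (170, false, [0, 1, 3, 1, 0, 4, 3, 1, 0, 1, 0, 4, 0, 4, 3, 1]), (68, true, [0, 1, 3, 1, 3, 4, 3, 4, 3, 4, 0, 4, 3]), (171, false, [3, 1, 0, 1, 0, 4, 0, 4, 3, 4, 3, 4]), (57, true, [3, 4, 3, 4, 0, 4, 0, 4, 0, 4, 3, 4, 3, 1]), (199, true, [1, 3, 4, 0, 4, 3, 1, 3, 4, 0, 4, 3, 1, 0, 1, 0, 4]), (171, true, [1, 0, 4, 3, 1,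 0, 1, 3, 1, 3, 4, 0, 4, 3, 4, 3]), (197, false, [2, 0, 4, 0, 4, 3, 1, 3, 1, 3, 1, 0, 1]), (268, false, [3, 4, 0, 1, 0, 1, 3, 1, 3, 1, 0, 4, 3, 4, 0]), (151, true, [1, 2, 0, 1, 0, 1, 0, 4, 0, 4, 3, 1, 0, 1]), (260, false, [4, 3, 1, 0, 4, 0, 4, 0, 4, 3, 4, 0, 4, 3, 4, 0]), (220, true, [4, 3, 1]), (124, true, [0, 2, 4, 0, 4, 0, 1, 3, 1, 3, 1, 3, 1, 3, 1, 0, 4, 0]), (184, false, [3, 4, 0, 4, 0, 1, 3, 4, 3, 4, 3, 1, 0, 1]), (220, true, [4, 3, 4, 0, 4, 0, 4, 3, 1, 3, 4, 0]), (277, false, [2, 0, 4, 0, 4, 0, 1, 3, 1, 0, 1, 0, 1, 3, 1]), (184, true, [4, 3, 1, 3, 4, 0, 4, 3, 1, 3, 1, 0, 4, 3, 1]), (62, true, [0, 1, 0, 1, 0, 1, 2, 0, 1, 0, 1, 0, 4, 0]), (151, true, [2, 4, 0, 4, 3, 4, 0, 1, 0, 4]), (274, true, [2, 0, 4, 0, 1, 0,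 1, 0, 1, 3, 4, 3, 1, 0]), (110, true, [0, 1, 0, 4, 3, 1, 0, 1, 3, 1, 3, 1, 0, 4, 3]), (178, true, [1, 0, 4, 3, 4, 0, 4, 3, 1, 0, 1, 0, 1, 3, 1, 0, 1]), (104, true, [4, 3, 1, 0, 1, 0, 1, 3, 4, 0, 1, 3, 1]), (172, true, [2, 4, 3, 4, 0, 4, 3, 4, 3, 4, 0, 4, 0, 1]), (87, true, [0, 4, 3, 4, 0, 1, 0, 1, 3, 4, 3]), (194, false, [1, 0, 2, 4, 0, 1, 0, 4, 3, 4, 3, 4, 3, 4]), (23, true, [3, 1, 0, 4, 0, 4, 0, 4, 3, 4, 3, 4]), (71, true, [3, 4, 3, 1, 3, 1, 3, 4, 0, 4, 3, 1, 0, 1, 0, 1]), (135, false, [4, 0, 4, 0, 4, 0, 4, 3, 4, 0, 1, 3, 4]), (135, true, [2, 4, 3, 4, 3, 4, 3, 4, 0, 4, 3, 1, 0, 4]), (211, true, [2, 0, 4, 3, 1, 0, 1, 3, 1, 0, 1, 0, 4]), (23, false, [4, 0, 4, 0, 4, 3, 1, 0, 1, 3]), (197, true, [3, 4, 0, 4, 3, 4, 0,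 4, 3, 4, 3, 4]), (220, false, [1, 0, 4, 3, 4, 0, 1, 0, 1, 0, 4, 3, 1, 3]), (220, false, [1, 0, 4, 3, 4, 3, 4, 3]), (88, false, [0, 4, 3, 4, 3, 1, 0, 1, 3, 1, 0, 1, 3, 4, 3, 4, 3]), (60, false, [0, 1, 0, 4, 3, 4, 3, 4, 0, 4, 0, 4, 0, 4, 3]), (49, true, [4, 0, 4, 3, 1, 0, 1, 3, 1, 0, 4, 0, 4]), (88, true, [4, 0, 4, 3, 1, 3, 4, 0, 4, 0, 1, 3, 4, 0]), (182, true, [0, 2, 4, 0, 4, 0, 1, 3, 1, 0, 1, 0, 4, 3, 4, 3]), (178, false, [1, 3, 1, 3, 1, 0, 4, 3, 4, 0, 4]), (170, true, [0, 1, 0, 1, 0, 1, 3, 1, 0, 4, 3, 1]), (199, true, [3, 1, 3, 4, 0, 1, 0, 1, 0, 4, 3, 1, 3, 4, 0]), (199, false, [3, 4, 3, 1, 0, 4, 3, 4, 3, 1, 0, 1, 0, 1]), (64, true, [2, 4, 0, 4, 3, 4, 3, 4, 3, 1, 0, 4, 0, 4]), (276, true, [2, 0, 4, 3, 1, 3, 1, 0, 1,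 0, 1, 3, 4, 0, 4]), (199, false, [1, 0, 1, 0, 4, 3, 4, 3, 4, 3, 4, 3, 1]), (60, true, [0, 1, 3, 4, 3, 4, 3, 1, 0, 1, 3, 4, 3]), (172, false, [2, 4, 0, 1, 3, 4, 0, 4, 0, 4]), (68, false, [1, 3, 1, 3, 1, 3, 1, 0, 1, 3, 4, 0, 1, 3, 1]), (172, false, [2, 4, 0, 1, 3, 4, 0, 4, 3, 1, 3]), (204, false, [1, 3, 4, 3, 1, 0, 1, 3, 4, 0, 4, 0, 4, 0, 4]), (62, false, [3, 1, 3, 4, 3, 4, 3, 4, 0, 4, 3, 4, 0]), (71, false, [3, 1, 0, 4, 3, 1, 3, 4, 0, 4, 3, 4, 3, 4, 0, 1]), (166, false, [0, 4, 0, 1, 0, 1, 0, 4, 0, 4, 0, 1, 0]), (270, false, [3, 4, 3, 1, 0, 1, 3, 1, 0, 4]), (277, true, [2, 0, 1, 0, 1, 3, 1, 3, 4, 0, 1, 0, 1, 0, 1]), (86, true, [0, 1, 0, 1, 3, 1, 0, 1, 3, 4, 0]), (153, true, [0, 2, 4, 3, 1, 0, 1, 0, 4, 3, 4, 0, 4, 3, 4,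 0, 4]), (57, false, [0, 4, 0, 4, 3, 1, 0, 4, 0, 4, 0, 4, 0]), (109, true, [3, 4, 0, 1, 3, 1, 0, 1, 3, 1, 3, 4, 0, 1]), (105, true, [1, 2, 0, 4, 3, 4, 3, 4, 0, 1, 3, 4, 0]), (57, true, [3, 4, 0, 4, 0, 1, 3, 1, 0, 4, 3, 1]), (70, true, [1, 3, 1, 3, 4, 0, 4, 3, 1, 3, 1, 0, 4, 3]), (75, true, [1, 3, 1, 0, 1, 3, 4, 0, 4, 0, 4, 0, 1, 3, 4, 3]), (124, false, [2, 4, 0, 4, 3, 4, 0, 1, 3, 4, 0]), (182, false, [1, 2, 0, 1, 0, 1, 0, 1, 0, 1, 3, 4, 3, 1, 0, 4]), (97, true, [3, 1, 0, 4, 3, 4, 3, 4, 0, 1, 3, 4, 0]), (268, true, [2, 4, 3, 4, 3, 1, 0, 1, 0, 4, 3, 4, 3, 1, 0]), (218, false, [1, 2, 0, 1, 0, 1, 3, 4, 0, 4, 3, 1, 3, 4]), (205, true, [2, 4, 0, 4, 0, 4, 3]), (110, false, [3, 1, 0, 4, 0, 4, 3, 4, 0, 1, 3, 4]), (211, false,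 [1, 0, 1, 3, 4, 0, 1, 0, 1, 3, 4, 3]), (274, false, [0, 1, 0, 4, 0, 4, 0, 4, 3, 4, 0, 4, 3, 4, 0, 4]), (92, true, [1, 3, 1, 0, 1, 0, 1, 3, 4, 0, 4, 3, 1]), (220, true, [4, 0, 4, 0, 1, 3, 4, 3, 4, 0, 1, 0, 1]), (64, false, [0, 1, 2, 0, 1, 0, 4, 3, 1, 3, 1, 0, 1, 0]), (220, false, [0, 1, 0, 4, 3, 4, 0, 1, 0, 1, 0, 4, 3]), (218, true, [2, 0, 1, 3, 4, 3, 4, 0, 4, 3, 1, 0]), (166, true, [1, 2, 0, 4, 3, 4, 0, 4, 0, 1, 3, 1, 3, 1, 3]), (135, true, [1, 0, 4, 3, 4, 0, 1, 3, 1, 3, 1, 3, 4, 0]), (75, false, [2, 4, 3, 1, 3, 1, 3, 4, 0, 4, 3, 4]), (260, true, [1, 0, 1, 0, 1, 3, 4, 3, 4, 3, 1, 0, 1, 3, 1, 3, 1, 0, 1]), (86, false, [3, 1, 3, 1, 3, 1, 3, 4, 3, 4, 3, 4, 0, 4, 0]), (277, true, [0, 1, 0, 1, 0, 2, 4, 3, 4, 3, 1, 0, 1,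 3, 4, 0]), (204, true, [1, 2, 0, 1, 3, 4, 0, 1, 3, 1, 0, 1, 0, 4]), (172, true, [2, 4, 0, 4, 0, 4, 3, 4, 3, 4, 0, 4, 0, 1, 0]), (87, false, [4, 3, 1, 0, 4, 0, 4, 3, 4, 3, 4, 0, 1]), (270, false, [3, 1, 3, 4, 0, 4, 3, 1, 3, 1, 3, 1, 0, 1, 3]), (151, false, [2, 0, 1, 0, 1, 0, 4, 3, 4, 0]), (92, false, [0, 4, 3, 1, 3, 4, 0, 1, 3, 1, 0, 4, 0, 4]), (135, false, [0, 1, 0, 1, 0, 1, 0, 4, 0, 4, 3]), (180, false, [2, 0, 1, 0, 1, 0, 4, 0, 4, 0, 4, 0])]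
def r6 : List (ℕ × Bool × List ℕ) := [(170, true, [2, 0, 1, 3, 4, 0, 4, 0, 4, 0, 4, 0, 4]), (98, true, [1, 0, 1, 3, 1, 0, 1, 3, 1, 0, 4, 0, 4, 0]), (249, false, [0, 4, 3, 4, 3, 1, 0, 4, 3]), (105, true, [2, 4, 0, 4, 0, 4, 3, 1, 0, 1, 3]), (69, true, [2, 4, 0, 1, 3, 1, 3, 4, 0, 4, 3, 1, 0, 4, 0, 1]), (49, false, [3, 1, 3, 4, 3, 4, 0, 4, 3, 4, 0, 4]), (86, true, [0, 1, 3, 4, 3, 1, 0, 1, 3, 1, 0]), (276, false, [0, 1, 2, 0, 1, 0, 1, 0, 1, 3, 4, 0, 4, 3, 4, 0, 4]), (169, false, [3, 4, 0, 1, 0, 1, 3, 4, 3, 1, 0, 1, 3, 4, 3]), (96, false, [1, 2, 0, 1, 0, 4, 3, 4, 3, 1, 0, 1, 0, 1, 3]), (203, false, [0, 4, 3, 1, 0, 1, 0, 4, 3, 4, 3, 4, 3]), (104, true, [0, 1, 0, 1, 0, 1, 0, 4, 0, 4, 0, 4]), (30, false, [3, 4, 0, 4, 3, 1, 3,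 1, 0, 4, 0, 4, 3, 1, 3, 1]), (194, false, [4, 0, 4, 0, 1, 3, 4, 3, 4, 0, 1]), (218, true, [0, 2, 4, 3, 4, 3, 1, 0, 4, 0, 4, 3, 1]), (209, true, [4, 0, 4, 3, 1, 3, 4, 0, 4, 3, 1, 0, 1, 3]), (136, true, [1, 0, 1, 3, 4, 0, 1, 0, 1, 0, 1, 3, 4, 0, 1]), (86, true, [2, 4, 3, 4, 3, 1, 0, 1, 0, 1, 0, 4, 3, 4, 3]), (190, false, [0, 2, 4, 0, 1, 0, 1, 3, 1, 3, 1, 3, 4]), (188, false, [0, 2, 4, 0, 4, 3, 4, 3, 4, 0, 4, 0, 4, 3, 1, 3]), (50, true, [4, 3, 1, 3, 1, 3, 1, 0, 4, 3, 4]), (88, true, [2, 0, 1, 0, 4, 0, 4, 3, 4, 3]), (169, true, [3, 1, 0, 4, 0, 4, 0, 4, 3, 1, 0]), (178, false, [2, 0, 1, 3, 4, 3, 4, 3, 1, 0, 1, 3, 4, 0, 4, 3]), (260, true, [1, 0, 1, 3, 1, 0, 1]), (236, false, [0, 1, 2, 0, 4, 3, 1, 0, 1, 3, 4, 3, 1]), (204,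 false, [1, 0, 1, 3, 4, 3, 1, 0, 1, 0, 1, 0, 4, 3, 1, 3]), (182, false, [0, 4, 3, 1, 0, 1, 0, 1, 0, 1, 3, 4, 3, 4]), (183, true, [0, 2, 4, 3, 4, 3, 1, 0, 4, 0, 4, 3, 1, 0]), (90, true, [2, 4, 3, 1, 3, 4, 0, 4, 3, 1, 0, 1, 3, 4]), (56, false, [1, 0, 1, 3, 1, 0, 4, 0, 4, 3, 4, 3, 1]), (158, false, [0, 1, 0, 4, 3, 4, 0, 4, 0, 4, 3, 1, 0, 4, 0]), (171, false, [3, 1, 0, 1, 3, 1, 3, 4, 3, 4, 3, 4, 3]), (126, true, [4, 0, 1, 3, 1, 3, 4, 0, 4, 3, 1, 0, 4, 0, 1]), (257, false, [3, 4, 0, 1, 0, 1, 0, 4, 0, 4, 0, 4]), (172, true, [0, 1, 0, 1, 3, 4, 3, 1, 0, 1, 0, 4, 3, 1, 0, 1]), (68, false, [4, 3, 1, 3, 1, 0, 1, 0, 1, 3, 4, 3, 4, 0]), (75, false, [2, 0, 4, 3, 4, 3, 4, 3, 1, 0, 1, 3]), (166, true, [4, 0, 4, 3, 4, 3, 1, 0, 1, 3,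 1, 0, 4]), (270, true, [1, 0, 4, 3, 4, 3, 4, 0, 4]), (231, true, [1, 2, 0, 1, 3, 1, 3, 4, 3, 4, 0, 1]), (251, true, [3, 1, 3, 1, 0, 1, 3, 1, 3, 1, 0, 4, 3, 4]), (91, false, [2, 0, 1, 0, 1, 0, 4, 0, 4, 0, 4, 3, 4, 0, 1, 3, 4]), (115, false, [2, 4, 3, 4, 3, 1, 0, 4, 3, 4, 0, 4]), (170, false, [0, 1, 0, 2, 4, 3, 4, 3, 4, 3, 4, 3, 4]), (62, false, [1, 3, 1, 0, 1, 3, 1, 3, 1, 0, 1, 0, 1, 0]), (136, true, [2, 4, 3, 1, 3, 4, 0, 1, 3, 1, 0, 4, 0]), (72, false, [1, 0, 1, 2, 0, 4, 0, 1, 3, 1, 3, 1, 0, 1, 0, 1, 3, 1]), (178, false, [1, 0, 2, 4, 3, 4, 0, 1, 0, 1, 3, 4, 0, 1]), (135, true, [1, 0, 4, 0, 4, 0, 4, 3, 1, 0, 4, 0, 1]), (107, true, [0, 4, 0, 4, 3, 4, 3, 4, 3, 4, 0, 4, 0, 4, 0, 4]), (188, false, [3, 1, 0, 1, 3, 1, 0, 1,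 0, 1, 3, 4, 0, 4, 3]), (218, false, [2, 4, 3, 4, 0, 1, 3, 1, 3, 1, 0, 4, 3, 1]), (233, true, [0, 1, 3, 1, 3, 1, 3, 4, 0]), (214, true, [1, 2, 0, 1, 3, 4, 0, 4, 0, 4, 0, 4, 3, 1, 3, 4]), (128, true, [1, 0, 1, 0, 2, 4, 0, 4, 3, 4, 0, 4, 3, 1, 0, 1]), (109, false, [2, 0, 1, 3, 4, 0, 1, 0, 1, 0, 1, 3, 4, 0, 4, 3]), (128, true, [1, 3, 1, 0, 4, 3, 1, 3, 4, 0, 4, 0, 4, 0]), (67, true, [1, 0, 4, 3, 4, 3, 1, 0, 1, 3, 4, 0, 1, 3]), (256, false, [3, 1, 3, 4, 3, 4, 3, 4, 0, 4, 3, 1, 0, 1]), (97, true, [0, 1, 3, 4, 3, 1, 0, 1, 3, 4, 3, 4, 3, 4]), (180, false, [1, 0, 1, 2, 0, 4, 0, 4, 3, 4, 3, 1, 0, 4, 3, 4, 3, 1]), (56, true, [3, 1, 3, 1, 0, 1, 3, 4, 3, 4, 0, 4, 3, 1]), (247, false, [2, 4, 3, 1, 0, 1, 3, 1, 3, 1, 0, 1, 3, 4]), (91,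 true, [3, 1, 0, 1, 3, 1, 0, 4, 0, 4, 0, 1, 3, 1, 0, 4]), (182, false, [4, 0, 4, 0, 4, 0, 1, 3, 1, 0, 4, 0, 1]), (181, true, [1, 0, 1, 0, 1, 2, 0, 4, 0, 4, 3, 4, 0, 1, 0, 1, 0, 1]), (266, true, [4, 3, 1, 0, 4, 0, 4, 0, 4, 3, 1, 0, 1, 3]), (58, true, [2, 0, 4, 0, 1, 0, 1, 0, 4]), (179, false, [4, 0, 1, 3, 4, 3, 1, 0, 1, 3, 1, 3, 4, 0, 1, 0]), (104, false, [3, 1, 0, 1, 3, 4, 0, 1, 3, 1, 3, 1, 0, 4]), (136, false, [1, 0, 1, 0, 1, 0, 1, 0, 1, 2, 0, 4, 0, 1]), (115, true, [2, 0, 1, 3, 1, 0, 4, 3, 1, 3, 1, 3, 1, 0]), (255, true, [3, 1, 3, 1, 0, 4, 3, 4, 0, 1, 0, 1, 0, 1, 3]), (95, false, [0, 1, 3, 1, 3, 1, 3, 4, 3, 4, 0, 4, 0, 4, 3]), (178, true, [1, 2, 0, 1, 3, 4, 0, 4, 3, 1, 3, 1, 3, 1]), (225, true, [1, 0, 1, 3, 1, 3, 1]),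 (231, false, [1, 3, 1, 0, 1, 0, 4, 0, 4, 3, 1, 0]), (180, false, [0, 1, 0, 2, 4, 3, 4, 0, 1, 3, 1, 3, 1, 0, 4]), (128, true, [4, 3, 4, 3, 1, 0, 4, 0, 4, 0, 4, 3, 1, 3, 4]), (107, false, [3, 4, 3, 1, 3, 1, 0, 1, 3, 4, 3, 4, 3, 1, 3]), (121, false, [1, 3, 1, 3, 1, 0, 1, 0, 1, 0, 4]), (236, false, [1, 0, 2, 4, 0, 1, 3, 1, 3, 4, 0, 4, 0, 4, 3, 4, 0]), (126, false, [3, 1, 3, 4, 0, 4, 0, 4, 3, 1, 3]), (236, false, [0, 1, 3, 1, 0, 4, 0, 4, 0, 4, 0, 1, 3, 1]), (30, false, [3, 1, 0, 4, 0, 4, 3, 4, 0, 4, 0, 4]), (97, true, [2, 0, 1, 0, 4, 0, 4, 3, 4, 0, 1, 0, 1, 0]), (118, true, [1, 2, 0, 4, 3, 4, 3, 1, 0, 1, 3, 4, 0, 4, 0]), (124, true, [0, 1, 2, 0, 4, 3, 4, 3, 1, 0, 1, 3, 1, 0]), (86, true, [1, 0, 1, 0, 1, 0, 1, 2, 0, 1, 0,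 1, 3, 1, 0, 1, 3, 4, 3]), (268, false, [0, 1, 3, 4, 3, 1, 0, 1, 3, 1, 3, 1, 3]), (98, false, [0, 1, 3, 1, 0, 4, 3, 1, 3, 1, 3, 1, 0]), (184, false, [2, 4, 0, 1, 3, 4, 0, 1, 0, 4]), (124, false, [0, 1, 2, 0, 1, 3, 1, 3, 4, 3, 4, 3, 4, 3]), (172, true, [1, 0, 2, 4, 3, 4, 0, 4, 3, 1, 3, 1, 0, 1, 0, 1, 0]), (244, true, [2, 4, 3, 1, 3, 1, 3, 4, 3, 4, 3]), (178, true, [0, 1, 2, 0, 4, 0, 4, 0, 4, 0, 4, 0]), (280, true, [0, 2, 4, 0, 1, 3, 1, 3, 1, 0, 1, 0, 1, 3, 4]), (203, true, [0, 4, 3, 4, 0, 4, 3, 1, 3, 1, 3, 4, 3]), (184, true, [0, 2, 4, 0, 1, 0, 1, 3, 1, 0, 1, 3, 4]), (86, true, [0, 4, 3, 1, 0, 4, 3, 4, 3, 4, 3, 4, 0, 1, 0]), (57, true, [0, 1, 2, 0, 1, 0, 4, 3, 4, 3, 4, 3, 4, 0, 1]), (92, true, [1, 0, 1, 0, 1, 3, 1, 3,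 1, 3, 4, 3, 4, 3]), (272, false, [0, 2, 4, 0, 1, 0, 1, 0, 4, 0, 4, 3, 1, 3, 4]), (119, true, [0, 1, 2, 0, 1, 3, 1, 3, 1, 0, 1, 0, 1, 3]), (125, true, [0, 1, 2, 0, 4, 0, 4, 0, 4, 3, 4, 3, 4, 0, 1, 0, 4]), (255, true, [2, 4, 0, 4, 0, 1, 3, 1, 3, 4, 3, 4, 3, 4, 3]), (272, false, [0, 1, 2, 0, 1, 3, 4, 0, 1, 0, 1, 3, 4, 0]), (125, true, [4, 3, 1, 0, 1, 0, 4, 0, 4, 3, 4]), (126, false, [4, 0, 4, 3, 1, 0, 1, 3, 1, 0, 1, 0, 4, 0]), (126, true, [0, 1, 3, 1, 3, 4, 0, 4, 0, 4, 0, 4, 3, 1, 3, 1]), (184, false, [4, 3, 4, 3, 4, 0, 1, 3, 4, 3, 4, 3])]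
def r7 : List (ℕ × Bool × List ℕ) := [(114, false, [3, 4, 3, 1, 0, 1, 0, 1, 0, 1, 3, 1]), (281, false, [1, 0, 1, 2, 0, 4, 3, 4, 3, 4, 0, 4, 0, 1]), (68, false, [0, 1, 3, 1, 0, 1, 3, 1, 3, 4, 0, 4, 3]), (248, false, [4, 3, 4, 3, 4, 0, 4, 3, 1, 3, 4, 0, 4]), (178, false, [1, 0, 2, 4, 3, 4, 3, 1, 0, 1, 3, 1, 3, 4, 0]), (225, true, [0, 2, 4, 3, 4, 0, 4, 3, 4, 0, 1, 3, 1, 3, 1, 0]), (154, true, [0, 4, 0, 1, 0, 1, 3, 1, 0, 1, 3, 4, 0]), (152, false, [1, 2, 0, 1, 0, 4, 3, 4, 3, 4, 0, 4, 3, 1, 3, 1, 3]), (179, true, [2, 0, 4, 3, 1, 0, 1, 3, 4, 3, 4, 3, 1, 3]), (252, false, [1, 0, 1, 0, 1, 0, 1, 2, 0, 1, 0, 1, 0, 4]), (20, false, [4, 0, 1, 3, 1, 3, 1, 3, 4, 3, 4, 3, 1, 3]), (75, false, [1, 0, 1, 2, 0, 4, 0, 1, 3, 1, 0, 1, 0,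 4, 3]), (276, true, [0, 1, 3, 4, 0, 4, 0, 1, 3, 1, 0, 4, 0, 4, 3]), (182, true, [1, 0, 2, 4, 3, 4, 3, 4, 3, 1, 0, 1, 3, 4, 0]), (200, false, [4, 3, 4, 0, 4, 0, 4, 0, 4, 3, 4]), (35, false, [0, 1, 3, 1, 0, 1, 3, 4, 3, 1, 0, 1]), (122, true, [1, 2, 0, 1, 0, 4, 3, 1, 0, 1, 0, 4, 3, 1, 0, 1]), (110, false, [0, 1, 2, 0, 4, 0, 1, 3, 1, 0, 1, 0, 1, 3, 4]), (168, false, [4, 0, 4, 0, 4, 3, 4, 3, 4, 0, 1, 3, 4, 3]), (69, true, [0, 2, 4, 0, 1, 0, 4, 3, 4, 0, 4, 0, 4, 3, 4]), (179, false, [2, 4, 0, 4, 3, 1, 0, 1, 3, 4, 3, 4, 3, 1]), (94, false, [0, 2, 4, 3, 4, 0, 4, 3, 1, 0, 1, 0, 4, 3]), (269, true, [1, 0, 2, 4, 0, 4, 3, 1, 3, 1, 3, 1, 3, 4, 0]), (254, true, [3, 1, 3, 1, 0, 1, 0, 1, 3, 1, 3, 1, 3, 1, 3]), (100, true, [3, 1, 0,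 1, 3, 1]), (119, true, [0, 1, 0, 1, 3, 1, 3, 1, 3, 4, 3, 4, 3, 4, 3, 4]), (177, false, [1, 3, 1, 0, 4, 3, 4, 3, 4, 0, 4, 0, 4, 3, 4, 0]), (254, true, [0, 4, 0, 4, 3, 1, 0, 1, 3, 4, 3, 4, 3, 1, 0]), (171, false, [4, 3, 1, 3, 4, 0, 1, 3, 1, 0, 4, 3]), (17, true, [3, 4, 0, 4, 3, 4, 3, 4, 0, 1, 0, 1]), (220, false, [2, 4, 0, 1, 0, 1, 0, 4, 0, 4, 3, 1, 0, 1, 0, 4]), (7, false, [0, 4, 3, 4, 3, 4, 0, 1, 3, 1, 3, 1, 0, 1, 0, 4]), (73, true, [1, 2, 0, 1, 0, 1, 0, 1, 3, 4, 3, 1, 0, 1, 3]), (277, false, [1, 0, 1, 2, 0, 1, 0, 1, 3, 1, 0]), (57, false, [0, 4, 0, 1, 3, 4, 3, 1, 0, 1, 0, 4, 0, 4]), (20, false, [4, 0, 1, 3, 1, 3, 1, 3, 4, 3, 4, 3, 1, 3]), (127, true, [4, 3, 1, 0, 1, 3, 1, 0, 1, 3, 1, 3, 1, 3, 4]), (188, true, [1, 0,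 1, 3, 4, 3, 4, 3, 4, 0, 1, 3, 1, 0, 4]), (214, true, [0, 1, 0, 2, 4, 0, 4, 0, 1, 3, 1, 3, 1, 0, 1, 0, 4]), (72, true, [4, 3, 1, 3, 1, 0, 1, 0, 1, 3, 1, 0, 1]), (239, false, [2, 0, 1, 0, 1, 0, 1, 0, 4, 3]), (168, false, [0, 2, 4, 0, 1, 0, 1, 3, 4, 3, 1, 0, 4, 0]), (135, true, [0, 1, 0, 4, 3, 1, 3, 1, 3, 1, 0, 1, 3, 4]), (182, true, [0, 1, 3, 4, 3, 1, 0, 1, 3, 4, 3, 4, 3, 4]), (56, false, [3, 1, 3, 1, 0, 4, 3, 4, 0, 1, 3, 4]), (121, true, [1, 0, 1, 0, 4, 0, 4, 3, 4, 0, 1, 0]), (178, true, [4, 0, 1, 3, 4, 0, 4, 3, 1, 3, 4, 0, 4, 3, 1, 0, 1]), (87, false, [0, 1, 0, 1, 2, 0, 4, 0, 1, 3, 4, 0, 4, 3, 4, 3]), (87, true, [0, 1, 0, 1, 3, 4, 3, 1, 0, 4, 3, 4, 0, 4, 0]), (244, false, [3, 4, 3, 4, 0, 4, 0, 4, 3, 1, 0, 1, 3, 4]),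 (265, false, [0, 4, 3, 1, 3, 1, 3, 4, 0, 4, 3]), (170, false, [0, 4, 3, 4, 0, 4, 3, 4, 0, 4, 3, 1]), (171, false, [4, 0, 1, 0, 1, 0, 4, 0]), (200, true, [0, 1, 0, 2, 4, 0, 4, 0, 4, 0, 4, 0]), (78, true, [0, 2, 4, 0, 4, 0, 4, 3, 1, 3, 4, 0, 4, 0]), (119, true, [0, 2, 4, 3, 1, 0, 4, 3, 4, 0, 1, 0, 4]), (127, true, [2, 0, 1, 0, 1, 3, 4, 0, 4, 3, 1, 3, 4]), (68, true, [0, 1, 0, 1, 3, 4, 3, 4, 0, 1, 3]), (103, false, [2, 4, 3, 4, 0, 4, 3, 1, 0, 1, 0, 4, 3]), (2, true, [3, 1, 0, 1, 3, 1, 0, 1, 3]), (209, false, [2, 0, 4, 0, 4, 3, 1, 3, 1, 3]), (141, false, [1, 0, 1, 0, 1, 3, 4, 0, 4, 3, 4, 0, 4, 3, 1, 3]), (266, false, [0, 1, 3, 1, 0, 4, 3, 4, 0, 4, 0, 4, 3, 1]), (188, false, [0, 1, 0, 1, 0, 2, 4, 0, 1, 3, 1, 3, 1, 0, 1,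 0]), (71, true, [2, 4, 3, 1, 3, 4, 0, 4, 3, 1, 0, 1, 0, 4, 0, 4]), (199, true, [0, 4, 0, 4, 3, 1, 0, 4, 0, 4, 3, 4, 0]), (272, false, [1, 3, 1, 0, 4, 3, 1, 3, 1, 3, 4, 0, 1, 0]), (172, true, [2, 4, 0, 1, 3, 1, 3, 4, 0, 1, 3, 1, 3, 4, 3, 4]), (58, true, [3, 4, 3, 1, 3, 1, 0, 4, 3, 4, 0]), (24, true, [0, 2, 4, 3, 4, 0, 4, 0, 4, 3, 4, 3, 4, 3, 4, 0]), (148, false, [3, 4, 3, 1, 0, 4, 3, 4, 3, 4, 0, 1, 3]), (278, false, [4, 3, 4, 0, 4, 3, 4, 0, 1, 0, 4]), (7, true, []), (180, false, [0, 1, 0, 1, 0, 2, 4, 0, 4, 3, 1]), (38, true, [0, 1, 2, 0, 4, 3, 4, 3, 4, 0, 4, 3, 1, 0, 1, 3]), (57, false, [4, 3, 4, 0, 4, 3, 1, 3, 4, 0, 4, 3]), (124, false, [0, 4, 0, 1, 0, 1, 3, 1, 3, 1, 0, 4, 3, 1]), (72, true, [2, 0, 4, 3, 1, 0, 1, 0,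 4, 3, 4, 0, 4, 0]), (260, false, [2, 4, 0, 1, 3, 1, 0, 1, 0, 4, 0]), (193, false, [0, 4, 3, 4, 0, 1, 0, 1, 0, 1, 0, 4, 3, 4]), (51, true, [4, 3, 4, 3, 4, 0, 4, 0, 4, 3, 4, 3, 4, 0, 4]), (87, false, [2, 4, 0, 1, 3, 1, 3, 1, 3, 1, 0, 4, 0, 1]), (263, true, [1, 0, 1, 0, 2, 4, 3, 4, 0, 4, 3, 1, 3, 1, 0]), (178, true, [1, 0, 1, 3, 1, 0, 1, 3, 4, 0, 4, 0, 4, 3, 4, 3, 1]), (105, false, [2, 4, 3, 4, 3, 1, 0, 1, 3, 1, 0]), (178, false, [1, 0, 2, 4, 3, 4, 3, 1, 0, 1, 3, 1, 3, 4, 0]), (225, true, [0, 4, 0, 4, 0, 1, 3, 4, 3, 4, 0, 1, 0, 1, 3, 1, 3]), (17, false, [1, 3, 4, 0, 4, 3]), (267, false, [2, 4, 0, 4, 3, 4, 3, 4]), (255, false, [1, 0, 1, 0, 4, 3, 4, 0, 4, 0, 4, 3, 1]), (255, true, [0, 2, 4, 3, 4, 3, 4, 0, 4, 0, 1, 3, 1,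 0, 4, 0]), (124, true, [0, 2, 4, 0, 1, 3, 1, 0, 1, 3, 4, 0, 4]), (274, true, [3, 4, 0, 4, 3, 1, 0, 1, 3, 1, 0, 1, 3]), (85, true, [4, 0, 4, 3, 4, 3, 4, 0, 1, 3, 1, 0, 4, 0, 4]), (171, true, [3, 1, 3, 4, 3, 4, 3, 4, 0, 1, 0, 1, 3, 1, 3, 4]), (178, true, [0, 4, 0, 1, 0, 1, 0, 1, 3, 4, 3, 4, 0, 4, 3, 1, 3]), (184, true, [1, 0, 1, 0, 4, 3, 1, 3, 1, 0, 1, 3, 4, 3, 4, 3]), (218, false, [3, 4, 3, 4, 0, 4, 0, 1, 3, 1, 0, 1, 3, 1, 0]), (70, true, [2, 4, 0, 4, 3, 4, 3, 1, 0, 1, 0, 1, 0, 1, 3, 4]), (263, true, [0, 1, 3, 1, 3, 4, 3, 4, 3, 4, 3, 1, 0]), (200, true, [0, 1, 3, 1, 0, 4, 3, 1, 3, 4, 0, 4, 0, 1]), (247, false, [3, 4, 3, 4, 0, 4, 0, 4, 0, 4, 3, 4]), (190, false, [0, 1, 2, 0, 4, 3, 4, 0, 4, 3, 1, 3, 1]), (275, false, [0,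 4, 3, 1, 3, 1, 3, 1, 3, 4, 3, 4, 3]), (59, false, [0, 1, 3, 4, 3, 4, 3, 4, 0, 4, 3, 1, 3, 1, 3, 1]), (168, true, [4, 3, 1, 0, 1, 3, 4, 3, 1, 0, 1, 0, 4, 3, 4, 0]), (23, true, [0, 1, 0, 1, 0, 2, 4, 0, 1, 0, 4, 3, 4, 0, 4, 0, 4]), (86, true, [2, 0, 1, 0, 1, 3, 4, 0, 4, 0, 1, 3, 1]), (125, true, [0, 2, 4, 3, 4, 0, 4, 0, 4, 3, 1, 0, 1, 0, 4, 3]), (112, false, [3, 4, 0, 4, 3, 1, 0, 1, 0, 4, 0, 4, 3, 1]), (112, true, [3, 1, 3, 1, 3, 1, 3, 4, 3, 4, 0, 4, 0, 4, 3, 1]), (183, true, [1, 3, 4, 0, 4, 3, 4, 3, 1, 0, 1, 3, 1, 0, 1, 0])]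
def r8 : List (ℕ × Bool × List ℕ) := [(273, true, [3, 4, 3, 4, 0, 1, 0, 1, 0, 4, 0, 4]), (222, false, [0, 1, 3, 1, 3, 4, 3, 4, 3, 4, 0, 4, 3, 1, 3]), (273, true, [1, 0, 1, 3, 4, 3, 4, 0, 1, 3, 4, 3, 1]), (82, true, [2, 4, 3, 4, 3, 1, 0, 1, 3, 4, 0, 4, 0, 4]), (82, true, [4, 0, 4, 0, 1, 3, 1, 0, 4, 3, 4, 3, 4, 3]), (248, true, [1, 3, 4, 0, 4, 3, 1, 0, 1, 0, 4, 0, 4, 3, 4, 0]), (82, true, [1, 2, 0, 4, 3, 1, 0, 4, 0, 4, 3, 1]), (273, true, [2, 0, 4, 0, 4, 3, 1, 3, 1, 3, 4, 3, 4, 3]), (28, false, [3, 4, 0, 4, 3, 4, 0, 1, 3, 1, 0, 1]), (222, false, [3, 1, 0, 1, 3, 1, 0, 1, 0, 1, 3, 1, 0, 4, 3, 1]), (222, false, [2, 4, 3, 1, 0, 1, 3, 4, 0, 4, 0, 1, 3, 1, 3, 1]), (222, false, [0, 1, 2, 0, 1, 0, 4, 0, 4, 0, 4, 3, 4, 0, 1]),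 (28, false, [3, 1, 0, 1, 3, 4, 3, 1, 0, 1, 0, 1, 0, 1, 0, 1]), (82, true, [1, 0, 1, 0, 4, 3, 1, 0, 1, 0, 4, 0, 4, 3, 4]), (14, false, [1, 3, 4, 0, 1, 0, 1, 3, 4, 0, 1, 0, 1]), (28, false, [0, 1, 2, 0, 4, 0, 4, 3, 1, 3, 1, 3, 1, 0, 4, 0, 4]), (222, false, [0, 1, 3, 1, 3, 1, 0, 1, 0, 1, 0, 1, 3, 4, 3, 4]), (273, true, [1, 0, 1, 0, 1, 0, 1, 2, 0, 4, 3, 1, 3, 1]), (273, true, [1, 0, 1, 0, 1, 0, 1, 3, 4, 0, 1, 0, 1, 3]), (248, true, [3, 4, 0, 1, 0, 1, 3, 1, 0, 4, 0, 4]), (248, true, [1, 0, 1, 3, 1, 3, 1, 0, 4, 3, 1, 0, 1]), (248, true, [2, 0, 4, 3, 1, 3, 1, 0, 1, 3, 4, 3, 4, 3]), (36, true, [0, 1, 0, 1, 3, 1, 0, 1, 3, 4, 0, 4]), (222, false, [2, 0, 1, 3, 4, 3, 4, 3, 1, 0, 4, 0, 1]), (222, false, [2, 0, 4, 3, 4, 0, 4, 3,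 1, 0, 1, 0, 4, 0]), (9, false, [1, 3, 4, 0, 1, 0, 1, 3, 4, 0, 1, 0, 1, 0]), (222, false, [3, 4, 0, 4, 3, 4, 0, 1, 3, 1, 3, 4, 0]), (9, false, [0, 1, 0, 4, 3, 1, 3, 1, 0, 4, 3, 1, 3, 1, 0]), (167, false, [4, 3, 4, 3, 1, 0, 4, 3, 4, 3, 4]), (167, false, [1, 0, 4, 0, 4, 3, 4, 3, 1, 0, 4, 0, 4, 0, 1]), (82, true, [3, 4, 0, 1, 3, 1, 3, 4, 0, 1, 3, 1]), (82, true, [0, 4, 3, 1, 0, 1, 0, 4, 3, 1, 0, 4]), (133, true, [2, 0, 4, 3, 4, 0, 1, 0, 1, 3, 1, 0, 4, 0]), (222, false, [0, 1, 2, 0, 1, 0, 1, 3, 1, 3, 1, 3, 1, 0, 4, 0, 4, 3]), (167, false, [3, 1, 3, 4, 0, 4, 0, 4, 3, 4, 3, 4, 3, 1]), (222, false, [1, 0, 2, 4, 3, 1, 0, 4, 0, 4, 3, 1, 0, 4, 0, 1]), (248, true, [1, 0, 1, 3, 4, 3, 1, 0, 4, 3, 4, 0, 1, 0]), (28, false, [0, 2,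 4, 0, 4, 3, 4, 0, 1, 3, 1, 0, 1]), (28, false, [0, 1, 2, 0, 1, 3, 4, 0, 4, 3, 4, 3]), (167, false, [1, 3, 1, 0, 4, 3, 1, 0, 1, 0, 4, 0]), (16, false, [2, 0, 1, 3, 4, 3, 1]), (36, true, [4, 0, 4, 0, 4, 0, 4, 3, 1, 3, 4, 0, 4, 3, 4, 0]), (16, false, [2, 4, 0, 4, 0, 4, 0, 4, 3, 1, 3, 4, 0, 4]), (36, true, [4, 3, 4, 0, 1, 3, 1, 0, 1, 3, 4]), (222, false, [3, 1, 0, 4, 0, 4, 3, 1, 0, 4, 0, 1]), (222, false, [0, 1, 3, 1, 0, 4, 3, 1, 3, 4, 0, 4, 0]), (14, false, [4, 0, 4, 3, 4, 0, 1, 0, 1, 3, 1, 0, 4, 0]), (9, false, [0, 1, 0, 4, 0, 4, 0, 4, 0, 1, 3, 4, 3, 1]), (16, false, [0, 4, 0, 1, 0, 1, 0, 1, 0, 1, 0, 4, 0]), (167, false, [2, 4, 0, 4, 0, 1, 3, 4, 0, 4, 0, 4, 3]), (167, false, [1, 3, 4, 3, 1, 0, 1, 0, 1, 0, 4, 0, 4, 0,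 1]), (167, false, [3, 1, 3, 4, 0, 4, 3, 1, 0, 1, 0, 1, 0, 4]), (133, true, [3, 4, 0, 4, 3, 4, 3, 1, 0, 1, 3, 1, 0, 1, 0]), (133, true, [3, 4, 0, 4, 3, 1, 3, 1, 0, 1, 3, 4, 0]), (167, false, [1, 0, 4, 0, 1, 3, 4, 3, 4, 0, 4, 0, 4, 3, 1]), (273, true, [0, 1, 3, 1, 3, 1, 0, 1, 3, 4, 3, 4, 3, 1, 0]), (167, false, [2, 0, 1, 0, 4, 3, 4, 3, 4, 0, 4, 0, 4, 0, 1, 3]), (222, false, [1, 0, 4, 0, 1, 3, 4, 3, 4, 3, 1, 0, 4, 0, 1]), (36, true, [0, 4, 3, 4, 3, 4, 3, 4, 3, 4, 3, 4]), (16, false, [0, 1, 0, 1, 0, 1, 2, 0, 1, 3, 4, 0, 4]), (248, true, [1, 0, 1, 0, 2, 4, 3, 4, 0, 1, 3, 4]), (28, false, [0, 1, 3, 1, 0, 4, 3, 4, 0, 4]), (16, false, [0, 1, 3, 4, 3, 1, 0]), (36, true, [4, 0, 4, 3, 1, 3, 1, 3, 4, 0, 4, 3, 4, 3, 4]), (248, true,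 [0, 4, 3, 1, 3, 4, 0, 1, 3, 1, 3, 4, 0, 1, 3]), (36, true, [3, 1, 0]), (248, true, [4, 0, 1, 3, 4, 0, 4, 0, 4, 3, 1, 0]), (16, false, [2, 0, 4, 0, 1, 0, 1, 0, 1, 0, 1, 0, 4]), (273, true, [1, 0, 4, 3, 4, 0, 4, 3, 1, 0, 1, 0, 4]), (222, false, [0, 1, 2, 0, 1, 0, 4, 3, 1, 3, 4, 0, 4, 0]), (222, false, [0, 1, 2, 0, 1, 3, 4, 0, 4, 0, 4, 3, 4, 0, 4, 3]), (273, true, [3, 1, 0, 1, 0, 4, 0, 4, 3, 4, 3, 4, 3]), (28, false, [2, 0, 1, 3, 1, 0, 4, 3, 4, 0, 4]), (167, false, [1, 0, 1, 0, 1, 3, 1, 3, 4, 3, 4, 0, 1, 0]), (14, false, [1, 3, 4, 0, 1, 0, 1, 3, 4, 0, 1, 0, 1]), (222, false, [3, 4, 0, 4, 0, 1, 3, 1, 3, 1, 3, 4, 0, 4, 3]), (9, false, [4, 0, 4, 3, 4, 0, 1, 0, 1, 3, 1, 0, 4]), (9, false, [0, 1, 3, 4, 3, 4, 0, 1, 3, 1, 3,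 4]), (222, false, [2, 4, 3, 1, 3, 4, 0, 4, 3, 1, 3, 1, 0, 1]), (222, false, [2, 4, 3, 1, 0, 1, 0, 1, 3, 1, 3, 4, 0, 4, 0, 4]), (28, false, [0, 1, 0, 1, 2, 0, 1, 3, 1, 0, 1, 3, 1, 3, 1, 0, 4]), (248, true, [2, 4, 3, 1, 0, 4, 3, 4, 3, 4, 0, 1, 0]), (28, false, [3, 1, 3, 1, 0, 1, 3, 1, 0, 1, 3, 1, 3, 1, 0, 4]), (248, true, [0, 1, 0, 1, 0, 4, 3, 4, 0, 1, 0, 1, 3, 4, 0]), (82, true, [1, 3, 4, 3, 1, 0, 1, 3, 4, 3, 4, 3, 4, 0]), (273, true, [2, 0, 1, 3, 1, 3, 4, 3, 4, 0, 4, 0, 4]), (82, true, [1, 2, 0, 4, 0, 1, 3, 1, 0, 4, 0, 4, 0, 4, 0]), (222, false, [0, 1, 3, 1, 0, 4, 3, 4, 3, 4, 0, 4, 3, 4]), (248, true, [1, 2, 0, 4, 0, 1, 3, 1, 3, 1, 0, 4, 3, 1, 3, 4]), (28, false, [3, 1, 0, 1, 3, 4, 0, 4, 3, 4, 3]), (167, false, [1,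 3, 1, 3, 1, 0, 1, 0, 1, 0, 4, 3, 4]), (167, false, [3, 4, 3, 1, 0, 1, 0, 1, 3, 4, 0, 4, 0, 4]), (82, true, [1, 0, 1, 3, 1, 0, 1, 0, 1, 0, 4, 3, 1, 3, 4]), (222, false, [2, 0, 4, 3, 4, 3, 1, 0, 1, 0, 1, 0, 4, 3, 4]), (14, false, [4, 0, 4, 3, 4, 0, 1, 0, 1, 3, 1, 0, 4, 0]), (9, false, [0, 4, 3, 4, 0, 4, 3, 1, 3, 1, 0, 1, 3, 4, 3]), (82, true, [0, 1, 3, 1, 3, 1, 3, 4, 0, 4, 3, 1, 3, 1]), (222, false, [0, 1, 3, 1, 0, 4, 0, 4, 0, 4, 3, 4, 0, 1]), (273, true, [3, 1, 3, 4, 0, 4, 3, 1, 3, 1, 0, 1, 0]), (222, false, [1, 0, 4, 0, 4, 3, 4, 0, 4, 3, 1, 0, 1, 0, 4, 0]), (248, true, [2, 4, 0, 1, 3, 4, 3, 4, 3, 4, 0, 4]), (273, true, [2, 4, 3, 1, 0, 1, 3, 4, 3, 1, 0, 4, 3]), (222, false, [0, 1, 3, 4, 0, 1, 0, 1, 3, 1, 0, 4, 0, 1]),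 (28, false, [0, 1, 0, 1, 2, 0, 4, 0, 1, 3, 1, 0, 1, 0, 1, 0, 1]), (133, true, [1, 3, 1, 3, 4, 0, 1, 0, 1, 3, 4, 0, 1, 0, 1]), (133, true, [4, 0, 4, 3, 1, 3, 1, 0, 4, 3, 1, 3, 1, 3]), (273, true, [4, 0, 1, 0, 1, 3, 4, 3, 1, 0, 4]), (82, true, [1, 2, 0, 1, 0, 4, 3, 4, 0, 4, 0, 1, 3, 1, 3, 1]), (82, true, [4, 0, 4, 0, 1, 3, 1, 3, 1, 0, 1, 0, 1, 0, 1]), (222, false, [0, 1, 2, 0, 4, 3, 1, 3, 1, 3, 1, 0, 4, 0, 1]), (28, false, [0, 1, 0, 1, 3, 1, 0, 4, 0, 4, 0, 1, 3, 1, 3, 1]), (133, true, [2, 4, 3, 4, 0, 1, 0, 1, 3, 4, 0, 1, 0, 1])]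
def r9 : List (ℕ × Bool × List ℕ) := [(234, false, [1, 0, 1, 0, 1, 0, 1, 0, 1, 0]), (153, true, [2, 4, 0, 1, 3, 1, 3, 1, 0, 1, 3, 4, 3, 4, 3]), (167, true, [4, 0, 4, 3, 1, 0, 1, 0, 4, 3, 4, 3, 4, 3, 1]), (199, true, [3, 4, 3, 1, 0, 1, 3, 1, 3, 1, 0, 1, 3, 4, 0]), (199, true, [1, 2, 0, 4, 0, 4, 3, 4, 0, 4, 3, 4, 0, 4, 0, 1]), (197, false, [1, 0, 4, 3, 4, 0, 4, 3, 1, 0, 1, 0, 4, 0, 4]), (92, false, [2, 0, 1, 3, 1, 3, 1, 0, 4, 0, 4, 3, 1, 3, 1, 0]), (234, false, [1, 0, 1, 0, 1, 0, 1, 0, 1, 2, 0]), (43, true, [4, 0, 1, 3, 4, 3, 1, 0, 1, 3, 4, 0, 4, 3]), (176, true, [1, 2, 0, 4, 0, 4, 0, 4, 3, 1, 3, 4]), (176, true, [1, 3, 4, 3, 4, 0, 4, 3, 1, 3, 4, 0]), (153, true, [4, 3, 1, 0, 1, 0, 1, 3, 1, 0, 4, 0, 4]), (218, false,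 [1, 0, 1, 2, 0, 4, 0, 1, 3, 1, 0, 1, 3, 1, 3, 1, 0, 1]), (208, true, [0, 2, 4, 3, 4, 3, 4, 3, 1]), (14, true, [0, 4, 3, 4, 0, 4, 0, 1, 3, 1, 0, 1]), (218, false, [1, 0, 1, 0, 1, 0, 1, 3, 1, 3, 1, 0, 1, 3, 1, 0, 4, 0]), (181, false, [0, 4, 3, 4, 0, 1, 0, 1, 0, 4, 3, 1, 3]), (149, false, [0, 1, 0, 4, 3, 1, 3, 1, 0, 1, 0, 4]), (149, false, [0, 1, 2, 0, 4, 3, 1, 3, 1, 0, 1, 0, 4]), (261, false, [0, 4, 0, 4, 3, 4, 0, 4, 3, 1, 0, 1, 0]), (261, false, [1, 2, 0, 1, 0, 4, 3, 4, 0, 1, 0, 1, 0, 1, 0]), (261, false, [0, 2, 4, 3, 4, 0, 4, 3, 4, 0, 1, 3, 1, 0]), (144, true, [3, 1, 3, 1, 0, 1, 0, 1, 3, 1, 0, 4]), (269, false, [0, 1, 3, 4, 0, 1, 0, 1, 0, 1, 0, 4]), (262, false, [4, 3, 1, 0, 1, 0, 4, 3, 4, 0, 4, 0, 1, 3]), (204, true,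 [3, 1, 0, 1, 3, 4, 3, 1, 0, 4, 0, 4, 0, 4]), (262, false, [2, 4, 0, 1, 3, 1, 3, 4, 0, 4, 3, 4, 3, 1]), (204, true, [0, 1, 2, 0, 1, 0, 1, 0, 4, 3, 1, 3, 4, 0, 4]), (128, false, [1, 0, 1, 0, 2, 4, 0, 4, 0]), (128, false, [1, 0, 1, 3, 4, 0, 4, 3, 1, 0, 1, 0, 4, 0, 4, 0]), (246, true, [0, 4, 0, 4, 0, 4, 0, 1, 3, 4, 0, 4, 0, 4, 3, 4]), (92, false, [3, 1, 0, 1, 0, 1, 3, 4, 3, 4, 0, 1, 0, 1, 0]), (9, false, [0, 1, 0, 1, 0, 1, 0, 4, 0, 4, 0, 4]), (181, false, [0, 2, 4, 0, 4, 3, 1, 3, 1, 3, 4, 0, 1]), (50, false, [1, 0, 2, 4, 3, 4, 0, 4, 3, 4, 0, 1, 0, 1, 0]), (176, true, [0, 1, 2, 0, 1, 0, 1, 3, 1, 3, 1, 3, 1]), (261, false, [1, 3, 1, 3, 4, 0, 4, 3, 1, 3, 1, 3, 1, 0]), (43, true, [2, 4, 0, 1, 3, 4, 3, 1, 0, 1, 0, 4, 3, 4]),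 (182, false, [2, 4, 0, 1, 0, 1, 0, 1, 0, 1, 0, 1]), (233, false, [3, 1, 3, 1, 0, 4, 0, 4, 3, 4, 3, 1]), (30, false, [2, 4, 0, 1, 0, 4, 3, 4, 3, 1, 0, 4, 0, 4, 3, 4, 3, 1]), (63, true, [4, 0, 1, 3, 4, 3, 1, 0, 1, 3, 4]), (31, false, [4, 3, 1, 3, 1, 0, 4, 3, 1, 0, 1, 3, 1]), (144, true, [4, 3, 4, 0, 4, 0, 1, 3, 1, 3, 1, 0]), (269, false, [0, 1, 2, 0, 4, 3, 1, 3, 1, 3, 1, 3, 4, 3]), (27, true, [1, 3, 4, 0, 1, 0, 1, 0, 4, 3, 1]), (133, false, [0, 1, 0, 1, 0, 4, 0, 4, 0, 1, 0]), (9, true, []), (20, true, [0, 4, 0, 4, 3, 4, 0, 1, 0, 1, 3, 1, 0, 1]), (128, false, [1, 0, 1, 0, 4, 3, 4, 0]), (233, false, [1, 2, 0, 4, 0, 1, 3, 1, 0, 4, 3, 1, 3, 4]), (128, false, [0, 2, 4, 0, 1, 0, 4, 3, 4, 0, 4, 0, 1, 3, 4, 3, 1]), (16, true,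 [0, 4, 0, 4, 3, 4, 0, 4, 3, 1, 0, 1]), (9, false, [0, 4, 3, 1, 0, 4, 0, 4, 3, 1, 0, 1]), (161, false, [0, 4, 3, 1, 3, 1, 0, 4, 0]), (167, true, [3, 1, 3, 4, 3, 4, 0, 4, 0, 4, 3, 4, 3, 4]), (50, false, [0, 4, 3, 4, 3, 4, 0, 4, 0, 1, 3, 1, 0, 1]), (176, true, [0, 1, 3, 1, 3, 1, 0, 1, 0, 1, 0, 1, 3]), (16, true, [0, 1, 0, 1, 0, 1, 2, 0, 1, 3, 4, 0, 4]), (36, false, [0, 4, 3, 4, 3, 4, 3, 4, 3, 4, 3, 4]), (107, false, [3, 1, 3, 1, 0, 4, 3, 4, 0, 4, 0, 4, 3, 1, 3, 4]), (182, false, [3, 4, 3, 4, 3, 4, 3, 4, 3, 4, 3, 1]), (30, false, [1, 0, 4, 3, 4, 0, 4, 0, 4, 0, 4, 3, 1, 3, 4, 0, 4, 0]), (63, true, [2, 4, 0, 1, 3, 4, 3, 1, 0, 1, 0, 4, 3]), (73, true, [1, 0, 2, 4, 3, 4, 0, 4, 0, 4, 3, 4, 3, 1, 0, 4]), (15, false, [1, 0, 1,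 3, 1, 3, 1, 0, 4, 3, 4, 0, 1, 0]), (73, true, [4, 3, 4, 0, 1, 3, 1, 3, 1, 0, 1, 0, 1, 0, 1, 0]), (20, true, [1, 2, 0, 1, 0, 1, 3, 1, 0, 4, 3, 4, 0, 1]), (207, true, [4, 0, 4, 0, 1, 3, 4, 0, 4, 0, 4, 3, 1]), (27, true, [1, 2, 0, 4, 3, 1, 3, 1, 3, 4, 0, 1, 3]), (153, true, [3, 1, 3, 1, 0, 1, 0, 1, 0, 4, 3, 4, 0, 4]), (234, false, [4, 3, 1, 0, 1, 0, 1, 0, 4, 3, 1, 3]), (182, false, [2, 4, 0, 4, 3, 1, 0, 1, 0, 1, 0, 4, 3, 1]), (50, false, [0, 1, 3, 4, 3, 4, 0, 1, 3, 1, 0, 4, 3, 4]), (18, false, [4, 3, 4, 3, 1, 0, 1, 3, 4, 0, 1, 3, 1]), (269, false, [1, 0, 1, 0, 1, 0, 1, 2, 0, 1, 0, 1, 0, 4, 3]), (30, true, [4, 0, 1, 3, 1, 3, 4, 0, 4, 0, 1, 3, 1, 3, 1]), (8, false, [0, 1, 3, 4, 3, 4, 0, 1, 3, 1, 3, 4]), (262, false, [1,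 0, 1, 3, 1, 3, 4, 0, 4, 0, 4, 0, 4, 3, 1]), (27, true, [1, 0, 1, 2, 0, 4, 0, 4, 3, 1, 3, 1, 3]), (25, true, [0, 1, 2, 0, 4, 3, 4, 3, 4, 0, 4, 3, 4, 0, 4, 3, 4]), (73, true, [2, 0, 4, 3, 4, 0, 1, 3, 1, 3, 1, 0, 1, 0, 1, 0, 1]), (25, true, [3, 1, 0, 4, 3, 4, 3, 4, 0, 4, 3, 4, 0, 4, 3, 4]), (73, true, [0, 1, 0, 4, 3, 1, 3, 1, 0, 1, 0, 1, 3, 1, 3, 4]), (199, true, [3, 1, 3, 4, 0, 1, 0, 1, 0, 1, 3, 4, 3]), (234, false, [2, 4, 0, 1, 3, 1, 3, 1, 3, 4, 0, 1]), (199, true, [2, 0, 1, 0, 4, 3, 1, 3, 1, 3, 1, 0, 4]), (153, true, [0, 1, 2, 0, 4, 0, 4, 3, 4, 3, 1, 0, 1, 3, 4, 0]), (107, false, [3, 1, 0, 1, 3, 1, 3, 1, 3, 4, 3, 4, 3, 4, 0, 4]), (182, false, [4, 3, 4, 0, 1, 3, 1, 3, 1, 3, 4, 0, 1, 3]), (161, false, [1, 3, 1, 3, 4,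 3, 4, 0, 4, 0, 4, 3, 4]), (50, false, [0, 1, 0, 2, 4, 3, 4, 0, 1, 3, 1, 0, 4, 3, 4]), (246, true, [4, 0, 4, 0, 4, 0, 1, 3, 1, 0, 1, 0]), (269, false, [1, 0, 1, 0, 1, 0, 1, 3, 1, 3, 1, 3, 4]), (142, false, [4, 0, 1, 0, 1, 0, 4, 3, 4]), (30, true, [0, 4, 3, 4, 0, 1, 0, 1, 0, 4, 0, 4, 3, 4, 3, 4]), (208, true, [0, 1, 2, 0, 4, 0, 4, 3, 4, 3, 4, 0, 1, 3, 1, 3, 4]), (262, false, [0, 1, 2, 0, 1, 0, 4, 0, 4, 0, 4, 3, 4, 0, 4, 3, 4]), (207, true, [4, 0, 4, 3, 1, 3, 1, 0, 1, 0, 4, 3, 4, 0]), (27, true, [1, 0, 1, 3, 4, 3, 4, 0, 1, 0, 1]), (197, false, [1, 0, 2, 4, 3, 4, 0, 4]), (149, true, [0, 1, 0, 4, 0, 4, 0, 1, 3, 4, 3, 4]), (181, false, [3, 4, 0, 4, 3, 1, 3, 1, 3, 4, 0, 1]), (218, false, [1, 3, 4, 0, 1, 3, 1, 0, 1, 0, 1, 0,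 4]), (173, true, [4, 3, 4, 3, 1, 0, 1, 3, 4, 0, 1, 3, 1]), (55, false, [4, 3, 4, 0, 1, 0, 1, 3, 1, 0, 4, 0]), (149, false, [2, 4, 0, 1, 0, 1, 3, 1, 3, 1, 3, 4]), (92, false, [4, 3, 1, 3, 1, 0, 4, 3, 1, 0, 1, 3, 4]), (92, false, [2, 4, 3, 1, 3, 1, 0, 1, 3, 4, 0, 1, 3, 1]), (181, false, [0, 2, 4, 3, 1, 0, 4, 0, 4, 3, 1, 3, 1, 0]), (218, false, [1, 2, 0, 4, 3, 1, 0, 1, 3, 1, 3, 1, 3, 4, 3]), (55, false, [2, 4, 0, 4, 3, 1, 3, 1, 0, 1, 3, 4, 0])]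
def r10 : List (ℕ × Bool × List ℕ) := [(181, false, [2, 0, 4, 3, 1, 3, 1, 0, 4, 0, 4, 3, 1, 0]), (253, true, [4, 0, 4, 3, 4, 3, 4, 0, 1, 3, 1, 0]), (183, true, [1, 0, 4, 3, 4, 3, 4, 0, 4, 0, 1, 3, 1, 0, 4]), (87, false, [0, 2, 4, 3, 4, 3, 1, 0, 1, 3, 4, 3, 4, 3, 4]), (90, true, [0, 1, 3, 1, 3, 1, 0, 1, 0, 1, 3, 4, 0, 4, 3, 1]), (166, false, [0, 1, 0, 1, 0, 1, 3, 4, 0, 4, 3, 1, 0, 1]), (110, true, [1, 2, 0, 4, 3, 1, 3, 1, 0, 1, 3, 4, 3, 1]), (252, false, [2, 0, 4, 3, 4, 0, 1, 3, 1, 0, 1, 3, 1, 0]), (128, false, [0, 1, 0, 1, 3, 1, 3, 4, 3, 4, 3, 1, 0, 1, 3]), (251, true, [3, 4, 0, 4, 3, 4, 0, 4, 3, 1, 0, 1, 0, 4, 3]), (153, true, [1, 2, 0, 4, 0, 4, 0, 1, 3, 4, 0, 4, 0]), (158, true, [0, 4, 0, 1, 3, 4, 3, 1, 0, 1, 0, 1,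 3, 1, 3]), (69, true, [2, 4, 0, 4, 0, 1, 3, 1, 0, 4, 3, 1, 0, 1, 0]), (154, false, [2, 4, 0, 1, 3, 1, 0, 1, 3, 1, 3, 1, 3, 4, 3, 4, 0]), (236, false, [1, 0, 4, 0, 1, 3, 4, 3, 4, 0, 4, 0, 1]), (85, false, [3, 4, 3, 4, 3, 1, 0, 1, 3, 1, 3, 4, 0, 4, 3]), (199, false, [4, 0, 4, 3, 4, 3, 4, 0, 4, 3, 1, 3, 1]), (162, true, [3, 1, 0, 1, 0, 1, 0, 4, 0, 4]), (199, true, [2, 4, 0, 1, 0, 4, 3, 4, 3, 4, 0, 4, 0, 4, 0, 1, 3]), (58, false, [1, 2, 0, 1, 3, 4, 0, 4, 3, 4, 3, 4, 0, 4, 3, 4, 3]), (60, false, [2, 0, 1, 3, 1, 0, 1, 0, 4, 3, 4, 0]), (70, false, [0, 2, 4, 0, 1, 3, 1, 0, 1, 0, 4, 3, 1]), (60, true, [0, 2, 4, 0, 1, 0, 4, 3, 4, 0, 1, 0, 1, 3, 4]), (236, true, [1, 2, 0, 4, 0, 1, 3, 1, 3, 4, 0, 4, 0, 4, 0, 4, 3, 4]), (78, false,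 [0, 4, 3, 1, 3, 4, 0, 4, 3, 1, 3, 1]), (87, false, [0, 2, 4, 3, 1, 3, 1, 0, 1, 3, 4, 3, 4, 3, 4]), (183, false, [1, 2, 0, 1, 0, 1, 3, 1, 3, 1, 0, 4, 3, 4, 0, 4, 3]), (57, true, [0, 4, 0, 4, 3, 1, 3, 1, 3, 4, 0, 4, 3, 1]), (71, true, [3, 1, 3, 1, 0, 4, 3, 4, 3, 4, 0, 4, 3]), (166, true, [1, 0, 1, 0, 2, 4, 0, 1, 3, 1, 0, 1, 0]), (57, false, [2, 0, 1, 0, 1, 3, 4, 0, 4, 3, 1, 3, 1, 3, 1]), (162, true, [3, 1, 0, 1, 0, 1, 0, 4, 0, 4]), (171, false, [4, 3, 4, 0, 4, 3, 1, 0, 1, 0, 1, 0, 4]), (80, true, [1, 0, 1, 0, 2, 4, 0, 4, 0, 1, 3, 4, 3, 4, 3, 4]), (141, true, [4, 0, 1, 3, 1, 0, 1, 3, 4, 3, 1, 0, 4]), (242, true, [2, 0, 4, 0, 1, 0, 1, 3, 1, 3, 1, 0, 4, 3]), (91, false, [1, 2, 0, 1, 3, 1, 0, 4, 0, 4, 3, 1, 3, 4, 0, 4]),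 (182, false, [0, 2, 4, 3, 4, 3, 4, 0, 4, 0, 4, 0, 4, 3]), (268, true, [1, 3, 4, 3, 4, 0, 4, 3, 1, 3, 1, 3]), (236, false, [0, 1, 2, 0, 1, 0, 1, 3, 4, 0, 4, 0, 4, 3, 1, 3]), (125, false, [3, 1, 0, 1, 3, 4, 0, 1, 0, 1, 3, 1, 3, 4]), (242, false, [1, 0, 1, 0, 1, 0, 2, 4, 3, 4, 3, 4, 0, 4, 3, 4]), (58, true, [1, 3, 1, 3, 1, 0, 1, 3, 4, 3, 1, 0, 1, 0, 4]), (208, true, [2, 0, 1, 3, 1, 0, 4, 3, 4, 3, 1, 0, 1]), (182, false, [0, 2, 4, 0, 1, 3, 4, 3, 1, 0, 1, 0, 4, 3, 1, 3, 4, 0]), (91, false, [4, 0, 4, 3, 1, 3, 4, 0, 4, 3, 1, 3, 1]), (251, false, [0, 1, 3, 1, 3, 4, 3, 4, 3, 4, 0, 1, 0]), (125, true, [1, 2, 0, 4, 3, 4, 0, 1, 0, 1, 0, 4]), (168, true, [4, 3, 4, 3, 1, 0, 1, 0, 1, 0, 1, 3, 4, 3, 1, 0]), (268, false, [2, 0, 4, 0,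 4, 0, 1, 3, 1, 0]), (85, true, [1, 2, 0, 4, 3, 1, 0, 1, 3, 4, 0, 4, 3]), (141, false, [1, 2, 0, 1, 3, 1, 0, 4, 0, 4, 3, 1]), (183, true, [0, 4, 3, 1, 0, 1, 3, 4, 3, 4, 0, 4]), (154, true, [4, 0, 1, 0, 4, 3, 4, 0, 1, 3, 4, 3, 1, 0]), (83, true, [3, 4, 3, 1, 0, 1, 3, 1, 3, 1, 3, 1]), (128, true, [2, 0, 4, 0, 1, 3, 4, 0, 4, 3, 1, 3, 1, 0, 4, 3]), (272, true, [3, 4, 0, 4, 0, 4, 3, 4, 3, 1, 0, 1, 3, 4, 3]), (91, true, [3, 4, 3, 1, 0, 1, 0, 1, 3, 1, 0, 4, 0, 1]), (179, true, [1, 0, 1, 3, 4, 0, 4, 0, 4, 0, 1, 3, 4, 3, 1]), (128, true, [0, 1, 0, 4, 0, 4, 3, 1, 3, 1, 3, 4, 3, 4, 0]), (90, false, [2, 0, 1, 3, 4, 3, 4, 0, 1, 3, 1, 0, 4, 3]), (252, true, [0, 1, 3, 4, 0, 4, 0, 1, 3, 4, 0, 4, 3]), (168, false, [1, 3, 1, 3, 1, 3,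 1, 3, 1, 0, 1, 0, 4, 3]), (245, true, [4, 0, 1, 0, 4, 3, 1, 0, 1, 0, 4, 3]), (91, true, [2, 0, 1, 3, 1, 3, 4, 3, 4, 0, 1, 0]), (179, false, [0, 2, 4, 0, 1, 3, 1, 0, 1, 3, 4, 0, 4]), (70, true, [0, 1, 3, 4, 3, 1, 0, 1, 0, 1, 0, 4]), (179, true, [4, 0, 1, 3, 1, 0, 1, 3, 4, 0, 4]), (73, true, [4, 3, 1, 3, 1, 3, 4, 0, 1, 0, 1]), (208, false, [0, 2, 4, 0, 1, 3, 4, 3, 4, 3, 4, 0]), (110, false, [4, 0, 1, 3, 4, 0, 4, 3, 4, 0, 1, 0, 4]), (165, true, [0, 1, 0, 1, 0, 1, 2, 0, 1, 3, 1, 0, 1]), (83, false, [3, 1, 0, 1, 0, 1, 3, 1, 3, 1, 0, 1, 0]), (181, true, [4, 0, 4, 0, 4, 3, 1, 0, 1]), (115, false, [2, 0, 1, 0, 4, 0, 4, 3, 1, 3]), (125, false, [2, 0, 1, 0, 1, 3, 1, 3, 1, 3, 1, 0, 4, 0]), (270, false, [1, 0, 1, 0, 1, 0, 4, 0,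 4, 0, 1, 0]), (179, false, [0, 1, 2, 0, 1, 3, 4, 0, 4, 0, 4, 0, 1, 3, 4, 3, 1]), (254, false, [2, 0, 4, 0, 1, 3, 1, 3, 4, 3, 4, 0, 4, 0, 4]), (153, false, [3, 4, 0, 4, 3, 1, 3, 4, 0, 4, 3, 4, 3, 4, 0]), (182, true, [4, 3, 4, 0, 1, 3, 4, 3, 4, 0, 1]), (128, false, [0, 2, 4, 3, 4, 0, 1, 0, 1, 3, 4, 0, 1, 3, 1, 3]), (73, false, [2, 0, 4, 3, 4, 3, 4, 3, 1, 0, 1, 3, 4, 3, 4, 0, 1]), (245, false, [0, 1, 0, 4, 3, 4, 0, 4, 0, 4, 3, 4, 3, 1]), (193, false, [3, 1, 0, 1, 0, 1, 0, 1, 3, 4, 3, 1, 0, 1, 3]), (193, false, [2, 0, 1, 0, 1, 0, 1, 0, 4, 0, 4, 3, 4, 0, 4, 3, 1]), (80, false, [0, 4, 3, 1, 3, 1, 0, 4, 3, 4, 3, 4, 0, 1, 3]), (165, false, [3, 1, 0, 4, 0, 4, 3, 4, 0, 1, 3]), (272, false, [2, 0, 1, 3, 1, 3, 1, 0, 1, 0, 1, 3,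 1, 3, 4, 0, 1]), (69, false, [1, 0, 1, 0, 1, 3, 4, 0, 4, 0, 4, 0]), (158, false, [0, 2, 4, 3, 1, 0, 1, 0, 1, 3, 1, 3, 4, 0, 4, 0, 4]), (71, true, [0, 4, 0, 1, 3, 1, 3, 4, 0, 4, 3, 1, 3, 1, 3, 1, 3]), (197, false, [2, 0, 4, 0, 1, 3, 1, 0, 1, 0]), (78, true, [1, 2, 0, 1, 3, 1, 3, 4, 3, 4, 0, 1, 0]), (254, true, [3, 1, 3, 1, 3, 1, 0, 4, 3, 1, 3, 1]), (87, true, [4, 3, 4, 3, 4, 0, 1, 0, 1, 0, 4, 0, 4, 0]), (270, true, [1, 2, 0, 1, 0, 1, 3, 4, 3, 1, 0, 1, 3, 1, 3, 1]), (182, true, [3, 1, 0, 1, 0, 1, 3, 1, 3, 1, 0, 4, 0]), (183, false, [0, 1, 2, 0, 1, 3, 1, 0, 1, 0, 4, 0, 4]), (115, false, [3, 1, 3, 4, 3, 4, 0, 1, 3, 4, 3, 1, 0]), (88, true, [1, 0, 4, 3, 1, 3, 1, 3, 4, 3, 4, 0, 4, 3]), (52, false, [3, 4, 0, 4, 3, 4, 0, 1,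 0, 1, 3, 1, 0, 1]), (253, false, [1, 0, 1, 0, 2, 4, 3, 4, 3, 4, 3, 4, 0, 1]), (71, false, [1, 2, 0, 4, 0, 4, 3, 4, 0, 4, 3, 4, 3, 4, 0]), (125, true, [4, 3, 1, 3, 1, 0, 1, 0, 4, 3, 1, 0]), (171, true, [1, 2, 0, 1, 0, 4, 0, 4, 0, 1, 3, 1, 3]), (71, false, [0, 1, 0, 1, 0, 1, 2, 0, 1, 3, 1, 0, 1, 3, 1]), (87, true, [1, 3, 1, 0, 1, 3, 4, 0, 4, 3, 1, 3, 1]), (88, false, [2, 4, 3, 1, 3, 4, 0, 1, 0, 1, 3, 1, 3]), (236, true, [4, 0, 4, 3, 4, 0, 4, 0, 4, 0, 1, 3, 4, 3, 4]), (52, false, [3, 4, 0, 4, 3, 4, 0, 1, 0, 1, 3, 1, 0, 1]), (197, true, [2, 0, 4, 3, 4, 0, 1, 3, 1, 3, 4, 3, 4])]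
def r11 : List (ℕ × Bool × List ℕ) := [(178, false, [0, 4, 0, 4, 0, 4, 0, 4, 3, 4, 3, 4, 3]), (126, true, [0, 1, 2, 0, 1, 0, 1, 0, 4, 3, 4, 0, 1, 0, 1, 0]), (78, false, [0, 1, 0, 1, 0, 1, 0, 1, 3, 1, 3, 1]), (186, true, [2, 4, 3, 1, 3, 1, 0, 4, 3, 1, 0]), (179, false, [3, 4, 0, 1, 3, 1, 0, 4, 3, 4, 3, 4, 3]), (178, false, [1, 0, 1, 0, 1, 2, 0, 1, 3, 4, 3, 4, 3, 1, 0, 1, 0, 1, 0]), (168, true, [1, 0, 4, 3, 4, 3, 1, 0, 1, 0, 4, 3, 1, 3, 4]), (230, false, [1, 2, 0, 1, 0, 4, 3, 4, 0, 4, 0, 4]), (126, true, [3, 1, 0, 1, 3, 4, 3, 1, 0, 1, 0, 1, 0, 4, 3, 1]), (126, true, [0, 4, 3, 4, 0, 1, 0, 1, 0, 1, 3, 4, 3, 1]), (125, false, [0, 2, 4, 0, 4, 3, 4, 0, 4, 3, 4, 3, 4, 3]), (183, true, [1, 0, 1, 0, 1, 0, 1, 0, 1, 2, 0, 4, 0,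 4, 3, 4, 0, 1]), (179, false, [2, 0, 4, 0, 1, 0, 1, 3, 1, 3, 1, 0, 4]), (126, true, [1, 2, 0, 4, 0, 1, 3, 1, 3, 1, 3]), (186, true, [0, 1, 3, 1, 3, 4, 0, 1, 0, 1, 0, 1, 3, 4]), (168, true, [0, 4, 3, 1, 3, 4, 0, 4, 0, 4, 3, 4, 0, 1, 0]), (38, true, [2, 0, 4, 0, 4, 3, 1, 0, 1]), (178, false, [0, 1, 2, 0, 1, 3, 1, 3, 1, 3, 1, 0, 4]), (278, false, [2, 4, 3, 4, 0, 1, 0, 1, 3, 4, 0, 4, 0]), (183, true, [1, 3, 4, 3, 4, 0, 4, 3, 1, 3, 1, 3, 4]), (38, true, [0, 1, 3, 1, 3, 4, 0, 1, 0, 1, 3, 4, 3, 1, 0, 1]), (125, false, [0, 2, 4, 3, 4, 0, 1, 0, 4]), (78, false, [2, 4, 3, 4, 0, 4, 3, 4, 3, 4, 3, 1]), (178, false, [0, 4, 0, 4, 0, 1, 3, 4, 3]), (178, false, [1, 3, 1, 3, 1, 3, 4, 3, 4, 3, 4, 3]), (230, false, [0, 1, 3, 4, 0, 4,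 3, 1, 3, 1, 0, 1, 0]), (267, true, [0, 2, 4, 0, 1, 3, 1, 0, 1, 0, 1, 3, 1, 0, 4]), (267, true, [4, 3, 4, 3, 1, 0, 4, 0, 4, 3, 1]), (126, true, [1, 0, 1, 0, 2, 4, 0, 4, 3, 1, 0, 1, 3, 4, 3, 1]), (125, false, [0, 1, 0, 1, 0, 1, 0, 4, 0, 4, 3, 4, 0]), (183, true, [1, 0, 2, 4, 3, 1, 0, 1, 0, 1, 3, 1, 3, 4]), (179, false, [0, 1, 0, 1, 0, 1, 2, 0, 1, 3, 4, 0, 1, 0, 4]), (267, true, [2, 4, 0, 4, 3, 1, 3, 4, 0, 4, 0]), (38, true, [3, 1, 0, 1, 0, 4]), (125, false, [3, 4, 0, 4, 3, 1, 0, 1, 3, 4, 3, 4, 3, 1, 0]), (38, true, [0, 4, 0, 1, 3, 1, 3, 1, 0, 4, 3, 1, 3, 4]), (126, true, [1, 3, 1, 3, 1, 0, 4, 3, 1, 3, 1, 3, 1, 0]), (183, true, [3, 4, 0, 1, 3, 1, 0, 4, 0, 4, 0, 4, 3, 4, 3]), (179, false, [0, 4, 3, 1, 3, 4, 0]), (267, true,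 [0, 1, 0, 1, 2, 0, 1, 0, 4, 3, 4, 3, 4, 0]), (38, true, [1, 3, 1, 0, 1, 0, 1, 0, 1, 3, 1]), (278, false, [2, 4, 3, 4, 0, 1, 0, 1, 3, 4, 0, 4, 0]), (38, true, [4, 0, 4, 3, 4, 0, 4, 3, 4, 0, 4, 0, 1]), (278, false, [4, 0, 4, 3, 4, 0, 4, 0, 4, 3, 1]), (267, true, [3, 4, 3, 1, 0, 4, 3, 4, 0, 4, 0, 4, 3, 4, 0, 1]), (183, true, [1, 3, 1, 0, 4, 3, 1, 0, 1, 3, 1, 3, 1]), (125, false, [2, 0, 4, 3, 4, 0, 4, 3, 1, 0, 4, 0, 4]), (179, false, [2, 0, 1, 3, 4, 3, 4, 3, 4, 0, 4, 0, 4, 3, 4, 0, 1]), (125, false, [0, 4, 3, 1, 3, 4, 0, 1, 3, 1, 0, 1, 3, 1]), (183, true, [2, 0, 4, 0, 1, 0, 1, 3, 1, 0, 4]), (178, false, [0, 2, 4, 0, 4, 0, 1, 3, 1, 3, 1, 3, 1, 0, 4, 0]), (125, false, [3, 4, 0, 4, 0, 1, 3, 4, 0, 4, 3, 1, 3, 4]), (179, false,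 [3, 4, 0, 1, 0, 1, 3, 4, 3, 4, 0, 1, 0, 1]), (230, false, [1, 0, 1, 0, 4, 0, 4, 3, 1, 0]), (178, false, [0, 2, 4, 0, 4, 3, 4, 0, 4, 0, 4, 3, 4, 0]), (78, false, [1, 0, 1, 0, 1, 0, 4, 3, 1, 0, 1, 0, 4]), (125, false, [4, 3, 4, 3, 4, 3, 1, 0, 4, 3, 4, 0]), (183, true, [4, 3, 4, 3, 1, 0, 1, 3, 4, 3, 4, 3, 1, 0, 4]), (168, true, [4, 0, 1, 0, 1, 0, 4, 3, 4, 0, 4, 0, 1]), (38, true, [0, 1, 0, 2, 4, 0, 4, 3, 1, 3, 1, 0, 1, 0, 1, 0]), (267, true, [1, 0, 2, 4, 0, 4, 3, 4, 0, 4, 3, 1, 0]), (186, true, [3, 1, 0, 4, 0, 4, 0, 4, 3, 4, 3, 4, 0, 4, 0, 4]), (125, false, [4, 3, 1, 0, 1, 0, 4, 0, 4, 0, 1, 3, 1, 0, 1]), (78, false, [2, 4, 3, 4, 3, 1, 0, 1, 0, 1, 0, 4]), (126, true, [1, 3, 1, 3, 1, 0, 1, 0, 4, 0, 4, 0, 4, 3]), (168, true,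 [1, 3, 4, 3, 1, 0, 1, 0, 4, 3, 4, 0, 1]), (125, false, [2, 4, 0, 1, 0, 1, 3, 4, 3, 4, 3, 1]), (38, true, [1, 0, 4, 3, 4, 3, 4, 0, 1]), (78, false, [3, 4, 3, 1, 0, 1, 0, 1, 3, 1, 3, 4, 3]), (38, true, [0, 4, 3, 4, 0, 1, 3, 1, 3, 4, 3, 4, 0, 4, 0]), (38, true, [0, 4, 3, 4, 3, 4, 3, 4, 3, 1]), (278, false, [4, 0, 4, 3, 4, 0, 4, 0, 4, 3, 1]), (168, true, [1, 0, 2, 4, 0, 4, 3, 4, 3, 4, 0, 1, 3, 4, 0]), (126, true, [0, 1, 0, 2, 4, 3, 4, 3, 1, 0, 4, 0, 4, 0, 1, 3, 4]), (125, false, [0, 2, 4, 0, 4, 3, 1, 3, 1, 3, 4, 3, 4, 0, 1, 0, 1]), (267, true, [3, 4, 0, 4, 0, 4, 3, 1, 0, 1, 3, 1, 0, 1, 0]), (267, true, [4, 3, 4, 0, 1, 3, 1, 0, 4, 0, 4, 0, 4, 0]), (179, false, [2, 4, 3, 1, 0, 1, 0, 4, 3, 4, 0, 1, 3, 4, 0]), (178, false,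 [1, 3, 1, 3, 1, 3, 1, 3, 4, 3, 4, 3]), (125, false, [0, 2, 4, 0, 4, 3, 4, 3, 1, 0, 1, 0, 1, 0, 1]), (183, true, [3, 4, 3, 1, 0, 4, 0, 4, 3, 1, 0, 4, 3]), (183, true, [1, 3, 4, 0, 4, 3, 1, 3, 1, 0, 4, 0, 1]), (126, true, [1, 3, 1, 0, 4, 3, 4, 0, 1, 3, 1, 3, 4, 0, 4]), (38, true, [0, 2, 4, 3, 1, 0, 4, 3, 4, 0, 1, 3, 1]), (179, false, [1, 0, 1, 0, 2, 4, 3, 4, 0, 4, 3, 1, 3, 4, 0]), (178, false, [0, 1, 0, 2, 4, 0, 4, 0, 4, 3, 4]), (168, true, [1, 3, 1, 0, 1, 0, 4, 3, 4, 0, 1, 3, 4]), (38, true, [3, 4, 3, 4, 3, 4, 0, 1, 3, 4, 3, 4, 3]), (178, false, [1, 0, 1, 2, 0, 1, 3, 4, 0, 4, 3, 4, 0]), (179, false, [2, 0, 4, 0, 1, 3, 4, 0, 4, 0, 4, 0, 4, 3, 4]), (267, true, [0, 1, 2, 0, 4, 3, 4, 3, 1, 0, 1, 0, 1, 0]), (183, true, [2,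 4, 0, 4, 3, 1, 3, 4, 0, 4, 3, 1, 3, 1]), (126, true, [1, 2, 0, 4, 3, 4, 0, 4, 0, 4, 0, 4]), (178, false, [1, 3, 1, 3, 4, 0, 1, 0, 1, 0, 1]), (186, true, [0, 1, 3, 1, 3, 1, 3, 4, 3, 4, 3, 4, 0, 4]), (230, false, [3, 1, 0, 1, 3, 4, 3, 4, 0, 1, 3, 4, 3, 1]), (183, true, [2, 4, 0, 1, 0, 1, 0, 4, 3, 1, 0, 1, 0, 4, 0]), (267, true, [2, 4, 3, 4, 0, 4, 3, 1, 0, 1, 3, 1]), (78, false, [4, 3, 4, 3, 4, 0, 1, 3, 1]), (126, true, [3, 4, 0, 1, 0, 1, 3, 4, 0, 4, 3, 1]), (267, true, [4, 0, 1, 0, 1, 3, 4, 0, 1, 0, 1, 0]), (230, false, [2, 4, 3, 4, 3, 1, 0, 1, 3, 1, 3, 1, 3]), (126, true, [2, 0, 4, 3, 1, 0, 1, 0, 4, 3, 1, 0, 1, 0]), (179, false, [0, 1, 0, 4, 0, 4, 0, 4, 0, 4, 0, 1, 0]), (179, false, [0, 4, 3, 4, 0, 1, 0, 1, 3, 1, 0,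 1]), (267, true, [0, 2, 4, 3, 1, 3, 1, 0, 1, 3, 1, 3, 4]), (178, false, [1, 3, 1, 3, 1, 0, 4, 3, 4, 3]), (186, true, [0, 4, 3, 1, 3, 1, 0, 1, 0, 4, 3, 1]), (179, false, [3, 4, 0, 1, 3, 1, 3, 1, 0, 1, 0, 1, 0, 1]), (183, true, [2, 0, 4, 0, 4, 3, 4, 0, 4, 3, 4, 0, 1]), (186, true, [1, 3, 1, 0, 1, 0, 4, 3, 1, 0, 1, 0, 4, 3, 1]), (230, false, [4, 3, 1, 0, 4, 0, 4, 0, 4, 3])]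

theorem q0 : closeb 18 ps18 base7 rgR om xs x0 orb r0 = true := by decide +kernel
theorem q1 : closeb 18 ps18 base7 rgR om xs x1 orb r1 = true := by decide +kernel
theorem q2 : closeb 18 ps18 base7 rgR om xs x2 orb r2 = true := by decide +kernel
theorem q3 : closeb 18 ps18 base7 rgR om xs x3 orb r3 = true := by decide +kernel
theorem q4 : closeb 18 ps18 base7 rgR om xs x4 orb r4 = true := by decide +kernel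
theorem q5 : closeb 18 ps18 base7 rgR om xs x5 orb r5 = true := by decide +kernel
theorem q6 : closeb 18 ps18 base7 rgR om xs x6 orb r6 = true := by decide +kernel
theorem q7 : closeb 18 ps18 base7 rgR om xs x7 orb r7 = true := by decide +kernel
theorem q8 : closeb 18 ps18 base7 rgR om xs x8 orb r8 = true := by decide +kernel
theorem q9 : closeb 18 ps18 base7 rgR om xs x9 orb r9 = true := by decide +kernel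
theorem q10 : closeb 18 ps18 base7 rgR om xs x10 orb r10 = true := by decide +kernel
theorem q11 : closeb 18 ps18 base7 rgR om xs x11 orb r11 = true := by decide +kernel

theorem c0 : Rows xc0 :=
  Rows.cons q0 (Rows.cons q1 (Rows.cons q2 (Rows.cons q3 (Rows.cons q4 (Rows.cons q5 (Rows.cons q6 (Rows.cons q7 (Rows.cons q8 (Rows.cons q9 (Rows.cons q10 (Rows.cons q11 Rows.nil)))))))))))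

end Cfsg.Agent.H698.U33.Clo
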