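import Cfsg.Agent.H698.U33.Clo.Rows

/-!
# S5525: the closure certificate, rows 12 to 23 (helper698; data of helper819, helper763)
-/

set_option autoImplicit false
set_option maxRecDepth 100000
set_option Elab.async false

namespace Cfsg.Agent.H698.U33.Clo

def r12 : List (ℕ × Bool × List ℕ) := [(178, false, [0, 1, 0, 1, 3, 1, 0, 4, 3, 1, 0, 1, 0, 1, 0]), (171, true, [3, 1, 3, 1, 3, 1, 0, 1, 3, 1, 0, 1, 0, 1, 3]), (171, true, [2, 0, 4, 3, 4, 0, 4, 3, 4, 3, 4]), (56, false, [0, 1, 3, 1, 0, 1, 0, 1, 3, 4, 0, 4, 0, 1, 0]), (172, false, [0, 4, 3, 4, 0, 4, 0, 4, 3, 4, 3, 4, 0, 4]), (85, true, [0, 4, 0, 4, 0, 4, 0, 4, 3, 4, 3, 4, 0, 4, 0, 1, 0]), (178, false, [0, 2, 4, 0, 4, 3, 4, 3, 4, 0, 1, 3, 1, 3]), (153, false, [1, 2,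 0, 4, 3, 4, 0, 1, 3, 1, 3, 4, 0, 4, 0, 1]), (85, true, [2, 0, 1, 0, 4, 3, 1, 3, 1, 0, 1, 3, 4, 0]), (153, false, [1, 3, 4, 3, 1, 0, 1, 3, 4, 3, 4, 0, 4]), (180, true, [3, 1, 0, 1, 3, 4, 3, 4, 0, 4, 0]), (199, true, [0, 4, 0, 4, 3, 1, 0, 1, 0, 4, 3]), (73, false, [4, 3, 4, 0, 1, 3, 1, 0, 1, 0, 1, 0, 4, 0, 4, 3, 4]), (199, true, [0, 1, 0, 1, 2, 0, 4, 0, 1, 3, 4, 0, 4, 0, 4, 3]), (218, true, [1, 3, 1, 0, 4, 0, 4, 3, 4, 0, 4, 3, 1, 3]), (265, false, [2, 0, 4, 3, 1, 0, 4, 0, 1]), (168, true, [0, 2, 4, 0, 1, 0, 4, 3, 4, 3]), (56, false, [4, 0, 1, 3, 1, 0, 1, 3, 1, 0, 4, 0, 4, 0, 1, 3]), (64, false, [4, 0, 1, 3, 1, 0, 1, 3, 1, 3, 1]), (73, false, [1, 2, 0, 4, 0, 4, 0, 4, 3, 4, 0, 1, 0, 4]), (67, true, [1, 3, 1, 3, 4, 0, 4,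 0, 4, 3, 4, 3, 1, 0]), (165, true, [3, 1, 3, 4, 0, 4, 0, 4, 0, 4, 0]), (81, false, [4, 0, 4, 0, 4, 3, 1, 3, 1, 0, 1, 0]), (180, true, [1, 0, 2, 4, 0, 4, 3, 4, 0, 1, 3, 1, 3, 1, 0, 1, 3]), (172, false, [0, 2, 4, 0, 4, 0, 4, 3, 4, 0, 4, 3, 4, 3, 4, 3]), (218, true, [2, 0, 1, 3, 1, 3, 4, 3, 4, 3]), (69, true, [0, 4, 0, 1, 0, 1, 3, 1, 3, 1, 0, 4, 3, 1, 0, 1]), (182, true, [2, 4, 0, 4, 0, 1, 3, 1, 3, 1, 3, 1, 0, 4, 0, 4]), (87, true, [0, 1, 0, 1, 3, 4, 3, 1, 0, 1, 0, 1, 0, 4, 3, 4, 3]), (87, true, [0, 1, 2, 0, 1, 3, 1, 0, 4, 3, 1, 3, 1, 0]), (168, true, [3, 4, 0, 4, 0, 4, 3, 4, 0, 4, 3]), (171, false, [0, 1, 0, 1, 2, 0, 4, 0, 1, 3, 1, 0, 1, 3]), (100, false, [3, 1, 3, 4, 0, 4, 0, 4, 0, 4, 0]), (92, false, [0, 1, 0, 4, 0,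 4, 0, 4, 3, 1, 3, 1, 0, 4, 3]), (194, true, [4, 0, 4, 0, 4, 3, 1, 3, 1, 3]), (64, false, [0, 1, 0, 2, 4, 3, 4, 0, 1, 3, 1, 0, 1, 3, 1, 3]), (59, true, [0, 4, 0, 1, 3, 1, 0, 4, 3, 4, 3, 1, 0]), (103, true, [4, 0, 1, 3, 1, 0, 1, 3, 1, 3, 4, 3, 4]), (67, true, [0, 1, 0, 1, 0, 1, 0, 2, 4, 3, 4, 3, 4, 0, 4]), (266, true, [0, 1, 0, 1, 3, 1, 3, 4, 0, 1, 3, 1, 3, 4, 0]), (199, false, [2, 4, 0, 1, 3, 1, 0, 1, 0, 1, 3, 4]), (199, false, [0, 1, 3, 1, 0, 1, 0, 1, 0, 1]), (72, true, [4, 0, 1, 0, 1, 3, 4, 3, 1, 0, 1, 3]), (199, false, [0, 1, 0, 4, 3, 4, 3, 4, 3]), (171, false, [0, 1, 0, 1, 0, 1, 0, 1, 3, 4]), (69, true, [0, 2, 4, 3, 1, 3, 1, 3, 4, 3, 4, 0, 1, 3, 4, 0]), (120, false, [0, 1, 2, 0, 4, 0, 1, 3, 1]), (182, true, [4, 0,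 1, 3, 1, 3, 1, 0, 4, 0, 1]), (239, false, [0, 4, 3, 4, 3, 4, 3, 4]), (231, false, [0, 1, 2, 0, 1, 0, 1, 3, 4, 0, 4, 3, 1]), (184, false, [1, 3, 1, 0, 1, 3, 1, 3, 1, 0, 4, 3, 1, 0]), (194, true, [1, 3, 1, 3, 1, 0, 4, 0, 4]), (119, true, [4, 3, 1, 3, 1, 0, 1, 3, 4, 3, 4, 3, 1]), (78, false, [2, 4, 0, 4, 0, 1, 3, 1, 3, 4, 0, 1, 0]), (184, false, [1, 0, 2, 4, 0, 4, 0, 4, 3, 4, 3, 1, 0]), (92, false, [0, 1, 2, 0, 1, 0, 4, 0, 4, 3, 4, 0, 4, 3, 4, 3, 1]), (87, true, [0, 1, 2, 0, 1, 3, 1, 0, 1, 0, 4, 0, 4, 0, 4, 0, 4, 3]), (69, true, [0, 1, 2, 0, 4, 0, 4, 3, 4, 3, 1, 0, 4]), (72, true, [1, 0, 2, 4, 0, 4, 3, 4, 0, 1, 3, 1, 3, 4, 3, 4, 3, 1]), (72, true, [3, 4, 3, 4, 0, 4, 3, 4, 3, 1, 0]), (103, true, [4, 3, 4, 0, 1, 0, 1, 3,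 4, 0, 4]), (135, false, [2, 4, 3, 4, 0, 1, 3, 1, 0, 4, 3, 4, 3, 1, 3]), (239, false, [3, 1, 0, 1, 0, 1, 0]), (81, false, [1, 3, 1, 3, 1, 0, 4, 0, 4, 3, 1, 0]), (59, true, [1, 2, 0, 4, 3, 1, 0, 1, 0, 4, 3, 1, 3, 1]), (72, true, [2, 4, 3, 1, 3, 1, 0, 1, 0, 1, 3, 1, 0, 1, 3, 4]), (165, true, [3, 1, 0, 1, 3, 1, 3, 1]), (199, false, [2, 4, 0, 1, 0, 4, 3, 4, 3, 4, 3, 4, 0, 4]), (92, false, [0, 2, 4, 0, 1, 3, 4, 3, 1, 0, 1, 3, 4, 0, 4, 3, 1]), (64, false, [1, 2, 0, 1, 3, 4, 3, 4, 3, 4, 0, 1, 0, 1, 3, 1, 3]), (92, false, [0, 1, 0, 1, 3, 1, 3, 1, 0, 4, 0, 4, 3, 4, 3]), (64, false, [4, 0, 1, 3, 1, 3, 4, 0, 4, 0, 4, 0, 4, 0]), (265, false, [0, 4, 0, 1, 3, 1, 3, 1, 3, 4, 3, 4, 0, 1]), (87, true, [0, 1, 0, 1, 3, 4, 0, 4, 3, 1, 0,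 1, 0, 4]), (120, false, [0, 2, 4, 3, 1, 3, 1, 3, 4, 0, 4, 0, 1, 0]), (69, true, [4, 0, 4, 3, 1, 3, 1, 0, 1, 0, 4, 3, 4]), (182, true, [2, 4, 0, 4, 3, 4, 0, 4, 0, 4, 3, 4, 0, 4]), (182, true, [3, 4, 0, 4, 0, 4, 3, 1, 3, 4, 0, 4, 0]), (180, true, [0, 1, 2, 0, 1, 3, 1, 3, 4, 0, 1, 0, 1, 3, 4, 0]), (180, true, [0, 1, 3, 4, 3, 4, 0, 1, 0, 1, 3, 4, 0]), (103, true, [4, 3, 1, 0, 4, 0, 4, 3, 1, 3, 4, 0, 1]), (73, false, [2, 4, 3, 1, 3, 1, 0, 1, 3, 4, 3]), (85, true, [0, 1, 0, 2, 4, 0, 1, 3, 1, 3, 4, 3, 4, 3, 4, 0, 4, 0]), (67, true, [0, 4, 0, 4, 0, 1, 3, 4, 0, 4, 0, 1, 3]), (171, false, [2, 4, 3, 1, 3, 4, 0, 4, 3, 4, 0, 1]), (56, false, [3, 1, 0, 1, 0, 4, 3, 4, 0, 4, 3, 4, 0, 4, 0]), (178, false, [0, 2, 4, 3, 1, 0, 1, 0, 1,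 0, 1, 3, 1, 3, 1, 3]), (168, true, [0, 1, 0, 2, 4, 3, 4, 3, 1, 0, 1, 0, 4]), (85, true, [1, 0, 4, 3, 1, 3, 1, 0, 1, 3, 4, 0, 4]), (73, false, [4, 0, 1, 3, 4, 0, 4, 0, 4, 3, 4, 3, 4, 0, 4, 3]), (266, true, [0, 1, 0, 2, 4, 0, 1, 3, 1, 3, 4, 3, 4, 0, 1, 3]), (231, false, [2, 0, 4, 3, 4, 3, 4, 3, 4, 0, 4, 0, 4, 3, 1]), (199, true, [0, 1, 2, 0, 1, 3, 1, 0, 1, 0, 4, 0, 4, 3, 1, 0]), (172, false, [0, 2, 4, 0, 4, 0, 4, 3, 4, 3, 1, 0, 1, 0, 1, 0, 1]), (218, true, [1, 0, 1, 0, 1, 3, 4, 3, 1, 0, 1, 3, 4, 0, 1, 3]), (218, true, [1, 0, 1, 0, 1, 0, 1, 0, 2, 4, 0, 1, 3]), (168, true, [0, 1, 3, 1, 3, 1, 3, 1, 0, 4, 0, 4, 3]), (171, false, [4, 3, 4, 3, 4, 0, 4]), (171, true, [2, 0, 4, 3, 4, 3, 1, 0, 1, 0, 1, 0, 1, 0]), (153, false, [0,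 4, 3, 1, 3, 1, 3, 4, 0, 1, 0, 4]), (103, true, [4, 0, 4, 3, 4, 0, 1, 0, 1, 0, 1, 3, 4]), (153, false, [1, 2, 0, 4, 3, 4, 3, 4, 0, 4, 0, 1, 3, 1, 3]), (171, true, [4, 0, 4, 0, 4, 0, 4, 3, 1, 3, 1, 0, 1, 0, 1, 3]), (67, true, [2, 4, 0, 4, 0, 4, 0, 1, 3, 4, 3, 4, 0, 4]), (119, true, [4, 3, 1, 0, 1, 3, 4, 3, 4, 0, 1, 0, 4]), (100, false, [3, 1, 0, 1, 3, 1, 3, 1]), (178, false, [3, 1, 3, 1, 3, 4, 0, 4, 3, 1, 3, 1, 3, 4, 3]), (56, false, [0, 1, 3, 1, 0, 1, 3, 4, 0, 4, 0, 4, 0, 1, 3, 1]), (172, false, [0, 4, 0, 1, 3, 1, 3, 1, 3, 1, 0, 4, 3, 4, 0, 4]), (199, true, [0, 4, 3, 1, 0, 1, 0, 1, 0, 4, 3, 4, 0]), (135, false, [3, 4, 0, 4, 3, 4, 3, 4, 0, 4, 3, 4, 3]), (78, false, [0, 1, 0, 1, 0, 2, 4, 0, 4, 3, 1, 0])]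
def r13 : List (ℕ × Bool × List ℕ) := [(38, true, [3, 1, 0, 4, 3, 4, 3, 4, 0, 1, 3, 4, 3]), (2, false, [3, 4, 0, 1, 3, 1, 0, 4, 3, 4, 3, 4, 0]), (38, true, [2, 4, 3, 4, 0, 4, 0, 1, 3, 1, 0, 1]), (59, false, [3, 4, 3, 4, 0, 4, 3, 4, 0, 4, 3, 4]), (59, false, [1, 3, 4, 0, 4, 3, 1, 3, 1, 0, 4, 0, 4, 3]), (103, false, [0, 4, 0, 4, 0, 4, 3, 4, 0, 1, 0]), (59, false, [1, 3, 4, 0, 1, 0, 1, 0, 4, 0, 4, 3, 4, 0, 1]), (38, true, [2, 0, 1, 3, 4, 0, 4, 0, 4, 3, 1, 0, 4]), (34, true, [1, 3, 1, 3, 4, 3, 4, 0, 4, 3, 4, 0, 4]), (28, true, [0, 1, 2, 0, 1, 3, 1, 3, 1, 0, 1, 0, 1, 3]), (28, true, [0, 1, 3, 1, 0, 1, 0, 1, 3, 1, 3, 1]), (2, true, [3, 4, 0, 1, 3, 1, 3, 1, 0, 1, 0, 4]), (28, true, [1, 0, 1, 0, 1, 0, 1, 0, 4, 0, 4, 3, 1, 3]),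 (258, false, [0, 4, 0, 1, 3, 1, 0, 1, 0, 4, 3, 4, 0, 4]), (160, false, [1, 3, 1, 0, 4, 3, 1, 0]), (28, true, [1, 0, 1, 0, 1, 0, 1, 0, 2, 4, 3, 4, 0, 1]), (2, false, [4, 0, 4, 3, 4, 3, 1, 0, 4, 0, 4, 0, 4, 3, 4]), (38, true, [0, 1, 3, 1, 3, 1, 0, 4, 3, 4, 3, 4, 0, 4]), (38, true, [1, 0, 4, 0, 4, 3, 4, 3, 4, 0, 4, 0, 4, 0, 1]), (59, false, [0, 4, 0, 1, 0, 1, 0, 1, 3, 4, 3, 4, 0, 4, 0, 1]), (59, false, [3, 4, 3, 4, 3, 1, 0, 1, 0, 1, 0, 1, 3, 4, 3]), (59, false, [3, 1, 3, 1, 0, 1, 0, 1, 3, 4, 3, 4, 0, 1, 0]), (258, false, [4, 0, 4, 0, 1, 3, 1, 0, 4, 3, 4]), (241, true, [1, 0, 1, 2, 0, 1, 0, 4, 0, 4, 0, 4, 0, 1, 3, 1, 0]), (241, true, [1, 0, 1, 3, 4, 0, 4, 3, 4, 0, 4, 3, 1, 3, 1, 3]), (55, false, [0, 1, 0, 1, 3, 4, 0, 4,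 3, 4, 3, 4, 0, 1, 0]), (241, true, [0, 1, 0, 1, 3, 1, 3, 1, 0, 4, 3, 4, 0, 4, 3, 4]), (55, false, [1, 0, 1, 3, 1, 3, 4, 0, 4, 0, 4, 3, 4, 3, 1]), (47, false, [1, 0, 4, 3, 1, 3, 1, 0, 1, 3, 1, 0, 4]), (47, false, [2, 0, 1, 3, 1, 0, 4, 3, 4, 0, 1, 0, 1, 0, 1]), (258, false, [2, 4, 3, 4, 3, 1, 0, 1, 0, 4, 3, 4]), (59, false, [4, 3, 1, 3, 1, 0, 4, 3, 4, 3, 4, 0, 4]), (103, false, [0, 1, 2, 0, 4, 3, 1, 3, 1, 0, 4, 3, 1, 3, 1]), (2, true, [0, 4, 3, 4, 3, 4, 0, 1, 3, 4, 3, 4, 3, 4]), (47, false, [3, 1, 0, 1, 0, 4, 3, 1, 3, 1, 0, 4]), (28, true, [0, 1, 3, 4, 3, 1, 0, 1, 0, 1, 3]), (59, false, [0, 1, 0, 1, 3, 4, 3, 4, 3, 1, 0, 1, 3, 4]), (34, true, [1, 0, 1, 0, 4, 0, 4, 3, 4, 0, 4, 3, 4, 3]), (28, true, [0, 2, 4, 3, 1, 3, 1,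 0, 1, 3, 4, 0, 1]), (55, true, [3, 1, 3, 1, 0, 1, 3, 4, 3, 4, 0, 1, 3, 1]), (38, true, [1, 0, 4, 3, 1, 0, 1, 0, 1, 0, 4, 3, 4]), (258, false, [0, 1, 3, 1, 3, 4, 0, 4, 3, 1, 0, 4, 0, 1]), (173, false, [1, 3, 1, 0, 4, 3, 1, 3, 1, 0, 4]), (258, false, [2, 4, 3, 4, 3, 1, 0, 1, 3, 4, 0, 4, 3]), (241, true, [1, 0, 1, 3, 4, 3, 1, 0, 1, 0, 1, 0, 1, 0, 4]), (28, true, [0, 2, 4, 3, 1, 3, 1, 3, 4, 0, 4, 0, 4]), (15, true, [3, 1, 0]), (13, true, []), (38, true, [4, 0, 1, 0, 1, 0, 4, 0, 4, 0, 1]), (47, false, [1, 3, 4, 0, 4, 3, 1, 0, 1, 3, 1, 0]), (55, false, [3, 1, 3, 1, 0, 4, 3, 1, 3, 1, 3, 1]), (47, false, [3, 1, 0, 1, 3, 4, 0, 4, 3, 1, 3, 1, 3, 1, 3]), (18, true, [1, 3, 1, 3, 4, 0, 4, 3, 4, 0, 1]), (103, false, [0, 1, 3, 4, 0,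 1, 0, 1, 3, 4, 0, 1, 0, 1, 3]), (55, true, [2, 0, 1, 3, 1, 0, 4, 3, 1, 3, 1, 3, 1]), (38, true, [4, 0, 1, 0, 1, 0, 1, 3, 1, 3, 1, 0, 1, 0, 1]), (47, false, [0, 1, 3, 1, 0, 1, 3, 1, 0, 1, 0, 1, 3, 4]), (28, true, [0, 1, 2, 0, 4, 0, 1, 3, 1, 3, 1]), (18, true, [0, 4, 0, 4, 3, 4, 0, 4, 3, 1, 0, 1]), (173, false, [1, 3, 1, 3, 4, 0, 4, 3, 4, 0, 1]), (103, false, [0, 1, 3, 1, 3, 1, 3, 1, 0, 4, 0, 4, 0]), (28, true, [1, 0, 1, 3, 4, 0, 1, 0, 1, 0, 4]), (38, true, [1, 3, 4, 3, 4, 3, 4, 3, 1, 0, 4, 0, 1]), (258, false, [1, 3, 4, 0, 1, 0, 1, 0, 4, 3, 4, 0, 4]), (59, false, [1, 3, 4, 0, 4, 3, 1, 0, 4]), (18, true, [1, 3, 1, 0, 4, 3, 1, 3, 1, 0, 4]), (59, false, [3, 1, 3, 4, 3, 4, 3, 4, 0, 1, 0, 1, 3, 1, 0]), (38, true, [1, 0, 4,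 0, 4, 3, 1, 0, 1, 0, 4, 0]), (38, true, [1, 0, 2, 4, 0, 1, 3, 1, 3, 1, 0, 4, 3, 4]), (28, true, [0, 1, 3, 4, 0, 4, 3, 4, 3, 4, 3, 4, 0]), (2, true, [0, 1, 0, 1, 0, 4, 0, 4, 3, 4, 3, 4, 0, 1, 0]), (38, true, [1, 0, 4, 0, 4, 3, 4, 0, 1, 3, 1, 3, 1, 3, 4]), (28, true, [2, 0, 4, 0, 4, 0, 1, 3, 4, 0, 1]), (47, false, [1, 3, 4, 0, 4, 3, 1, 3, 4, 0, 4, 0, 1, 3, 4]), (15, true, [4, 0, 4, 0, 4, 0, 1, 3, 4]), (241, true, [3, 1, 0, 4, 3, 4, 3, 1, 0, 4, 0, 4, 3, 4, 0]), (55, true, [1, 3, 1, 0, 4, 3, 4, 0, 4, 0, 4, 3, 1, 0]), (13, true, []), (241, true, [1, 0, 1, 2, 0, 4, 3, 4, 0, 4, 0, 1, 3]), (28, true, [1, 0, 1, 0, 4, 3, 4, 3, 4, 0, 1]), (34, true, [4, 0, 1, 3, 4, 3, 1, 0, 1, 3, 4, 0, 4, 3]), (59, false, [0, 1, 3, 4, 3, 4, 3,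 4, 0, 4, 3, 4, 0, 4, 0, 1]), (34, true, [4, 0, 1, 3, 4, 3, 1, 0, 1, 0, 4, 3, 4]), (59, false, [1, 2, 0, 4, 3, 4, 0, 1, 3, 4, 3]), (59, false, [4, 3, 1, 3, 1, 3, 1, 0, 1, 0, 1, 0, 1, 3, 4]), (38, true, [0, 1, 3, 1, 3, 1, 3, 1, 0, 1, 0, 1, 0, 1, 3, 4]), (59, false, [3, 4, 0, 4, 0, 1, 3, 1, 0, 4, 0, 4, 3, 1, 3, 4]), (2, true, [4, 0, 1, 3, 4, 0, 4, 0, 4, 3, 4, 3, 4, 0, 1]), (103, false, [1, 3, 1, 3, 1, 0, 1, 3, 4, 3, 1]), (28, true, [3, 4, 0, 4, 0, 1, 3, 4, 0, 1, 0]), (55, false, [4, 0, 1, 3, 1, 0, 1, 0, 1, 3, 1, 3, 4]), (47, false, [0, 1, 0, 1, 3, 4, 3, 4, 3, 1, 0, 1, 3, 1, 3, 1, 0]), (258, false, [1, 3, 4, 0, 4, 3, 4, 3, 1, 0, 1, 3, 4, 0, 1]), (241, true, [1, 3, 4, 0, 4, 0, 4, 3, 4, 0, 4, 3, 4, 0, 4]), (160, false, [2,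 4, 0, 4, 0, 4, 3, 1]), (55, true, [1, 2, 0, 1, 3, 4, 0, 4, 3, 4, 3, 4, 0, 1, 0]), (258, false, [2, 0, 1, 0, 1, 0, 4, 3, 4, 0, 4]), (241, true, [1, 0, 1, 3, 4, 0, 4, 3, 4, 3, 1]), (38, true, [2, 4, 0, 1, 3, 1, 3, 4, 0, 4, 0, 1, 3, 1]), (28, true, [2, 0, 4, 0, 4, 3, 4, 0, 4, 0, 4]), (103, false, [3, 4, 0, 4, 0, 4, 3, 4, 0, 4, 0]), (38, true, [2, 0, 1, 0, 1, 3, 1, 3, 1, 3, 1, 0, 1, 0, 4]), (2, true, [0, 4, 3, 4, 3, 4, 0, 1, 3, 1, 0, 4, 3]), (28, true, [1, 0, 1, 2, 0, 1, 0, 4, 0, 4, 0, 4, 0, 1, 3]), (18, true, [0, 4, 0, 4, 0, 1, 3, 1, 3, 4, 0, 4, 0, 1]), (103, false, [0, 4, 0, 4, 3, 4, 0, 1, 0, 1, 3, 1, 0, 4, 3]), (38, true, [3, 1, 3, 1, 0, 1, 0, 1, 0, 1, 3, 1, 3, 4, 3]), (59, false, [1, 2, 0, 4, 0, 4, 3, 4, 0, 1, 0, 1,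 0]), (59, false, [1, 3, 4, 3, 4, 0, 4, 3, 1, 3, 1, 0]), (2, true, [0, 2, 4, 0, 4, 0, 4, 3, 1, 0, 1, 3, 4]), (28, true, [1, 0, 1, 3, 1, 3, 4, 3, 4, 3, 4, 3, 1]), (103, false, [0, 2, 4, 3, 4, 0, 4, 3, 1, 3, 1, 0, 1, 3, 4])]
def r14 : List (ℕ × Bool × List ℕ) := [(126, false, [0, 1, 2, 0, 4, 3, 4, 0, 1, 0, 1, 3, 1, 0]), (230, true, [2, 4, 0, 1, 3, 1, 0, 4, 0, 4, 0, 4, 3, 1, 3, 4]), (265, true, [2, 0, 1, 3, 1, 3, 4, 3, 4, 0, 4, 0, 4, 0, 1]), (265, true, [3, 4]), (265, true, [2, 0, 4, 3]), (62, false, [1, 0, 1, 0, 4, 3, 4, 3, 4, 3, 4, 0, 1]), (56, true, [0, 4, 3, 1, 3, 1, 0, 4, 0, 4, 3, 1, 3, 1, 0, 4]), (126, false, [0, 1, 3, 4, 0, 4, 3, 1, 3, 1, 0, 1, 0]), (46, true, [0, 2, 4, 3, 4, 0, 1, 0, 1, 3, 1, 0, 4]), (22, true, [0,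 4, 3, 4, 0, 1, 0, 1, 3, 4, 0, 1]), (22, true, [0, 2, 4, 0, 4, 3, 1, 3, 1, 0, 4, 3, 1, 3]), (230, true, [3, 1, 0, 4, 0, 4, 0, 4, 3, 1, 3, 4, 0, 4, 3, 1]), (178, true, [0, 4, 0, 4, 0, 1, 3, 4, 0, 4, 0, 1, 3, 1, 3]), (244, true, [4, 0, 1, 0, 4, 3, 1, 0, 1, 0, 1, 3, 1]), (9, true, [1, 0, 1, 0, 1, 3, 4, 0, 1, 3, 1, 3, 4]), (178, true, [0, 2, 4, 3, 4, 3, 1, 0, 4, 3, 4, 3, 1, 0, 1]), (62, false, [2, 0, 1, 0, 4, 0, 4, 0, 4, 3, 4, 3, 1]), (178, true, [0, 4, 0, 1, 3, 1, 0, 4, 3, 4, 3, 4, 0, 4, 0, 4]), (178, true, [2, 0, 1, 0, 4, 3, 4, 3, 4, 0, 4, 0, 4, 0, 4, 3, 1]), (104, false, [0, 4, 3, 4, 0, 1, 0, 1, 0, 1, 3, 4, 0]), (104, false, [1, 0, 1, 2, 0, 1, 0, 1, 3, 1, 0, 4]), (104, false, [0, 2, 4, 0, 4, 3, 1, 3, 1, 3, 1, 0, 4, 0]),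 (16, true, [1, 0, 1, 3, 1, 0, 4, 3, 4, 3, 4, 0, 4]), (186, false, [4, 0, 1, 0, 1, 0, 1]), (244, true, [0, 1, 0, 1, 0, 1, 3, 4, 3, 4, 0, 4, 3, 1, 0]), (173, true, [0, 1, 3, 1, 0, 4, 0, 4, 0, 4, 3, 1]), (244, true, [0, 1, 0, 1, 0, 1, 2, 0, 4, 0, 4, 3, 4, 0, 1, 0]), (173, true, [4, 0, 1, 0, 4, 3, 1, 3, 1, 3, 1, 3]), (178, true, [1, 0, 2, 4, 3, 1, 0, 1, 3, 4, 0, 4, 0, 1, 3]), (178, true, [4, 3, 1, 0, 1, 0, 1, 3, 1, 3, 1, 0, 4, 3, 4, 0]), (186, false, [3, 1, 0, 1, 3, 1, 3, 4, 0, 1, 3, 4]), (56, true, [0, 1, 0, 4, 3, 4, 3, 1, 0, 1, 0, 4, 3, 4, 3, 1]), (142, false, [1, 0, 4, 0, 1, 3, 1, 3, 1, 3]), (62, false, [0, 1, 0, 4, 0, 4, 0, 4, 3, 4, 3, 1]), (126, false, [2, 0, 1, 3, 1, 0, 1, 0, 1, 0, 1, 3, 1, 3, 4, 0]), (22, true, [2,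 4, 0, 4, 0, 1, 3, 4, 3, 4, 0, 4, 3]), (104, false, [1, 0, 1, 3, 1, 3, 1, 0, 1, 3, 4, 3]), (46, true, [0, 4, 0, 4, 3, 1, 3, 1, 0, 1, 3, 4, 3]), (126, false, [0, 2, 4, 3, 1, 0, 1, 0, 4, 0, 4, 3]), (56, true, [3, 1, 0, 4, 3, 4, 3, 1, 0, 4, 3, 4, 0, 4]), (17, true, [0, 1, 3, 1, 0, 4, 3, 1, 3, 1, 0, 4, 3, 1]), (142, false, [4, 0, 4, 0, 4, 3, 1, 3, 4]), (14, true, []), (16, true, [0, 1, 3, 1, 0, 1, 3, 1, 0, 4, 0, 4, 3, 4, 3]), (186, false, [2, 4, 3, 1, 3, 1, 3, 1, 3]), (46, true, [1, 3, 1, 3, 4, 0, 4, 3, 4, 0, 1, 3, 4]), (142, false, [3, 1, 3, 4, 0, 1, 3, 1, 0, 1, 0]), (14, true, []), (15, false, [3, 4, 3, 1, 3, 1, 3, 4, 3, 4, 3]), (178, true, [1, 0, 4, 0, 1, 3, 1, 0, 4, 3, 4, 3, 1]), (56, true, [0, 4, 0, 1, 3, 1, 3, 4, 0,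 1, 0, 1, 0, 1, 3, 1]), (178, true, [2, 4, 0, 1, 3, 1, 3, 1, 0, 1, 0, 1, 3, 4, 0, 4, 0]), (17, true, [1, 0, 4, 3, 1, 0, 1, 0, 1, 0, 4]), (142, false, [4, 0, 4, 0, 4, 3, 1, 3, 4]), (265, true, [2, 0, 1, 3, 1, 3, 4, 3, 4, 0, 4, 0, 4, 0, 1]), (265, true, [0, 4, 0, 1, 3, 1, 3, 4, 0, 1, 3, 1]), (126, false, [3, 1, 0, 1, 3, 1, 3, 1, 3, 1, 0, 1, 0, 4, 0]), (22, true, [4, 3, 4, 3, 1, 0, 4, 0, 4, 3, 4]), (17, true, [4, 0, 4, 3, 1, 3, 4, 0, 4, 3, 4, 0, 4, 0, 4, 3, 4]), (8, false, [4, 3, 4, 3, 1, 0, 4, 3, 4, 3, 1, 0, 4]), (230, true, [0, 1, 0, 1, 0, 1, 3, 1, 0, 1, 3, 4, 3, 1, 0, 1]), (126, false, [0, 4, 0, 1, 3, 1, 3, 4, 3, 4]), (17, true, [1, 0, 1, 3, 4, 0, 1, 0, 1, 3, 4, 0, 1, 3]), (142, false, [1, 0, 4, 0, 1, 3, 1, 3, 1, 3]),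 (265, true, [2, 0, 4, 3]), (15, false, [0, 1, 0, 1, 3, 1, 3, 1, 3, 4, 3, 4, 3, 4, 0, 4]), (265, true, [1, 0, 4, 0, 4, 3, 1, 0, 1, 0, 4, 0, 4, 3]), (15, false, [3, 4, 0, 1, 0, 1, 0, 4, 0, 4]), (104, false, [2, 0, 4, 3, 4, 3, 4, 3, 4, 0, 4, 0, 4, 3, 1]), (46, true, [1, 0, 2, 4, 3, 1, 0, 4, 3, 4, 0, 1, 3, 1]), (230, true, [0, 1, 0, 4, 3, 1, 3, 1, 0, 4, 3, 1, 3]), (126, false, [1, 2, 0, 1, 3, 1, 0, 4, 0, 4, 3, 1, 3, 4, 0]), (126, false, [2, 0, 1, 3, 4, 3, 4]), (126, false, [2, 0, 4, 0, 4, 0, 4, 3, 1, 0, 1, 0, 4, 0, 4, 0, 4]), (16, true, [1, 0, 4, 3, 1, 3, 1, 3, 4, 0, 4, 3, 1, 3, 1]), (186, false, [2, 4, 0, 4, 3, 1, 3, 1, 0, 1, 0, 1]), (17, true, [0, 1, 3, 4, 0, 1, 0, 1, 0, 1, 0, 4]), (8, false, [4, 3, 4, 3, 1, 0, 4, 3, 4,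 3, 1, 0, 4]), (244, true, [0, 1, 0, 1, 3, 4, 3, 4, 3, 4, 0, 1, 0, 1, 3]), (46, true, [2, 0, 1, 0, 1, 3, 1, 3, 1, 3, 4, 3, 4, 3, 4, 0]), (22, true, [4, 0, 4, 0, 4, 0, 4, 3, 1, 3, 4, 0, 4]), (265, true, [3, 1, 3, 1, 3, 1, 3, 4, 3, 4, 3, 1, 0]), (22, true, [2, 4, 3, 4, 3, 4, 0, 4, 3, 1, 3, 4, 0, 4, 3]), (265, true, [3, 4]), (265, true, [1, 0, 4, 0, 4, 3, 1, 0, 1, 0, 4, 0, 4, 3]), (126, false, [1, 3, 1, 0, 1, 3, 4, 0, 4, 3, 1, 3, 4]), (265, true, [3, 1, 3, 1, 3, 1, 3, 4, 3, 4, 3, 1, 0]), (230, true, [0, 1, 0, 2, 4, 0, 1, 0, 1, 3, 4, 0, 1]), (230, true, [1, 2, 0, 1, 0, 4, 3, 1, 3, 1, 3, 1, 0, 4]), (126, false, [3, 1, 0, 4, 0, 4, 3]), (265, true, [0, 4, 0, 1, 3, 1, 3, 4, 0, 1, 3, 1]), (126, false, [4, 0, 1, 0, 1, 3, 1, 3,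 1, 0, 4, 0, 4, 3, 1]), (186, false, [1, 2, 0, 4, 3, 4, 0, 4, 0, 4, 3, 1, 0, 4]), (186, false, [4, 3, 4, 0, 1, 0, 1, 3, 1, 3, 1, 3]), (142, false, [3, 1, 3, 4, 0, 1, 3, 1, 0, 1, 0]), (17, true, [1, 0, 4, 3, 1, 3, 1, 3, 1, 3, 4, 3]), (244, true, [0, 4, 3, 4, 0, 1, 0, 1, 0, 4, 0, 4, 3, 4, 0]), (244, true, [0, 4, 3, 4, 3, 4, 0, 4, 3, 1, 3, 1, 3, 4]), (104, false, [4, 0, 1, 0, 1, 3, 4, 0, 4, 0, 4, 3, 4, 3, 1]), (46, true, [3, 1, 3, 1, 0, 1, 0, 1, 0, 4, 0, 4, 0, 4, 0]), (62, false, [0, 1, 0, 1, 2, 0, 1, 0, 4, 3, 4, 0, 4, 0, 1]), (178, true, [0, 4, 3, 4, 3, 1, 0, 4, 3, 4, 3, 1, 0, 1, 0]), (62, false, [2, 4, 3, 1, 3, 1, 0, 4, 3, 4, 0, 1, 3, 1]), (178, true, [1, 0, 2, 4, 0, 4, 0, 4, 3, 4, 3, 4, 3, 4, 0, 1]), (173, true, [1, 0,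 1, 0, 4, 3, 1, 3, 1, 3, 1]), (9, true, [0, 4, 0, 4, 3, 4, 0, 1, 0, 1, 3, 1]), (178, true, [0, 2, 4, 0, 4, 0, 1, 3, 4, 0, 4, 0, 1, 3, 1, 0]), (56, true, [3, 1, 0, 1, 3, 1, 3, 4, 0, 1, 0, 1, 3, 4, 3]), (56, true, [3, 1, 3, 1, 0, 1, 0, 4, 3, 1, 3, 1, 0, 4]), (62, false, [4, 3, 1, 3, 1, 0, 4, 3, 4, 0, 1, 3, 1]), (178, true, [1, 0, 4, 3, 4, 3, 4, 0, 4, 0, 4, 0, 4, 3, 1, 3]), (9, true, [4, 3, 4, 0, 4, 3, 1, 3, 1, 0, 1, 3])]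
def r15 : List (ℕ × Bool × List ℕ) := [(49, true, [3, 1, 3, 4, 0, 1, 0, 1, 0, 1, 3, 1]), (56, true, [4, 3, 1, 0, 1, 0, 4, 0, 4, 0, 1, 3, 1, 3]), (173, false, [0, 4, 3, 1, 0, 1, 3, 4, 0, 4, 3, 4]), (20, true, [1, 0, 4, 0, 1, 3, 1, 0, 1, 0, 4]), (20, true, [1, 0, 2, 4, 3, 1, 0, 1, 3, 1, 3, 4, 3]), (244, true, [2, 0, 1, 3, 4, 3, 4, 3, 4, 3, 1, 0, 4, 3, 4]), (186, false, [2, 4, 0, 4, 0, 4, 3, 1, 0, 1, 3, 4, 0]), (49, true, [0, 1, 2, 0, 1, 0, 1, 3, 1, 3, 4, 0, 1, 0]), (246, true, [0, 4, 3, 1, 0, 1, 0, 4, 3, 4, 0, 1, 3, 4]), (64, true, [1, 0, 1, 2, 0, 4, 3, 1, 0, 1, 3, 1, 3, 1]), (64, true, [1, 0, 1, 3, 4, 0, 1, 3, 1, 0, 1, 0, 1, 3]), (56, true, [0, 4, 0, 1, 3, 1, 3, 4, 3, 4, 3, 1, 0, 1]), (49, false, [2, 0, 1, 0, 4, 3, 4,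 0, 4, 0, 4, 0, 1, 3]), (246, true, [3, 4, 3, 1, 3, 1, 3, 4, 3, 4, 0, 4, 0, 4, 0]), (173, false, [3, 1, 0, 4, 3, 4, 3, 4, 3, 1, 0, 4, 0, 4]), (49, false, [3, 1, 3, 4, 0, 4, 3, 4, 3, 4, 3, 1]), (168, false, [1, 0, 4, 3, 4, 3, 1, 0, 4]), (233, true, [1, 0, 1, 0, 1, 3, 4, 0, 4, 0, 4, 3, 1, 3]), (233, true, [0, 4, 3, 1, 0, 4, 0, 4, 3, 1, 3, 4, 0, 4]), (56, true, [0, 4, 0, 4, 0, 4, 3, 4, 3, 4, 0, 4, 3, 1]), (218, false, [0, 2, 4, 0, 4, 0, 4, 3, 4, 3, 4, 0, 1, 3, 1, 0]), (56, true, [3, 1, 0, 1, 0, 4, 3, 4, 0, 4, 0, 1, 3, 4]), (16, false, [0, 2, 4, 0, 1, 3, 1, 3, 1, 3, 4, 0, 4]), (97, false, [0, 1, 2, 0, 1, 0, 1, 0, 4, 0, 4, 3, 1, 0, 1]), (204, true, [1, 3, 1, 3, 1, 3, 4, 3, 4]), (177, false, [0, 1, 0, 1, 3, 4, 3, 1, 0, 4, 3,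 4, 3, 4]), (204, true, [1, 2, 0, 1, 0, 1, 0, 4, 0, 4, 3]), (177, false, [0, 1, 0, 1, 2, 0, 4, 0, 1, 3, 4, 0, 4, 0, 4, 3]), (168, false, [1, 3, 4, 3, 4, 0, 4, 3, 1, 0, 1, 0, 4]), (64, true, [3, 4, 3, 1, 3, 1, 3, 4, 0, 4, 3, 1, 3]), (231, false, [3, 1, 0, 1, 3, 1, 3, 1, 0, 4, 3, 4, 0, 4, 3, 4]), (186, false, [4, 3, 4, 3, 4, 0, 1, 3, 1, 0, 4, 0]), (107, false, [1, 0, 1, 3, 1, 0, 4, 3, 1, 3, 4]), (168, false, [1, 0, 2, 4, 0, 4, 0, 1, 3, 4, 3]), (56, true, [3, 4, 0, 4, 0, 4, 0, 1, 3, 4, 0, 4, 0, 4, 0]), (168, false, [3, 1, 0, 1, 3, 4, 3, 1, 0, 1, 3, 1, 3, 4, 0]), (218, false, [0, 4, 3, 4, 3, 4, 0, 4, 0, 4, 3, 1, 0, 1, 0]), (246, true, [1, 3, 1, 0, 4, 0, 4, 0, 4, 3, 1, 3, 1, 0, 4]), (259, false, [1, 3, 4, 0, 4, 3, 4, 0, 4,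 0, 4, 3, 4]), (244, true, [0, 1, 0, 1, 0, 4, 0, 4, 3, 1, 0, 1, 3, 1, 0]), (52, false, [1, 0, 1, 3, 1, 0, 1, 3, 4, 0, 4, 3, 4]), (9, false, [3, 4, 3, 1, 0, 1, 3, 4, 0, 4, 0, 4, 3, 4]), (15, false, [1, 0, 1, 3, 1, 0, 1, 3, 1, 0, 1, 3, 1]), (16, false, [0, 4, 0, 4, 0, 4, 0, 1, 3, 4, 3, 1, 0]), (97, false, [0, 1, 3, 1, 3, 1, 3, 4, 3, 4, 0, 1, 3, 1, 3]), (218, false, [2, 0, 1, 0, 1, 0, 1, 3, 1, 3, 1, 0, 1]), (52, true, [4, 3, 4, 3, 1, 0, 4, 0, 4]), (14, false, [4, 0, 4, 3, 4, 0, 4, 0, 1, 3, 1, 0, 1]), (15, false, [1, 0, 1, 3, 1, 0, 1, 3, 4, 0, 4, 3, 4]), (168, false, [2, 4, 3, 1, 3, 4, 0, 4, 0, 4, 3, 4, 0, 4]), (97, false, [2, 4, 3, 4, 0, 1, 3, 1, 0, 4]), (64, true, [2, 0, 4, 0, 1, 0, 1, 0, 4, 3, 4, 0, 1]), (17, false, [3,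 4, 0, 1, 3, 4, 3, 4, 0, 1, 3, 1]), (107, false, [1, 3, 1, 0, 1, 0, 4, 3, 1, 3, 4, 0]), (275, true, [4, 3, 4, 0, 1, 3, 1, 0, 1, 0, 1, 3, 1, 0, 1]), (15, true, []), (56, true, [3, 4, 3, 4, 3, 4, 3, 1, 0, 4, 3, 4, 3, 4, 0]), (168, false, [0, 1, 0, 1, 0, 4, 0, 4, 0, 4, 3, 4, 3, 4]), (39, true, [1, 3, 1, 0, 1, 3, 1, 0, 4, 3, 4, 0, 4]), (52, true, [0, 4, 3, 4, 0, 1, 0, 1, 3, 4, 0, 1, 0, 1, 0]), (275, true, [0, 1, 0, 1, 3, 4, 0, 4, 0]), (259, false, [1, 2, 0, 4, 3, 4, 0, 4, 3, 4, 3, 4, 0, 4, 3]), (52, false, [0, 4, 3, 4, 0, 4, 3, 1, 3, 1, 0, 1, 3, 1]), (9, false, [3, 4, 0, 1, 3, 1, 0, 4, 3, 4, 3, 4, 0, 4, 3]), (168, false, [1, 2, 0, 1, 3, 4, 0, 4, 0, 1, 3, 1, 0, 1]), (15, true, []), (64, true, [2, 4, 0, 1, 0, 4, 3, 4, 0, 4,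 3, 4, 3, 4, 0, 4, 0]), (15, false, [1, 0, 1, 3, 1, 0, 4, 3, 4, 0, 4, 3, 4]), (13, true, [3, 4, 0]), (218, false, [3, 1, 3, 1, 3, 1, 0, 1, 0, 1, 3, 1, 3]), (218, false, [1, 2, 0, 1, 0, 4, 3, 4, 3, 4, 3, 4, 0, 4, 3, 1]), (49, true, [2, 0, 1, 0, 4, 3, 4, 0, 1, 3, 1]), (20, true, [0, 4, 3, 4, 3, 4, 3, 1, 0, 1, 0, 4, 0, 4, 0]), (218, false, [0, 1, 0, 1, 2, 0, 1, 3, 4, 0, 1]), (15, false, [0, 1, 3, 1, 0, 1, 0, 4, 0, 4, 3, 4]), (244, true, [0, 4, 3, 4, 3, 4, 0, 1, 3, 1, 0, 1, 0]), (107, false, [3, 1, 0, 1, 0, 1, 0, 4, 0, 4, 3, 4, 0, 4, 3]), (17, false, [0, 1, 3, 4, 3, 4, 0, 1, 3, 1, 3, 4]), (275, true, [3, 1, 0, 1, 0, 1, 0, 1, 3, 1, 3]), (56, true, [1, 0, 4, 3, 4, 3, 1, 0, 1, 3, 1, 3, 1]), (231, false, [1, 0, 2, 4, 0, 1, 3,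 1, 0, 4, 3, 1, 3, 4]), (64, true, [4, 0, 4, 0, 4, 3, 4, 3, 4, 0, 4, 3, 4, 0, 1]), (231, false, [1, 0, 4, 3, 1, 0, 1, 0, 4, 3, 1, 3, 4, 0]), (168, false, [1, 3, 1, 0, 4, 3, 4, 3, 1, 0, 1, 3, 1, 3]), (259, false, [1, 2, 0, 1, 0, 4, 0, 4, 3, 4, 3, 4, 3]), (49, true, [3, 1, 3, 4, 0, 4, 3, 1, 0, 1, 3]), (259, false, [1, 3, 1, 3, 4, 3, 4, 0, 4, 0, 4]), (218, false, [1, 3, 4, 3, 4, 0, 4, 0, 4, 3, 1, 3, 4, 0, 4]), (204, true, [0, 2, 4, 0, 4, 0, 4, 3, 4, 3, 4, 0, 4, 0, 4, 0, 1]), (20, true, [2, 0, 1, 3, 1, 3, 4, 3, 4, 3, 4, 3, 4, 3, 4]), (204, true, [2, 0, 4, 3, 4, 0, 4, 3, 1, 3, 1, 0, 1]), (218, false, [0, 1, 0, 1, 3, 1, 0, 4, 3, 1, 3]), (231, false, [1, 0, 4, 0, 1, 3, 1, 0, 4, 3, 1, 3, 4]), (244, true, [0, 2, 4, 0, 4, 0, 4,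 3, 1, 0, 1, 3, 1, 0]), (161, false, [4, 0, 1, 0, 4, 3, 1, 3, 1, 3, 1]), (107, false, [0, 1, 3, 1, 3, 1, 3, 4, 3, 4, 0, 4, 3, 4]), (246, true, [1, 0, 2, 4, 0, 1, 0, 4, 3, 4, 0, 1]), (275, true, [2, 0, 1, 3, 1, 3, 1, 3, 1, 0, 1]), (159, false, [0, 4, 0, 4, 3, 1]), (56, true, [3, 4, 0, 1, 3, 1, 3, 4, 0, 4, 3, 4, 0]), (97, false, [3, 4, 3, 1, 3, 1, 0, 1, 3, 1, 0, 4, 3, 1]), (233, true, [1, 3, 4, 0, 1, 3, 4, 3, 4, 3, 4]), (64, true, [4, 0, 4, 3, 1, 3, 4, 0, 4, 3, 1, 3, 1]), (186, false, [2, 4, 0, 4, 0, 4, 0, 1, 3, 1, 0, 4, 0]), (14, false, [1, 3, 1, 3, 4, 3, 4, 3, 1, 0]), (177, false, [1, 0, 4, 3, 1, 0, 1, 0, 4, 3, 1, 3]), (233, true, [3, 4, 3, 4, 3, 4, 0, 4, 0, 1, 3, 1]), (49, false, [3, 1, 0, 4, 3, 1, 0]), (49, false, [2,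 0, 1, 3, 4, 0, 1, 0]), (64, true, [0, 1, 2, 0, 4, 0, 4, 0, 4, 3, 4, 0, 1, 0, 4]), (186, false, [4, 3, 4, 3, 4, 3, 1, 0, 1, 3, 4, 0]), (177, false, [1, 0, 2, 4, 0, 1, 3, 1, 3, 4, 0, 1])]
def r16 : List (ℕ × Bool × List ℕ) := [(25, true, [0, 2, 4, 0, 4, 3, 4, 3, 1, 0, 4, 0, 4, 3, 1, 0]), (250, true, [2, 4, 3, 4, 3, 4, 0, 1, 0, 1]), (2, true, [0, 1, 3, 1, 3, 4, 0, 1]), (226, true, [2, 4, 3, 4, 0, 4, 0, 1, 3, 1, 0, 4, 3]), (281, false, [1, 3, 1, 0, 1, 3, 4, 3, 1, 0, 1, 0, 1, 0, 1]), (260, false, [2, 4, 3, 1, 0, 4, 3, 4, 0, 1, 0, 1, 0, 4, 0, 4, 0]), (110, true, [0, 4, 3, 1, 0, 1, 3, 4, 0, 1, 0, 1]), (254, true, [3, 1, 3, 4, 3, 4, 3, 4, 0, 1, 3, 1, 3]), (16, false, [2, 4, 3, 4, 0, 1, 3, 1]), (50, false, [4, 3, 4, 3, 4, 3,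 1, 0, 1, 3, 1, 3]), (263, false, [2, 0, 4, 3, 1, 3, 1, 0, 1, 0, 1, 0, 1, 3, 1, 3]), (281, false, [0, 1, 3, 4, 3, 1, 0, 1, 3, 1, 3, 1, 0, 1, 3, 4]), (170, false, [0, 4, 3, 4, 3, 1, 0, 1, 3, 4, 0, 4, 0, 4]), (268, true, [3, 4, 0, 4, 0, 1, 3, 1, 3, 1, 3, 4, 0, 4, 3]), (236, true, [3, 4, 3, 1, 0, 1, 0, 1, 0, 4, 0, 4, 0, 1]), (29, false, [3, 4, 0, 1, 0, 1, 0, 1, 0]), (246, true, [1, 0, 4, 3, 1, 0, 1, 0, 4, 3, 4, 0, 1, 3]), (182, false, [3, 1, 3, 1, 0, 1, 3, 1, 0, 1, 0, 4, 0, 4]), (260, false, [2, 4, 0, 1, 3, 1, 3, 1, 0, 1, 0, 1]), (30, true, [0, 1, 0, 1, 2, 0, 1, 0, 1, 0, 1, 3, 1, 3, 1]), (118, false, [3, 4, 3, 1, 0, 1, 3, 1, 0, 1, 3, 4, 3, 4, 0, 4]), (64, true, [1, 0, 1, 2, 0, 4, 3, 4, 0, 4, 3, 4, 0, 1, 0]), (263, false,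 [0, 4, 0, 4, 3, 4, 3, 1, 0, 1, 3, 4, 3, 4, 3, 4]), (9, true, [4, 3, 4, 0, 1, 3, 1, 0, 1, 3, 1, 3]), (236, true, [2, 4, 0, 1, 0, 4, 3, 4, 0, 1, 3, 1, 3, 1, 3, 1]), (268, true, [1, 0, 2, 4, 3, 1, 0, 4, 0, 4, 0, 1, 3, 4, 3]), (15, false, [0, 1, 0, 1, 3, 4, 3, 4, 3, 4, 0, 1, 3]), (8, false, [0, 4, 3, 1, 3, 4, 0]), (273, false, [2, 4, 0, 4, 3, 1, 3, 1, 0, 4, 0, 4]), (29, false, [3, 1, 3, 4, 0, 4, 3, 4, 3, 4, 0, 1, 3, 4, 3]), (141, false, [0, 4, 0, 1, 0, 1, 3, 4, 0, 4, 3, 1, 0, 1]), (246, true, [0, 1, 0, 2, 4, 3, 4, 3, 1, 0, 1, 3, 1, 3, 4, 0]), (141, false, [0, 2, 4, 3, 4, 3, 4, 0, 4, 3, 1, 0]), (170, false, [1, 0, 4, 3, 1, 0, 1, 0, 4, 0, 4, 3, 4, 3, 4, 0]), (260, false, [1, 3, 4, 3, 1, 0, 1, 0, 1, 0, 1, 3, 4, 0, 4]), (161,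 false, [4, 0, 1, 0, 1, 3, 1, 3, 4]), (64, true, [2, 4, 3, 4, 0, 4, 3, 4, 3, 4, 0, 1, 3, 1, 0, 4, 0]), (83, true, [1, 3, 1, 3, 4, 3, 4, 0, 1, 3, 1, 0, 4, 0, 1]), (250, true, [1, 3, 1, 0, 1, 0, 1, 3, 1, 3]), (250, true, [4, 3, 1, 3, 1, 0, 4, 3, 4, 3, 1]), (36, false, [1, 3, 4, 0, 1, 0, 1, 3, 4, 0, 1]), (64, true, [3, 1, 0, 1, 0, 4, 0, 4, 3, 4, 3, 4, 3, 1, 3]), (149, true, [4, 3, 4, 0, 4, 0, 4, 0, 1, 3, 1, 0, 4, 0]), (149, true, [4, 3, 4, 0, 1, 3, 1, 0, 1, 3, 4, 3]), (204, true, [0, 4, 0, 1, 3, 4, 0, 4, 0]), (262, false, [2, 0, 4, 0, 1, 3, 4, 0, 4, 3, 1, 3, 4]), (262, false, [1, 0, 4, 0, 4, 3, 4, 3, 4, 0, 4, 0, 4, 0, 4]), (23, true, [0, 1, 2, 0, 4, 0, 4, 0, 4, 3, 1, 0, 4, 0, 1]), (23, true, [0, 1, 3, 4, 0, 4, 0, 4, 3, 4,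 0, 4, 3, 4, 0, 4, 0, 1]), (254, true, [0, 1, 0, 1, 2, 0, 1, 3, 4, 3, 4, 3, 4]), (182, false, [0, 1, 3, 4, 0, 1, 3, 1, 0, 4, 0, 4, 3, 4, 3]), (110, true, [1, 3, 1, 3, 1, 0, 4, 3, 4, 0, 4, 3, 4, 3, 4]), (204, true, [4, 3, 4, 3, 4, 0, 4, 0, 1, 3, 4, 3, 1]), (14, true, [1, 3, 1, 0, 1, 0, 1, 3, 4, 0, 4, 3, 4]), (170, false, [0, 2, 4, 0, 1, 3, 1, 0, 4, 0, 4, 0, 1, 0]), (231, true, [2, 4, 3, 4, 0, 4, 0, 1, 3, 4, 3, 4, 0, 1]), (30, false, [1, 2, 0, 1, 3, 4, 3, 4, 0, 4, 0]), (263, false, [0, 2, 4, 0, 4, 3, 4, 3, 4, 0, 4, 0, 4, 0, 4]), (133, false, [2, 4, 0, 4, 0, 1, 3, 4, 3, 4, 0, 1]), (64, true, [1, 0, 4, 0, 4, 3, 1, 0, 1, 0, 4, 0, 4]), (254, true, [3, 1, 0, 1, 3, 1, 3, 4, 3, 4, 3, 1, 0, 1]), (207, true, [1, 3, 1, 0, 4, 0, 4,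 0, 1, 3, 1, 0, 4]), (27, true, [0, 4, 0, 1, 3, 1, 3, 4, 0, 4, 0, 1, 3, 1, 3, 4]), (262, false, [3, 1, 3, 1, 0, 1, 0, 1, 0, 1, 3, 1, 3]), (149, true, [1, 0, 1, 0, 2, 4, 0, 4, 3, 1, 3, 1, 3, 1, 0]), (31, false, [0, 1, 0, 1, 0, 1, 0, 1, 0, 1, 0, 1, 0, 1]), (149, true, [1, 0, 2, 4, 3, 1, 0, 1, 0, 1, 3, 1, 0, 4, 3, 1]), (34, false, [3, 1, 0, 1, 3, 4, 0, 1, 0, 1, 3, 4, 0, 1, 0]), (83, true, [1, 2, 0, 1, 3, 1, 3, 1, 0, 1, 0, 1]), (118, false, [1, 3, 1, 3, 1, 3, 4, 3, 4, 3, 4, 0, 4, 0, 4, 3]), (182, false, [0, 2, 4, 0, 1, 3, 1, 0, 4, 3, 4, 3, 4, 0, 4, 0, 4]), (110, true, [2, 4, 3, 1, 0, 4, 3, 4, 0, 4, 3, 4, 3, 1]), (30, false, [0, 2, 4, 3, 1, 3, 1, 0, 1, 3, 4, 0, 1]), (207, true, [1, 3, 1, 0, 1, 0, 4, 3, 1, 0, 1, 0, 4]), (263,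 false, [3, 4, 0, 4, 0, 1, 3, 4, 0, 4, 3, 1, 3, 4]), (9, true, [0, 1, 0, 1, 3, 4, 0, 4, 3, 4, 3, 4, 3]), (16, true, []), (27, true, [0, 1, 0, 2, 4, 0, 1, 0, 1, 0, 1, 0]), (173, true, [4, 0, 1, 0, 1, 0, 4, 0, 4, 0, 1]), (262, false, [0, 2, 4, 0, 1, 3, 4, 3, 1, 0, 1, 0, 1, 0, 4]), (231, true, [3, 1, 0, 1, 0, 4, 3, 4, 0, 1, 3]), (50, false, [3, 4, 3, 4, 3, 4, 0, 4, 3, 4, 0, 4, 3, 1]), (2, false, [1, 0, 4, 0, 1, 3, 1, 0, 1, 0]), (161, false, [3, 1, 0, 1, 0, 4]), (245, true, [4, 3, 4, 0, 4, 3, 4, 0, 4, 0, 1, 3]), (170, false, [2, 0, 1, 0, 1, 0, 1, 0, 4, 0, 4, 3, 1, 3, 1]), (260, false, [0, 4, 0, 1, 0, 1, 0, 1, 3, 1, 0, 4, 0, 1]), (245, true, [4, 3, 1, 3, 1, 3, 4, 0, 4, 3, 4, 3, 1, 0]), (110, true, [1, 2, 0, 4, 3, 1, 0, 1,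 0, 1, 3, 1, 0, 4, 3]), (182, false, [0, 1, 2, 0, 1, 3, 1, 3, 4, 0, 1, 0, 1, 3, 1, 0, 4, 3]), (25, true, [0, 1, 2, 0, 1, 0, 1, 3, 1, 3, 1, 0, 4, 0, 1]), (226, true, [2, 4, 0, 4, 0, 4, 0, 1, 3, 1, 0, 4, 3, 4]), (141, false, [4, 0, 4, 3, 4, 3, 4, 0, 4, 3, 1, 0, 1, 0]), (204, true, [1, 2, 0, 4, 3, 4, 3, 4, 0, 4, 3, 1, 3, 4]), (204, true, [0, 1, 3, 4, 0, 4, 3, 1, 0, 1, 0, 4, 0, 4, 3]), (141, false, [1, 2, 0, 4, 3, 1, 0, 1, 0, 4, 0, 4, 3, 4, 3]), (268, true, [3, 1, 3, 1, 0, 1, 0, 1, 0, 4, 3, 4, 0]), (236, true, [2, 4, 3, 1, 0, 1, 0, 1, 3, 1, 3, 4, 0, 4, 0, 1]), (16, false, [1, 0, 2, 4, 0, 1, 3, 4]), (30, true, [3, 4, 0, 1, 3, 4, 3, 1, 0, 1, 0, 1, 0, 1]), (226, true, [4, 3, 4, 0, 4, 0, 1, 3, 1, 0, 4, 3]), (226, true, [4, 0,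 4, 0, 4, 0, 1, 3, 1, 0, 4, 3, 4]), (25, true, [0, 4, 3, 1, 3, 1, 0, 4, 0, 4, 3, 1, 0, 1]), (25, true, [0, 4, 0, 4, 3, 4, 0, 1, 0, 1, 0, 4, 3, 4, 3]), (236, true, [4, 0, 1, 0, 4, 3, 4, 0, 1, 0, 1, 3, 1]), (268, true, [0, 1, 0, 1, 2, 0, 1, 0, 4, 0, 4, 3, 1, 0, 4]), (250, true, [3, 1, 0, 4, 3, 4, 3, 4, 3, 4, 0, 1, 0]), (254, true, [2, 4, 0, 1, 0, 4, 3, 1, 3, 1, 0, 4, 0, 4, 3, 4]), (206, false, [1, 0, 4, 3, 1, 3, 1, 0, 4, 3, 1, 0, 1, 0, 1]), (206, false, [1, 3, 4, 0, 4, 3, 4, 3, 4, 0, 4, 0, 4, 0]), (273, false, [4, 3, 1, 0, 1, 3, 1, 3, 1, 0, 4, 0, 4]), (142, false, [2, 4, 3, 1, 0, 4, 3, 1])]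
def r17 : List (ℕ × Bool × List ℕ) := [(269, true, [1, 3, 4, 0, 1, 3, 1, 0, 4, 0, 4, 3, 1]), (122, false, [1, 0, 4, 0, 4, 0, 4, 3, 4, 3, 4, 0, 1, 3, 1, 0]), (36, false, [0, 1, 3, 4, 3, 4, 0, 1, 3, 1, 3, 4]), (263, true, [1, 0, 2, 4, 0, 1, 3, 1, 3, 4, 0, 1, 0, 1, 3, 1]), (263, true, [4, 0, 4, 3, 4, 3, 1, 0, 4, 0, 4, 3, 4, 0, 4]), (241, true, [1, 0, 1, 0, 4, 3, 4, 3, 4, 0, 4]), (88, false, [3, 1, 0, 4, 0, 4, 0, 4, 3, 1, 3, 1, 3]), (269, true, [1, 2, 0, 4, 3, 1, 0, 1, 3, 4, 3, 4, 0, 1, 3]), (140, true, [1, 0, 1, 0, 1, 3, 1, 0, 4, 0, 4, 0, 1, 3, 1]), (258, false, [4, 3, 1, 3, 1, 3, 1, 3, 1]), (258, false, [2, 4, 0, 1, 0, 1, 0, 1, 0, 1, 3]), (122, false, [0, 1, 0, 1, 0, 2, 4, 3, 4, 0, 4, 0, 4, 3, 1, 3, 4]), (235, false, [0,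 1, 3, 1, 3, 4, 0, 4, 0, 4, 0, 1, 3, 4]), (258, false, [3, 1, 0, 4, 0, 4, 3, 4, 0]), (133, false, [4, 0, 4, 0, 4, 0, 4, 0, 1, 3, 4]), (235, false, [0, 1, 2, 0, 1, 0, 4, 3, 4, 3, 4, 3, 1, 0, 4, 3]), (200, false, [0, 1, 0, 2, 4, 0, 1, 0, 1, 0, 1, 3, 4, 0, 4]), (191, true, [0, 1, 0, 1, 0, 1, 3, 4, 3, 1, 0, 1, 3, 1, 3]), (191, true, [0, 1, 0, 1, 0, 1, 2, 0, 4, 0, 1, 3, 1, 0, 1]), (241, true, [4, 0, 4, 3, 4, 3, 1, 0, 4, 3, 4, 0, 4, 3, 1]), (7, true, [0, 1, 3, 1, 0, 1, 3, 1, 3, 1, 3, 4, 0]), (241, true, [1, 0, 1, 0, 4, 0, 4, 0, 4, 0, 4, 3, 1, 3, 4]), (19, true, [2, 4, 0, 4, 0, 1, 3, 4, 3, 4, 0, 4, 0]), (243, true, [1, 3, 4, 0, 4, 3, 1, 3, 1, 0, 4, 0, 4, 3, 1]), (281, true, [1, 2, 0, 4, 0]), (175, false, [0, 4, 3, 1, 3, 1, 0,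 1, 0, 1, 3]), (281, true, [1, 3, 4, 0]), (175, false, [0, 2, 4, 0, 1, 0, 1, 3, 1, 3, 1]), (200, false, [3, 4, 3, 4, 3, 1, 0, 4, 3, 4, 3, 4, 0, 4, 3, 1]), (7, false, [0, 1, 2, 0, 1, 3, 4, 3]), (274, false, [0, 1, 0, 2, 4, 0, 1, 3, 1, 3, 4, 0, 4, 0, 4]), (88, false, [2, 0, 1, 3, 4, 3, 4, 3, 4, 0, 1, 0, 1]), (270, false, [0, 1, 3, 1, 3, 1, 3, 4, 0, 1, 0, 1, 3]), (200, false, [0, 1, 0, 4, 3, 1, 3, 1, 3, 1, 0, 4, 3, 4, 3]), (122, false, [2, 4, 3, 1, 3, 1, 0, 1, 0, 1, 3, 1, 3]), (127, true, [0, 1, 3, 4, 3, 4, 3, 4, 0, 4, 3, 1, 3, 4]), (7, true, [0, 1, 2, 0, 1, 3, 1, 0, 1, 0, 1, 0, 4, 0]), (140, true, [1, 0, 1, 0, 1, 2, 0, 1, 3, 4, 3, 4, 3, 1, 0, 1, 3]), (130, false, [1, 0, 1, 0, 1, 0, 4, 3, 4, 3, 1, 0]), (241, true, [3, 4,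 0, 4, 3, 1, 0]), (51, false, [1, 0, 1, 3, 1, 0, 1, 3, 4, 0, 4, 3, 4]), (21, false, [1, 3, 1, 0, 1, 0, 1, 0, 4, 3, 1, 3, 4, 0, 4]), (174, true, [2, 0, 1, 3, 1, 0, 1, 0, 1, 3, 4, 3, 1]), (19, true, [4, 3, 4, 3, 1, 0, 4, 0, 4, 3, 4, 0]), (243, true, [0, 4, 0, 4, 3, 4, 0, 1, 3, 1, 3, 1, 3, 4]), (7, true, [4, 3, 4, 3, 1, 0, 1, 0, 1, 3, 1, 0]), (62, false, [1, 0, 1, 3, 4, 3, 4, 0, 4, 3, 1, 3, 1, 0]), (14, true, [0, 1, 0, 1, 3, 4, 0, 1, 0, 1, 3, 4, 0, 1]), (36, true, [0, 1, 3, 1, 3, 1, 0, 4, 3, 4, 0, 4, 3, 4, 0, 1]), (200, false, [2, 4, 0, 1, 0, 1, 0, 1, 3, 1, 3, 1, 3, 1, 0, 4, 0]), (244, true, [4, 0, 4, 0, 4, 0, 1, 3, 1, 0, 4, 0]), (7, false, [0, 1, 3, 1, 0, 4]), (173, true, [0, 2, 4, 0, 1, 3, 1, 3, 1, 3, 4, 0, 4]), (270,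 false, [0, 1, 2, 0, 1, 0, 1, 0, 4, 3, 1, 3, 1]), (228, false, [4, 3, 1, 3, 1, 0, 1, 0, 1, 3, 1, 0, 1]), (133, false, [4, 0, 4, 0, 4, 0, 4, 0, 1, 3, 4]), (122, false, [4, 0, 1, 0, 1, 3, 1, 3, 1, 0, 1]), (127, true, [2, 4, 0, 4, 3, 1, 3, 1, 3, 1, 3, 4, 3, 4, 0]), (31, false, [1, 0, 4, 0, 1, 3, 4, 0, 4, 3, 1, 0, 1]), (62, false, [2, 4, 0, 4, 3, 4, 0, 4, 0, 4, 3, 4]), (228, false, [0, 1, 0, 1, 3, 4, 3, 4, 3, 4]), (130, true, [1, 2, 0, 4, 3, 1, 0, 1, 0, 1, 3, 1]), (51, false, [0, 4, 3, 4, 0, 4, 3, 1, 3, 1, 0, 1, 3, 1]), (21, false, [1, 0, 1, 0, 1, 2, 0, 4, 0, 1, 3, 4, 0, 4, 0, 4]), (127, true, [1, 0, 4, 3, 4, 3, 4, 3, 4, 0, 4, 0, 4, 0, 4, 3]), (36, false, [0, 1, 3, 4, 3, 4, 0, 1, 3, 1, 3, 4]), (258, false, [4, 3, 1, 3, 1,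 0, 4, 3, 1, 3, 1, 0, 1, 3]), (36, true, [1, 0, 1, 0, 1, 3, 4, 0, 4, 3, 4, 0, 4, 3, 1, 3]), (31, false, [0, 4, 3, 1, 0, 1, 3, 4, 0, 4, 3, 4]), (7, true, [2, 4, 0, 4, 0, 1, 3, 1, 3, 1, 0, 1, 0]), (122, true, [2, 0, 4, 0, 4, 0, 1, 3, 1, 0, 4, 0, 4, 3, 1, 3, 1]), (269, true, [0, 2, 4, 0, 1, 3, 4, 0, 4, 3, 4, 3, 4, 3, 1, 3]), (263, true, [1, 0, 2, 4, 0, 1, 3, 1, 0, 1, 0, 1, 3]), (122, true, [1, 2, 0, 4, 3, 1, 0, 1, 0, 1, 0, 1, 3, 4, 0]), (174, true, [3, 1, 0, 1, 3, 1, 3, 4, 3, 4, 3, 4, 3, 1]), (177, false, [2, 0, 4, 0, 4, 0, 1, 3, 1, 0, 1, 0, 1, 3]), (270, false, [1, 0, 1, 0, 1, 0, 4, 0, 4, 3, 1, 3, 4]), (15, false, [0, 1, 3, 4, 3, 4, 0, 1, 3, 1, 3, 4]), (133, true, [4, 0, 4, 0, 4, 0, 4, 3, 1, 0, 4, 3]), (241, true, [1, 0,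 1, 0, 1, 3, 4, 0, 4, 0, 4, 3, 1]), (63, false, [2, 0, 1, 3, 1, 0, 4, 3, 4, 3, 4, 3, 4]), (258, false, [2, 4, 0, 1, 0, 1, 3, 4, 0, 1, 0, 1, 3, 1]), (63, false, [0, 4, 3, 4, 3, 4, 3, 4, 0, 1, 3, 1, 0]), (127, true, [1, 0, 2, 4, 0, 4, 0, 4, 0, 4, 3, 4, 3, 4, 3, 4]), (130, false, [1, 0, 1, 3, 4, 3, 4, 0, 4]), (269, true, [0, 4, 3, 1, 0, 4, 3, 4, 0, 4, 0, 4, 0, 1]), (130, false, [1, 0, 1, 2, 0, 4, 0, 4, 3, 4, 3]), (122, true, [0, 1, 0, 1, 0, 4, 0, 4, 0, 4, 0, 1, 3, 4, 0, 4, 0]), (61, false, [2, 0, 1, 0, 1, 3, 4, 3, 4, 3, 4, 0, 4, 3, 4]), (263, true, [1, 0, 4, 3, 1, 0, 1, 3, 1, 3, 1]), (61, false, [2, 4, 3, 1, 0, 1, 3, 4, 0, 4, 0, 4, 0, 1]), (122, true, [1, 3, 4, 0, 1, 3, 1, 3, 1, 3, 1, 0, 4, 0]), (274, false, [0, 4, 0, 4,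 3, 1, 3, 4, 0, 4, 3, 4, 3, 4, 3, 4]), (177, false, [3, 4, 3, 4, 3, 1, 0, 1, 3, 1, 3, 1]), (34, false, [1, 3, 1, 3, 4, 3, 4, 0, 1, 3, 1, 3, 4]), (270, false, [0, 1, 2, 0, 4, 0, 1, 3, 1, 0, 4, 0, 4, 0, 4]), (258, false, [0, 4, 0, 1, 3, 1, 3, 4, 3, 4, 0, 4, 0]), (133, true, [2, 4, 3, 4, 3, 4, 3, 4, 0, 1, 3, 4]), (18, false, [4, 3, 4, 0, 1, 3, 1, 0, 1, 3, 4]), (241, true, [1, 0, 1, 0, 1, 2, 0, 4, 3, 4, 3, 4, 0, 1, 3]), (244, true, [3, 4, 3, 1, 3, 1, 0, 1, 0, 1, 3, 1, 3, 1, 0, 4]), (191, true, [2, 0, 1, 0, 1, 0, 1, 3, 1, 3, 1, 3, 1, 0, 4, 3]), (7, false, [2, 4, 0, 4, 0, 4, 0, 1, 3, 1, 0, 4, 3, 1]), (88, false, [0, 2, 4, 3, 4, 0, 4, 0, 1, 3, 4, 0, 4, 3, 1, 3]), (14, true, [1, 3, 4, 3, 4, 3, 4, 0, 1, 3, 4]), (175, true, [2,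 4, 0, 4, 3, 1, 0, 1, 3, 1, 3, 4, 0]), (191, true, [3, 1, 3, 1, 3, 1, 0, 1, 0, 1, 0, 1, 3, 4]), (235, false, [0, 2, 4, 0, 1, 0, 1, 0, 4, 3, 4, 0, 4, 0]), (235, false, [0, 4, 3, 1, 3, 1, 3, 4, 0, 4, 3, 4, 0]), (7, false, [4, 3, 4, 3, 4, 3, 1, 0, 1, 3, 4, 0, 1, 3]), (88, false, [0, 4, 0, 4, 3, 4, 3, 1, 0, 4, 3, 4, 0, 1]), (175, true, [3, 1, 3, 4, 3, 4, 0, 4, 3, 1, 0, 1])]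
def r18 : List (ℕ × Bool × List ℕ) := [(180, false, [3, 1, 3, 4, 3, 4, 3, 1, 0, 4, 0, 4, 0, 1, 0]), (210, true, [0, 4, 0, 4, 0, 4, 3, 1, 3, 1, 0, 4, 3, 1, 0]), (184, true, [0, 4, 3, 1, 0, 1, 0, 1, 3, 4, 3, 1, 0]), (210, false, [1, 2, 0, 1, 3, 4, 0, 4, 3, 1, 0, 1, 0, 1, 3, 1, 3]), (233, true, [1, 0, 1, 3, 4, 3, 1, 0, 1, 3, 1, 3, 4, 0, 4]), (104, false, [3, 4, 3, 1, 0, 1, 3, 1, 3, 1, 0, 1, 0, 1]), (110, false, [0, 1, 3, 4, 0, 1, 3, 1, 3, 1, 3, 1, 0, 4, 3, 1]), (25, true, [1, 2, 0, 4, 3, 1, 3, 1, 3, 4, 0, 4, 3, 1, 3, 4]), (97, true, [2, 4, 0, 4, 3, 4, 0, 1, 3, 4, 3]), (47, false, [0, 4, 3, 1, 0, 4, 3, 4, 0, 4, 3, 4]), (260, false, [1, 0, 2, 4, 3, 1, 0, 1, 0, 4, 3, 4]), (233, true, [0, 4, 0, 4, 0, 4, 0, 4, 0, 1, 0]), (110,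 true, [1, 3, 4, 0, 4, 3, 1, 3, 4]), (141, false, [1, 0, 1, 0, 1, 0, 1, 2, 0, 4]), (178, true, [0, 1, 2, 0, 1, 3, 4, 0, 4, 3, 4, 0, 4, 3]), (251, true, [4, 0, 1, 3, 1, 3, 1, 0, 1, 3, 4, 0, 1, 0, 4]), (114, true, [2, 0, 1, 3, 4, 3, 4, 0, 1, 3, 4, 3, 4, 3, 4]), (47, true, [0, 1, 0, 4, 3]), (104, false, [0, 2, 4, 3, 4, 0, 1, 0, 1, 3, 4, 0, 4, 0]), (38, false, [0, 1, 0, 1, 3, 1, 3, 4, 0, 1, 0, 1]), (135, true, [0, 1, 0, 1, 3, 4, 0, 4, 3, 1, 3, 1, 3]), (2, true, [0, 4, 0, 4, 0, 1, 3, 4, 0, 4, 3, 1, 0]), (260, false, [0, 1, 3, 4, 3, 1, 0, 1, 0, 4, 3]), (161, false, [0, 1, 0, 1, 0, 4, 0, 4, 0, 4]), (178, true, [0, 1, 3, 1, 0, 1, 3, 4, 0, 4, 3, 4]), (141, false, [0, 1, 0, 4, 0, 4, 0, 1, 3, 1, 3, 1, 3]), (18, true, []), (17, false,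 [1, 0, 4, 3, 4, 0, 4, 3, 1, 0, 1]), (176, false, [1, 3, 4, 3, 4, 3, 1, 0, 4, 0]), (251, true, [1, 0, 1, 3, 1, 0, 4, 3, 1, 3, 1, 3]), (270, true, [1, 3, 4, 0, 1, 3, 1, 3, 4, 0, 4, 3, 4, 3]), (114, true, [1, 3, 1, 3, 1, 0, 4, 3, 4, 0, 1, 0]), (270, true, [0, 1, 0, 1, 0, 2, 4, 0, 1, 0, 4, 3, 4, 0, 1, 3, 4, 3]), (110, true, [1, 3, 4, 3, 1, 0, 1, 3, 1, 3, 4, 3]), (104, false, [0, 2, 4, 0, 1, 3, 1, 0, 1, 0, 1, 3, 4, 0, 4, 3, 4]), (84, false, [0, 1, 0, 2, 4, 3, 4, 3, 1, 0, 4, 0, 1]), (2, false, [2, 0, 1, 3, 4, 3, 4, 0, 4, 3, 4, 0, 4, 0, 4]), (232, true, [2, 0, 4, 3, 4, 0, 4, 0, 1, 0]), (210, true, [0, 4, 3, 1, 0, 1, 3, 4, 0, 1, 0, 1, 3, 4]), (210, false, [1, 2, 0, 4, 3, 4, 0, 1, 0, 1, 0, 1, 3, 4, 3, 4, 3]), (37, true, [1, 0,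 1, 3, 1, 3, 1, 3, 4, 3, 4, 3, 4, 0, 4, 0]), (2, true, [0, 2, 4, 0, 4, 0, 4, 3, 1, 0, 1]), (23, false, [2, 4, 3, 1, 3, 1, 0, 1, 3, 1, 0, 4, 3, 1]), (23, false, [1, 2, 0, 1, 3, 1, 3, 4, 3, 4, 0, 1, 0]), (254, true, [2, 0, 4, 3, 1, 3, 1, 0, 1, 0, 1, 3, 1, 3, 1]), (180, false, [0, 1, 2, 0, 1, 3, 1, 0, 4, 0, 4, 3, 1, 0]), (180, false, [1, 0, 1, 3, 1, 0, 4, 0, 4, 3, 1, 0]), (43, false, [0, 1, 2, 0, 1, 0, 1, 0, 4, 3, 1, 3, 4, 0, 4, 3]), (43, false, [1, 0, 1, 0, 1, 0, 4, 0, 4, 0]), (25, true, [0, 1, 0, 4, 3, 4, 0, 4, 3, 4, 0, 1, 0, 1, 3]), (47, true, [0, 1, 3, 4, 0, 4, 3, 1, 0, 1, 0, 4, 0]), (110, false, [0, 4, 3, 1, 3, 1, 0, 1, 3, 1, 0, 4]), (254, true, [1, 3, 1, 0, 4, 3, 4, 3, 4, 0, 1, 3, 1, 0]), (133, true, [0, 1, 3, 4, 0,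 4, 3, 4, 3, 1, 0, 4, 0, 4, 3]), (110, true, [2, 0, 4, 3, 1, 0, 1, 0, 1, 0, 1, 3, 1, 3]), (273, false, [1, 0, 2, 4, 0, 1, 0, 1, 0, 4, 3, 1, 3, 1]), (107, false, [1, 0, 1, 0, 1, 0, 4, 3, 4, 0, 1, 0, 1, 3, 4]), (260, false, [2, 0, 4, 0, 4, 0, 4, 0, 1, 3, 1, 0, 4, 3]), (18, true, []), (2, true, [0, 1, 3, 1, 0, 4, 3, 4, 3, 1, 0]), (25, true, [2, 0, 1, 3, 4, 3, 4, 3, 1, 0, 1, 3, 4, 3, 4, 0]), (100, true, [2, 0, 4, 3, 1, 3, 1, 0, 4, 3]), (25, false, [1, 0, 1, 2, 0, 1, 0, 1, 0, 4, 0, 4, 0, 4, 3, 4, 3]), (180, false, [4, 0, 4, 0, 4, 3, 1, 3, 4, 0, 1, 0]), (23, false, [4, 3, 4, 3, 1, 0, 1, 3, 4, 0, 4, 3, 4]), (45, true, [1, 0, 1, 3, 1, 3, 4, 0, 1, 0, 1]), (23, false, [0, 1, 3, 1, 3, 1, 0, 4, 0, 4, 3, 4, 3, 1]), (138, true, [1,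 0, 2, 4, 0, 4, 3, 1, 0, 4, 0]), (232, true, [0, 1, 0, 4, 3, 4, 0, 4, 0, 1, 3, 4]), (135, true, [2, 0, 1, 3, 1, 3, 1, 3, 1, 0, 1, 0, 1, 3, 1, 3]), (47, true, [3, 1, 0, 4, 0, 4, 3, 4, 3, 4, 0]), (110, false, [0, 2, 4, 0, 4, 0, 1, 3, 1, 0, 4]), (107, false, [1, 0, 1, 3, 1, 0, 1, 3, 1, 0, 4, 0, 4, 3, 1, 3]), (100, true, [1, 3, 4, 0, 4, 0, 4, 0, 4, 0, 1]), (260, false, [3, 4, 3, 4, 0, 4, 0, 1, 3, 1, 0, 4, 3, 4]), (13, true, [1, 3, 4, 0, 4, 0, 1, 3, 4, 0, 4]), (36, true, [0, 1, 0, 4, 3, 1, 3, 1, 0, 4, 3, 1]), (25, false, [0, 1, 0, 1, 3, 1, 3, 1, 3, 4, 3, 4, 3, 4, 0, 4]), (18, true, [4, 0, 1, 0, 1, 0, 4, 0, 4, 0, 1]), (180, false, [0, 2, 4, 0, 4, 0, 4, 3, 1, 3, 4, 0, 1, 0]), (273, false, [1, 3, 4, 0, 1, 3, 1, 3, 4, 0, 4, 0,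 1]), (47, false, [0, 1, 2, 0, 4, 3]), (184, true, [3, 1, 0, 1, 3, 4, 0, 1, 0, 4]), (84, false, [2, 4, 3, 1, 0, 4, 0, 4, 3, 4, 3, 4, 0, 1]), (135, false, [3, 4, 0, 4, 3, 1, 3, 4, 0, 4, 0, 1]), (110, true, [0, 2, 4, 0, 4, 3, 1, 0, 1, 0, 4, 0, 4, 0, 4, 3, 1]), (104, false, [3, 4, 3, 4, 0, 1, 0, 1, 3, 4, 0, 4, 0]), (135, false, [0, 1, 0, 1, 2, 0, 4, 0, 4, 3, 1, 3, 1, 3]), (110, false, [0, 1, 0, 1, 0, 1, 2, 0, 1, 0, 1, 3, 1, 3, 4]), (47, true, [0, 2, 4, 3, 1, 0, 4, 3, 4, 0, 4, 3, 4]), (180, false, [4, 3, 4, 3, 4, 0, 1, 0, 1, 3]), (210, false, [0, 1, 0, 1, 2, 0, 1, 0, 1, 3, 4, 0, 4, 3, 4]), (270, true, [3, 4, 0, 4, 0, 4, 0, 4, 3, 4, 3]), (254, true, [2, 4, 0, 4, 0, 4, 3, 4, 3, 1, 0, 1, 0, 1, 0]), (254, true, [4, 0, 1, 3, 1,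 3, 1, 3, 1, 0, 4, 3, 4, 0, 4]), (270, true, [2, 4, 0, 4, 3, 1, 3, 4, 0, 4, 3, 4, 3, 1, 3]), (141, false, [2, 0, 4, 0, 1, 3, 4, 3, 4, 0, 1, 3, 4, 3]), (178, true, [0, 1, 0, 1, 3, 4, 3, 1, 0, 4, 3, 4, 3, 4, 0, 4, 3]), (97, true, [0, 1, 3, 4, 0, 4, 0, 4, 3, 4, 0, 1, 3, 4, 3]), (38, false, [2, 0, 4, 3, 1, 0, 4, 3, 4, 3, 1, 0, 1, 3]), (210, false, [0, 1, 0, 1, 3, 1, 3, 4, 0, 4, 3, 4, 0, 4, 3]), (210, true, [0, 1, 0, 1, 3, 4, 0, 1, 3, 1, 0, 1, 0, 1]), (180, false, [2, 0, 4, 0, 1, 3, 4, 3, 4, 0, 4, 0, 1, 3, 4, 3]), (180, false, [2, 0, 1, 3, 1, 3, 4, 0, 4, 0, 4]), (178, true, [0, 2, 4, 0, 1, 0, 1, 3, 1, 3, 1, 0, 4, 0, 4, 3, 4, 3]), (141, false, [1, 3, 4, 0, 4, 3, 1, 0, 1, 0, 1, 3, 1, 3, 1, 0, 4]), (210, false, [2, 0, 1, 3, 4,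 3, 4, 3, 1, 0, 4, 3]), (25, true, [1, 0, 4, 0, 4, 0, 1, 3, 1, 3, 4, 3, 4, 3]), (44, true, [0, 1, 3, 1, 0, 4, 3, 4, 0, 4, 3]), (44, true, [0, 4, 3, 4]), (176, false, [1, 0, 1, 3, 1, 3, 1, 3, 4, 0, 4, 3, 4]), (9, false, [1, 0, 1, 3, 4, 0, 1, 3, 1, 0, 1, 0, 1])]
def r19 : List (ℕ × Bool × List ℕ) := [(225, true, [1, 3, 1, 0, 1, 0, 4, 3, 4, 0, 4, 0]), (187, false, [2, 0, 4, 3, 4, 3, 4, 3, 4, 0, 4, 0, 4]), (219, true, [4, 3, 4, 3, 1, 0, 1, 0, 4, 0, 4, 0, 4, 0]), (66, false, [2, 0, 4, 3, 4, 3, 4, 0, 4, 3, 1, 3]), (196, false, [3, 1, 3, 1, 0, 4, 3, 4, 0]), (49, true, [1, 0, 4, 0, 4, 3, 4, 0, 1, 0, 1, 0, 4, 3, 4]), (225, false, [1, 0, 4, 3, 1, 3, 4, 0, 4, 0, 4, 0, 1, 3, 1]), (85, true, [4, 0, 1, 3, 4, 0, 4, 3, 4, 3, 4, 0, 4,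 0]), (68, false, [1, 0, 2, 4, 0, 4, 3, 1, 0, 1, 0, 4, 0]), (70, false, [3, 4, 3, 1, 0, 1, 3, 4, 3, 4, 0, 1, 0]), (221, true, [1, 2, 0, 4, 0, 4, 0, 4, 0, 4, 0, 4]), (196, false, [1, 0, 4, 3, 4, 0, 4, 3, 4, 0, 4]), (183, false, [2, 0, 4, 3, 4, 0, 1, 0, 4]), (244, false, [3, 4, 0, 4, 3, 4, 0, 4, 3, 4, 3, 4, 0, 1, 0]), (236, false, [0, 1, 0, 2, 4, 0, 4, 3, 4, 0, 4, 0]), (245, false, [2, 0, 4, 0, 4, 3, 4, 3, 1, 0, 4, 3]), (253, true, [4, 0, 4, 3, 1, 3, 1, 0, 1, 0, 1, 3, 1, 3, 1]), (170, false, [3, 1, 0, 1, 0, 4, 3, 4, 0, 4, 0, 1, 0]), (49, true, [3, 1, 3, 1, 0, 4, 0, 4, 3, 4, 0, 1, 0, 4]), (172, false, [0, 1, 2, 0, 1, 3, 4, 0, 4, 3, 4, 0, 4, 0]), (237, true, [4, 3, 4, 3, 4, 0, 1, 3, 1, 0, 1, 3, 1, 3]), (183, false, [0, 1,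 3, 4, 0, 4, 0, 4, 0, 1, 3]), (183, false, [1, 0, 4, 0, 1, 3, 1, 0, 1, 0, 1, 3, 1, 3, 1, 3]), (42, true, [1, 0, 1, 0, 1, 3, 1, 3, 1, 0, 4, 3, 4, 0, 4]), (270, true, [1, 0, 1, 3, 1, 0, 4, 0, 1]), (188, false, [1, 0, 4, 3, 1, 0, 1, 0, 4, 3]), (19, true, [0, 1, 0, 1, 3, 4, 3, 1, 0, 4, 3, 4, 3, 4, 0]), (17, true, [3, 1, 0, 1, 3, 1, 3, 4, 0, 1, 0, 1]), (198, true, [1, 0, 2, 4, 3, 1, 0, 1]), (245, false, [2, 4, 0, 4, 3, 1, 3, 4, 0, 4, 0, 4]), (253, true, [0, 1, 2, 0, 1, 0, 1, 0, 4, 3, 4, 0, 1, 3, 1, 0, 1, 0]), (253, true, [1, 0, 4, 0, 4, 3, 4, 3, 1, 0, 1, 0, 1, 0]), (190, false, [0, 2, 4, 0, 1, 0, 4, 3, 4, 0, 1, 0, 1, 3, 4]), (183, false, [2, 0, 4, 0, 1, 3, 1, 0, 1, 0, 4, 0]), (69, false, [1, 2, 0, 4, 3]), (152, false, [0,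 2, 4, 0, 4, 0, 4, 0, 4, 3, 4, 0, 1, 3]), (183, false, [4, 3, 4, 3, 1, 0]), (71, false, [1, 0, 1, 0, 1, 3, 4, 3, 4, 3, 1, 0]), (187, false, [2, 4, 3, 1, 0, 4, 3, 4, 0, 4, 3, 1, 3]), (81, true, [0, 1, 0, 4, 3, 4, 0, 4, 0, 4, 3, 1, 3, 4]), (19, true, [0, 1, 0, 1, 3, 4, 3, 1, 0, 4, 3, 4, 3, 4, 0]), (150, true, [2, 4, 3, 1, 0, 4, 3, 4, 3, 1, 0, 4, 3]), (58, true, [0, 2, 4, 0, 4, 3, 4, 3, 4, 0, 4]), (58, true, [0, 1, 2, 0, 1, 3, 1, 3, 1, 3, 4, 0, 4, 3, 1, 3, 1, 0]), (30, false, [1, 0, 4, 0, 4, 0, 4, 3, 4, 0, 1, 0, 4]), (72, false, [2, 0, 1, 0, 1, 3, 1, 3, 4, 3, 4, 0, 1, 3, 4, 0]), (165, true, [0, 4, 0, 1, 0, 1]), (19, true, [4, 0, 1, 0, 1, 0, 4, 0, 4, 0, 1]), (43, true, [2, 4, 0, 1, 0, 1, 0, 4, 0, 4, 0, 1]), (277, false, [2,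 0, 1, 3, 4, 3, 4, 0, 1, 3, 1, 0, 1, 3, 1]), (170, false, [1, 0, 1, 0, 1, 3, 4, 0, 4, 3, 1, 0, 4, 0, 4]), (225, false, [4, 0, 4, 3, 4, 3, 4, 0, 1, 3, 1, 3, 1, 0, 1, 3]), (190, true, [0, 1, 0, 1, 2, 0, 1, 0, 1, 3, 4, 0, 4, 0, 4, 3, 1, 0]), (21, false, [2, 4, 3, 4, 3, 1, 0, 4, 0, 4, 3, 1]), (75, true, [2, 0, 1, 0, 1, 3, 1, 3, 4, 0, 4]), (63, true, [0, 4, 3, 1, 3, 1, 0, 1, 3, 1, 3, 1]), (158, true, [2, 0, 1, 3, 4, 3, 4, 0, 4, 3, 1, 3, 1, 3, 4, 3]), (221, true, [2, 4, 3, 4, 0, 4, 3, 1, 0, 1, 0, 1, 0, 4, 3, 4]), (27, true, [0, 1, 3, 1, 3, 1, 0, 4, 3, 1, 3, 4, 0, 4, 0]), (150, true, [2, 4, 3, 4, 3, 4, 0, 4, 3, 1, 3, 4, 0, 4, 0, 4]), (85, true, [0, 4, 0, 1, 0, 1, 3, 1, 0, 1, 3, 1, 3, 4, 3, 4]), (281, false, [0, 1, 0, 1, 0, 2,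 4, 0, 1, 3, 1, 0, 4, 0, 4, 3]), (54, false, [0, 1, 3, 1, 3, 4, 0, 4, 0, 4]), (165, true, [2, 0, 4, 3, 4, 0, 1, 3, 1, 0, 1]), (72, true, [0, 1, 3, 1, 0, 1, 0, 1, 3, 1, 3, 1, 3, 4]), (42, true, [1, 0, 1, 0, 4, 3, 4, 0, 4, 3, 1, 0, 1]), (72, true, [0, 4, 3, 4, 0, 1, 3, 1, 3, 1, 3, 4, 0, 1, 0, 1, 3]), (24, true, [2, 4, 3, 4, 0, 1, 3, 1, 0, 1, 3, 4, 3, 4]), (71, false, [1, 0, 1, 0, 4, 3, 4, 0, 4, 0, 4, 0, 1, 3]), (237, true, [1, 0, 4, 0, 4, 0, 1, 3, 1, 0, 4, 0, 4]), (278, true, [1, 0, 1, 0, 4, 0, 4, 3, 4]), (154, false, [2, 0, 1, 0, 1, 3, 4, 0, 4, 0, 1, 3, 1, 0, 4, 3, 1]), (158, true, [0, 1, 2, 0, 4, 0, 4, 3, 4, 3, 4, 0, 4, 0]), (281, false, [1, 0, 1, 0, 1, 0, 4, 3, 4, 3, 1]), (183, false, [0, 1, 3, 4, 0, 4, 3, 1, 3]), (24,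 true, [0, 1, 2, 0, 4, 3, 4, 0, 4, 0, 1, 3, 4, 3, 4, 0]), (21, false, [0, 1, 3, 4, 0, 4, 3, 4, 3, 1, 0, 4, 0, 4, 3]), (227, false, [0, 2, 4, 0, 1, 3, 1, 0, 4, 0, 4, 3, 4, 3]), (43, true, [0, 1, 0, 1, 0, 4, 0, 4, 0, 4]), (72, false, [2, 4, 3, 4, 3, 4, 0, 4, 0, 4, 0, 4, 3, 1, 3, 1]), (63, true, [1, 3, 4, 3, 4, 3, 4, 3, 1, 0, 1, 3, 4, 3]), (70, false, [1, 3, 1, 0, 4, 3, 4, 0, 1, 0, 1, 3, 4, 3]), (219, true, [0, 1, 0, 4, 3, 1, 3, 4, 0, 4]), (152, false, [2, 0, 4, 0, 1, 3, 1, 3, 4, 3, 4, 0, 4, 0]), (263, true, [0, 1, 2, 0, 1, 0, 1, 0, 4, 3, 4, 0, 1, 3, 1]), (75, true, [0, 4, 0, 1, 0, 1, 0, 4, 3, 4, 0, 1, 0, 1, 0]), (69, false, [1, 0, 2, 4, 0, 4, 3, 1, 0, 1, 0, 4, 0]), (263, true, [2, 0, 4, 0, 4, 0, 1, 3, 4, 3, 4, 0, 1]), (154,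 false, [0, 2, 4, 3, 4, 0, 1, 0, 1, 3, 4, 3, 1, 0, 1, 0]), (278, true, [4, 3, 1, 3, 1, 3, 1, 0, 1, 0, 1]), (225, true, [0, 1, 0, 1, 0, 4, 3, 4, 3, 4, 3, 4, 0]), (66, false, [2, 4, 0, 4, 3, 1, 3, 1, 0, 4, 3, 4, 0, 1]), (253, true, [2, 4, 3, 1, 3, 4, 0, 4, 3, 4, 3, 4]), (30, false, [0, 1, 0, 2, 4, 0, 1, 3, 1, 3, 1, 0, 4]), (190, true, [2, 4, 0, 4, 3, 1, 0, 1, 0, 1, 3, 1, 3]), (190, false, [2, 0, 4, 0, 4, 3, 4, 0, 1, 3, 1, 3, 4, 0, 1]), (244, false, [0, 1, 0, 1, 0, 1, 0, 4, 0, 4, 3, 4, 0]), (270, true, [0, 1, 0, 4, 0, 4, 3, 1, 0, 1, 3, 1, 0, 1, 0, 4]), (68, false, [1, 2, 0, 4, 3]), (172, false, [2, 0, 1, 0, 4, 3, 4, 0, 1, 0, 1, 0, 1, 3, 1]), (153, false, [2, 0, 4, 0, 1, 3, 4, 3, 4, 0, 4, 0, 1, 3, 4, 0]), (153, false, [2,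 0, 1, 0, 1, 0, 4, 3, 4, 3, 4]), (192, false, [2, 0, 1, 0, 1, 0, 4, 0, 4, 0]), (192, false, [1, 0, 1, 2, 0, 4, 0, 4, 3, 1, 0, 1, 0, 1]), (236, false, [1, 0, 1, 2, 0, 4, 0, 1, 3, 4, 0, 4, 0, 1, 3]), (188, false, [4, 0, 4, 3, 4, 0, 1, 3, 1, 3, 4, 0]), (81, true, [2, 4, 3, 4, 0, 1, 3, 1]), (277, false, [0, 2, 4, 3, 4, 3, 4, 0, 1, 3, 1, 0, 4, 0, 4]), (273, false, [4, 0, 1, 0, 4, 3, 4, 0, 1, 3, 1, 3, 1, 0, 1]), (273, false, [2, 4, 0, 1, 0, 4, 3, 4, 3, 4, 3, 1, 0, 4]), (198, true, [4, 3, 4, 3, 4, 3, 4, 0, 1, 0, 1, 3, 1, 3]), (31, false, [0, 1, 0, 1, 0, 4, 0, 4, 0, 4])]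
def r20 : List (ℕ × Bool × List ℕ) := [(7, false, [0, 4, 0, 1, 0, 1, 0, 4, 0, 4, 0, 4, 3, 1]), (115, false, [3, 4, 3, 4, 0, 4, 0, 4, 3, 4, 3, 4, 0, 1, 3]), (198, true, [2, 0, 4, 3, 4, 0, 1, 0, 1, 3, 1, 0, 1]), (86, true, [0, 1, 0, 2, 4, 0, 4, 0, 1, 3, 1, 3, 1, 0, 1, 0]), (125, false, [0, 4, 0, 4, 3, 1, 3, 1, 0, 1, 0, 4, 3, 1, 3, 1, 0]), (132, true, [1, 0, 4, 3, 4, 0, 1, 0, 1, 3, 4, 0]), (180, true, [2, 4, 0, 4, 0, 4, 3, 1, 0, 1, 0]), (176, true, [1, 0, 4, 3, 1, 3, 4, 0, 4, 3, 1, 0, 1, 3, 1]), (280, false, [0, 2, 4, 0, 4, 0, 1, 3, 4, 0, 4, 0, 1, 3, 4]), (80, true, [2, 0, 1, 3, 1, 3, 1, 0, 1, 0, 4, 0, 4, 0, 4]), (225, false, [3, 4, 0, 1, 0, 1, 3, 1]), (105, true, [0, 4, 0, 4, 0, 1, 3, 1, 3, 4, 0]), (233, false, [2, 0,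 1, 3, 1, 3, 4, 0, 4, 3, 1, 3, 1, 3, 4]), (269, false, [0, 4, 0, 4, 3, 4, 3, 1, 0, 1, 3, 1, 3]), (204, false, [2, 4, 3, 4, 3, 1, 0, 4, 0, 4, 3, 1, 3]), (225, true, [0, 1, 0, 4, 3, 4, 0, 1, 3, 4]), (179, true, [1, 2, 0, 4, 3, 4, 0, 1, 0, 1, 0, 4, 0, 4]), (64, false, [1, 0, 1, 2, 0, 4, 3, 1, 3, 1, 3, 1, 3, 4, 0, 1]), (193, false, [2, 4, 0, 1, 0, 1, 0, 1, 0, 4, 3]), (257, false, [2, 0, 4, 0, 4, 0, 4, 3, 4, 3, 4, 0, 1, 0]), (154, false, [2, 0, 1, 0, 1, 0, 1, 0, 1, 3, 1, 3, 1, 0, 4, 3, 4]), (214, false, [4, 3, 4, 0, 1, 0, 1, 0, 4, 0, 4, 3, 4, 0, 4]), (127, false, [2, 4, 0, 4, 3, 4, 3, 1, 0, 1, 0, 1, 3, 1, 0, 4]), (120, false, [0, 1, 0, 1, 3, 1, 3, 1, 3, 1, 0, 4, 0]), (94, true, [4, 3, 1, 3, 1, 3, 4, 3, 4]), (191, true, [0,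 2, 4, 0, 1, 0, 1, 0, 4, 0, 4, 0, 4, 3, 4, 0, 1]), (275, false, [2, 4, 0, 1, 3, 1, 0, 4, 3, 1, 0, 1]), (175, false, [1, 2, 0, 1, 0, 1, 0, 4, 0, 4, 0]), (179, true, [3, 1, 3, 4, 0, 4, 0, 1, 3, 1, 3, 1, 0]), (167, true, [4, 0, 1, 0, 1, 0, 4, 3, 4, 0, 1, 0, 1, 3, 1]), (219, true, [2, 4, 3, 4, 3, 1, 0, 1, 3, 4, 3, 4, 0, 4, 0]), (178, false, [1, 3, 4, 0, 4, 0, 1, 3, 1, 3, 1, 3, 1, 0, 4, 3, 1]), (270, false, [0, 1, 2, 0, 4, 3, 1, 3, 1, 0]), (214, false, [4, 0, 1, 3, 1, 3, 1, 0, 1, 0, 1, 0]), (115, true, [2, 4, 3, 1, 3, 1, 0, 4, 3, 1, 3, 1]), (178, false, [2, 4, 3, 4, 3, 4, 3, 4, 0, 1, 3, 1, 0, 1]), (57, false, [0, 2, 4, 0, 4, 0, 4, 3, 4, 3, 4, 0, 4, 0, 1, 3, 4, 3]), (185, false, [1, 3, 1, 3, 1, 3, 1, 0, 1, 0, 1, 3, 1, 3]),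 (234, false, [1, 2, 0, 1, 3, 4, 0, 1, 3, 1, 3, 4]), (132, false, [0, 2, 4, 0, 4, 3, 1, 3, 1, 0]), (53, true, [2, 0, 1, 3, 1, 0, 4, 3, 1, 3, 1, 0, 4, 3, 1]), (71, false, [1, 2, 0, 4, 3, 1, 3, 1, 0, 1, 0, 1, 3, 1, 3]), (7, false, [0, 4, 0, 1, 0, 1, 0, 4, 0, 4, 0, 4, 3, 1]), (127, false, [1, 3, 1, 0, 1, 3, 1, 0, 4, 3]), (250, true, [3, 4, 0, 1, 0, 1, 3, 4, 0, 1, 0, 1, 3, 4, 0]), (57, false, [3, 4, 3, 4, 3, 1, 0, 1, 0, 1, 0, 1, 0]), (24, false, [0, 4, 3, 4, 0, 4, 0, 4, 0, 4, 3, 1, 3]), (9, true, [0, 1, 3, 1, 3, 1, 0, 1, 3, 4, 0, 4, 3, 1]), (15, true, [1, 3, 4, 3, 4, 0, 4, 3, 1, 3, 4]), (214, false, [2, 0, 1, 0, 1, 0, 4, 0, 4, 3, 4, 3, 4, 0, 1, 3, 4]), (191, false, [4, 3, 4, 0, 4, 0, 1, 3, 1, 0, 4, 3, 1, 0]), (20, false,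 [1, 3, 4, 0, 1, 0, 1, 0, 4, 0, 4, 0]), (135, false, [0, 1, 3, 1, 3, 1, 0, 1, 3, 4, 0, 4]), (269, true, [1, 0, 4, 0, 4, 3, 1, 3, 1, 0, 4, 0, 4, 3]), (234, true, [1, 0, 4, 0, 4, 3, 1, 3, 1, 3, 4, 3, 4, 0]), (230, false, [0, 1, 0, 1, 2, 0, 4, 0, 4, 0, 4, 3, 1]), (105, false, [2, 4, 0, 1, 0, 1, 3, 1, 0, 4, 3, 1, 0]), (75, false, [0, 1, 2, 0, 1, 0, 1, 0, 4, 0, 4, 0, 4, 0, 4]), (35, true, [1, 3, 1, 0, 1, 3, 1, 0, 4, 3, 4, 0, 4]), (24, false, [1, 2, 0, 1, 0, 4, 3, 4, 3, 1, 0]), (234, true, [0, 2, 4, 0, 4, 0, 1, 3, 4, 0, 4, 0, 4, 3, 1]), (124, true, [0, 1, 3, 4, 3, 1, 0, 1, 0, 4, 3, 4, 3, 4, 3, 1]), (49, false, [3, 4, 0, 4, 3, 4, 0, 1, 0, 1, 3, 1, 0, 1]), (71, false, [3, 4, 3, 1, 3, 1, 3, 4, 0, 4, 3, 1, 3, 4, 0]), (75, false,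 [3, 1, 0, 1, 0, 1, 0, 4, 0, 4, 0, 4, 0, 4]), (20, true, []), (225, false, [0, 1, 0, 1, 2]), (20, false, [0, 4, 3, 4, 0, 4, 3, 1, 3, 1, 0, 1, 3, 1]), (94, false, [1, 0, 4, 3, 4, 0, 4, 3, 1, 0, 1]), (154, false, [1, 0, 4, 3, 4, 3, 1, 0, 4, 3, 4, 0, 4]), (221, true, [0, 1, 0, 1, 3, 1, 3, 1, 3, 1, 0, 4, 0]), (7, false, [2, 0, 4, 0, 1, 0, 1, 0, 4, 0, 4, 3, 1, 0, 1, 3, 1]), (125, false, [0, 1, 0, 1, 2, 0, 1, 3, 1, 0, 4, 3, 4, 3, 4, 3, 4]), (237, false, [2, 0, 1, 3, 1, 3, 4, 0, 4, 3, 4, 3, 4, 0, 1, 0, 1]), (7, false, [2, 0, 4, 0, 1, 0, 1, 0, 4, 0, 4, 3, 1, 0, 1, 3, 1]), (215, true, [3, 1, 3, 4, 3, 4, 0, 1, 3, 1, 0, 1]), (269, true, [0, 1, 2, 0, 1, 3, 1, 3, 1, 0, 4]), (30, false, [1, 3, 4, 3, 4, 0, 1, 3, 1, 3, 4, 0]), (103,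 true, [3, 4, 0, 1, 0, 1, 0, 4, 0, 4, 3]), (214, false, [0, 1, 0, 1, 2, 0, 1, 3, 4, 0, 1, 0, 1]), (204, true, [4, 3, 4, 0, 4, 3, 1, 0, 1, 0, 4]), (80, true, [1, 3, 4, 3, 1, 0, 1, 3, 4, 0]), (232, false, [3, 1, 0, 1, 3, 1, 0, 1, 3, 1, 3, 1, 3, 4]), (178, false, [3, 4, 3, 4, 0, 4, 0, 4, 3, 1, 0, 4, 0, 4, 0, 1]), (124, true, [0, 1, 2, 0, 4, 0, 1, 3, 4, 0, 4, 0, 1, 0]), (176, true, [0, 4, 0, 4, 3, 4, 3, 4, 0, 4, 0, 4, 3, 4, 3]), (234, false, [0, 4, 3, 1, 0, 1, 0, 4, 0, 4, 3]), (237, false, [1, 3, 1, 3, 1, 3, 1, 0, 1, 0, 1, 3, 1, 3, 1]), (66, true, [0, 1, 0, 1, 3, 4, 0, 1, 3, 1, 3, 1, 3, 1]), (86, true, [3, 4, 0, 1, 3, 1, 3, 1, 0, 1, 0]), (66, true, [2, 0, 1, 0, 4, 3, 4, 3, 1, 0, 4, 0, 4]), (221, true, [1, 0, 2, 4, 0, 4, 3,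 4, 0, 4, 0, 4, 0, 1, 3, 4]), (219, true, [1, 3, 1, 0, 1, 3, 4, 3, 4, 0, 4, 0]), (102, false, [0, 4, 3, 4, 0, 4, 0, 4, 3, 4, 3, 4, 3]), (139, false, [0, 4, 3, 1, 3, 1, 0, 4, 3, 1]), (270, false, [4, 0, 1, 0, 4, 3, 1, 3, 1, 0, 4, 0, 4, 3, 4]), (269, false, [2, 4, 0, 1, 0, 1, 0, 1, 3, 1, 3, 1, 0, 1, 0, 1]), (168, true, [0, 1, 2, 0, 1, 0, 1, 3, 1, 3, 4, 3]), (121, true, [0, 4, 0, 4, 0, 4, 0, 4, 3, 4, 3, 1]), (257, false, [2, 0, 4, 0, 1, 0, 1, 3, 1, 0, 4, 0, 4, 0, 1, 0]), (191, false, [2, 4, 3, 4, 3, 4, 3, 1, 0, 1, 3, 4, 3]), (64, false, [0, 1, 0, 4, 0, 4, 3, 1, 0, 1, 0, 1, 0, 4, 3]), (20, false, [1, 0, 4, 3, 1, 0, 4, 0, 4, 3, 1, 0]), (180, true, [3, 1, 3, 1, 3, 1, 0, 1, 0, 1, 3, 1, 3, 1, 0, 1]), (55, true, [2, 0, 4, 3, 4,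 0, 4, 3, 4, 3, 1, 0, 1]), (191, true, [0, 4, 3, 4, 3, 1, 0, 4, 0, 4, 0, 4, 3, 4]), (193, true, [0, 4, 3, 4, 3, 4, 0, 4, 0, 4, 3, 1, 0, 1, 0]), (233, false, [1, 0, 4, 3, 1, 3, 1, 0, 1, 3, 1, 0]), (225, true, [0, 2, 4, 3, 4, 3, 1, 0, 1, 3, 1, 3, 4, 0, 1, 0]), (167, true, [2, 4, 3, 4, 0, 4, 0, 4]), (178, false, [0, 2, 4, 0, 4, 0, 1, 3, 1, 0, 1, 3, 1, 0, 4, 0]), (175, true, [3, 4, 0, 4, 3, 4, 0, 4, 3, 4, 3])]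
def r21 : List (ℕ × Bool × List ℕ) := [(171, false, [1, 0, 1, 0, 1, 2, 0, 4, 0, 1, 3, 1, 0, 1, 0, 1]), (85, false, [0, 1, 0, 1, 3, 1, 3, 4, 0, 4, 0, 1]), (208, true, [0, 1, 0, 1, 3, 4, 3, 1, 0, 4, 3, 4, 0, 4, 3]), (94, true, [0, 2, 4, 0, 1, 3, 1, 3, 1, 3, 1, 0, 4, 0]), (256, true, [0, 1, 0, 4, 0, 4, 3, 4, 0, 1, 0]), (218, true, [1, 0, 1, 0, 2, 4, 0, 4, 3, 4, 0, 1, 3]), (179, false, [2, 4, 3, 1, 3, 1, 0, 1, 0, 4, 3, 1, 0]), (67, false, [0, 1, 2, 0, 4, 3, 1, 3, 1, 3, 1, 0, 4, 3, 1]), (58, true, [0, 2, 4, 0, 1, 0, 1, 3, 4, 0, 1, 3, 1, 3, 4, 0, 1]), (167, false, [1, 2, 0, 4, 0, 1, 3, 1, 0, 4, 3, 1, 3]), (70, true, [1, 2, 0, 4, 3, 4, 3, 4, 0, 4, 3, 1, 0, 4]), (256, true, [3, 1, 0, 4, 3, 4, 0, 4, 0, 4, 3, 4, 3, 4]), (141,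 false, [0, 4, 0, 1, 3, 1, 3, 1, 0, 1, 0, 1, 0]), (179, false, [0, 1, 0, 1, 3, 4, 3, 1, 0, 1, 3, 1, 3, 1, 3, 1]), (80, true, [0, 2, 4, 3, 4, 0, 1, 3, 1, 3, 1]), (253, false, [0, 1, 3, 4, 0, 4, 3, 4, 3, 4, 0, 1, 0, 1]), (281, true, [4, 0, 1, 3, 4, 3, 4, 0, 4, 0, 1, 3, 1, 3]), (66, true, [1, 3, 1, 0, 4, 0, 4, 3, 4, 0, 1, 0, 1, 0, 1]), (218, true, [0, 1, 0, 1, 2, 0, 1, 0, 1, 0, 4, 0, 4, 0, 4, 3, 1]), (79, true, [0, 1, 3, 4, 0, 1, 0, 1, 3, 1, 0, 4, 0, 4]), (269, false, [3, 4, 3, 1, 0, 1, 0, 4, 0, 4, 3, 4, 0]), (88, false, [4, 0, 4, 3, 1, 0, 1, 3, 1, 3, 1, 3, 4]), (96, true, [0, 4, 0, 4, 0, 4, 3, 1, 0, 1, 3, 1, 0]), (24, false, [2]), (214, false, [0, 4, 3, 1, 0, 1, 3, 4, 0, 4]), (157, true, [0, 2, 4, 0, 1, 3, 1, 3, 4, 0, 4,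 3, 1]), (23, false, [0, 1, 3, 4, 3, 4, 0, 1, 3, 1, 3, 4]), (25, false, [1, 3, 1, 0, 1, 3, 4, 0, 4, 3, 4, 0, 4, 0]), (152, true, [4, 3, 1, 0, 1, 3, 1, 3, 1, 0, 4, 3, 4, 0]), (253, false, [0, 4, 3, 1, 3, 1, 3, 4, 0, 4, 3, 1, 3, 1, 3]), (214, true, [0, 1, 0, 1, 0, 2, 4, 0, 4, 3, 4, 3, 1, 0, 1, 0, 1, 0]), (281, true, [1, 3, 4, 0, 4, 3, 4, 0, 1, 0, 1, 3, 4, 3]), (158, true, [2, 0, 4, 0, 4, 3, 4, 3, 4, 3, 4, 0, 1, 0, 4]), (141, false, [3, 1, 0, 1, 0, 4, 3, 1, 0, 1, 3, 1]), (278, false, [0, 1, 0, 4, 3, 4, 0, 4, 0, 1, 3, 4, 0]), (70, true, [0, 1, 3, 1, 0, 1, 0, 4, 3, 4, 0, 4, 3]), (88, false, [3, 4, 3, 1, 0, 1, 3, 1, 0, 1, 0, 1, 3, 1]), (63, false, [4, 0, 1, 3, 1, 0, 1, 0, 1, 0, 4]), (85, false, [4, 3, 1, 0, 4, 3, 4, 0, 1, 3,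 1, 3, 1, 3, 1]), (67, true, [2, 0, 4, 0, 1, 3, 1, 3, 1, 0, 1, 3, 1, 0, 1, 3, 1]), (17, false, [1, 0, 1, 3, 4, 3, 1, 0, 4, 3, 4, 3, 4, 0, 4]), (128, false, [2, 0, 1, 0, 4, 3, 4, 3, 4, 0, 1, 3, 1, 3, 1, 0, 1]), (96, false, [4, 3, 1, 0, 1, 3, 1, 0, 1, 3, 4, 3, 4]), (96, false, [0, 1, 0, 1, 3, 4, 3, 1, 0, 4, 0, 4, 3, 4, 0, 1]), (221, false, [0, 1, 3, 4, 3, 1, 0, 4, 0, 4, 3, 4, 3, 4]), (62, false, [0, 4, 3, 1, 0, 4, 0, 4, 0, 4, 0, 1, 0]), (188, true, [1, 3, 4, 3, 4, 0, 1, 0, 1, 3, 1, 3, 1, 0, 4, 3]), (227, true, [3, 1, 3, 4, 0, 1, 0, 1, 0, 1, 0]), (54, true, [0, 1, 3, 4, 3, 4, 0, 4, 3, 1, 0]), (77, true, [4, 3, 1, 0, 1, 0, 4, 3, 4, 3, 4, 3, 1]), (66, true, [3, 4, 3, 1, 3, 1, 0, 1, 3, 4, 3, 4, 3, 4]), (179, false, [2, 4, 0,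 1, 0, 4, 3, 4, 0, 4, 0, 4, 3, 1, 0]), (179, false, [3, 4, 3, 4, 0, 1, 3, 1, 3, 1, 3, 4, 0, 1, 0, 4]), (24, false, [1, 0, 1, 2, 0, 4, 3, 1, 3, 1, 0, 4, 3, 1]), (277, true, [4, 3, 1, 3, 4, 0, 4, 0, 1, 3, 1, 0, 4, 0, 1]), (198, false, [1, 0, 1, 3, 4, 3, 4, 0, 4, 3, 1, 0, 4]), (255, true, [0, 1, 3, 1, 3, 1, 0, 1, 0, 1, 3, 4, 0]), (70, true, [0, 1, 2, 0, 1, 0, 4, 3, 1, 3, 4, 0, 4, 0, 4, 0, 4]), (31, true, [0, 1, 0, 1, 3, 1, 3, 1, 3, 4, 3, 4, 3, 4, 0, 4]), (128, false, [0, 2, 4, 0, 1, 0, 1, 0, 1, 3, 1, 3, 1, 0, 1, 0]), (67, false, [0, 2, 4, 0, 1, 3, 1, 0, 1, 0, 1, 3, 1, 0]), (212, false, [1, 2, 0, 1, 3, 1, 3, 1, 3, 1, 0, 1, 0, 4, 3]), (21, true, [4, 0, 1, 0, 1, 0, 4, 0, 4, 0, 1]), (188, true, [1, 3, 1, 3, 1, 0, 1, 0, 1, 0,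 1, 3, 4, 3, 1, 0]), (30, true, [1, 0, 1, 3, 1, 3, 4, 0, 4, 0, 4, 3, 4, 0, 1, 3]), (19, false, [2, 4, 3, 1, 0, 1, 0, 4, 3, 1, 3, 1]), (30, true, [1, 0, 2, 4, 0, 1, 3, 4, 3, 4, 3, 4]), (19, false, [0, 1, 3, 1, 3, 4, 0, 1, 0, 1, 3, 1, 0, 4, 3]), (63, false, [2, 0, 4, 3, 4, 0, 4, 3, 1, 3, 4, 0, 1, 3]), (269, false, [3, 4, 3, 1, 0, 4, 3, 4, 0, 4, 0, 4, 3, 4, 0, 4]), (154, true, [1, 0, 2, 4, 0, 4, 3, 4, 0, 1, 3, 4]), (266, true, [3, 1, 3, 1, 0, 1, 0, 4, 3, 4, 3, 4, 3, 4, 3]), (255, true, [4, 3, 4, 3, 1, 0, 1, 3, 1, 3, 1, 3, 4, 3, 4]), (212, false, [1, 2, 0, 4, 3, 4, 0, 4, 3, 1, 0, 1, 0, 4]), (96, true, [1, 0, 1, 3, 1, 0, 4, 3, 4, 3, 1]), (42, false, [0, 1, 0, 1, 0, 2, 4, 0, 4, 3, 1, 3, 1, 3, 1, 0, 1, 0]), (42, false, [1, 0,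 1, 2, 0, 4, 3, 1, 3, 1, 0, 4, 3, 1]), (23, false, [2, 4, 3, 4, 0, 1, 3, 1, 0, 1, 3, 4, 3, 4]), (21, true, [0, 1, 0, 1, 3, 1, 0, 1, 3, 4, 0, 4, 3, 4]), (62, false, [0, 1, 2, 0, 1, 0, 4, 0, 4, 0, 1, 3, 1, 3, 1]), (198, false, [1, 0, 2, 4, 0, 1, 3, 1, 0, 1, 0, 4, 3, 4]), (167, false, [1, 0, 4, 3, 4, 3, 1, 0, 1, 3, 4]), (208, true, [4, 0, 4, 0, 4, 0, 4, 3, 1, 3, 4, 0, 1, 3]), (70, true, [4, 0, 1, 3, 1, 0, 4, 3, 4, 3, 4, 3, 4, 0, 4, 3]), (71, true, [2, 4, 0, 4, 3, 4, 0, 4, 3, 4, 0, 4, 0]), (277, true, [3, 1, 3, 1, 3, 1, 0, 4, 0, 4, 3]), (278, false, [0, 1, 0, 4, 3, 1, 0, 1, 0, 4, 3, 1]), (71, true, [1, 2, 0, 1, 3, 1, 0, 4, 0, 4, 0, 1, 3, 1, 0, 4, 0]), (266, true, [1, 0, 1, 0, 2, 4, 0, 4, 0, 1]), (154, true, [2, 4, 0, 1, 0,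 1, 0, 4, 3, 4, 0, 1, 0, 1, 0, 4]), (171, false, [0, 1, 2, 0, 4, 0, 1, 3, 1, 3, 1, 3, 1, 0, 1, 3, 4]), (94, true, [2, 0, 1, 3, 1, 3, 1, 0, 4, 0, 4]), (214, true, [2, 4, 0, 1, 3, 1, 3, 1, 0, 1, 0, 1, 0, 1, 3, 1]), (221, false, [1, 3, 1, 3, 1, 3, 1, 0, 4, 0, 4, 3, 1, 0]), (179, false, [1, 0, 4, 0, 1, 3, 1, 0, 1, 0, 4, 3, 1]), (158, true, [2, 0, 1, 3, 1, 0, 1, 0, 1, 3, 4, 0, 4, 3, 1, 0]), (179, false, [1, 0, 4, 0, 1, 3, 4, 0, 4, 0, 1, 3, 4, 0]), (214, false, [3, 1, 3, 4, 3, 4, 3, 1, 0, 1, 3, 4, 0]), (58, true, [1, 2, 0, 1, 0, 4, 0, 4, 3, 4, 0, 1, 0, 4]), (79, true, [4, 0, 4, 3, 4, 0, 1, 3, 1, 3, 1, 0, 1, 0, 1, 3]), (275, false, [3, 4, 0, 4, 3, 4, 3, 1, 0, 1, 0, 1]), (275, false, [1, 0, 1, 0, 1, 3, 1, 3, 4, 3, 4, 3, 4, 0,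 4, 3]), (135, true, [0, 2, 4, 0, 4, 3, 4, 3, 1, 0, 1, 0, 1, 0, 1, 3]), (135, true, [3, 1, 3, 4, 3, 4, 3, 1, 0, 4, 0, 4, 0, 1]), (80, true, [1, 3, 1, 3, 4, 3, 4, 0, 1, 3]), (157, false, [0, 2, 4, 0, 1, 0, 1, 0, 4, 3, 4, 0, 1, 3, 1, 3]), (67, true, [2, 0, 1, 0, 1, 3, 1, 3, 1, 3, 1, 0]), (77, false, [3, 1, 0, 1, 3, 1, 0, 1, 3, 4, 3, 4, 3, 1, 3]), (219, false, [1, 2, 0, 1, 0, 4, 0, 4, 3, 4, 0, 1, 0, 1]), (219, false, [2, 0, 4, 0, 4, 3, 1, 3, 1, 0, 1]), (152, true, [0, 4, 0, 1, 3, 1, 3, 1, 0, 1, 3, 1, 0, 1]), (21, true, [0, 1, 0, 1, 3, 1, 0, 1, 3, 4, 0, 4, 3, 4])]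
def r22 : List (ℕ × Bool × List ℕ) := [(22, false, [1, 3, 1, 0, 4, 3, 4, 0, 4, 0, 1, 0]), (22, true, []), (118, false, [1, 2, 0, 4, 3, 4, 0, 4, 3, 1, 3, 4, 0, 1]), (103, false, [1, 0, 1, 0, 2, 4, 0, 4, 0, 4, 0]), (155, false, [0, 2, 4, 0, 4, 0, 4, 0, 4, 3, 1, 0]), (210, false, [0, 1, 3, 4, 0, 1]), (260, false, [2, 4, 0, 1, 0, 1, 3, 4, 0, 4, 3, 4, 3]), (210, false, [0, 4, 3, 4, 0, 4, 3, 4, 0, 4, 0, 4]), (260, false, [2, 0, 4, 3, 4, 0, 4, 0, 1, 3, 4, 3, 4, 0, 1, 0, 1]), (132, true, [4, 0, 1, 3, 4, 3, 1, 0]), (66, true, [4, 3, 4, 3, 1, 0, 1, 0, 1, 0, 1, 3, 4, 0, 4]), (155, true, [1, 2, 0, 4, 3, 4, 3, 1, 0, 4, 0, 4]), (113, false, [1, 0, 1, 2, 0, 4, 0, 4, 3, 4, 0, 1, 0]), (234, true, [2, 0, 1, 0, 1, 0, 1, 0, 4, 3, 4, 0,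 1, 0, 1, 3, 1]), (171, false, [2, 0, 4, 0, 1, 0, 1, 0, 1, 0, 1, 0, 1]), (200, false, [2, 0, 4, 0, 4, 3, 1, 3, 4, 0, 4, 0, 1, 3, 1, 3, 4]), (276, false, [2, 4, 0, 4, 3, 1, 0, 1, 0, 1, 3, 1, 3, 1, 0, 4]), (234, true, [2, 0, 4, 3, 1, 0, 4, 3, 4, 0, 1, 0, 1, 3, 1, 0]), (210, true, [0, 1, 0, 4, 3, 4, 0, 1, 3, 4, 3, 4, 3, 4, 3]), (64, false, [1, 0, 1, 3, 1, 3, 1, 0, 4, 3, 4, 0, 4]), (116, false, [1, 0, 1, 0, 1, 2, 0, 1, 0, 1, 3, 4, 0, 1, 3]), (180, true, [1, 3, 1, 3, 1, 3, 1, 3, 1, 0, 1, 0, 4, 3, 4, 0]), (106, false, [1, 2, 0, 1, 0, 4, 0, 4, 0, 4, 3, 4, 0, 1, 3, 1]), (41, true, [0, 1, 0, 1, 0, 1, 0, 1, 0, 1, 0, 1, 0, 1]), (163, false, [3, 4, 3, 4, 0, 4, 0]), (214, false, [1, 0, 4, 3, 4, 3, 1, 0, 1, 3, 4, 0, 4, 3]), (23, true,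 [1, 3, 1, 0, 1, 3, 4, 0, 4, 3, 4, 0, 4, 0]), (25, true, [0, 1, 3, 4, 3, 4, 0, 1, 3, 1, 3, 4]), (199, false, [0, 1, 2, 0, 1, 0, 4, 3, 4, 3, 4, 3, 4, 0]), (200, false, [0, 1, 2, 0, 1, 3, 1, 0, 1, 0, 1, 0, 4, 3, 4, 0]), (225, true, [2, 4, 0, 1, 0, 4, 3, 1, 3, 1, 3, 1, 0, 4, 3, 4]), (276, false, [1, 2, 0, 4, 0, 1, 3, 1, 3, 1, 0, 4]), (191, false, [0, 1, 2, 0, 4, 0, 4, 0, 1, 3, 1, 0, 1, 3, 1, 3]), (113, false, [4, 3, 1, 0, 4, 3, 4, 3, 1, 0, 4, 0, 1]), (180, true, [4, 0, 4, 3, 1, 0, 1, 0, 1, 3, 1, 3, 4, 3]), (106, true, [1, 2, 0, 1, 0, 1, 3, 4, 0, 4, 0, 4]), (180, true, [1, 0, 1, 3, 1, 0, 1, 3, 1, 0, 4, 0, 4, 3, 1]), (235, true, [0, 1, 2, 0, 1, 0, 1, 3, 4, 0, 1, 0, 1, 0, 1, 0, 4]), (22, true, []), (99, true, [1, 3, 4, 3, 4,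 3, 4, 0, 1, 3]), (25, true, [1, 0, 1, 2, 0, 1, 0, 1, 0, 4, 0, 4, 0, 4, 3, 4, 3]), (65, true, [0, 2, 4, 0, 1, 0, 1, 0, 4, 0, 4, 0, 4, 3, 4, 0, 1]), (86, false, [4, 3, 1, 3, 4, 0, 1, 3, 1, 0, 1]), (86, false, [1, 0, 4, 3, 1, 0, 1, 0, 1, 3, 1, 3, 1, 3]), (155, true, [1, 2, 0, 4, 3, 4, 3, 1, 0, 4, 0, 4]), (72, true, [3, 1, 3, 1, 3, 4, 0, 1, 3, 1, 0, 4, 0, 4, 3]), (22, false, [0, 4, 3, 1, 0, 1, 3, 1, 3, 4, 0, 1, 0]), (46, true, [0, 1, 3, 4, 0, 1, 3, 1, 3, 1, 0, 4, 3, 4, 3, 4]), (46, true, [2, 0, 4, 0, 4, 0, 4, 0, 1, 3, 4, 3]), (28, true, [0, 1, 3, 1, 0, 4, 3, 4, 0]), (234, true, [1, 0, 1, 0, 1, 2, 0, 1, 0, 4, 3, 1, 3, 1, 3, 1]), (260, false, [2, 0, 1, 3, 1, 3, 4, 0, 4, 3, 1, 3, 1, 3]), (275, false, [0, 1, 0, 1, 0, 1, 0, 4,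 0]), (41, true, [0, 1, 0, 1, 3, 1, 0, 1, 3, 4, 0, 4, 3, 4]), (261, true, [2, 4, 0, 4, 0, 4, 0, 4, 3, 1, 0, 1, 3, 1, 0, 4]), (277, true, [1, 3, 4, 0, 1, 0, 1, 3, 4, 0, 1, 0, 1, 3, 1]), (274, false, [1, 0, 2, 4, 0, 1, 0, 1, 0, 1, 3, 4]), (66, true, [3, 1, 3, 4, 3, 4, 0, 1, 3, 1, 0, 4, 0, 1]), (22, true, []), (65, true, [0, 1, 0, 1, 0, 2, 4, 0, 4, 3, 4, 0, 4, 3, 1, 3]), (210, true, [0, 4, 0, 4, 0, 4, 3, 4, 3, 4, 0, 1, 3]), (248, false, [1, 0, 1, 0, 2, 4, 3, 4, 0, 1, 3]), (37, false, [1, 0, 1, 3, 1, 3, 1, 3, 4, 3, 4, 3, 4, 0, 4, 0]), (22, false, [3, 4, 3, 1, 0, 4, 0, 4, 3, 4, 0, 1, 3]), (250, false, [0, 4, 0, 1, 0, 1, 3, 4, 0, 1]), (201, true, [4, 3, 4, 0, 1, 3, 1, 3, 4, 0]), (250, false, [1, 0, 1, 0, 1, 3, 4, 3, 4, 0, 1,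 3, 1, 0, 1]), (161, true, [4, 3, 4, 3, 1, 0, 1, 0, 1]), (235, true, [0, 2, 4, 0, 4, 0, 4, 0, 4, 0, 4, 3, 1]), (116, true, [2, 4, 0, 4, 3, 1, 3, 1, 3, 4, 0, 1]), (47, true, [0, 4, 3, 4, 3, 4, 3, 4, 0, 1, 0, 1, 3, 1, 0]), (22, false, [0, 4, 0, 4, 3, 4, 3, 4, 0, 1]), (274, false, [2, 4, 0, 4, 0, 1, 3, 4, 0, 4, 3, 1, 0, 4, 0]), (248, false, [1, 3, 4, 3, 1, 0, 1, 0, 1, 3, 4, 0, 1, 0]), (106, false, [1, 0, 2, 4, 0, 4, 0, 4, 3, 4, 0, 1, 3, 1, 3]), (28, true, [0, 1, 0, 1, 2, 0, 4, 3, 1, 3, 1, 0, 4, 3, 1, 0]), (28, true, [1, 2, 0, 1, 3, 1, 0, 4, 3, 4, 0, 4, 3, 4, 3]), (14, true, [1, 0, 1, 3, 1, 3, 4, 0, 1, 0, 1]), (22, true, [0, 1, 0, 1, 3, 1, 0, 1, 3, 4, 0, 4, 3, 4]), (72, true, [0, 1, 3, 4, 3, 1, 0, 1, 0, 4, 0, 4, 0]), (277,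 true, [4, 3, 4, 0, 1, 0, 1, 3, 4, 3, 4, 0, 1, 0]), (132, true, [1, 3, 4, 3, 4, 0, 1, 0]), (118, false, [1, 0, 1, 0, 4, 3, 4, 0, 1, 0, 1, 0, 4, 3]), (106, true, [2, 0, 4, 0, 1, 3, 4, 3, 1, 0, 1, 3, 4, 0, 1, 3]), (234, true, [2, 4, 3, 1, 0, 1, 3, 1, 3, 1, 0, 4, 3, 4, 0]), (261, true, [0, 1, 2, 0, 1, 0, 1, 0, 1, 3, 4, 0, 4, 3, 1, 0]), (180, true, [4, 0, 4, 0, 1, 3, 4]), (234, true, [2, 0, 4, 0, 1, 3, 1, 3, 1, 0, 1, 3, 1, 0, 1]), (22, false, [4, 3, 1, 0, 1, 0, 1, 3, 1, 3]), (47, true, [4, 0, 1, 0, 4, 3, 1, 0, 1, 0, 4, 0, 4, 3, 4]), (22, false, [0, 1, 0, 1, 0, 4, 3, 1, 0, 4, 0, 4]), (103, false, [1, 2, 0, 1, 0, 4, 3, 4, 3, 4, 3]), (225, true, [1, 2, 0, 1, 0, 1, 0, 1, 3, 4, 3, 1, 0, 1, 3, 1, 3]), (155, false, [0, 2, 4, 0,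 4, 0, 4, 0, 4, 3, 1, 0]), (275, false, [0, 1, 3, 1, 3, 1, 3, 4, 3]), (191, false, [0, 1, 0, 1, 2, 0, 1, 0, 4, 0, 4, 3, 1, 0, 1]), (234, true, [0, 1, 0, 1, 0, 2, 4, 0, 1, 3, 1, 3, 4, 3, 4, 0]), (163, true, [0, 4, 0, 4, 3, 4, 0, 4, 3]), (260, false, [2, 0, 1, 0, 1, 3, 4, 3, 4, 0, 1, 0, 1, 3]), (64, false, [0, 1, 0, 1, 0, 1, 3, 1, 3, 1, 3, 1, 0, 4, 3, 4]), (116, true, [1, 0, 1, 0, 1, 2, 0, 1, 3, 1, 0, 1, 3, 1]), (116, true, [0, 2, 4, 0, 1, 3, 1, 3, 1, 3, 1, 0]), (45, false, [2, 0, 1, 0, 1, 3, 4, 0, 4, 3, 1, 3]), (45, false, [0, 1, 0, 1, 3, 4, 3, 4, 0, 1, 0]), (171, false, [1, 2, 0, 1, 0, 1, 0, 4, 3, 4]), (214, false, [4, 0, 1, 3, 1, 0, 4, 3]), (99, true, [1, 3, 1, 3, 4, 0, 1, 3, 1, 3, 1, 3]), (28, true, [3, 1, 0, 1, 3,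 4, 0, 4, 3]), (41, true, [1, 3, 4, 3, 4, 3, 1, 0, 1, 0, 4, 0, 4]), (41, true, [4, 3, 4, 0, 4, 0, 4, 0, 4, 3, 4, 3, 4, 3]), (199, false, [2, 0, 1, 3, 1, 0, 1, 0, 4, 3, 4, 0, 4, 0]), (22, true, [0, 1, 0, 1, 3, 1, 0, 1, 3, 4, 0, 4, 3, 4])]
def r23 : List (ℕ × Bool × List ℕ) := [(65, false, [0, 2, 4, 3, 4, 3, 1, 0, 1, 0, 4, 3, 4, 3]), (7, true, [0, 1, 2, 0, 1, 3, 4, 0, 4, 3, 4, 3, 4, 0, 1, 0, 1]), (5, false, [3, 1, 0, 1, 0, 4, 0, 4, 3, 4, 3, 4, 3]), (18, false, [2, 0, 4, 0, 1, 3, 1, 3, 4, 3, 4, 0, 4]), (213, true, [3, 1, 0, 4, 3, 1, 3, 4, 0, 4, 0, 4, 0, 4, 3, 4]), (114, true, [2, 4, 3, 1, 0, 1, 0, 1, 0, 1, 3, 1, 0]), (225, false, [2, 4, 3, 1, 3, 4, 0, 4, 3, 4, 3, 4, 0, 1, 3]), (116, false, [0, 1, 2, 0, 1, 0, 4, 3, 1, 0,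 1, 0, 4, 3, 1]), (88, true, [3, 1, 3, 1, 3, 1, 0, 4, 3, 4, 3, 4]), (118, true, [0, 1, 3, 4, 0, 1, 3, 1, 0, 1, 0, 1, 0, 4]), (96, true, [0, 1, 0, 1, 3, 1, 3, 1, 0, 1, 0, 1, 0, 4, 3, 4]), (213, true, [4, 3, 4, 3, 4, 0, 1, 0, 1, 3, 1, 0]), (260, true, [4, 0, 1, 3, 1, 3, 1, 0, 4, 3, 1, 3, 4, 0, 4, 0]), (234, false, [1, 0, 4, 3, 4, 3, 4, 0, 4, 0]), (80, true, [4, 0, 4, 3, 1, 3, 1, 3, 4, 3, 4, 3]), (268, false, [3, 4, 0, 1, 3, 1, 0, 1, 0, 1, 3, 4, 0]), (200, false, [4, 3, 4, 0, 4, 3, 4, 3, 1, 0, 4, 0, 4, 3, 4]), (41, true, [1, 3, 4, 3, 4, 3, 4, 3, 4, 0, 1, 0]), (114, true, [1, 0, 4, 0, 4, 0, 4, 3, 4, 3, 4, 0, 1, 3]), (27, false, [2, 4, 3, 4, 3, 4, 0, 4, 3, 1, 3, 1, 0, 1]), (262, true, [4, 0, 4, 3, 1, 3, 4, 0, 4, 0, 4, 0, 1,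 0]), (167, false, [0, 2, 4, 0, 4, 3, 4, 3, 4, 3, 1, 0, 4, 0, 4, 3]), (220, false, [1, 3, 4, 3, 1, 0, 1, 3, 4, 0, 4, 0, 4, 3, 4, 0]), (42, true, [0, 1, 0, 2, 4, 0, 4, 0, 4, 0, 1, 3, 4, 3, 4, 0, 4, 3]), (102, true, [3, 1, 0, 1, 0, 1, 0, 1, 0, 1, 3, 4]), (109, true, [2, 0, 1, 0, 4, 3, 4, 0, 4]), (25, true, [0, 1, 0, 1, 0, 4, 3, 4, 0, 1, 0, 1, 0, 1, 3, 1, 3]), (22, true, [1, 3, 1, 0, 1, 3, 4, 0, 4, 3, 4, 0, 4, 0]), (213, false, [4, 3, 1, 3, 1, 3, 4, 0, 4, 3, 1, 3, 1, 0, 1]), (268, false, [1, 0, 1, 0, 4, 3, 4, 0, 4, 0, 4, 0, 1, 3, 4]), (254, true, [2, 4, 3, 4, 3, 4, 3, 4, 0, 1, 0, 1, 3, 4]), (200, false, [1, 3, 1, 3, 1, 3, 4, 3, 4, 0, 4, 3, 4, 0, 4, 3]), (123, false, [1, 0, 4, 3, 4, 3, 1, 0, 4, 0, 4, 3, 1]), (260, true, [0,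 4, 3, 4, 0, 4, 0, 1, 3, 1, 0, 1, 3, 1]), (254, true, [1, 0, 4, 3, 1, 3, 1, 0, 1, 0, 4, 3, 4, 3, 4, 3, 4]), (277, false, [0, 1, 0, 1, 0, 2, 4, 3, 4, 0, 4, 0, 4, 0, 1, 0]), (167, false, [0, 4, 3, 1, 3, 1, 3, 1, 3, 1, 3, 4]), (23, false, [1, 0, 4, 0, 4, 3, 4, 0, 1, 3, 1, 0]), (7, true, [1, 0, 2, 4, 3, 4, 3, 1, 0, 1, 3, 4, 3, 4, 0, 4, 0]), (77, false, [3, 1, 0, 1, 0, 4, 3, 1, 0, 1, 0, 1, 0]), (23, true, [0, 1, 0, 1, 3, 4, 0, 4, 3, 4, 0, 4, 3, 1, 3, 4]), (98, true, [2, 0, 4, 0, 1, 0, 1, 0, 4, 3, 1, 0]), (84, false, [1, 0, 2, 4, 0, 1, 3, 1, 3, 1, 0, 1, 0, 1, 0]), (84, false, [2, 4, 0, 1, 0, 4, 3, 1, 0, 1, 3, 1]), (276, true, [1, 0, 1, 0, 1, 2, 0, 1, 0, 1, 3, 1, 0, 4, 0]), (88, false, [3, 1, 3, 1, 0, 4, 0, 4, 0]), (222, false,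 [2, 0, 4, 0, 4, 3, 4, 3, 4, 0, 1, 3, 1, 3, 4]), (27, true, [3, 1, 3, 4, 0, 1, 0, 1, 0, 1, 0]), (27, true, [2, 0, 1, 3, 1, 0, 1, 3, 1, 3, 4, 3, 4, 0, 1, 3]), (2, true, [0, 1, 0, 1, 3, 4, 3, 4, 3, 4, 0, 4, 0]), (41, true, [3, 4, 3, 4, 0, 1, 3, 1, 3, 1, 3, 4, 3]), (225, false, [2, 4, 0, 1, 0, 1, 3, 1, 3, 4, 0, 1, 3]), (141, false, [1, 3, 1, 3, 4, 0, 4, 3, 4, 0]), (41, true, [1, 0, 1, 3, 1, 3, 1, 3, 4, 3, 4, 3, 4, 0, 4, 0]), (118, true, [4, 0, 1, 3, 1, 3, 4, 0, 4, 3, 1, 3, 4]), (143, false, [1, 3, 4, 3, 4, 0, 4, 3, 4, 0, 1]), (190, true, [3, 1, 3, 4, 3, 4, 3, 1, 0]), (96, true, [1, 3, 4, 3, 4, 0, 1, 0, 1]), (21, false, [1, 0, 1, 0, 2, 4, 0, 4, 3, 4, 0, 1, 3, 1]), (98, true, [0, 2, 4, 0, 4, 0, 1, 3, 4, 0, 4, 3, 1, 3, 1, 0]),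 (116, true, [1, 2, 0, 4, 0, 4, 0, 4, 3, 1, 3, 1, 0]), (90, false, [2, 0, 4, 3, 1, 0, 4, 0, 4, 0, 4, 3, 1, 0, 1, 3]), (34, false, [1, 0, 1, 3, 1, 3, 1, 3, 4, 3, 4, 3, 4, 0, 4, 0]), (222, false, [1, 0, 2, 4, 3, 4, 0, 1, 3, 1, 3, 4, 3, 4, 3, 1, 3]), (66, true, [1, 3, 4, 3, 1, 0, 4, 0, 4, 3, 4, 0, 1]), (227, false, [2, 4, 0, 1, 3, 1, 3, 4, 0, 1, 0, 1]), (66, true, [3, 4, 3, 4, 3, 1, 0, 1, 3, 1, 0, 1, 3, 4, 3, 4]), (54, false, [2, 0, 4, 3, 4, 3, 1, 0, 1, 0, 1]), (23, false, [3, 4, 0, 4, 0, 1, 3, 1, 0, 1, 0, 4]), (262, true, [0, 1, 0, 1, 0, 4, 3, 1, 3, 4, 0, 4, 3, 1, 0, 4, 0]), (113, true, [0, 2, 4, 3, 1, 0, 1, 0]), (200, true, [0, 1, 2, 0, 1, 3, 1, 3, 4, 0, 1, 0, 1, 3, 4, 3, 1]), (190, true, [3, 4, 3, 4, 0, 4, 0, 4, 0, 1,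 3]), (90, false, [1, 0, 1, 0, 2, 4, 0, 1, 3, 1, 3, 4, 0, 4, 0]), (220, false, [3, 1, 3, 1, 3, 1, 3, 4, 0, 4, 3, 1, 3, 1, 0, 4]), (24, true, [0, 1, 0, 2, 4, 0, 4, 0, 4, 0, 1, 3, 4, 3, 4, 0, 4, 3]), (28, true, [0, 1, 0, 1, 2, 0, 1, 0, 1, 0, 4, 0, 4, 0, 4, 3, 4]), (16, true, [0, 1, 2, 0, 4, 0, 4, 0, 4, 3, 1, 0, 4, 0, 1]), (21, false, [0, 1, 3, 4, 3, 4, 0, 1, 3, 1, 3, 4]), (88, false, [0, 1, 0, 1, 3, 4, 0, 1, 3, 1, 0, 4, 0, 4, 3]), (143, true, [0, 2, 4, 3, 1, 0, 1, 0]), (118, true, [1, 0, 2, 4, 0, 4, 3, 1, 3, 4, 0, 1]), (5, false, [0, 4, 3, 4, 0, 1, 3, 1, 3, 1]), (277, false, [1, 2, 0, 4, 0, 4, 3, 1, 0, 1, 0, 4, 0, 4]), (243, false, [2, 0, 4, 0, 4, 3, 1, 0, 1, 3, 1, 3, 4]), (118, true, [3, 1, 0, 1, 3, 1, 3, 1, 3, 1, 0, 4,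 3]), (254, true, [4, 0, 4, 3, 4, 3, 4, 3, 4, 0, 4]), (243, false, [2, 0, 4, 0, 4, 0, 1, 3, 1, 0, 1, 0, 4]), (200, true, [2, 4, 0, 1, 0, 1, 3, 4, 3, 4, 0, 1, 0, 1, 3]), (113, true, [1, 0, 1, 0, 1, 3, 4, 0, 4, 0, 4, 3, 4, 3, 4, 3]), (65, false, [2, 0, 4, 0, 1, 3, 1, 0, 1, 0, 4, 3, 1, 3, 1, 0, 1]), (18, false, [1, 0, 1, 3, 1, 0, 4, 3, 4, 0, 1, 0, 1]), (254, true, [0, 2, 4, 0, 4, 3, 4, 3, 4, 0, 4, 0, 1]), (276, true, [0, 1, 0, 1, 2, 0, 1, 0, 4, 0, 4, 3, 1, 0, 4, 0, 1]), (141, false, [1, 3, 1, 0, 1, 3, 4, 0, 4, 0, 4, 3, 4, 0, 4]), (123, false, [4, 3, 1, 3, 1, 3, 4, 0, 4, 3, 1, 0, 1]), (234, false, [3, 4, 3, 4, 3, 1, 0, 4, 0, 4, 0, 1, 3]), (102, true, [0, 1, 0, 4, 0, 4, 3, 1, 0, 4, 0]), (88, true, [0, 4, 0, 1, 3, 4, 3, 1,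 0, 1, 0, 4, 3, 1, 0]), (27, false, [2, 0, 1, 0, 1, 3, 4, 0, 1, 3, 1, 3, 4]), (250, false, [2, 4, 0, 4, 0, 4, 0, 4, 3, 1, 3, 4, 0, 4, 3]), (250, false, [1, 3, 1, 0, 4, 3, 1, 3, 1, 0, 4, 3]), (114, false, [4, 3, 1, 3, 4, 0, 4, 3, 1, 3, 1, 3, 4, 0, 4, 3]), (114, false, [1, 3, 1, 0, 4, 3, 4, 3, 4, 0, 4, 3, 1, 0, 4, 0]), (80, true, [0, 4, 0, 1, 0, 1, 0, 1, 3, 1, 3, 1]), (109, true, [2, 4, 3, 4, 3, 4, 0, 4, 0, 1, 3, 4, 3]), (77, false, [0, 1, 0, 4, 0, 4, 0, 4, 3, 1, 0]), (2, true, [3, 1, 3, 4, 0, 4, 0, 4, 3, 4, 0, 4, 0]), (205, false, [1, 0, 1, 3, 1, 3, 1, 0, 1, 3, 1, 0, 1, 3]), (205, false, [1, 0, 1, 2, 0, 1, 3, 4, 0, 4]), (213, false, [1, 3, 1, 0, 1, 0, 4, 3, 1, 0, 1, 0, 4, 0, 4, 3]), (25, true, [0, 1, 0, 1, 0, 4, 3, 4,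 0, 1, 0, 1, 0, 1, 3, 1, 3])]

theorem q12 : closeb 18 ps18 base7 rgR om xs x12 orb r12 = true := by decide +kernel
theorem q13 : closeb 18 ps18 base7 rgR om xs x13 orb r13 = true := by decide +kernel
theorem q14 : closeb 18 ps18 base7 rgR om xs x14 orb r14 = true := by decide +kernel
theorem q15 : closeb 18 ps18 base7 rgR om xs x15 orb r15 = true := by decide +kernel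
theorem q16 : closeb 18 ps18 base7 rgR om xs x16 orb r16 = true := by decide +kernel
theorem q17 : closeb 18 ps18 base7 rgR om xs x17 orb r17 = true := by decide +kernel
theorem q18 : closeb 18 ps18 base7 rgR om xs x18 orb r18 = true := by decide +kernel
theorem q19 : closeb 18 ps18 base7 rgR om xs x19 orb r19 = true := by decide +kernel
theorem q20 : closeb 18 ps18 base7 rgR om xs x20 orb r20 = true := by decide +kernel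
theorem q21 : closeb 18 ps18 base7 rgR om xs x21 orb r21 = true := by decide +kernel
theorem q22 : closeb 18 ps18 base7 rgR om xs x22 orb r22 = true := by decide +kernel
theorem q23 : closeb 18 ps18 base7 rgR om xs x23 orb r23 = true := by decide +kernel

theorem c1 : Rows xc1 :=
  Rows.cons q12 (Rows.cons q13 (Rows.cons q14 (Rows.cons q15 (Rows.cons q16 (Rows.cons q17 (Rows.cons q18 (Rows.cons q19 (Rows.cons q20 (Rows.cons q21 (Rows.cons q22 (Rows.cons q23 Rows.nil)))))))))))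

end Cfsg.Agent.H698.U33.Clo
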