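import Cfsg.Agent.H698.U33.Clo.Rows

/-!
# S5525: the closure certificate, rows 120 to 131 (helper698; data of helper819, helper763)
-/

set_option autoImplicit false
set_option maxRecDepth 100000
set_option Elab.async false

namespace Cfsg.Agent.H698.U33.Clo

def r120 : List (ℕ × Bool × List ℕ) := [(38, true, [0, 1, 2, 0, 1, 0, 4, 3, 4, 3, 1, 3]), (57, false, [1, 3, 4, 0, 1, 0, 1, 3, 1, 3, 1, 0, 1, 0, 1, 0]), (162, false, [1, 0, 4, 0, 1, 3, 4, 0, 4, 3, 4, 0, 1]), (234, false, [0, 2, 4, 0, 4, 3, 4, 0, 1, 0, 1, 3, 1, 0, 1]), (234, false, [0, 1, 0, 1, 3, 4, 0, 1, 3, 1, 3, 4, 3]), (63, false, [1, 2, 0, 4, 0, 4, 3, 4, 0, 4, 0, 4]), (72, true, [1, 0, 2, 4, 0, 4, 3, 1, 3, 1, 3, 4, 0, 1, 0, 1]), (57, false, [0, 1, 2, 0, 4, 0,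 4, 3, 4, 3, 4, 3, 4, 0, 4, 0]), (251, false, [1, 3, 1, 3, 1, 3, 4, 0, 4, 0, 1, 3]), (48, true, [4, 3, 4, 0, 1, 3, 4, 3]), (12, false, [2, 4, 0, 4, 3, 1, 3, 4, 0]), (38, true, [2, 0, 4, 0, 1, 3, 4, 3, 4, 0, 4, 0, 4]), (75, false, [1, 0, 1, 0, 4, 0, 4, 3, 1, 0, 4]), (49, true, [2, 4, 0, 4, 3, 4, 3, 4, 0, 1, 3, 4, 3, 4, 3]), (155, true, [1, 0, 1, 0, 1, 3, 1, 3, 1, 0, 4, 3, 4, 0]), (145, false, [0, 1, 0, 1, 3, 1, 3, 1, 0, 1, 0, 4, 3]), (41, true, [0, 1, 0, 1, 2, 0, 1, 3, 4, 3, 4, 3, 1, 0, 1, 3]), (69, true, [3, 1, 3, 4, 3, 4, 3, 1]), (126, true, [3, 4, 3, 4, 3, 4, 0, 1, 0, 1, 3, 1, 3, 1]), (41, true, [0, 1, 0, 1, 3, 1, 3, 1, 3, 4, 3, 4, 3, 4, 3]), (69, true, [1, 0, 2, 4, 3, 1, 0, 1, 0, 4, 3, 1, 3, 1]), (103, false, [1, 2,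 0, 1, 3, 4, 0, 4, 3, 4, 3, 4, 3, 1, 3]), (55, true, [1, 0, 1, 3, 1, 0, 1, 3, 1, 3, 1, 0]), (114, false, [4, 0, 4, 0, 1, 3, 1, 0, 4, 3, 4, 3, 4, 3]), (43, true, [0, 1, 0, 1, 3, 1]), (234, true, [0, 1, 2, 0, 4, 0, 1, 3, 4, 0, 4, 0, 4, 3, 1]), (180, true, [0, 1, 0, 2, 4, 3, 4, 3, 1]), (112, true, [1, 2, 0, 1, 0, 4, 3, 4, 0, 4, 3, 4, 3, 1]), (248, false, [2, 4, 0, 1, 0, 4, 3, 4, 3, 1, 0, 1, 3, 1]), (71, false, [2, 0, 4, 3, 1, 3, 1, 0, 1, 3, 4, 0]), (169, false, [1, 0, 1, 0, 2, 4, 3, 4, 3, 4, 0, 4, 0, 1, 0]), (251, false, [3, 4, 0, 1, 0, 1, 0, 4, 0, 4, 0, 4, 0, 4, 3]), (49, true, [3, 1, 3, 1, 0, 1, 0, 4, 3, 4, 0, 4, 0]), (103, false, [1, 0, 2, 4, 3, 4, 3, 1, 0, 1, 3, 1, 3, 1, 0]), (234, true, [3, 1, 3, 1, 3, 1, 3, 4, 3, 4,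 3, 4, 0, 4]), (171, false, [1, 3, 1, 3, 4, 0, 1, 0, 1, 0, 1, 3]), (126, true, [0, 2, 4, 0, 1, 0, 1, 3, 4, 3, 4, 0, 1, 0, 4]), (72, true, [1, 0, 4, 3, 4, 0, 1, 3, 1, 0, 1]), (88, false, [0, 1, 3, 1, 3, 4, 3, 4, 0, 4, 3]), (136, false, [3, 1, 3, 4, 0, 4, 0, 1, 3, 1, 3]), (49, true, [0, 4, 3, 1, 0, 1, 0, 1, 0, 1, 3, 4, 0, 4]), (43, true, [0, 1, 2, 0, 1, 0, 4, 3, 1, 3, 1]), (126, true, [2, 0, 1, 3, 1, 3, 4, 0, 4, 3, 4, 0, 4, 3, 1, 3, 4]), (92, true, [1, 0, 1, 3, 4, 3, 4, 0, 4, 0, 1, 3, 4]), (280, true, [1, 0, 1, 2, 0, 1, 3, 1, 0, 1, 0, 1, 0, 4]), (171, false, [4, 0, 1, 3, 1, 3, 1, 3, 4, 3, 4, 3, 4, 0, 4, 0]), (78, true, [0, 1, 0, 1, 2, 0, 4, 0]), (20, false, [3, 1, 3, 4, 0, 4, 0, 4, 0, 4, 3, 4, 3]), (58, true, [3, 1, 0,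 4, 0, 4, 3, 4, 0, 4, 3, 4, 3, 4, 3, 1, 3]), (99, false, [1, 0, 4, 0, 1, 3, 1, 3, 1, 3, 4, 3, 4]), (233, false, [0, 1, 2, 0, 1, 3, 4, 0, 1, 0, 4]), (179, false, [0, 4, 0, 4, 3, 1, 3, 1, 0, 1, 0, 4, 3, 1, 3, 1, 3]), (193, true, [0, 4, 3, 1, 0, 1, 0, 1, 3, 4, 0, 4]), (171, false, [2, 0, 4, 0, 1, 3, 4, 0, 4, 0, 4, 3, 1, 0]), (155, true, [2, 4, 3, 4, 0, 1, 0, 1, 3, 4, 0, 1, 0]), (199, true, [2, 4, 0, 4, 3, 4, 3, 4, 0, 4, 0, 4, 3, 1, 0]), (112, true, [1, 0, 1, 0, 1, 3, 1, 0, 4, 0, 1]), (154, true, [4, 0, 4, 3, 1, 0, 1, 3, 4, 3, 4, 0, 4, 0]), (210, false, [0, 1, 0, 2, 4, 3, 4, 0, 4, 0, 4, 0, 4, 0, 4, 3]), (49, true, [4, 3, 4, 0, 1, 3, 4, 3]), (92, false, [2, 0, 1, 0, 1, 0, 4, 3, 1, 3, 1, 3, 4, 3, 4, 0]), (58, true, [2, 4, 0,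 1, 3, 1, 3, 4, 0, 4, 3, 1, 3]), (109, false, [2, 4, 3, 4, 3, 1, 0, 1, 3, 4, 0, 4, 0, 4, 3, 4]), (180, true, [1, 3, 4, 3, 1, 0, 1, 0, 4, 3, 1, 3, 1]), (154, true, [3, 4, 0, 4, 0, 1, 3, 4, 0, 4, 0, 1, 3, 4]), (92, false, [3, 1, 3, 1, 3, 4, 0, 1, 3, 1, 3, 4, 3, 4, 0]), (46, false, [4, 3, 4, 3, 1, 0, 1, 0, 1, 0, 1, 3, 4]), (88, false, [0, 1, 2, 0, 1, 0, 4, 3, 4, 3, 1, 0, 4, 0, 4, 3]), (193, true, [0, 1, 0, 1, 2, 0, 4, 3, 1, 3, 1, 0, 4, 3, 1]), (49, true, [3, 1, 3, 1, 0, 1, 0, 1, 3, 1, 3, 1, 0]), (46, false, [1, 0, 1, 0, 1, 2, 0, 1, 3, 4, 0, 1, 0]), (154, true, [2, 4, 0, 4, 3, 1, 0, 1, 0, 1, 3, 4, 0, 4, 3]), (267, true, [0, 1, 0, 4, 0, 4, 0, 1, 3, 1, 0, 1, 0, 1]), (56, true, [1, 3, 1, 0, 1, 0, 1, 0, 1, 3, 1, 3, 1, 0, 4, 3]),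 (131, false, [0, 2, 4, 3, 1, 3, 1, 0, 1, 0, 1, 0, 1]), (55, true, [1, 3, 4, 0, 4, 3, 4, 0, 4, 3, 1]), (71, false, [0, 1, 0, 1, 3, 4, 0, 1, 3, 1, 3, 4, 3, 4]), (103, false, [1, 0, 2, 4, 0, 1, 0, 1, 3, 1, 3, 4, 0, 4, 0]), (136, true, [2, 4, 0, 1, 3, 1, 3, 4, 0, 4, 0, 1, 3, 1, 3]), (120, true, []), (115, true, [1, 0, 4, 0, 1, 3, 1, 3, 1, 0, 1, 0, 1, 3]), (199, true, [2, 4, 0, 4, 3, 4, 3, 4, 0, 4, 0, 4, 3, 1, 0]), (183, true, [2, 4, 3, 1, 0, 1, 0, 4, 0, 4, 3, 1, 0, 1, 3]), (110, false, [4, 3, 4, 0, 4, 3, 1, 0, 4]), (183, true, [4, 3, 1, 3, 4, 0, 1, 0, 1, 0, 1, 3, 4, 3]), (110, false, [2, 4, 0, 4, 3, 4, 0, 4, 0, 4, 3, 1, 0, 4, 0, 4]), (115, false, [0, 1, 0, 2, 4, 3, 4, 3, 4, 3, 4, 0, 1, 3, 4, 0]), (199, true, [3, 4, 3, 4,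 0, 1, 3, 1, 3, 1, 0, 1, 0, 4, 0]), (30, true, [0, 4, 3, 4, 0, 1, 0, 1, 0, 1]), (233, false, [4, 3, 1, 0, 4, 3, 4, 3, 4, 0, 4, 3, 1, 0]), (84, true, [0, 1, 3, 4, 3, 4, 0, 4, 0, 4, 0, 4, 3]), (176, false, [4, 0, 4, 3, 4, 3, 1, 0, 4, 3, 4, 0, 4]), (126, true, [3, 1, 0, 1, 0, 1, 3, 1, 0, 1, 3, 1, 0, 1, 0, 4]), (92, true, [2, 4, 0, 4, 3, 1, 3, 1, 0, 1, 0, 4, 3, 1]), (233, false, [1, 0, 4, 3, 4, 0, 1, 3, 1, 3, 4]), (179, false, [0, 2, 4, 3, 4, 0, 1, 0, 1, 0, 1, 3, 1, 3]), (242, true, [0, 4, 3, 1, 0, 4, 0, 4, 3, 1, 3]), (266, false, [2, 4, 3, 1, 0, 4, 3, 4, 3, 1, 0, 1, 3, 4, 3]), (165, true, [1, 0, 4, 3, 1, 3, 1, 0, 1, 0, 4, 3, 4, 0]), (59, true, [0, 4, 0, 4, 3, 4, 0, 4, 0, 4, 3, 1, 3]), (210, true, [3, 1, 0, 4, 0, 4, 3, 1,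 3, 1, 3, 1, 0]), (86, true, [4, 0, 1, 0, 4, 3, 4, 3, 1, 3]), (86, true, [0, 1, 0, 1, 2, 0, 1, 3, 1, 3, 4, 3, 4, 0, 1]), (49, true, [1, 3, 4, 0, 1, 3, 1, 3, 1, 0, 1]), (199, true, [3, 4, 3, 4, 0, 1, 3, 1, 3, 1, 0, 1, 0, 4, 0]), (171, false, [0, 2, 4, 3, 4, 0, 4, 3, 4, 0]), (69, false, [2, 0, 1, 3, 1, 0, 1, 0, 4, 0, 4, 0, 4, 3, 4, 3, 1]), (95, true, [4, 3, 4, 0, 4, 3, 1, 0, 1, 3]), (95, true, [0, 1, 0, 2, 4, 0, 1, 3, 1, 0, 1, 0, 4]), (69, false, [4, 0, 1, 0, 4, 3, 1, 0, 1, 3, 4, 3, 1, 0, 1, 3, 4]), (109, false, [4, 3, 4, 3, 4, 0, 1, 3, 1, 3, 1, 0, 1]), (154, true, [1, 0, 2, 4, 3, 1, 0, 1, 3, 1, 0, 4])]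
def r121 : List (ℕ × Bool × List ℕ) := [(165, true, [2, 0, 4, 3, 4, 3, 4, 3, 1, 0, 4, 3, 4, 3]), (243, false, [4, 0, 4, 0, 1, 3, 4, 3, 4, 3, 1, 0, 4]), (76, true, [4, 0, 4, 0, 4, 0, 1, 3, 1, 0, 4, 0, 4, 3]), (189, false, [0, 4, 0, 1, 3, 1, 3, 4, 0, 4, 0, 1, 3, 1, 3, 4]), (198, true, [2, 0, 1, 0, 4, 3, 4, 3, 4, 3, 1, 0, 1, 0]), (216, true, [1, 2, 0, 4, 3, 4, 0, 4, 3, 1, 0, 1, 0]), (156, true, [0, 4, 3, 4, 0, 1, 3, 1, 3, 1, 0, 4, 3, 1]), (212, false, [0, 4, 3, 4, 3, 4, 0, 4, 0, 1, 3, 4]), (94, false, [1, 2, 0, 1, 3, 4, 0, 4, 0, 4, 3, 4, 0, 4, 0]), (51, false, [0, 4, 3, 4, 3, 4, 0, 4, 0, 4, 3, 4, 3, 4]), (218, true, [3, 1, 3, 4, 0, 1, 0, 1, 3, 4, 3, 1, 0, 1, 3, 1]), (217, true, [4, 0, 4, 0, 4, 0, 4, 0, 4, 0, 1, 0]), (68,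 false, [0, 2, 4, 3, 1, 0, 4, 3, 4, 0, 4, 0, 4, 0, 4]), (166, false, [1, 3, 4, 0, 1, 3, 1, 3, 1, 0, 4, 3]), (169, false, [3, 1, 3, 4, 0, 4, 3, 1, 0, 4, 0, 1]), (6, false, [0, 1, 0, 1, 0, 2, 4, 0, 4, 0, 4, 0, 4, 3, 4]), (98, true, [2, 0, 1, 0, 4, 0, 4, 3, 1, 0, 4, 0, 4, 0]), (279, false, [0, 1, 0, 1, 0, 1, 3, 4, 3, 1]), (68, true, [1, 0, 1, 2, 0, 4, 0, 4, 0, 4, 3, 1, 3, 4, 0]), (246, false, [4, 3, 4, 3, 1, 0, 1, 0, 1, 3, 1, 0]), (212, false, [1, 3, 1, 0, 1, 3, 1, 0, 1, 3, 4, 3, 1]), (267, true, [0, 1, 3, 4, 0, 4, 0, 4, 3, 1, 0, 4]), (117, false, [0, 2, 4, 3, 1, 3, 1, 0, 4, 3, 4, 0, 1, 3, 4]), (102, true, [3, 1, 3, 1, 0, 4, 3, 4, 3, 4, 0, 4, 0]), (76, true, [4, 3, 1, 3, 1, 0, 1, 0, 4, 3, 4, 3, 1]), (226, false, [0, 4, 3,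 4, 0, 1, 0, 1, 0, 4, 0]), (188, true, [2, 0, 1, 0, 4, 3, 1, 0, 1, 0, 4, 3, 1]), (269, false, [1, 3, 1, 0, 4, 0, 4, 0, 4, 3, 1, 0, 1]), (94, false, [1, 0, 1, 3, 4, 0, 4, 0, 4, 3, 4, 0, 4, 0]), (68, false, [0, 4, 0, 4, 3, 4, 0, 1, 3, 4]), (188, false, [0, 1, 0, 2, 4, 0, 4, 0, 1, 3, 1, 0, 4, 0, 1]), (60, true, [2, 4, 0, 4, 0, 1, 3, 1, 0, 4, 3, 4, 3, 4]), (249, false, [2, 4, 3, 4, 0, 4, 0, 4, 0, 4, 3, 1, 3, 4, 0]), (216, true, [1, 3, 1, 0, 4, 3, 1, 0, 1, 0]), (177, false, [0, 1, 2, 0, 1, 0, 1, 0, 4, 0, 4, 0, 4, 0, 1, 3]), (189, true, [0, 1, 0, 1, 2, 0, 1, 0, 1, 0, 4]), (188, true, [3, 4, 0, 4, 3, 1]), (0, false, [2, 4, 3, 1, 3, 4, 0, 1, 3]), (235, false, [0, 1, 3, 4, 0, 4, 0, 1, 3, 4, 3, 4, 0, 4, 0]), (166, false, [0, 1,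 0, 2, 4, 0, 1, 3, 1, 3, 1, 0, 4, 3]), (7, true, [3, 4, 3, 1, 0, 1, 3, 1, 3, 4, 3, 4]), (256, true, [4, 3, 4, 3, 1, 0, 1, 0, 4, 0, 4, 0, 1, 0]), (121, true, [3, 4, 3, 4, 3, 4, 0, 4]), (269, false, [0, 1, 0, 1, 0, 1, 2, 0, 4, 0, 4, 3, 4, 0, 1, 3]), (189, false, [0, 1, 2, 0, 1, 3, 4, 3, 4, 3, 4, 0, 1, 0, 1]), (183, true, [2, 0, 1, 3, 1, 0, 1, 0, 1, 3, 1, 0, 4, 3]), (212, false, [2, 4, 3, 4, 3, 4, 0, 4, 0, 1, 3, 4]), (123, false, [0, 1, 0, 1, 3, 4, 0, 1, 0, 1, 0, 1, 0, 4, 3, 1]), (76, false, [2, 4, 3, 4, 0, 1, 3, 1, 0, 1, 3, 1, 0]), (170, false, [3, 4, 3, 4, 3, 4, 0, 1, 3, 4, 3, 1, 0]), (188, true, [1, 0, 1, 2, 0, 4, 0, 1, 3, 1, 0, 1, 3, 1, 3, 1]), (238, false, [0, 1, 0, 4, 0, 4, 0, 4, 0, 4, 0]), (195, false, [3, 4, 3, 1]),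 (220, false, [0, 4, 0, 1, 3, 4, 3, 4, 0, 4, 0, 1, 3, 1, 3]), (6, false, [1, 3, 4, 3, 4, 3, 4, 0, 4, 0, 4]), (29, true, [0, 2, 4, 0, 4, 3, 1, 0, 1, 3, 4, 0]), (156, true, [3, 4, 3, 4, 3, 4, 0, 4, 3, 4, 0, 1, 0, 4]), (195, false, [0, 2, 4, 0, 4, 3, 1, 0, 1, 0, 4, 3, 1]), (200, true, [1, 0, 2, 4, 0, 1, 3, 1, 0, 1, 0, 1, 3, 1]), (121, true, [1, 3, 1, 0, 1, 0, 1, 0]), (0, true, [3, 4, 3, 4, 3, 1, 0, 1]), (51, false, [1, 2, 0, 1, 3, 4, 0, 1, 0, 1, 0, 4, 3]), (174, false, [3, 1, 3, 1, 3, 1, 3, 1, 0]), (235, false, [2, 4, 3, 4, 3, 1, 0, 1, 3, 1, 3, 4, 0, 1, 0]), (134, true, [0, 4, 0, 4, 0, 1, 3, 1, 3, 4, 3]), (68, false, [0, 4, 0, 1, 3, 1, 0, 4, 0, 4, 0, 4]), (215, true, [0, 4, 0, 4, 3, 4, 0, 4, 0, 4, 3, 1, 3]), (68, true, [0,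 1, 0, 1, 3, 1, 0, 1, 3, 1, 3, 4, 3, 4, 3]), (165, true, [3, 4, 0, 4, 3, 4, 3, 4, 3]), (188, false, [1, 0, 1, 0, 4, 0, 4, 3, 4, 0, 4, 3, 1, 3, 4, 0]), (141, false, [0, 2, 4, 0, 1, 0, 1, 0, 1, 3, 1, 3, 1, 0, 1, 3, 4]), (7, true, [0, 1, 2, 0, 1, 0, 4, 0, 4, 3, 4, 3, 4, 3, 4, 3]), (188, true, [1, 3, 4, 0, 4, 3, 4, 3, 4, 3, 1, 0, 4]), (186, true, [1, 2, 0, 1, 0, 4, 0, 4, 0, 1, 3, 4, 3, 4, 0]), (151, false, [0, 4, 0, 1, 3, 1, 3, 1, 0, 1, 0, 4, 3, 4, 3]), (134, false, [1, 3, 4, 3, 4, 0, 4, 3, 4, 3, 4, 0]), (256, true, [1, 0, 1, 2, 0, 4, 0, 1, 3, 1, 0, 4, 0, 4, 0, 1, 0]), (98, true, [0, 1, 0, 4, 3, 4, 0, 1, 3, 1, 3, 4, 3]), (60, false, [1, 0, 1, 0, 2, 4, 0, 4, 3, 4, 3, 4, 0, 1]), (226, false, [2, 0, 4, 3, 1, 0, 1, 0, 1, 3, 1,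 3, 4, 0, 4, 0, 1]), (76, true, [2, 4, 3, 1, 3, 1, 0, 1, 0, 4, 3, 4, 3, 1]), (280, false, [2, 0, 4, 3, 1, 3, 1, 0, 1, 0, 1, 3]), (186, true, [2, 0, 4, 0, 4, 3, 1, 0, 1, 0, 4, 0, 4, 3, 4]), (170, false, [1, 0, 2, 4, 0, 4, 3, 1, 0, 1, 0, 4, 3, 4, 3, 1, 0]), (247, false, [2, 4, 3, 4, 3, 1, 0, 4, 3, 4, 3, 1, 0]), (82, false, [2, 4, 0, 4, 3, 1, 0, 1, 3, 1, 3, 1, 0, 1]), (68, false, [2, 0, 1, 3, 4, 0, 1, 3, 1, 3, 4, 0, 1, 0]), (123, false, [0, 2, 4, 3, 4, 0, 1, 3, 1, 3, 1, 3, 4, 0, 1]), (141, false, [3, 1, 0, 1, 3, 4, 0, 1, 3, 1, 0]), (200, true, [1, 0, 4, 0, 1, 3, 1, 3, 4, 0, 1, 0, 1, 3, 4]), (96, false, [2, 0, 4, 0, 4, 3, 1, 3, 4, 0, 4, 0, 4, 0, 1, 0]), (212, false, [0, 1, 2, 0, 1, 3, 4, 0]), (96, false, [3, 4, 0, 1, 3, 4,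 0, 4, 0, 4, 3, 4, 0]), (0, false, [0, 1, 0, 1, 0, 1, 0, 2, 4]), (228, false, [1, 3, 1, 0, 4, 3, 4, 3, 4, 3, 1, 3]), (218, true, [2, 4, 3, 4, 3, 4, 0, 4, 0, 4, 3, 4, 0, 1, 0]), (189, true, [4, 3, 1, 0, 1, 0, 1, 3, 1, 0, 1, 3, 1, 0, 4]), (157, false, [2, 4, 0, 4, 0, 4, 0, 4, 0, 4, 3, 1]), (0, true, [3, 4, 3, 4, 3, 1, 0, 1]), (214, true, [0, 1, 0, 1, 3, 4, 3, 4, 3, 1, 0, 1, 3, 1, 3]), (56, false, [4, 0, 4, 0, 4, 0, 4]), (151, false, [0, 1, 0, 2, 4, 3, 4, 3, 4, 3, 1]), (198, false, [4, 0, 4, 0, 1, 3, 1, 0, 4, 3, 1, 3, 1, 0]), (117, false, [1, 3, 4, 3, 4, 0, 4, 3, 4, 3, 4]), (183, true, [0, 4, 0, 4, 3, 4, 0, 4, 3, 1, 3, 4, 0, 1]), (248, false, [0, 4, 3, 4, 3, 4, 3, 1, 0, 4, 0]), (29, true, [0, 4, 0, 1, 0, 1, 3, 1, 0, 1, 3,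 4, 3, 1]), (157, false, [1, 3, 4, 3, 1, 0, 4, 3, 4, 3, 4, 0, 1, 3]), (20, true, [1, 2, 0, 4, 0, 1, 3, 1, 3, 1, 0, 4]), (220, false, [0, 2, 4, 3, 1, 0, 4, 0, 4, 0, 1, 3]), (214, true, [0, 1, 0, 1, 2, 0, 4, 0, 4, 0, 4, 3, 1, 3]), (217, true, [1, 3, 4, 0, 4, 0, 1, 3, 4, 3, 4, 0, 4, 3, 4])]
def r122 : List (ℕ × Bool × List ℕ) := [(136, false, [2, 0, 4, 0, 4, 0, 1, 3]), (125, true, [1, 3, 1, 3, 4, 3, 4, 3, 4, 3, 1, 0, 4]), (254, true, [2, 4, 0, 4, 0, 1, 3, 4, 3, 4, 0, 4, 0, 4]), (109, true, [1, 0, 4, 3, 1, 3, 1, 3, 4, 3, 4, 0, 1]), (49, false, [4, 0, 1, 3, 4, 3, 1, 0, 1, 3, 4, 0]), (266, true, [0, 4, 0, 1, 3, 1, 3, 1, 0, 4, 3, 4]), (59, false, [2, 0, 4, 3, 4, 0, 4, 3, 1, 0, 1, 0]), (255, true, [0, 1, 0, 2, 4, 3, 4, 3, 4,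 0, 4, 0, 1]), (104, true, [1, 0, 1, 3, 1, 3, 4, 0, 4, 0, 1, 3, 1]), (278, false, [2, 0, 1, 3, 4, 0, 1, 3, 1, 3, 1]), (98, true, [0, 1, 2, 0, 1, 3, 1, 0, 4, 0, 4, 3, 1, 0, 4]), (188, true, [1, 0, 1, 0, 2, 4, 0, 4, 3, 1, 0, 1, 0, 4, 0]), (47, false, [1, 0, 2, 4, 3, 4, 0, 1, 3, 1, 0, 4, 3, 4]), (252, false, [0, 1, 0, 4, 3, 1, 0, 1, 3, 1, 0]), (183, true, [0, 1, 0, 1, 0, 4, 3, 4, 0, 1, 0, 1, 0, 1]), (171, false, [1, 0, 1, 0, 4, 3, 1, 0, 1, 0, 1, 3, 1, 0, 1]), (29, true, [0, 1, 2, 0, 1, 3, 4, 3, 4, 3, 4, 3, 1, 0, 1]), (66, false, [1, 0, 2, 4, 0, 4, 3, 4, 0, 4, 0, 1, 3, 1]), (180, false, [0, 2, 4, 3, 4, 3, 4, 0, 4, 0, 4, 3]), (267, false, [1, 0, 4, 0, 1, 3, 1, 3, 4, 0, 4, 0, 1]), (131, true, [3, 1, 3, 1, 3, 1, 0, 1, 3, 4,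 0, 4]), (3, true, [2, 4, 3, 1, 3, 1, 0, 1, 0, 4, 3, 4, 0, 4, 0]), (214, false, [3, 1, 0, 4, 0, 4, 3, 1, 0, 1, 3, 4, 3, 1]), (62, true, [0, 2, 4, 3, 4, 3, 4, 3, 1, 0, 4, 0]), (256, false, [1, 3, 1, 3, 4, 3, 4, 0, 4, 3, 4, 3]), (182, true, [4, 0, 1, 3, 1, 3, 1, 0, 1, 0, 4, 0, 4, 0]), (96, false, [1, 0, 2, 4, 3, 4, 3, 4, 0, 1, 0, 1, 3, 4]), (17, false, [4, 3, 4, 0, 4, 0, 4, 3, 4, 3, 1]), (183, false, [4, 0, 4, 3, 1, 3, 1]), (29, true, [0, 1, 2, 0, 1, 3, 4, 3, 4, 3, 4, 3, 1, 0, 1]), (256, true, [0, 4, 3, 1, 3, 1, 0, 1, 0, 1, 3, 4, 0, 4]), (200, false, [1, 3, 1, 3, 1, 0, 4, 3, 4, 3, 4, 0, 1, 3, 4, 0]), (280, true, [0, 1, 3, 1, 3, 4, 0, 4, 0, 4, 0, 4, 3, 4]), (87, false, [2, 4, 0, 4, 0, 4, 0, 1, 3, 1, 0, 1, 0, 4, 3]), (127,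 true, [3, 1, 3, 1, 3, 4, 3, 4, 0, 1, 3, 1, 0, 1, 3]), (280, true, [0, 2, 4, 0, 4, 0, 1, 3, 1, 0, 1, 0, 4]), (127, false, [3, 1, 3, 1, 0, 1, 0, 1, 3, 4, 0, 1]), (126, true, [1, 3, 4, 0, 1, 3, 1, 3, 1, 3, 4, 0, 1, 0]), (89, false, [1, 3, 1, 0, 4, 0]), (182, true, [1, 0, 2, 4, 3, 1, 0, 1, 0, 1, 0, 4]), (82, false, [0, 4, 3, 1, 0, 1, 0, 4, 0, 4, 3, 1, 0]), (127, false, [1, 0, 1, 0, 1, 0, 2, 4, 3, 4, 0, 1, 3, 1, 3, 1]), (90, false, [0, 4, 0, 4, 3, 4, 0, 4, 3, 4, 0, 1, 0, 1, 0]), (179, false, [2, 4, 0, 4, 3, 4, 0, 1, 3, 1]), (263, true, [1, 0, 2, 4, 0, 1, 0, 1, 3, 4, 0, 4, 3, 4]), (73, true, [1, 0, 1, 3, 4, 0, 4, 0, 4, 3, 4, 0, 1, 3, 4, 3]), (249, false, [4, 0, 1, 3, 4]), (35, false, [3, 1, 3, 1, 0, 4, 0, 4, 3, 4, 3, 4, 0,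 1, 0]), (209, true, [0, 1, 0, 1, 3, 4, 0, 4, 3, 4, 0, 4, 3, 1, 3, 4]), (67, true, [0, 1, 0, 1, 3, 1, 3, 1, 0, 1, 0, 1, 0, 1]), (218, false, [0, 4, 3, 4, 3, 4, 0, 4, 3, 1, 0, 4, 0]), (69, false, [2, 0, 4, 0, 1, 3, 4, 3, 4, 3, 4, 0, 1, 0]), (187, false, [0, 4, 3, 4, 0, 4, 0, 1, 3, 4, 3, 4, 0, 1, 3]), (200, false, [0, 1, 2, 0, 4, 0, 4, 0, 4, 0, 4, 0]), (90, false, [0, 4, 3, 4, 0, 1, 3, 1, 0, 4, 0, 4, 3]), (168, false, [4, 0, 4, 0, 4, 0, 4, 3, 1, 0]), (193, false, [1, 2, 0, 4]), (92, false, [0, 2, 4, 3, 1, 0, 1, 0, 1, 0, 4]), (81, false, [0, 2, 4, 0, 1, 0, 1, 0, 4, 0, 4, 0, 4, 3, 4, 0]), (140, true, [0, 1, 0, 1, 2, 0, 4, 0, 1, 3, 1, 3]), (75, true, [0, 2, 4, 0, 1, 3, 4, 0, 4, 3, 1, 0]), (126, false, [0, 1, 2, 0, 4, 0, 4,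 3, 1, 0, 4, 0, 4, 3]), (122, false, [0, 1, 3, 4, 3, 4, 0, 1, 3, 1, 3, 4]), (172, true, [1, 2, 0, 4, 0, 1, 3, 1, 3, 1, 0, 1, 3, 4, 0, 4, 0]), (105, false, [3, 1, 0, 1, 3, 1, 0, 1, 3, 4, 0]), (72, false, [0, 2, 4, 3, 1, 0, 4, 0, 4, 0, 4, 3, 1, 0, 1, 0]), (43, true, [0, 4, 3, 1, 3, 4, 0, 4, 0, 4, 0, 4, 0]), (86, true, [0, 2, 4, 0, 4, 0, 4, 0, 4, 3, 1, 0, 4]), (265, false, [0, 1, 2, 0, 1, 0, 1, 0, 4, 3, 1, 0]), (126, false, [2, 4, 3, 1, 0, 1, 3, 4, 3, 4, 0, 1, 3, 1, 3]), (214, false, [1, 0, 2, 4, 3, 4, 3, 1, 0, 4, 0, 1]), (69, true, [1, 0, 1, 0, 1, 0, 1, 0, 2, 4, 3, 4, 3, 4, 0, 1]), (87, false, [1, 2, 0, 4, 0, 1, 3, 1, 3, 1, 3, 4, 0, 4, 3, 1]), (269, true, [2, 0, 1, 3, 4, 0, 1, 0, 1, 0, 1, 3, 4, 0, 4, 3]), (152, false, [2,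 0, 4, 3, 1, 0, 1, 0, 1, 3, 1, 0, 4, 3, 1]), (63, true, [0, 1, 3, 1, 0, 1, 3, 1, 3, 4, 3, 4, 0, 1, 3]), (7, true, [0, 2, 4, 0, 1, 3, 1, 3, 4, 0, 1, 3, 1, 3, 4, 0]), (122, true, []), (98, false, [1, 3, 4, 0, 4, 0, 1, 3, 1, 3, 1, 3, 4]), (73, true, [3, 1, 3, 4, 3, 4, 0, 1, 3, 1, 3, 1, 0, 1, 3]), (199, false, [2, 4, 3, 4, 0, 4, 3, 4, 0, 1, 3, 1, 3]), (67, true, [0, 2, 4, 0, 1, 3, 4, 3, 1, 0, 1, 3, 4]), (170, false, [0, 4, 0, 4, 0, 1, 3, 1, 0, 4, 3, 1, 0, 1]), (154, false, [3, 4, 0, 4, 3, 4, 3, 1, 0, 1, 3, 4, 0, 1]), (71, true, [2, 0, 1, 3, 1, 0, 4, 3, 1, 0, 1, 0, 4, 0, 4]), (229, true, [4, 3, 1, 3, 1, 0, 4, 3, 1, 3, 1, 0, 4]), (69, true, [0, 1, 0, 1, 2, 0, 1, 3, 4, 3, 4, 3, 1, 0, 4, 0]), (24, true, [0, 1, 3, 1, 3, 1, 3,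 4, 3, 4, 0, 1, 3, 1, 0]), (89, true, [4, 3, 1, 3, 1, 3, 1, 0, 1, 3, 4, 3, 1, 0, 1]), (110, true, [1, 3, 1, 3, 1, 0, 1, 3, 4, 0]), (61, true, [3, 1, 3, 4, 0, 1, 3, 1, 3, 4, 0, 1, 3, 1, 3]), (85, false, [0, 4, 0, 4, 0, 1, 3, 1, 0, 4, 0, 4, 3, 1, 3]), (269, true, [0, 1, 3, 4, 0, 1, 3, 1, 0, 1, 0, 1, 3, 4, 0, 1, 3]), (253, false, [0, 1, 3, 1, 3, 1, 0, 4, 3, 4, 0, 4, 3, 4, 3]), (126, false, [0, 1, 0, 2, 4, 3, 4, 3, 4, 3, 1, 0, 4, 3]), (78, true, [0, 4, 3, 4, 3, 4, 3, 1, 0, 1, 3, 1, 3, 1, 3]), (257, true, [4, 0, 4, 3, 1, 3, 4, 0, 4, 3, 4, 3]), (188, false, [4, 0, 4, 3, 4, 0, 4, 3, 1, 0, 1, 0, 4, 0, 4]), (78, false, [0, 4, 3, 4, 3, 1, 0, 4, 3, 4, 3, 1, 0, 1, 3]), (78, true, [1, 3, 1, 0, 4, 3, 1, 3, 1, 0, 4, 3, 1, 3]), (87,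 true, [0, 4, 3, 1, 3, 4, 0, 4, 0, 1, 3, 4, 3, 1]), (145, true, [3, 1, 3, 1, 3, 4, 0, 1, 0, 1, 3, 4]), (126, true, [1, 3, 4, 0, 1, 3, 1, 3, 1, 3, 4, 0, 1, 0]), (153, true, [3, 1, 0, 4, 3, 1, 0, 1, 3, 4, 0, 4]), (115, false, [3, 4, 0, 4, 3, 4, 0, 1, 0, 1, 3, 1, 3, 4]), (158, false, [1, 0, 2, 4, 0, 1, 3, 1, 3, 4, 0, 4, 0, 1, 3]), (65, true, [2, 4, 0, 1, 3, 1, 0, 4, 3, 4, 3, 4, 0, 1]), (172, false, [0, 4, 3, 4, 0, 1, 3, 1, 3, 4, 3, 4, 3, 4, 0]), (55, true, [3, 1, 3, 1, 3, 1, 0, 4, 0, 4, 3, 1, 0, 1]), (243, false, [2, 4, 0, 1, 3, 1, 0, 4, 0, 4, 0, 4]), (38, true, [1, 3, 1, 3, 1, 0, 1, 0, 4, 3, 4]), (17, true, [3, 1, 3, 4, 0, 4, 0, 4, 0, 4, 3, 1, 0, 4])]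
def r123 : List (ℕ × Bool × List ℕ) := [(87, true, [2, 4, 3, 1, 0, 4, 3, 4, 0, 4, 0, 4, 3, 4, 0, 4]), (23, false, [4, 0, 1, 3, 1, 3, 4, 0, 1, 0, 1, 3, 4]), (85, false, [0, 2, 4, 3, 4, 0, 4, 0, 1, 3, 4, 0, 4, 3, 1, 3, 4]), (68, true, [4, 0, 1, 3, 1, 0, 4, 3, 1, 0, 1, 0, 1]), (237, false, [2, 0, 1, 0, 1, 3, 1, 0, 1, 3, 1, 0, 1, 0, 1, 3]), (58, true, [2, 0, 4, 0, 4, 0, 4, 3, 4, 3, 4, 0, 4, 0, 1, 3, 4, 3]), (72, false, [2, 0, 4, 3, 4, 0, 1, 3, 1, 3, 4, 3, 4, 3, 1, 0]), (220, false, [2, 0, 1, 0, 4, 3, 4, 3, 4, 0, 4, 0, 1, 3, 1, 3, 1]), (172, false, [2, 4, 3, 1, 0, 4, 3, 4, 0, 4, 0, 4, 3, 4, 0, 1, 0]), (225, false, [0, 2, 4, 0, 1, 3, 1, 0, 1, 0, 1, 3, 4, 0, 4, 3, 4]), (267, true, [1, 3, 1, 0, 4, 3, 1, 0, 1, 3, 1, 3, 1]), (268,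 false, [3, 1, 3, 1, 3, 1, 0, 4, 3, 4, 0, 1, 0]), (232, false, [1, 3, 1, 0, 1, 0, 4, 3, 4, 0, 4, 0, 1]), (68, false, [2, 0, 4, 3, 1, 0, 1, 0, 1, 3, 1, 0, 4, 3, 1, 3]), (219, false, [1, 0, 1, 0, 1, 3, 1, 0, 4, 3, 1, 3, 4]), (190, true, [4, 0, 4, 3, 1, 3, 1, 3, 4, 0, 1, 0]), (183, false, [2, 0, 1, 3, 4, 0, 4, 3, 4, 0, 4, 3, 1, 3, 1, 0]), (219, true, [2, 4, 3, 4, 3, 1, 0, 1, 0, 1, 0, 1, 3, 1, 3, 1, 3]), (127, false, [0, 1, 2, 0, 1, 3, 1, 0, 1, 3, 1, 3, 4, 0, 4]), (258, false, [3, 1, 0, 1, 3, 4, 3, 1, 0, 4, 3, 4]), (64, true, [1, 2, 0, 1, 3, 1, 0, 4, 3, 1, 3, 4, 0, 4]), (89, false, [2, 4, 3, 1, 0, 1, 0, 4, 3, 4, 0, 4, 3, 4]), (126, true, [2, 0, 1, 3, 4, 0, 1, 0, 1, 3, 4, 0, 1, 3]), (68, true, [0, 4, 0, 1, 3, 1, 3, 4, 0, 4,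 0, 1, 3, 1, 3, 4]), (212, false, [0, 4, 3, 1]), (205, true, [1, 3, 4, 0, 1, 0, 1, 0, 4, 3, 1, 3, 4]), (96, true, [2, 4, 3, 1, 0, 1, 0, 1, 3, 4, 0, 4]), (110, false, [2, 0, 1, 3, 1, 3, 4, 0, 1, 3, 1, 3, 1, 0, 1, 0]), (123, false, [0, 4, 0, 1, 0, 1, 3, 1, 0, 1, 3, 4, 0, 4, 0]), (139, true, [0, 1, 3, 1, 3, 1, 0, 1, 3, 4, 3, 4, 0]), (254, false, [0, 1, 2, 0, 4, 0, 4, 0, 1, 3, 1, 3, 1, 3]), (244, true, [0, 4, 0, 4, 3, 4, 0, 1, 3, 1, 3, 4, 0, 4, 0]), (276, true, [2, 4, 0, 1, 3, 1, 0, 1, 3, 1, 0, 4, 0, 4]), (66, true, [1, 0, 4, 3, 1, 3, 1, 0, 1, 3, 4, 3, 4, 3, 4]), (172, false, [0, 1, 2, 0, 4, 3, 4, 3, 1, 0, 4, 0, 4]), (218, true, [1, 0, 2, 4, 3, 1, 0, 1, 3, 1, 3, 4, 0, 4, 3, 4, 0]), (86, true, [3, 1, 3, 1, 3, 4, 0, 1, 3, 1,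 0, 4, 0, 4, 0]), (182, false, [2, 4, 3, 1, 0, 4, 3, 4, 0, 4, 0, 4, 3, 4, 0, 1, 0]), (170, false, [0, 2, 4, 3, 4, 3, 1, 0, 1, 3, 4, 0, 4, 0, 1]), (179, false, [0, 1, 0, 1, 2, 0, 1, 0, 1, 0, 1, 3, 4, 3, 1, 0, 1, 0]), (89, false, [4, 0, 4, 3, 4, 3, 4, 0, 4, 0, 4, 3]), (58, true, [0, 1, 0, 2, 4, 0, 4, 3, 1, 0, 1, 3, 4, 3, 1, 0, 4, 3]), (263, true, [0, 2, 4, 3, 1, 0, 1, 0, 4, 3, 4, 0, 1, 3, 4, 3, 1]), (88, false, [3, 4, 0, 1, 3, 1, 0, 1, 3, 1, 3, 1]), (237, true, [0, 1, 2, 0, 1, 3, 1, 0, 1, 3, 4, 3, 4, 0, 1]), (151, false, [0, 2, 4, 0, 4, 0, 4, 0, 1, 3, 1, 3, 4, 3, 4]), (98, false, [3, 4, 3, 1, 0, 1, 0, 1, 0, 4, 3, 4, 0]), (209, false, [0, 2, 4, 3, 1, 0, 1, 3, 1, 3, 4, 0, 4]), (251, true, [4, 0, 4, 3, 1, 0, 1, 3, 4, 0, 4,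 0, 4, 0, 4]), (57, true, [1, 2, 0, 4, 3, 1, 0, 1, 0, 1, 3, 1, 0, 4, 3]), (84, true, [3, 4, 0, 1, 0, 1, 0, 4, 0, 4, 0, 1]), (182, true, [0, 1, 0, 1, 3, 1, 0, 1, 0, 4, 0, 4, 0, 4, 0, 4]), (225, true, [1, 0, 1, 2, 0, 4, 3, 4, 0, 4, 0, 4, 3, 4, 0, 4]), (4, true, [2, 4, 3, 4, 0, 4, 0, 4, 3, 4, 3, 1]), (237, true, [2, 4, 3, 1, 3, 4, 0, 4, 0, 1, 3, 1, 3, 1, 3, 4]), (28, true, [1, 0, 2, 4, 0, 4, 3, 4, 3, 4, 0, 1, 3, 1, 0]), (158, true, [0, 2, 4, 3, 1, 3, 1, 0, 1, 3, 1, 3, 4, 3, 4, 0]), (76, true, [3, 4, 0, 1, 3, 1, 3, 4, 0, 1, 0, 1]), (70, true, [2, 4, 0, 1, 0, 1, 0, 4, 0, 4, 0, 1]), (112, false, [1, 0, 4, 3, 4, 0, 4, 3, 4, 3, 1, 0]), (51, false, [0, 1, 3, 1, 3, 1, 0, 1, 0, 1, 3, 1, 0, 4]), (76, false, [2, 0, 1, 3, 1, 0, 1,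 0, 4, 0, 4, 0, 4]), (137, false, []), (165, false, [1, 3, 4, 3, 1, 0, 4, 3, 4, 3, 1, 0]), (71, false, [0, 1, 3, 1, 3, 1, 3, 4, 0, 4, 0, 1, 3, 1, 3]), (71, true, [2, 0, 1, 0, 4, 3, 4, 0, 4, 3, 4, 0, 1, 0, 1, 3, 4]), (90, false, [0, 1, 0, 2, 4, 0, 4, 0, 1, 3, 4, 0, 4, 0, 1, 3]), (203, true, [4, 3, 1, 3, 1, 3, 4, 0, 4, 3, 4, 3, 4]), (226, true, [4, 0, 4, 0, 4, 3, 1, 0, 1, 3, 4, 0, 4, 0, 4]), (218, false, [1, 2, 0, 4, 3, 4, 3, 4, 3, 4, 0, 1, 0, 1]), (274, false, [2, 4, 3, 1, 3, 4, 0, 1, 3, 1, 3, 4, 0, 1, 0]), (276, false, [1, 0, 1, 2, 0, 4, 0, 4, 3, 4, 0, 4, 3]), (91, false, [4, 3, 4, 0, 4, 0, 4, 3, 1, 3, 4, 0, 1, 0]), (157, false, [2, 4, 0, 1, 3, 4, 3, 1, 0, 1, 0, 4, 3, 1, 3]), (121, false, [2, 4, 0, 1, 3, 4, 3, 4, 3, 4,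 0, 1, 3, 1, 3]), (68, false, [0, 2, 4, 3, 1, 0, 1, 0, 4, 3, 4, 3, 1, 0, 1, 0, 4]), (191, false, [0, 1, 0, 2, 4, 0, 4, 3, 4, 3, 4, 0, 4]), (137, true, [1, 3, 1, 0, 1, 3, 4, 3, 4, 3, 4, 0, 1, 3]), (202, false, [1, 3, 1, 3, 1, 3, 4, 3, 4, 3]), (94, false, [0, 4, 0, 1, 3, 1, 3, 4, 0, 1, 0, 1, 0, 1]), (234, true, [0, 1, 3, 4, 3, 4, 0, 1, 0, 1, 3, 4, 0, 4, 3]), (77, true, [0, 1, 3, 1, 3, 1, 3, 4, 0, 1, 3, 4]), (119, false, [2, 4, 3, 4, 0, 4, 3, 4, 0, 4, 3, 1]), (178, false, [2, 0, 1, 0, 4, 3, 4, 3, 4, 3, 1, 0, 4, 0, 4, 3, 1]), (281, true, [2, 0, 4, 0, 1, 3, 1, 0, 1, 0, 4, 0]), (152, true, [1, 3, 4, 0, 4, 3, 1, 3, 1, 3, 1, 0, 4, 0]), (230, false, [1, 2, 0, 4, 3, 4, 3, 4, 0, 1, 3, 4, 3, 4, 3]), (198, true, [3, 4, 3, 1, 3, 1,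 0, 1, 0, 1, 0, 4]), (152, false, [3, 4, 0, 1, 3, 1, 3, 4, 3, 4, 3, 1, 0, 1, 0]), (167, false, [1, 2, 0, 1, 3, 4, 0, 1, 0, 1, 3, 1]), (172, true, [1, 2, 0, 4, 0, 4, 3, 1, 0, 1, 0, 1, 3, 1, 0, 1, 3]), (213, true, [1, 0, 1, 0, 1, 0, 1, 3, 1, 3, 1, 3, 1, 0, 4, 0, 4]), (189, true, [4, 3, 1, 0, 1, 0, 1, 0, 4, 0, 4, 3, 4, 3]), (280, false, [2, 4, 0, 1, 3, 4, 0, 4, 0, 4, 3, 4, 3]), (91, false, [1, 0, 1, 0, 4, 0, 4, 3, 4, 0, 4, 3, 1, 3]), (270, true, [0, 1, 0, 1, 0, 1, 3, 1, 3, 1, 3, 1, 0, 4, 0, 4]), (107, true, [0, 4, 0, 1, 3, 1, 3, 4, 0, 4, 0, 4, 3, 4, 3]), (70, true, [0, 1, 3, 4, 0, 4, 0, 4, 0, 4, 0, 1]), (194, true, [4, 3, 4, 3, 4, 0, 1, 0, 1, 3, 1]), (127, true, [2, 4, 3, 4, 3, 4, 3, 4, 0, 1, 3, 4, 3, 4, 3, 1]), (222, false,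 [2, 4, 0, 4, 0, 1, 3, 1, 0, 1, 3, 1, 3, 1, 0]), (47, true, [4, 0, 4, 0, 4, 3, 4, 3, 4, 0, 1]), (109, false, [2, 0, 1, 0, 1, 0, 1, 3, 4, 3, 1, 0, 1, 3, 1, 3, 4]), (246, false, [1, 0, 1, 2, 0, 4, 0, 4, 3, 4, 0, 1, 3, 4]), (214, false, [0, 4, 3, 1, 3, 4, 0, 4, 3, 4, 3]), (71, false, [0, 4, 3, 1, 3, 1, 3, 1, 0, 1, 0, 1, 0, 4, 3]), (73, false, [1, 2, 0, 1, 3, 1, 3, 1, 0, 4, 0, 4, 3, 4, 0]), (213, false, [0, 4, 0, 1, 0, 1, 0, 1, 3, 4, 3, 1, 0, 1, 3, 1]), (257, true, [1, 0, 1, 2, 0, 1, 3, 1, 3, 4, 0, 1, 0, 4]), (272, true, [0, 1, 2, 0, 1, 0, 1, 3, 1, 3, 1, 3, 1, 0, 4, 3, 1]), (190, false, [2, 0, 1, 0, 4, 3, 4, 0, 1, 0, 1, 3, 4, 0, 4, 3]), (123, false, [0, 1, 3, 1, 0, 1, 3, 4, 0, 4, 3, 4, 0, 4])]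
def r124 : List (ℕ × Bool × List ℕ) := [(178, false, [0, 4, 3, 4, 0, 4, 0, 4, 3, 1, 3, 1]), (181, true, [0, 2, 4, 0, 1, 0, 1, 3, 4, 3, 1, 0, 4, 0, 4, 3, 4, 3]), (56, false, [3, 1, 3, 1, 3, 1, 3, 1, 3, 4, 3]), (213, false, [4, 0, 4, 0, 1, 3, 1, 0, 1, 0, 1, 3, 4, 0, 4, 3]), (190, false, [2, 0, 1, 0, 4, 3, 1, 0, 1, 0, 1, 3, 4, 0, 4, 0, 4]), (57, false, [2, 4, 0, 4, 3, 1, 0, 1, 0, 4, 3, 4, 3, 4, 3, 4, 3]), (153, false, [0, 1, 2, 0, 4, 0, 1, 3, 1, 0, 4, 3, 1, 3, 4, 0]), (220, true, [1, 0, 1, 0, 1, 3, 4, 0, 4, 0, 4, 3, 4, 0, 1]), (172, true, [1, 2, 0, 4, 0, 1, 3, 4, 0, 4, 3, 4]), (241, false, [0, 2, 4, 3, 4, 0, 4, 3, 4, 3, 1, 0, 4]), (151, false, [2, 4, 0, 1, 3, 1, 3, 1, 0, 1, 3, 1, 3]), (43, false, [0, 2, 4, 0, 1, 3, 4, 3,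 4, 0, 1, 3, 4, 3]), (258, true, [0, 4, 0, 4, 0, 1, 3, 4, 0, 4, 0, 4, 0, 1]), (242, true, [0, 4, 0, 1, 3, 4, 0, 4, 0, 4, 0, 4, 0]), (253, false, [0, 4, 0, 4, 3, 1, 0, 4, 0, 4, 3]), (183, false, [3, 4, 0, 4, 0, 4, 3, 1, 0, 1, 3, 4, 3]), (231, false, [1, 3, 4, 3, 1, 0, 4, 0, 4, 3, 4, 0, 4]), (152, true, [4, 3, 1, 0, 4, 3, 4, 3, 1, 0, 1, 3, 4, 3]), (249, true, [1, 3, 1, 0, 4, 3, 4, 0, 4, 0, 1, 0]), (254, false, [3, 1, 3, 4, 0, 4, 3, 1, 3, 1, 3, 4, 3, 4]), (184, false, [2, 4, 0, 1, 3, 4, 3, 4, 3, 1, 0]), (88, false, [1, 0, 2, 4, 0, 4, 3, 1, 0, 1, 0, 4, 0]), (98, false, [0, 1, 0, 4, 3, 1, 3, 1, 0, 1, 0, 1, 3, 4, 3]), (202, false, [0, 1, 0, 2, 4, 0, 1, 0, 1, 0, 1, 0]), (268, true, [1, 3, 4]), (166, true, [0, 4, 3, 1, 3, 1,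 0, 1, 0, 1, 0, 4]), (91, false, [1, 0, 2, 4, 0, 4, 3, 4, 3, 1, 0, 1, 3, 1, 0, 1]), (191, false, [2, 4, 3, 1, 3, 1, 0, 4, 3, 1, 0, 1, 0, 4, 3, 4]), (117, false, [1, 0, 1, 0, 1, 3, 4, 0, 4, 3, 1, 0, 4, 0]), (169, true, [3, 4, 3, 1, 0, 4, 3, 4, 0, 4, 0, 4, 3, 1, 3]), (71, false, [3, 1, 0, 1, 0, 1, 3, 1, 3, 1, 0, 1, 0, 1]), (262, false, [1, 2, 0, 4, 0, 4, 3, 1, 3, 1, 3, 1, 0, 4, 0]), (149, false, [1, 2, 0, 4, 3, 1, 0, 1, 3, 4, 3, 4, 0, 4, 0, 4, 3]), (66, false, [0, 2, 4, 0, 1, 0, 1, 3, 4, 3, 4, 0, 4]), (172, true, [1, 2, 0, 1, 0, 4, 3, 4, 0, 1, 0, 1, 3]), (218, false, [1, 2, 0, 1, 0, 1, 0, 1, 3, 4, 3, 4, 0, 4, 0]), (136, true, [4, 3, 4, 3, 4, 0, 4, 0, 4, 3, 4, 0, 4, 3, 1]), (103, true, [0, 2, 4, 3, 1, 0, 4, 3, 1, 3, 4]),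 (244, false, [1, 2, 0, 1, 3, 4, 0, 1, 3, 1, 0, 1]), (231, false, [2, 4, 3, 1, 3, 1, 3, 1, 0, 4, 0, 4, 3, 4, 0]), (128, true, [0, 4, 3, 1, 3, 1, 0, 4, 3, 4, 3, 4, 0, 4, 0]), (58, false, [1, 0, 4, 3, 4, 3, 4, 3, 1, 0, 1, 3, 1, 3, 1, 0]), (259, false, [1, 0, 1, 3, 1]), (112, false, [1, 3, 1, 0, 4, 3, 4, 3, 1, 0, 1, 3, 1, 0]), (221, true, [4, 3, 4, 0, 4, 3, 1, 3, 1, 0, 4]), (178, false, [1, 2, 0, 1, 3, 1, 3, 1, 3, 1, 3, 1, 3, 4]), (125, false, [1, 0, 1, 2, 0, 4, 3, 4, 0, 1, 3, 1, 3, 1, 0, 1]), (6, false, [0, 1, 0, 1, 0, 1, 0, 2, 4, 3, 4, 0, 4, 3]), (6, true, [2, 0, 4, 3, 4, 0, 4, 3, 1, 3, 1, 0, 4, 3]), (219, true, [2, 4, 3, 4, 0, 4, 3, 4, 3, 4, 0, 1, 3, 1, 3]), (237, true, [1, 2, 0, 1, 3, 1, 0, 4, 3, 4, 0, 1, 0]), (186,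 true, [0, 2, 4, 3, 1, 0, 1, 0, 4, 0, 4, 3, 1, 3, 4]), (196, true, [3, 1, 3, 4, 0, 4, 3, 4, 3, 1, 3]), (124, false, [0, 1, 3, 1, 0, 1, 3, 4, 0, 4, 3, 4, 0, 4]), (68, true, [1, 3, 4, 0, 4, 0, 4, 3, 4, 3, 4, 3, 4, 0, 1, 3]), (170, true, [0, 4, 3, 1, 3, 1, 0, 4, 0, 4, 3, 1, 0, 1, 3, 4, 0]), (157, false, [0, 1, 3, 4, 3, 1, 0, 1, 0, 4, 3, 1, 0, 1]), (20, true, [2, 0, 4, 0, 1, 0, 1, 0, 4, 3, 1, 3, 4, 0]), (109, true, [0, 1, 0, 1, 3, 4, 3, 4, 3, 1, 0, 1, 3, 4, 3, 4, 0]), (62, true, [3, 1, 3, 4, 0, 1, 3, 1, 3, 4, 0]), (38, false, [0, 1, 0, 1, 0, 4, 3, 4, 0, 1, 3, 1, 3, 4, 3, 4]), (124, false, [3, 1, 0, 1, 3, 4, 0, 1, 3, 1, 0, 1]), (49, false, [0, 1, 0, 1, 3, 1, 3, 1, 3, 4, 0, 4, 0, 1, 3, 1]), (188, true, [1, 0, 2, 4, 0, 1, 3,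 1, 0, 4, 0, 4, 0, 4]), (153, false, [1, 0, 2, 4, 0, 4, 0, 4, 0, 4, 3, 1, 0, 4]), (60, false, [1, 0, 4, 0, 4, 0, 4, 0, 1, 3, 4, 3, 1]), (97, false, [1, 3, 1, 0, 4, 3, 4, 0, 4, 3, 4, 0, 1, 0]), (89, false, [4, 0, 1, 0, 1, 3, 1, 0, 1, 3, 1, 0, 1, 0, 1, 3, 4, 0]), (261, false, [1, 0, 1, 3, 4, 3, 4, 3, 1, 0, 1, 3, 4, 3, 4]), (119, true, [0, 1, 0, 1, 2, 0, 1, 0, 1, 0, 1, 3]), (273, false, [3, 1, 3, 4, 0, 4, 0, 4, 3, 4, 0, 4, 0]), (128, false, [1, 2, 0, 4, 3, 1, 3, 1, 3, 4, 0, 4, 3, 1, 3, 1, 3, 1]), (243, true, [0, 1, 2, 0, 1, 3, 1, 3, 1, 0, 4, 0, 1]), (189, true, [1, 3, 4, 3, 1, 0, 4, 3, 4, 3, 1, 0, 1, 3]), (83, true, [1, 0, 1, 0, 2, 4, 0, 4, 3, 1, 3, 4, 0]), (96, true, [0, 1, 3, 4, 3, 4, 3, 1, 0, 1, 3, 4, 3, 4, 0]), (115,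 false, [3, 1, 3, 1, 3, 4, 3, 4, 3, 4]), (260, false, [1, 2, 0, 1, 0, 4, 3, 1, 0, 1, 3]), (91, true, [0, 1, 3, 1, 3, 1, 0, 4, 3, 1, 3, 4, 0, 4, 0]), (257, false, [0, 4, 3, 1, 0, 1, 0, 1, 3, 4, 3, 1]), (254, false, [0, 1, 3, 4, 3, 1, 0, 4, 3, 4, 3, 1, 0, 4, 3]), (7, false, [4, 0, 1, 3, 4, 0, 4, 0, 4, 3, 4, 3, 1, 3]), (218, true, [1, 0, 1, 2, 0, 4, 3, 4, 3, 4, 3, 1, 0, 4, 3, 4]), (92, true, [0, 4, 3, 4, 3, 4, 0, 1, 3, 1, 0, 1, 3, 1]), (236, false, [2, 0, 1, 3, 4, 0, 4, 3, 1, 0, 4, 0, 4]), (213, true, [1, 0, 1, 0, 1, 3, 4, 0, 4, 0, 4, 3, 4, 0, 4]), (87, true, [0, 2, 4, 3, 4, 0, 4, 3, 1, 3, 1, 0, 4]), (225, false, [1, 0, 1, 0, 2, 4, 0, 4, 3, 1, 3, 1, 0, 4]), (105, true, [1, 2, 0, 1, 0, 1, 3, 1, 3, 1, 3, 1, 0, 1]), (167, true,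 [0, 1, 0, 1, 0, 4, 3, 1, 0, 4, 0]), (119, true, [2, 0, 1, 0, 4, 3, 4, 0, 1, 3, 1, 3, 4]), (57, true, [1, 0, 1, 0, 2, 4, 0, 1, 3, 1, 0, 1, 3, 4, 3]), (245, false, [2, 0, 1, 3, 4, 0, 4, 3, 4, 3, 1, 0, 1]), (281, true, [4, 0, 4, 0, 4, 0, 1, 3, 1, 0, 1]), (152, true, [2, 4, 3, 4, 3, 1, 0, 1, 3, 1, 0, 1, 3, 4, 0]), (244, false, [1, 3, 1, 3, 1, 3, 1, 0, 4, 0, 4, 3, 4, 3]), (270, true, [2, 4, 0, 1, 3, 4, 3, 1, 0, 1, 3, 1, 0]), (169, true, [0, 1, 3, 1, 0, 1, 3, 4, 0, 4, 0, 1, 3]), (73, true, [0, 1, 0, 1, 0, 1, 3, 1, 0, 4, 3, 4, 0]), (65, true, [1, 2, 0, 4, 3, 1, 3, 1, 3, 4, 0, 4, 3, 1, 3, 1]), (222, true, [0, 1, 3, 4, 3, 4, 0, 4, 0, 4, 3, 1, 0, 1, 3, 1]), (36, false, [1, 0, 4, 3, 4, 3, 4, 3, 4, 0, 1, 3]), (95, false, [0, 4,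 3, 1, 0, 1, 0, 1, 0, 1, 0]), (7, true, [1, 2, 0, 1, 3, 4, 0, 4, 3, 4, 0, 1, 3]), (126, false, [1, 0, 1, 0, 1, 3, 1, 0, 1, 3]), (141, false, [1, 3, 4, 0, 1, 3, 1, 0, 4, 3, 4, 3]), (64, true, [0, 1, 0, 1, 0, 1, 2, 0, 4, 0, 4, 3, 4, 3, 4, 0, 1, 0]), (84, true, [1, 0, 4, 0, 4, 3, 1, 3, 1, 0, 1, 0, 1, 0]), (181, false, [0, 4, 3, 4, 3, 4, 0, 1, 3, 4, 3, 1]), (205, true, [3, 1, 3, 4, 0, 4, 3, 1, 0, 1, 0, 4]), (149, false, [4, 0, 1, 3, 1, 0, 4, 3, 1, 3, 1, 0, 1, 0]), (5, false, [2, 0, 1, 3, 4, 0, 1, 3, 1, 0, 1])]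
def r125 : List (ℕ × Bool × List ℕ) := [(222, true, [2, 4, 0, 1, 3, 1, 0, 4, 3, 4, 0, 4]), (98, true, [1, 2, 0, 4, 3, 1, 0, 1, 0, 4, 0, 4, 0, 4, 3, 4, 3]), (10, true, [3, 4, 0, 1, 3, 4, 3, 4, 0, 4, 0, 1]), (146, true, [0, 1, 0, 1, 3, 1, 3, 1, 0, 1, 0, 4, 3]), (111, false, [1, 0, 1, 0, 1, 0, 2, 4, 0, 4, 3, 1, 3, 1, 3, 4]), (70, true, [1, 0, 2, 4, 0, 1, 0, 1, 3, 4, 0, 1]), (231, false, [4, 0, 1, 0, 4, 3, 4, 3, 4, 3, 4, 0, 4, 3, 1]), (83, false, [0, 1, 2, 0, 1, 3, 1, 3, 4, 3, 4]), (251, true, [3, 4, 0, 4, 0, 4, 0, 4, 3, 1]), (55, true, [2, 4, 3, 4, 3, 4, 0, 4, 3, 4, 0, 4, 3, 4, 0]), (11, false, [1, 2, 0, 4, 0, 1, 3, 1, 3]), (279, false, [0, 1, 0, 1, 0, 4, 3, 4, 0, 4, 3, 1]), (262, true, [1, 3, 1, 0, 1, 0, 1, 3, 4, 0, 1,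 0, 1, 0, 4]), (236, true, [1, 2, 0, 4, 0, 4, 3, 1, 3, 1, 0, 1, 0, 1]), (141, false, [0, 2, 4, 0, 4, 3, 4, 0, 4, 0, 4, 3, 1, 0, 1, 0, 4, 3]), (267, false, [0, 1, 3, 1, 3, 4, 0, 4, 0, 1, 3, 1, 3, 1]), (135, true, [1, 3, 1, 3, 1, 0, 1, 3, 4, 0, 1, 3, 1]), (182, true, [1, 3, 4, 0, 4, 0, 4, 3, 4, 3, 1, 0, 1]), (222, true, [0, 2, 4, 0, 1, 3, 1, 3, 1, 0, 4, 3, 4, 3]), (24, false, [4, 3, 1, 0, 1, 0, 4, 3, 1, 3, 4, 0]), (67, false, [0, 1, 3, 1, 3, 1, 0, 4, 3, 4, 3, 1, 0, 1]), (38, false, [0, 1, 2, 0, 4, 3, 1, 3, 1, 3, 4, 0, 1, 3, 1]), (2, false, [1, 0, 2, 4, 3, 4, 3, 4, 0, 4, 3]), (6, true, [1, 0, 1, 3, 1, 3, 4, 3, 4, 0, 1]), (166, true, [2, 0, 1, 0, 4, 0, 4, 3, 1, 3, 1, 3]), (107, true, [0, 1, 0, 1, 0, 1, 0, 4, 3, 1, 0, 1, 0,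 1, 3, 4]), (179, false, [0, 1, 3, 1, 0, 4, 3, 4, 3, 1, 0, 1, 3, 4]), (219, false, [1, 0, 1, 0, 4, 3, 4, 3, 1, 0, 1, 0]), (178, false, [0, 1, 0, 4, 0, 4, 3, 1, 0, 1, 3, 4, 3, 4, 3]), (262, true, [0, 1, 2, 0, 4, 0, 4, 3, 4, 3, 1, 0, 1, 0, 1, 0, 4, 0]), (224, false, [1, 2, 0, 1, 0, 4, 3, 4, 3, 4, 3, 1, 3]), (128, false, [0, 1, 2, 0, 1, 0, 1, 3, 4, 0, 4, 3, 1, 3, 1, 0, 4]), (269, true, [1, 2, 0, 4, 3, 4, 3, 4, 0, 4, 0, 4]), (225, true, [1, 0, 1, 0, 1, 3, 4, 0, 4, 3, 1, 3, 1, 0, 4, 3]), (182, true, [1, 2, 0, 1, 0, 4]), (69, true, [0, 4, 3, 4, 3, 4, 0, 1, 0, 1, 3, 4, 0, 1, 3]), (67, true, [2, 4, 0, 4, 0, 4, 0, 4, 3, 1, 3, 1]), (153, true, [0, 1, 3, 1, 3, 4, 0, 1, 3, 1, 3, 4, 0, 1]), (263, true, [1, 0, 1, 0, 4, 3, 1, 0, 4,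 0, 4]), (65, false, [1, 3, 1, 3, 1, 0, 1, 0, 4, 0, 4, 0, 4]), (250, false, [0, 2, 4, 0, 4, 3, 4, 3, 4, 0, 4, 0, 4]), (24, false, [0, 4, 3, 4, 0, 1, 3, 4, 3, 1]), (64, false, [0, 4, 0, 4, 3, 1, 0, 4, 0, 1]), (125, true, [0, 4, 3, 4, 0, 4, 3, 4, 3, 1, 0, 1, 3, 1]), (150, true, [2, 0, 1, 0, 1, 0, 4, 0, 4, 3, 1, 3, 4]), (73, false, [1, 3, 4, 3, 4]), (126, true, [3, 1, 0, 1, 0, 1, 0, 4, 3, 1, 0, 1, 0, 4]), (6, true, [1, 2, 0, 4, 0, 1, 3, 1, 3, 1, 0, 1, 0, 1, 0, 4, 3]), (157, true, [1, 2, 0, 1, 3, 1, 3, 1, 0, 1, 3, 1, 3]), (254, false, [2, 4, 0, 1, 0, 1, 0, 4, 3, 1, 0, 1, 0, 4, 3, 4]), (20, false, [1, 0, 1, 0, 1, 0, 1, 2, 0, 4, 3, 4, 0, 4, 3, 4, 3]), (127, true, [4, 3, 4, 3, 4, 3, 1, 0, 4, 0, 4, 3, 4, 3]), (280, true, [0,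 1, 0, 1, 2, 0, 1, 0, 4]), (220, true, [0, 2, 4, 0, 1, 3, 1, 3, 4, 0, 4, 3, 1, 0, 1, 0]), (225, false, [0, 1, 2, 0, 1, 3, 1, 0, 1, 3, 1, 0, 1, 0, 1, 3, 1]), (92, false, [1, 0, 1, 0, 4, 3, 1, 0, 1, 0, 4, 0, 4, 3, 4, 3]), (89, false, [1, 0, 4, 3, 4, 0, 1, 0, 1, 3, 4, 3, 4, 0, 1]), (192, false, [1, 0, 1, 0, 2, 4, 3, 4, 0, 1, 3, 1, 0, 4, 0, 4]), (260, false, [2, 0, 4, 3, 1, 0, 1, 0, 1, 0, 1, 3]), (49, false, [3, 1, 0, 4, 3, 4, 0, 4, 3, 4, 3, 4, 3]), (176, false, [0, 1, 0, 2, 4, 0, 1, 0, 1, 3, 4, 0]), (189, true, [1, 3, 1, 0, 1, 3, 4, 3, 4, 0, 1, 3, 4, 3]), (128, true, [0, 4, 0, 1, 3, 1, 0, 1, 0, 4, 3, 1, 3]), (38, true, [4, 3, 1, 0, 1, 0, 4, 0, 4, 0, 1, 3, 4]), (154, false, [0, 1, 3, 1, 0, 4, 0, 4, 3, 1, 0, 4, 0, 4, 0, 1]),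 (85, true, [4, 3, 1, 0, 1, 0, 4, 0, 4, 0, 4, 0]), (28, true, [1, 2, 0, 4, 0, 1, 3, 4, 3, 4]), (119, true, [1, 0, 4, 3, 4, 0, 1, 0, 1, 0, 4, 3, 1, 3, 1]), (154, false, [1, 0, 1, 0, 2, 4, 0, 1, 3, 1, 3, 1, 3, 4, 0, 1, 3]), (250, false, [3, 4, 0, 4, 3, 1, 0, 1, 0, 1, 3, 4, 0, 1]), (85, true, [2, 4, 3, 4, 3, 1, 0, 1, 0, 4, 0, 4, 0, 1, 3]), (125, true, [0, 4, 3, 1, 3, 1, 0, 4, 3, 1, 0, 1, 0, 4, 3]), (31, true, [0, 1, 0, 1, 2, 0, 1, 0, 4, 0, 4, 3, 1]), (7, true, [0, 1, 2, 0, 4, 0, 4, 3, 1, 0, 1, 0, 1, 3, 1, 3]), (122, true, [1, 0, 4, 3, 1, 3, 4, 0, 4, 3, 1, 3, 1]), (10, true, [1, 2, 0, 4, 0, 4, 0, 1, 3, 1, 0, 4]), (253, false, [0, 1, 0, 2, 4, 0, 1, 3, 1, 0, 1, 0, 1, 0, 1]), (171, false, [0, 1, 0, 2, 4, 0, 4, 3, 1, 0, 1, 0,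 1, 3, 1, 3, 1, 0]), (69, true, [2, 0, 1, 3, 4, 0, 1, 3, 1, 3, 4, 0]), (125, true, []), (197, true, [4, 3, 4, 3, 4, 3, 4, 0, 1, 0, 1, 3, 1, 3, 1, 0]), (125, true, [0, 4, 3, 4, 0, 4, 3, 4, 3, 1, 0, 1, 3, 1]), (72, true, [0, 2, 4, 0, 4, 0, 1, 3, 4, 3, 4, 0, 1, 3, 1]), (29, true, [0, 1, 0, 4, 3, 1, 0, 1, 3, 4, 3, 1, 0, 1, 3]), (232, false, [3, 1, 3, 4, 0, 4, 3, 1, 3, 1, 0, 1]), (200, false, [0, 1, 0, 2, 4, 0, 1, 3, 1, 3, 4, 3, 4, 3, 4]), (191, false, [1, 0, 4, 0, 1, 3, 1, 0, 1, 3, 1, 0, 4]), (234, true, [0, 1, 3, 1, 0, 1, 3, 1, 0, 4, 0, 4, 3, 4, 0]), (219, false, [0, 1, 2, 0, 1, 3, 4, 0, 4, 0, 4, 3, 4, 0, 1]), (112, true, [1, 2, 0, 4, 0, 1, 3, 1, 3, 1, 0, 1, 0, 4, 0, 4]), (237, false, [2, 4, 0, 4, 0, 4, 0, 1, 3, 4, 3, 4,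 0, 1, 0, 4]), (77, true, [3, 1, 3, 1, 3, 4, 0, 4, 3, 1, 0, 4, 0, 4]), (216, true, [4, 3, 1, 3, 4, 0, 4, 3, 4, 3, 1, 0, 1, 0]), (214, false, [0, 1, 0, 1, 3, 4, 3, 1, 0, 1, 3, 1, 3, 1, 0, 1, 0]), (83, false, [4, 0, 4, 3, 4, 3, 4, 3, 1, 0, 1, 0, 4, 0]), (235, true, [1, 0, 1, 2, 0, 1, 0, 4, 0, 4, 0, 4, 3, 1, 0]), (91, false, [4, 3, 1, 3, 1, 0, 4, 3, 1, 0, 1, 0, 4]), (236, false, [1, 3, 1, 0, 1, 3, 1, 0, 1, 3, 4, 3, 4, 3, 1]), (183, true, [1, 0, 4, 3, 4, 3, 1, 0, 1, 0, 1, 3, 1]), (38, true, [0, 1, 3, 1, 0, 4, 3, 4, 3, 4, 0, 4, 0, 1]), (171, false, [1, 3, 1, 0, 1, 3, 1, 0, 4, 0, 4, 3, 4, 3]), (124, false, [1, 0, 1, 0, 2, 4, 0, 1, 0, 1, 3, 1, 0, 4, 3, 1]), (197, true, [4, 3, 1, 3, 1, 0, 1, 3, 1, 3]), (73, false, [1, 0, 1, 0,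 2, 4, 0, 4, 0, 1, 3, 1, 0, 4, 0, 4]), (176, false, [0, 2, 4, 0, 1, 3, 4, 3, 4, 0, 1, 0, 1]), (254, false, [3, 1, 0, 4, 3, 4, 0, 4, 0, 4, 3, 1, 3, 4, 0, 4]), (125, true, [0, 1, 3, 1, 3, 1, 0, 4, 3, 1, 0, 1, 0, 1, 3]), (234, true, [0, 1, 3, 1, 0, 4, 3, 4, 3, 4, 0, 4, 0, 4, 3, 1]), (207, false, [1, 0, 4, 3, 4, 0, 4, 0, 4, 3, 1, 0]), (64, false, [3, 1, 0, 1, 3, 4, 3, 4]), (91, true, [4, 0, 1, 3, 1, 0, 4, 0, 4, 3, 1, 0, 1, 0]), (212, false, [3, 4, 3, 4, 0, 1, 0, 1, 0, 1, 3, 4, 3, 4, 3, 1])]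
def r126 : List (ℕ × Bool × List ℕ) := [(120, true, [4, 0, 4, 0, 4, 3, 4, 3, 1, 0, 1, 0, 1, 0]), (260, false, [1, 0, 1, 0, 4, 0]), (87, true, [0, 1, 3, 1, 0, 1, 0, 1, 3, 4, 0, 1, 0, 4]), (255, true, [1, 0, 4, 3, 1, 3, 1, 0, 1, 0, 4, 3, 1, 3, 1]), (122, false, [0, 1, 2, 0, 1, 0, 4, 3, 1, 0, 1, 0, 4, 3]), (78, true, [4, 0, 4, 0, 1, 3, 4, 0, 4, 3, 1, 3, 4, 0, 4]), (102, true, [1, 2, 0, 4, 3, 1, 0, 1, 0, 4, 0, 4, 3]), (123, true, [0, 2, 4, 0, 1, 3, 4, 0, 4, 0, 1, 3, 4, 0]), (85, true, [4, 0, 4, 0, 1, 3, 4, 0, 4, 0, 4, 3, 4, 3]), (195, false, [1, 2, 0, 4, 3, 4, 0, 4, 0, 1, 3, 1, 3]), (67, false, [4, 3, 4, 0, 4, 3, 1, 0, 1, 0, 1, 0]), (4, true, [0, 1, 2, 0, 1, 3, 4, 0, 1, 3, 1]), (211, false, [2, 4, 0, 1, 3, 4, 3, 4, 3, 1,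 0, 1, 3, 4, 3]), (234, false, [0, 1, 2, 0, 1, 0, 1, 0, 1, 0, 1, 3, 4, 3, 1, 0, 1]), (269, false, [3, 1, 3, 4, 0, 4, 0, 1, 3, 1, 0, 4, 0, 1]), (49, true, [4, 3, 1, 3, 1, 0, 1, 0, 1, 3, 1, 3, 1, 0, 4]), (126, true, []), (126, false, [0, 1, 3, 1, 0, 1, 3, 4, 3, 4, 0, 4, 3, 4]), (28, false, [2, 0, 1, 0, 4, 3, 4, 3, 4, 0, 4, 0, 4, 3, 1]), (222, false, [2, 4, 3, 1, 0, 1, 3, 4, 3, 1, 0, 4, 0, 4, 0, 1]), (172, true, [0, 1, 0, 1, 0, 1, 0, 2, 4, 3, 4, 3, 4, 0, 4, 3, 1]), (125, true, [1, 3, 4, 3, 4, 0, 1, 3, 4, 3, 4, 3, 4, 0]), (104, false, [0, 2, 4, 0, 1, 3, 4, 3, 4, 0, 4, 0, 1, 3, 4]), (6, false, [0, 4, 0, 1, 3, 1, 3, 1, 0, 4, 0]), (213, false, [0, 1, 0, 1, 0, 2, 4, 3, 4, 3, 1, 0, 1, 3, 4, 0, 4, 0]), (126, false, [0, 1, 2, 0,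 1, 0, 1, 0, 4, 0, 4, 0, 4, 3]), (180, false, [1, 2, 0, 1, 0, 1, 0, 1, 3, 4]), (196, false, [3, 4, 3, 1, 3, 1, 3, 4, 3, 4, 0, 1, 3, 1, 0, 1, 3]), (180, false, [1, 3, 1, 0, 4, 3, 4, 3]), (119, false, [1, 0, 1, 3, 1, 3, 4, 0, 1, 3]), (234, true, [1, 0, 1, 3, 1, 0, 1, 3, 4, 3, 4, 0, 4]), (222, false, [2, 0, 4, 3, 4, 3, 1, 0, 1, 0, 4, 3]), (72, false, [1, 3, 4, 0, 1, 3, 1, 0, 4, 3, 1, 3, 1]), (122, false, [0, 2, 4, 3, 4, 0, 1, 3, 1, 3, 4, 0, 4, 3, 1]), (27, true, [3, 1, 3, 1, 0, 4, 0, 4, 3, 4, 3, 4, 3]), (134, false, [3, 1, 3, 4, 0, 4, 0, 1, 3, 1, 3, 4, 3, 4]), (68, false, [1, 3, 1, 3, 1, 3, 4, 3, 4, 0, 1]), (68, false, [4, 3, 1, 3, 1, 3, 1, 3, 1, 0]), (29, false, [0, 1, 3, 4, 3, 1, 0, 4, 3, 4, 0, 1, 3, 1]), (153, false,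 [1, 3, 4, 3, 1, 0, 1, 0, 4, 3, 1, 3, 1, 0, 1, 0]), (26, false, [0, 4, 0, 1, 3, 4, 0, 4, 0, 4, 3, 4, 0, 1]), (178, false, [1, 0, 1, 3, 4, 3, 1, 0, 4, 3, 4, 3, 1, 0]), (104, false, [2, 0, 4, 3, 1, 0, 1, 3, 4, 0, 4, 0, 4, 0, 4]), (14, false, [0, 1, 3, 1, 3, 4, 0]), (140, true, [0, 4, 0, 4, 0, 4, 3, 4, 0, 1, 0, 1, 3]), (263, false, [3, 4, 3, 4, 0, 4, 3, 4, 3, 4, 0, 4, 3, 1, 0, 1]), (225, false, [4, 0, 4, 3, 1, 0, 1, 0, 4, 3, 4, 0, 1, 3, 4]), (122, false, [0, 1, 2, 0, 4, 3, 1, 3, 1, 3, 1, 3, 4, 3]), (122, true, [3, 4, 3, 1, 0, 4, 0, 4, 0, 4, 3, 1, 0, 4]), (170, false, [0, 4, 3, 4, 3, 1, 0, 1, 3, 4, 3, 4, 0, 1, 0, 1]), (34, false, [3, 1, 0, 4, 3, 1, 3, 1, 3, 1, 0, 4, 0, 1]), (136, false, [1, 0, 4, 0, 4, 3, 1, 3, 4, 0, 1, 0]),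 (40, false, [1, 2, 0, 1, 0, 4, 3, 1, 0, 1, 3, 4]), (200, false, [1, 3, 4, 0, 1, 3, 1, 0, 4, 0, 4, 3, 1]), (73, false, [4, 3, 4, 3, 4, 3, 4, 0, 1, 0, 1, 3, 4, 3, 1]), (67, false, [4, 3, 4, 0, 4, 3, 1, 0, 1, 0, 1, 0]), (261, false, [4, 3, 1, 0, 4, 3, 4, 0, 4, 0, 4]), (64, true, [0, 4, 3, 1, 0, 4, 0, 4, 3, 1, 0, 4]), (260, false, [0, 1, 0, 2, 4, 0, 4, 0, 4, 0, 1, 3, 4, 3, 4, 0, 4, 3]), (6, true, [4, 3, 1, 3, 4, 0, 1, 3, 1, 0, 4, 0, 4, 3, 1]), (27, true, [3, 1, 0, 4, 3, 4, 3, 1, 0, 4, 3, 4, 3]), (151, false, [4, 0, 4, 3, 4, 0, 1, 0, 1, 3, 1, 0, 4]), (199, false, [1, 0, 1, 0, 1, 2, 0, 4, 0, 1, 3, 4, 0, 4, 0, 4, 3, 4]), (6, false, [3, 1, 3, 4, 3, 4, 0, 4, 3, 4, 0, 1, 3, 1]), (165, true, [1, 0, 4, 0, 4, 0, 1, 3, 4, 0, 4, 0,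 4, 0, 1]), (82, true, [2, 0, 4, 3, 1, 0, 4, 3, 4, 3, 1, 0, 4, 0]), (122, true, [3, 4, 3, 1, 0, 4, 0, 4, 0, 4, 3, 1, 0, 4]), (126, true, []), (193, true, [2, 4, 3, 1, 0, 1, 3, 4, 0, 4, 3, 1, 3, 1, 3]), (188, false, [1, 3, 1, 3, 4, 3, 4, 3, 4, 0, 4, 3, 4, 0, 4, 3]), (280, false, [0, 1, 3, 1, 3, 1, 0, 1, 0, 1, 3, 4, 3, 1, 0, 1]), (73, true, [0, 2, 4, 3, 4, 0, 4, 0, 4]), (120, true, [1, 3, 4, 3, 4, 0, 4, 3, 4, 0, 4, 3, 4, 3, 4, 0]), (192, true, [2, 0, 1, 0, 1, 3, 1, 3, 1, 0, 4, 3, 4, 3, 4, 0, 1]), (81, true, [4, 0, 1, 0, 1, 0, 1, 0, 1, 3, 4]), (6, true, [0, 4, 3, 4, 3, 1, 0, 1, 0, 1, 0, 1, 3, 4, 3, 4]), (124, false, [0, 4, 3, 4, 0, 4, 3, 4, 3, 4]), (183, false, [0, 1, 0, 1, 2, 0, 4, 3, 4, 0, 4, 3, 4, 0, 1, 0, 4]), (50, false,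 [0, 1, 3, 1, 0, 1, 3, 1, 0, 4, 3, 4]), (24, true, [0, 4, 0, 4, 0, 1, 3, 4, 0, 4, 0, 4, 3, 1]), (243, true, [4, 3, 1, 0, 4, 0, 4, 3, 1, 0, 1, 3]), (218, true, [2, 0, 4, 3, 1, 3, 1, 3, 4, 0, 4, 3, 1, 3]), (29, false, [0, 1, 0, 1, 3, 1, 3, 4, 3, 4, 0, 4]), (215, true, [3]), (112, false, [4, 0, 1, 0, 1, 3, 4, 0, 4, 3, 1]), (130, true, [0, 4, 0, 4, 3, 1, 0, 4]), (126, false, [0, 1, 0, 2, 4, 0, 4, 3, 1, 0, 1, 3, 4, 3]), (11, true, [0, 2, 4, 3, 4, 3, 4, 0, 1, 0, 4]), (94, false, [0, 1, 2, 0, 4, 3, 4, 0, 1, 0, 1, 3]), (220, true, [0, 1, 2, 0, 4, 0, 1, 3, 1, 0, 1, 0, 4, 3, 1, 0]), (213, false, [2, 4, 0, 1, 0, 1, 0, 4, 3, 4, 0, 1, 0, 4]), (275, true, [1, 3, 1, 3, 4, 3, 4, 0, 4, 0, 4, 3, 1, 3, 4, 0]), (98, false, [0, 1, 0, 1, 0,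 1, 3, 1, 0, 4, 0, 4, 0, 4, 3]), (226, false, [3, 4, 0, 4, 3, 4, 0, 1, 0, 1, 3, 4, 3]), (204, true, [4, 3, 1, 0, 1, 0, 1, 3, 4, 0, 4, 0, 4]), (1, false, [0, 1, 2, 0, 4, 3, 1, 3, 1, 0, 1, 3]), (248, true, [3, 1, 0, 4, 0, 4, 0, 4, 3, 4, 0, 1]), (254, true, [0, 1, 3, 4, 3, 4, 3, 1, 0, 1, 3, 1, 3, 4, 3, 4]), (222, false, [0, 4, 0, 1, 3, 1, 3, 1, 0, 4, 3, 1, 0, 1]), (183, false, [0, 1, 2, 0, 1, 0, 1, 3, 4, 0, 4, 0, 1, 3]), (78, false, [0, 2, 4, 3, 1, 3, 1, 3, 4, 3, 4, 3, 1, 3]), (165, false, [4, 3, 4, 0, 4, 0, 4, 3, 4, 0, 4, 3, 1]), (133, true, [4, 0, 4, 3, 1, 0, 1, 0, 1, 0, 4, 3]), (98, false, [0, 2, 4, 3, 4, 3, 4, 3, 4, 3, 1, 0]), (126, true, [0, 1, 3, 1, 0, 4, 3, 4, 0, 4, 3, 4, 3, 1]), (187, false, [1, 2, 0, 1, 0, 1, 0,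 4, 0, 4, 0, 1, 3]), (154, true, [2, 4, 3, 4, 0, 1, 0, 1, 3, 4, 3, 4, 0, 1, 0, 1]), (137, true, [0, 4, 3, 1, 0, 4, 3, 4, 3, 4, 0, 4, 3, 4]), (38, false, [0, 2, 4, 3, 1, 3, 1, 0, 1, 3, 4]), (267, false, [1, 0, 4, 3, 4, 0, 4, 0, 1, 3, 4, 3]), (234, false, [3, 1, 0, 1, 0, 4, 3, 4, 3, 4, 3, 4, 0, 4, 3]), (219, false, [1, 0, 1, 2, 0, 4, 3, 4, 0, 4, 0, 4, 3, 1, 0, 1])]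
def r127 : List (ℕ × Bool × List ℕ) := [(135, false, [2, 4, 0, 1, 0, 1, 3, 1, 0, 4, 0]), (209, false, [4, 0, 1, 3, 4, 3, 4, 0, 1, 3, 4]), (117, true, [2, 4, 0, 1, 0, 1, 3, 4, 0, 4, 0, 4, 3, 1]), (210, true, [0, 2, 4, 3, 1, 0, 1, 3, 1, 3, 1, 0, 1, 3, 1]), (243, false, [3, 1, 0, 4, 0, 4, 3, 1, 0, 4, 3]), (127, false, [1, 2, 0, 1, 3, 1, 0, 4, 3, 4, 0, 4]), (149, true, [2, 0, 1, 3, 1, 3, 1, 0, 4, 3, 1, 3, 1, 0, 1, 3]), (155, true, [0, 4, 3, 1, 3, 1, 0, 1, 0, 1, 0, 1]), (68, false, [0, 4, 0, 1, 3, 1, 3, 4, 3, 4, 0]), (155, false, [1, 3, 1, 0, 1, 3, 1, 3, 4, 3, 4, 3]), (105, true, [3, 4, 0, 4, 0, 1, 3, 1, 3, 1]), (125, true, [0, 1, 0, 1, 3, 1, 3, 4, 0, 1, 0, 1, 0, 1]), (163, false, [1, 2, 0, 4, 3, 1, 3, 1, 3, 1, 3, 1]), (69,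 false, [0, 4, 0, 1, 3, 1, 3, 4, 3, 4, 0]), (90, true, [2, 4, 0, 4, 0, 1, 3, 1, 3, 4, 0]), (170, true, [2, 0, 4, 0, 1, 0, 1, 3, 1, 0, 1, 3, 1, 3]), (172, true, [0, 4, 0, 1, 3, 4, 3, 4, 0, 1, 0, 4]), (46, true, [1, 3, 1, 0, 1, 3, 1, 0, 4, 3, 1, 3, 4]), (178, false, [1, 0, 1, 0, 1, 2, 0, 1, 0, 1, 3, 4, 3, 4]), (41, false, [2, 0, 4, 3, 1, 0, 1, 0, 4, 0, 4, 0, 1, 0]), (179, true, [1, 0, 2, 4, 3, 4, 0, 4, 0, 4, 3, 1, 0]), (255, false, [2, 4, 0, 1, 3, 1, 3, 4, 3, 4, 3]), (225, true, [1, 2, 0, 1, 3, 1, 0, 4, 3, 4, 0, 4, 3, 4]), (55, false, [0, 1, 0, 1, 3, 1, 0, 1, 0, 4, 0, 4, 3]), (56, false, [3, 1, 0, 1, 0, 1, 3, 4, 3, 4, 0, 4, 0, 4, 0]), (200, false, [1, 2, 0, 1, 3, 1, 3, 1, 0, 4, 3, 4, 3]), (82, true, [0, 1, 3, 4, 0, 4, 0,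 4, 0, 1, 3]), (7, true, [1, 0, 4, 0, 4, 0, 4, 3, 4, 0, 4, 3, 4, 0, 1]), (122, false, [2, 4, 3, 4, 3, 4, 0, 1, 3, 1, 3, 4, 3, 4, 3, 4]), (256, true, [2, 4, 3, 4, 0, 4, 3, 4, 0, 4, 0, 4, 3, 4, 3]), (257, false, [0, 1, 0, 1, 0, 4, 3, 1, 0, 1, 0, 1, 0, 4]), (276, true, [1, 0, 1, 0, 4, 3, 4, 0, 1, 0, 1, 3, 1]), (182, false, [3, 1, 0, 1, 3, 4, 0, 4, 3, 1, 3, 1, 3, 1, 3]), (3, true, [2, 4, 3, 4, 0, 1, 0, 1, 0, 4, 0]), (63, true, [1, 3, 4, 3, 1, 0, 4, 0, 4, 3, 4, 0, 1, 0]), (71, true, [3, 1, 0, 4, 0, 4, 3, 1, 3, 4, 0, 1, 0]), (69, false, [2, 0, 1, 3, 4, 3, 4, 0, 4, 3, 4, 0, 1, 0, 1]), (252, false, [1, 0, 1, 2, 0, 1, 0, 1, 3, 1, 3, 1, 3, 4, 3, 4]), (43, true, [2, 0, 1, 3, 1, 0, 4, 3, 1, 3, 4, 0, 4]), (167, false, [2, 4, 0, 1,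 0, 1, 3, 4, 0, 4, 0, 4, 3, 4]), (209, true, [0, 2, 4, 3, 1, 3, 1, 3, 1, 0, 4, 0, 4, 3, 4, 3, 4]), (17, true, [1, 0, 4, 0, 1, 3, 1, 0, 1, 0, 1, 0, 4, 3]), (195, false, [1, 0, 1, 0, 1, 0, 1, 2, 0, 4, 3, 4, 0, 1, 3]), (7, true, [1, 0, 2, 4, 3, 1, 0, 1, 3, 4, 0, 4, 0]), (225, false, [3, 1, 0, 1, 3, 1, 3, 4, 3, 4, 0, 1, 3, 1]), (191, false, [0, 4, 0, 4, 0, 1, 3, 1, 3, 1, 3, 4, 0]), (234, true, [0, 1, 3, 1, 0, 1, 3, 4, 0, 4, 3, 4, 0, 4]), (58, true, [1, 0, 1, 0, 1, 0, 1, 0, 1, 2, 0, 1, 0, 1]), (20, false, [0, 1, 3, 4, 0, 4, 3, 4, 0, 4]), (170, false, [0, 4, 0, 4, 3, 1, 0, 1, 0, 1, 3, 4, 0, 1, 3]), (225, false, [0, 4, 0, 4, 3, 4, 0, 4, 3, 1, 0, 1]), (24, false, [0, 4, 0, 4, 3, 4, 3, 4, 0, 4, 0, 4, 0, 1, 3]), (109, true, [3,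 4, 3, 1, 0, 4, 0, 4, 0, 4, 0]), (171, true, [4, 3, 4, 3, 4, 0, 1, 0, 1, 0, 4, 0, 4, 3]), (75, true, [4, 0, 1, 0, 1, 3, 4, 3, 1, 0, 1, 3]), (252, true, [2, 4, 0, 4, 3, 4, 0, 4, 3, 4, 3, 4, 3]), (253, false, [2, 0, 4, 0, 1, 0, 1, 3, 4, 3, 4, 0]), (158, false, [3, 1, 3, 1, 3, 4, 0, 4, 3, 4, 3, 1, 3]), (47, true, [2, 0, 1, 3, 4, 0, 4, 3, 1, 0, 4, 0, 4]), (71, true, [2, 0, 1, 0, 4, 3, 4, 3, 4, 0, 1, 3, 4, 3, 4]), (35, false, [2, 4, 0, 4, 3, 1, 0, 1, 3, 4, 3, 4, 0]), (209, false, [1, 0, 1, 3, 4, 3, 4, 3, 4]), (71, true, [2, 4, 3, 1, 3, 1, 0, 4, 3, 1, 0, 1, 3]), (183, false, [1, 3, 1, 0, 1, 3, 1, 3, 1, 0, 4, 0]), (122, true, [0, 4, 3, 4, 0, 4, 3, 1, 0, 1, 0, 4, 0, 4, 0]), (85, false, [4, 0, 4, 3, 4, 3, 1, 0, 4, 0, 4, 3, 1,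 0]), (267, false, [4, 3, 1, 3, 1, 0, 1, 0, 4, 3, 4, 3, 4]), (119, false, [2]), (214, true, [0, 1, 2, 0, 1, 0, 1, 3, 1, 0, 1, 3, 1, 0]), (263, true, [1, 0, 1, 0, 1, 0, 1, 2, 0, 4, 3, 4, 0, 1]), (43, false, [3, 1, 0, 1, 0, 4, 3, 1, 3, 1]), (219, false, [0, 2, 4, 3, 1, 3, 1, 3, 1, 0, 1, 3, 4, 0, 1]), (267, false, [2, 4, 0, 1, 3, 1, 0, 1, 0, 1, 3, 4, 3, 1, 0]), (179, true, [0, 4, 3, 1, 0, 4, 3]), (218, false, [3, 4, 0, 1, 3, 1, 3, 4, 0, 4, 3, 1, 0, 1]), (114, false, [0, 1, 0, 1, 0, 1, 0, 1, 0, 1, 3, 1, 3, 4, 0, 4]), (71, true, [0, 2, 4, 3, 1, 0, 1, 0, 1, 3, 1, 3, 4, 0, 4, 0, 4]), (64, false, [2, 0, 4, 3, 1, 0, 4, 3, 4, 3, 4, 0, 1, 0]), (181, false, [0, 2, 4, 0, 1, 3, 1, 0, 1, 3, 4, 3, 4, 0, 4]), (122, false, [4, 3, 1, 0,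 4, 3, 4, 3, 4, 0, 4, 0]), (87, false, [2, 4, 0, 4, 0, 4, 0, 1, 3, 4, 0, 4, 0, 4, 3, 1]), (87, false, [2, 4, 0, 4, 0, 4, 0, 1, 3, 4, 0, 4, 0, 4, 3, 1]), (179, false, [3, 1, 0, 4, 3, 1, 0, 1, 3, 1]), (109, false, [2, 0, 4, 0, 4, 3, 1, 0, 1, 0, 1, 3, 1, 3, 4, 0]), (123, false, [1, 2, 0, 1, 3, 4, 3, 4, 0, 4, 3, 4, 0, 4, 3]), (61, false, [4, 3, 4, 0, 4, 0, 4, 3, 4, 3, 4, 0]), (128, false, [2, 4, 0, 1, 0, 1, 3, 4, 3, 4, 0, 1, 3]), (158, true, [2, 0, 4, 3, 1, 0, 1, 0, 1, 3, 1, 3, 1, 3, 1]), (52, false, [1, 0, 4, 3, 4, 0, 1, 0, 1, 0, 1]), (214, true, [0, 1, 2, 0, 1, 0, 1, 3, 1, 0, 1, 3, 1, 0]), (90, false, [1, 0, 1, 3, 1, 0, 4, 3, 4, 3, 4, 3, 4, 0, 4, 0]), (69, false, [1, 0, 1, 2, 0, 1, 3, 1, 0, 1, 0, 4, 0, 4, 0, 4, 0, 1]),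 (280, false, [1, 0, 1, 0, 1, 2, 0, 1, 3, 1, 3, 4]), (269, false, [0, 2, 4, 0, 1, 3, 1, 0, 4, 3, 4, 3, 4, 0, 4, 3, 1, 0]), (49, true, [0, 4, 3, 4, 0, 1, 3, 1, 0, 4, 0, 4, 3, 1]), (188, false, [4, 3, 1, 3, 4, 0, 4, 3, 1, 0, 1, 0, 4, 0, 4]), (256, true, [1, 2, 0, 1, 3, 1, 3, 4, 0, 4, 3, 4, 0, 4, 0]), (123, true, [2, 4, 3, 1, 3, 1, 3, 4, 0, 1, 3, 1, 3, 1, 3, 1]), (212, false, [2, 4, 0, 4, 3, 4, 0, 1, 3, 1, 3, 1, 0, 1, 0, 1, 3]), (215, false, [0, 1, 0, 1, 0, 1, 2, 0, 1, 0, 1, 0, 1, 3, 4]), (127, true, []), (191, true, [0, 1, 3, 1, 0, 1, 3, 4, 3, 4, 0, 4, 3, 1, 3]), (50, false, [2, 0, 1, 3, 1, 0, 1, 3, 1, 0]), (51, true, [3, 4, 3, 1, 3, 1, 3, 4, 0, 4, 3, 1, 3, 4]), (102, true, [0, 1, 0, 4, 3, 4, 0, 1, 0]), (141, false, [2,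 4, 3, 1, 0, 1, 3, 4, 3, 1, 0, 4, 3, 4, 0, 1]), (88, true, [2, 0, 1, 3, 1, 0, 1, 0, 4, 3, 1, 0, 1, 0, 4, 0, 4]), (66, false, [1, 0, 2, 4, 3, 4, 0, 4, 0, 1, 3, 1, 0, 4, 3]), (71, false, [4, 3, 1, 3, 4, 0, 4, 3, 1, 0, 4, 3]), (182, true, [2, 0, 1, 0, 1, 0, 1, 0, 4, 3, 4, 0, 1, 0, 1, 0, 1]), (226, true, [2, 4, 0, 1, 3, 1, 3, 4, 3, 4, 0, 1, 3, 1, 3]), (150, true, [1, 2, 0, 4, 3, 4, 0, 4, 0, 4, 0, 1, 3, 4])]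
def r128 : List (ℕ × Bool × List ℕ) := [(98, false, [2, 4, 0, 1, 3, 4, 0, 4, 3, 4, 3, 1, 0, 4, 3]), (158, true, [4, 3, 1, 0, 1, 0, 1, 3, 1, 3, 4, 0, 4]), (185, true, [3, 4, 0, 4, 0, 1, 3, 4, 3, 4, 0, 1, 0, 4]), (77, false, [0, 1, 0, 1, 3, 1, 3, 1, 0, 1, 0, 4, 3]), (134, false, [3, 1, 3, 1, 0, 4, 3, 4, 3, 4]), (127, false, [0, 2, 4, 0, 1, 3, 1, 3, 4, 0, 4, 0, 1]), (263, true, [3, 4, 0, 4, 3, 4, 3, 1, 0, 1, 3, 1, 0]), (44, false, [0, 4, 0, 1, 0, 1, 0, 1, 3, 1, 0, 4, 3]), (256, true, [1, 0, 4, 3, 4, 3, 4, 3, 4, 3, 4]), (236, false, [3, 1, 3, 4, 3, 4, 3, 1, 0, 4]), (58, true, [1, 0, 1, 3, 1, 3, 1, 3, 1, 0, 1, 0, 1, 3, 1]), (111, true, [4, 3, 4, 3, 4, 0, 4, 0, 4, 3, 4, 3]), (249, false, [1, 2, 0, 1, 0, 1, 0, 1, 3, 1, 3, 1,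 0, 4, 0]), (203, true, [1, 2, 0, 4, 0, 4, 0, 4, 3, 4, 0, 1, 0, 1, 0]), (268, false, [1, 2, 0, 4, 3, 4, 3, 4, 3, 1, 0, 4, 3, 4]), (221, true, [2, 0, 1, 3, 1, 3, 4, 3, 4, 0, 1, 0, 4]), (188, false, [0, 2, 4, 3, 1, 0, 1, 0, 4, 3, 4, 0, 1, 0, 1]), (9, false, [3, 1, 0, 1, 3, 4, 3, 4]), (262, false, [0, 1, 3, 1, 0, 4, 3, 4, 3, 1, 0, 1, 3, 4, 3]), (125, true, [0, 4, 0, 1, 3, 4, 3, 4, 0, 4, 3, 1, 3]), (235, false, [2, 4, 0, 1, 3, 1, 0, 4, 0, 4, 3, 1, 0, 1, 0, 1]), (230, false, [1, 0, 1, 0, 4, 0, 4, 3, 1, 0, 1, 0, 4, 0, 4]), (125, false, [1, 2, 0, 4, 3, 4, 3, 1, 0, 1, 3, 4, 0, 4, 0, 4, 3]), (10, false, [0, 4, 3, 4, 0, 1, 0, 1, 0, 4, 0, 4, 3, 4, 3]), (247, false, [0, 2, 4, 0, 4, 0, 4, 3, 1, 0, 1]), (204, true, [0, 1, 2, 0, 1,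 0, 4, 3, 4, 0, 1, 0, 1, 0, 1, 0]), (62, false, [2, 0, 1, 0, 1, 3, 1, 3, 1, 0, 1, 3, 4, 0, 4]), (79, true, [3, 1, 0, 1, 0, 1, 3, 1, 0, 1, 3, 1, 0, 1, 0, 1, 3]), (263, true, [0, 1, 0, 4, 3, 1, 3, 1, 0, 1, 0, 1, 3, 1, 3, 4]), (189, false, [0, 2, 4, 0, 4, 0, 1, 3, 4, 3, 4, 3, 4, 0, 1, 3, 1, 0]), (185, true, [1, 3, 1, 3, 1, 3, 1, 0, 1, 0, 4]), (91, true, [1, 2, 0, 4, 0, 1]), (79, false, [0, 1, 0, 1, 3, 1, 3, 1, 3, 1, 0, 1, 0, 1, 0]), (6, true, [1, 2, 0, 4, 3, 4, 0, 4, 3, 4, 0, 1, 3, 1, 3, 4]), (96, true, [2, 4, 0, 1, 3, 1, 3, 4, 3, 4, 0, 4, 0, 4, 3, 4, 3]), (190, true, [2, 0, 1, 3, 4, 0, 1, 3, 1, 3, 4, 0, 4, 3, 4]), (254, true, [1, 0, 1, 3, 4, 0, 1, 0, 1, 0, 1, 3, 4, 3]), (89, false, [0, 1, 3, 4, 3, 4, 0, 1, 0, 1, 0, 1, 3,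 1]), (25, false, [0, 1, 0, 1, 2, 0, 1, 0, 1, 0, 4, 0, 4]), (79, false, [1, 0, 4, 3, 1, 0, 1, 3, 1, 3, 1, 0, 4, 0]), (260, true, [1, 2, 0, 1, 3, 1, 3, 4, 3, 4, 0, 1, 3, 1, 3, 1, 3]), (52, false, [1, 0, 1, 0, 1, 3, 1, 3, 4, 0, 4]), (177, true, [0, 2, 4, 0, 1, 0, 1, 3, 4, 0, 4, 0, 4, 3, 4, 0]), (4, false, [2, 0, 1, 0, 4, 3, 4]), (224, false, [1, 2, 0, 1, 3, 1, 0, 1, 3, 1, 0, 1, 0, 1]), (191, false, [0, 4, 3, 1, 3, 4, 0, 1, 0, 1, 3, 4, 3, 1, 0, 1, 0]), (135, false, [3, 1, 0, 4, 0, 4, 0, 4, 3, 4]), (157, true, [1, 3, 4, 3, 1, 0, 4, 3, 4, 3, 4, 0, 1, 3, 1]), (6, true, [1, 0, 4, 0, 1, 3, 1, 3, 1, 3, 4, 0, 1, 0, 1]), (226, false, [1, 0, 1, 3, 4, 3, 4, 0, 1, 3, 4, 3, 4, 3, 1]), (65, true, [3, 1, 0, 1, 3, 4, 3, 1, 0, 1, 0, 4,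 3, 1]), (21, false, [2, 0, 4, 0, 4, 3, 4, 3, 4, 0, 4, 0, 4, 0, 1, 3]), (169, true, [0, 4, 0, 4, 0, 4, 3, 1, 3, 1, 0, 1]), (220, false, [0, 1, 3, 4, 0, 4, 0, 1, 3, 1, 3, 4, 0, 4, 0, 1]), (214, true, [1, 3, 1, 3, 4, 0, 1, 0, 1, 0, 4, 3, 4]), (221, false, [4, 0, 4, 3, 4, 0, 1, 3, 1, 3, 1, 3, 4, 0, 4]), (240, false, [3, 1, 3, 1, 0, 4]), (152, true, [0, 4, 3, 4, 3, 4, 3, 4, 0, 4, 3, 1, 0]), (251, false, [0, 1, 0, 4, 3, 1, 0, 1, 3, 1]), (188, false, [4, 3, 4, 0, 4, 3, 1, 3, 4, 0, 4]), (272, true, [3, 1, 3, 4, 3, 4, 3, 4, 0, 1, 3, 1]), (249, false, [1, 0, 4, 0, 4, 3, 1, 3, 4, 0, 4, 3, 1, 3]), (203, false, [0, 1, 2, 0, 1, 0, 1, 3, 1, 0, 1, 3, 4, 0, 1]), (232, true, [4, 3, 1, 3, 1, 3, 4, 3, 4, 3, 1]), (153, false, [1, 3, 1, 0,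 4, 3, 4, 3, 4, 3, 4, 0, 4, 0]), (92, true, [3, 4, 3, 4, 0, 4, 3, 1, 3]), (31, false, [4, 0, 4, 0, 4, 3, 4, 3, 4, 0, 4, 3, 1]), (88, true, [1, 0, 2, 4, 3, 4, 0, 4, 0, 4, 3, 4, 3, 1]), (141, false, [3, 4, 3, 4, 0, 4, 3, 4, 0, 4, 3, 4, 3]), (109, false, [1, 0, 1, 0, 1, 2, 0, 4, 3, 4, 3, 4, 0, 1, 3]), (58, true, [4, 0, 1, 3, 1, 0, 1, 3, 1, 0, 4, 0, 4, 0, 1, 3]), (259, false, [1, 3, 1, 0, 4, 3, 1, 3, 4, 0, 4, 3, 1, 0, 1]), (89, true, [0, 2, 4, 3, 1, 0, 1, 0, 4, 3, 4, 0, 1, 3, 1]), (242, false, [2, 4, 3, 4, 0, 4, 0, 1, 3, 4, 0, 4, 0, 4, 3]), (226, true, [0, 2, 4, 0, 4, 3, 4, 0, 4, 0, 1, 3, 1, 0, 1]), (6, true, [3, 1, 3, 1, 0, 1, 3, 4, 3, 1, 0, 4, 0, 4]), (253, true, [1, 0, 4, 0, 1, 3, 1, 3, 1, 0, 4, 3, 1, 3, 4]), (153, false,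 [0, 1, 0, 1, 0, 1, 3, 1, 0, 4, 0]), (73, true, [1, 2, 0, 1, 3, 1, 0, 1, 3, 1, 3, 4, 0]), (10, true, [3, 1, 0, 1, 0, 4, 0, 4, 0, 1, 3, 1, 3, 4, 3]), (124, true, [3, 1, 3, 1, 0, 1, 0, 1, 3, 4, 0, 4, 0, 1, 3]), (157, false, [2, 4, 0, 1, 0, 1, 0, 1, 3, 4, 0, 4, 3, 4, 3]), (96, false, [0, 1, 3, 1, 0, 1, 3, 1, 3, 1, 0, 4, 0]), (203, true, [0, 1, 2, 0, 1, 0, 4, 3, 4, 0, 1, 0, 1, 0, 1, 0]), (177, true, [3, 4, 3, 1, 0, 1, 3, 4, 3, 4, 0, 1, 0]), (50, true, [4, 3, 1, 0, 1, 3, 4, 3, 1, 0, 1, 0, 4, 3]), (62, false, [1, 0, 2, 4, 3, 4, 3, 4, 0, 1, 0, 1, 3, 4, 3]), (224, true, [2, 0, 1, 0, 1, 3, 1, 0, 1, 3, 4, 0, 4, 3]), (149, false, [3, 1, 3, 4, 0, 1, 0, 1, 3, 4, 3]), (124, false, [0, 1, 2, 0, 1, 0, 4, 3, 4, 0, 1, 0, 1, 0, 1, 3, 1,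 0]), (218, true, [0, 1, 3, 1, 3, 1, 3, 4, 0, 4, 3, 4, 3, 4, 0]), (136, false, [0, 1, 3, 1, 3, 4, 0, 4, 3, 1, 0, 1, 0, 4]), (40, true, [0, 4, 3, 4, 0, 1, 3, 1, 0]), (236, false, [3, 1, 3, 1, 0, 4, 0, 4, 0, 4, 3, 1, 3, 4, 0, 4]), (96, true, [0, 1, 2, 0, 1, 3, 4, 0, 4, 0, 4, 3, 4, 3, 4]), (221, true, [1, 2, 0, 4, 3, 1, 0, 4]), (255, false, [0, 1, 2, 0, 1, 0, 1, 3, 1, 3, 4, 0, 4, 0, 1]), (204, false, [2, 0, 4, 0, 4, 3, 1, 3, 4, 0, 4, 0]), (188, true, [2, 0, 1, 3, 1, 0, 1, 0, 1, 3, 4, 3, 4, 0, 1, 3, 4]), (259, false, [0, 2, 4, 0, 1, 0, 1, 3, 4, 3, 4, 0, 1, 3, 1, 0]), (1, true, [1, 3, 4, 0, 4, 0, 1, 3, 4, 0, 1]), (181, false, [0, 1, 3, 4, 0, 1, 3, 1, 3, 4, 0, 4, 3, 1]), (144, false, [0, 1, 0, 4, 3, 1, 0, 1, 3, 1, 0, 1]), (70,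 false, [1, 0, 1, 2, 0, 1, 0, 1, 3, 4, 3, 4, 0, 1, 0, 1, 0]), (206, true, [4, 3, 1, 0, 1, 3, 4, 0, 1, 0, 1, 0]), (245, true, [0, 1, 3, 4, 3, 1, 0, 4, 0, 4, 3, 1, 3]), (262, false, [0, 2, 4, 3, 4, 0, 4, 3, 1, 3, 1, 0, 1, 0]), (222, false, [3, 1, 3, 1, 3, 4, 0, 1, 3, 1, 0, 4, 0, 4, 3, 4]), (203, false, [3, 1, 3, 1, 3, 4, 0, 4, 3, 1, 0, 4, 3]), (213, false, [1, 3, 1, 3, 1, 3, 4, 3, 4, 0, 4, 3]), (236, false, [1, 0, 1, 3, 1, 3, 4, 0, 4, 0, 4, 3, 4]), (224, false, [3, 1, 3, 4, 0, 4, 0, 4, 0, 1, 3, 4, 3])]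
def r129 : List (ℕ × Bool × List ℕ) := [(224, false, [0, 4, 3, 1, 0, 1, 0, 4, 0, 4, 0]), (240, true, [0, 4, 3, 1, 3, 4, 0, 1, 3, 1, 0, 1, 3, 4]), (240, true, [3, 1, 3, 1, 0, 1, 3, 1, 3, 4, 3, 4]), (232, true, [0, 4, 3, 4, 0, 1, 3, 1, 0, 1, 3, 1, 3]), (232, true, [0, 2, 4, 0, 4, 3, 1, 0, 1, 3, 1, 0, 1]), (185, false, [0, 4, 3, 4, 3, 1, 0, 1, 3, 4, 0, 4, 0, 4, 3, 4]), (208, false, [0, 2, 4, 0, 4, 0, 1, 3, 4, 0, 4, 0, 1, 3, 1, 0]), (224, false, [0, 2, 4, 0, 1, 3, 1, 3, 4, 3, 4, 0]), (224, false, [2, 0, 1, 0, 1, 3, 1, 3, 4, 0, 4, 0, 4]), (157, true, [0, 1, 0, 2, 4, 0, 4, 0, 4, 3, 4, 0, 4, 0]), (157, true, [0, 1, 0, 4, 3, 4, 3, 4, 0, 4, 3, 4, 0]), (240, true, [0, 2, 4, 3, 4, 3, 4, 0, 1, 3, 1, 0, 4, 3, 1]), (68, true, [3,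 1, 0, 4, 3, 4, 0, 4, 3, 4, 0, 1, 0, 1, 3]), (208, true, [0, 1, 2, 0, 1, 0, 1, 3, 1, 0, 4, 3, 4]), (186, true, [0, 1, 0, 1, 2, 0, 4, 3, 4, 3, 4, 0, 4, 3, 4]), (68, true, [2, 0, 1, 3, 4, 0, 4, 3, 4, 0, 4, 3, 1, 3, 1]), (185, false, [1, 3, 1, 0, 4, 0, 4, 0, 1, 3, 1, 0, 4, 0, 4, 0]), (68, true, [0, 4, 0, 1, 0, 1, 0, 4, 0, 4, 0, 4, 3, 4, 3, 4]), (68, true, [2, 0, 1, 0, 1, 0, 4, 0, 4, 3, 1, 0, 1, 0, 1, 3, 4]), (79, true, [1, 3, 1, 0, 4, 3, 4, 3, 4, 0, 4, 0, 4, 0, 4, 3]), (36, false, [3, 1, 0, 4, 3, 1, 0, 1, 3, 4, 3, 4, 0, 1, 3]), (79, true, [0, 1, 0, 1, 3, 4, 0, 4, 0, 4, 3, 4, 3, 4, 3, 4]), (259, false, [3, 1, 0, 4, 0, 4, 3, 1, 0, 1, 0, 1, 0]), (177, true, [2, 0, 4, 3, 4, 0, 4, 0, 4, 3, 4, 0, 4, 3, 4]), (203, false, [4, 0,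 4, 3, 4, 3, 4, 3, 1, 0, 4]), (259, true, [1, 3, 1, 3, 4, 0, 4, 0, 4, 0, 4, 0]), (203, false, [2, 4, 3, 4, 0, 4, 0, 4, 0, 1, 3, 4, 3]), (259, true, [0, 1, 0, 1, 3, 1, 3, 4, 0, 4, 3, 4, 3]), (236, true, [3, 4, 0, 4, 3, 1, 3, 1, 0, 4, 3, 1, 0]), (68, true, [0, 1, 3, 1, 0, 4, 3, 4, 0, 4, 3, 1]), (206, true, [4, 0, 1, 0, 4, 3, 4, 0, 4, 3, 4, 0, 1, 3, 1]), (208, false, [0, 4, 3, 4, 3, 1, 0, 4, 3, 4, 3, 1, 0, 1, 0]), (206, false, [4, 0, 1, 0, 1, 0, 4, 0, 4, 3, 1, 3]), (185, false, [4, 0, 4, 0, 1, 3, 1, 3, 4, 3, 4, 3, 1, 0, 4]), (83, false, [1, 0, 1, 3, 4, 0, 4, 3, 1, 0]), (157, true, [4, 3, 1, 3, 4, 0, 1, 3, 1, 3, 4]), (36, false, [3, 1, 3, 4, 0, 1, 3, 1, 0, 4, 0, 4, 3, 1]), (224, false, [3, 1, 3, 1, 0, 1, 0, 4, 3, 4, 3, 4,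 3]), (224, false, [0, 1, 0, 4, 3, 4, 0, 1, 0, 1, 3, 1, 3]), (258, true, [0, 4, 3, 4, 0, 1, 3, 4, 3, 4, 3, 4]), (0, false, [0, 4, 0, 4, 3, 4, 0, 4, 3, 4, 3]), (204, true, [0, 1, 0, 1, 3, 1, 3, 1, 3, 1, 0, 1, 0, 4, 3]), (100, true, [0, 4, 3, 4, 3, 1, 0, 1, 0, 4, 3, 1]), (259, false, [4, 3, 4, 0, 4, 3, 4, 0, 1, 0, 1, 3, 1]), (177, true, [3, 4, 0, 4, 3, 4, 3, 4, 0, 4, 3, 4, 0, 4, 3]), (224, false, [4, 3, 4, 0, 4, 0, 4, 0, 4, 0]), (204, true, [0, 1, 0, 1, 3, 4, 0, 1, 3, 1, 3, 4]), (147, true, [4, 3, 1, 3, 1, 3, 4, 3, 4, 3, 1]), (147, false, [1, 0, 4, 0, 4, 3, 1, 0, 1, 0, 4]), (236, true, [2, 0, 4, 3, 4, 0, 1, 0, 1, 3, 4, 0, 1, 0]), (208, false, [1, 0, 4, 0, 1, 3, 1, 0, 4, 3, 4, 3, 1]), (68, true, [1, 0, 2, 4, 0, 4, 3, 1,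 0, 1, 3, 1]), (31, true, [4, 0, 4, 0, 4, 0, 1, 3, 1, 0, 1, 0, 1, 0]), (206, false, [4, 3, 1, 3, 1, 3, 4, 3, 4, 0, 1]), (258, true, [0, 4, 3, 1, 0, 1, 0, 1, 3, 1, 0, 4, 0]), (244, false, [0, 2, 4, 3, 1, 0, 4, 0, 4]), (83, false, [1, 0, 1, 2, 0, 4, 3, 4, 0, 1, 0]), (157, true, [2, 4, 0, 1, 0, 4, 3, 1, 0, 1, 0, 4, 3]), (0, false, [0, 1, 3, 1, 0, 1, 3, 4, 3, 1, 0, 4, 3, 4, 3, 1]), (174, true, [1, 0, 1, 0, 1, 0, 4, 3, 4, 0, 1, 3, 1]), (240, true, [1, 3, 4, 0, 1]), (224, false, [0, 1, 0, 2, 4, 0, 4, 3, 1, 3, 1, 0, 1]), (0, false, [0, 2, 4, 3, 4, 0, 4, 3, 4, 0, 4]), (204, true, [4, 0, 4, 0, 4, 3, 4, 0, 1, 0, 1, 3, 1]), (244, false, [0, 4, 0, 1, 3, 1, 0, 4, 3, 1, 0, 1, 0, 4]), (147, false, []), (240, true, [0, 1, 0, 1, 2, 0,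 1, 3, 4, 3, 4, 3, 4]), (147, false, [1, 0, 4, 0, 4, 3, 1, 0, 1, 0, 4, 0]), (36, false, [4, 3, 1, 3, 4, 0, 1, 0]), (224, false, [2, 4, 0, 4, 3, 4, 3, 4, 3, 4, 0]), (271, true, [2, 4, 0, 4, 3, 4, 0, 4, 3, 4, 0, 1]), (83, false, [2, 0, 1, 0, 4, 3, 1, 3, 4, 0, 4, 0, 1]), (83, false, [0, 1, 3, 1, 0, 4, 0, 4, 3, 1, 0, 1, 3, 4, 3]), (224, false, [1, 3, 4, 3, 1, 0, 1, 0, 1, 0, 4, 0, 4, 0, 1]), (259, false, [0, 1, 3, 1, 3, 1, 0, 4, 3, 1, 3, 4, 0, 4, 0, 1]), (206, true, [1, 0, 4, 3, 4, 0, 4, 0, 1, 3]), (31, true, [2, 0, 1, 0, 1, 3, 4, 3, 1, 0, 4, 3]), (174, true, [1, 0, 1, 0, 1, 0, 4, 3, 4, 0, 1, 3, 1]), (208, true, [4, 0, 4, 3, 4, 0, 4, 3, 1, 0, 1, 0]), (224, false, [2, 4, 0, 4, 0, 4, 0, 1, 3, 4, 0, 4, 0, 4, 0]), (157, true,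 [2, 0, 1, 0, 1, 3, 4, 3, 4, 3, 4, 0, 4]), (240, true, [0, 1, 0, 1, 3, 1, 0, 4, 0, 4, 0, 4, 3]), (157, true, [3, 1, 3, 1, 0, 4, 0, 4, 0, 4, 3, 4, 3]), (244, false, [3, 1, 0, 1, 3, 4, 3, 1, 0, 1, 0, 1, 0, 4, 3]), (258, true, [0, 4, 3, 1, 0, 4, 3, 4, 3, 1, 0, 1, 3, 4, 0]), (83, false, [3, 1, 0, 4, 3, 1, 3, 4, 0, 4, 3, 1, 3]), (258, true, [1, 3, 1, 0, 4, 3, 4, 0, 4, 3, 4, 3, 1]), (271, true, [1, 3, 1, 0, 1, 3, 4, 0, 1, 0, 1]), (271, true, [1, 2, 0, 4, 3, 1, 0, 1, 3, 1, 3, 4, 0, 4]), (83, false, [0, 1, 2, 0, 1, 3, 4, 3, 4, 0, 1, 3, 1, 0, 4]), (232, true, [2, 0, 4, 3, 4, 3, 4, 3, 1, 0, 1, 3, 4, 3, 4]), (224, false, [0, 2, 4, 3, 1, 0, 1, 3, 4, 3, 4, 0, 1, 3, 1, 3, 1]), (177, true, [0, 4, 3, 4, 3, 4, 0, 4, 0, 4, 3, 4, 3, 4,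 0, 1]), (206, true, [1, 3, 4, 0, 4, 3, 4, 3, 1]), (206, false, [1, 3, 1, 0, 1, 3, 4, 0, 4, 0, 4, 0, 1, 3, 4]), (31, true, [3, 1, 0, 1, 3, 4, 3, 1, 0, 4]), (203, false, [2, 0, 4, 0, 4, 3, 4, 3, 4, 0, 1, 3, 1, 3, 1]), (208, true, [3, 4, 0, 1, 3, 1, 0, 4, 3, 1, 3, 4]), (79, true, [1, 0, 1, 3, 4, 0, 4, 0, 4, 3, 4, 3, 4, 3, 4]), (224, false, [4, 3, 4, 3, 4, 3, 1, 0, 4, 3, 4, 3, 4, 0]), (196, true, [4, 0, 1, 3, 1, 3, 4, 3, 4, 3, 1, 0]), (236, true, [2, 4, 3, 4, 3, 1, 0, 4, 0, 4, 3, 4, 3]), (196, true, [0, 2, 4, 3, 4, 0, 4, 0, 4, 0, 1]), (236, true, [1, 0, 1, 3, 4, 0, 1, 0, 1, 3, 4, 3]), (259, true, [0, 1, 3, 4, 0, 4, 3, 4, 3, 1, 0, 4, 0]), (186, true, [0, 1, 3, 4, 0, 4, 3, 4, 0]), (236, true, [4, 0, 4, 0, 1, 3, 4, 3, 4, 0,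 4]), (258, true, [4, 0, 1, 3, 4, 0, 4, 3, 1, 0, 1, 0, 4, 0, 4, 3]), (258, true, [1, 0, 1, 3, 1, 3, 1, 0, 1, 0, 1, 0, 4, 0, 4, 0]), (196, true, [0, 4, 0, 4, 3, 4, 3, 4, 3, 1, 3]), (236, true, [1, 0, 1, 2, 0, 4, 3, 1, 3, 1, 0, 4]), (186, true, [0, 1, 2, 0, 4, 3, 4, 0, 4, 0])]
def r130 : List (ℕ × Bool × List ℕ) := [(87, false, [0, 1, 0, 1, 0, 4, 0, 4, 3, 1, 3, 4, 0, 4]), (126, true, [3, 1, 0, 1, 3, 4, 0, 4, 0, 4, 3, 4, 0, 1]), (29, true, [0, 1, 0, 1, 2, 0, 4, 0, 4, 3, 4, 0, 4]), (252, true, [3, 4, 0, 1, 3, 1, 3, 4, 3, 4, 0]), (188, true, [0, 2, 4, 3, 4, 3, 4, 0, 1, 3, 1, 3, 4, 3, 4, 3, 4]), (91, true, [0, 4, 0, 4, 0, 4, 3, 1, 3, 1]), (69, true, [4, 0, 4, 0, 1, 3, 1, 0, 4, 0, 4, 3, 1, 3]), (179, false, [0, 4, 3, 4, 0, 1,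 0, 1, 0]), (256, true, [0, 4, 0, 4, 0, 1, 3, 1, 0, 1, 0, 4, 3, 4]), (126, false, [4, 0, 4, 0, 1, 3, 1, 3, 4, 3, 4, 3]), (214, false, [1, 3, 4, 3, 4, 3, 1, 0, 4, 0, 4, 0, 1, 3]), (230, false, [1, 0, 1, 0, 1, 0, 1, 2, 0, 1, 3, 1]), (17, false, [3, 4, 0, 1, 3, 1, 3, 1, 0, 1, 3, 4]), (263, true, [2, 0, 4, 0, 4, 3, 4, 3, 1, 0, 4, 0, 4, 0, 4, 3, 4]), (230, false, [2, 0, 1, 0, 1, 0, 1, 0, 1, 3, 4, 3, 4, 0, 4, 0]), (91, true, [1, 3, 1, 0, 1, 3, 4, 0, 4, 0, 4, 3, 4, 0, 1, 0]), (88, true, [2, 4, 0, 1, 3, 1, 3, 4, 0, 1, 3]), (69, false, [4, 0, 4, 3, 1, 0, 1, 0, 1, 0, 1, 3, 1, 3]), (164, false, [0, 2, 4, 0, 1, 0, 1, 3, 4, 3, 4, 3, 1]), (255, false, [1, 0, 4, 0, 4, 3, 4, 3, 1, 0, 1, 0, 1, 0, 4]), (263, true, [2, 0, 1, 0, 1, 0, 4,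 0, 4, 0, 4, 0, 4, 3]), (179, false, [1, 0, 4, 0, 4, 0, 1, 3, 1, 3, 1, 3, 4, 0, 4, 3]), (188, true, [1, 0, 1, 2, 0, 4, 3, 4, 0, 4, 3, 1, 3, 1]), (214, false, [0, 1, 3, 1, 3, 1, 0, 1, 3, 4, 3, 1, 0, 1, 0, 4]), (245, false, [0, 2, 4, 3, 4, 0, 4, 0, 4, 0, 4]), (245, true, [1, 3, 1, 3, 4, 0, 1, 0, 1, 3, 4, 3, 1]), (87, false, [1, 0, 1, 3, 1, 3, 1, 3, 1, 0, 1, 0]), (29, true, [0, 1, 0, 1, 0, 1, 2, 0, 1, 0]), (179, false, [0, 4, 3, 1, 0, 4, 3, 4, 0, 4]), (88, false, [2, 0, 4, 0, 1, 0, 1, 0, 4, 0, 4, 0, 4, 0, 4]), (255, false, [1, 0, 4, 3, 1, 0, 1, 3, 1, 3, 1, 0, 1, 3, 4]), (91, false, [0, 1, 3, 1, 0, 1, 0, 1, 0, 1, 3, 4, 0, 4]), (256, false, [4, 0, 1, 3, 1, 3, 4, 0, 1, 3, 1, 3, 4]), (88, false, [2, 0, 1, 0, 1, 3, 1, 3, 1, 3,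 4, 0, 4, 3, 1]), (69, false, [3, 1, 0, 1, 3, 1, 0, 4, 0, 4, 3, 1, 0]), (117, true, [1, 3, 1, 0, 1, 0, 4, 3, 4, 0, 1, 3]), (117, true, [4, 3, 1, 0, 1, 0, 1, 0, 4, 0, 4, 3]), (255, true, [0, 4, 0, 4, 0, 4, 3, 4, 3, 4, 0, 1, 3, 1, 0, 1]), (245, true, [1, 0, 4, 0, 4, 3, 1, 0, 1, 3, 1, 0, 4]), (87, true, [0, 1, 0, 4, 0, 4, 0, 4, 3, 4, 0, 4, 3, 4, 3, 1, 0]), (58, true, [0, 4, 0, 1, 0, 1, 3, 1, 0, 4]), (252, true, [3, 1, 3, 1, 3, 4, 0, 4, 0, 4]), (214, true, [0, 4, 0, 1, 0, 1, 3, 4, 0, 4, 0, 1]), (252, true, [3, 4, 0, 1, 3, 1, 3, 4, 3, 4, 0]), (256, true, [1, 3, 1, 3, 1, 0, 4, 3, 4, 0]), (252, true, [3, 1, 3, 1, 3, 4, 0, 4, 0, 4]), (117, false, [0, 2, 4, 0, 4, 3, 4, 3, 4, 0, 4, 3, 4, 0]), (17, true, [0, 1, 0, 4, 0, 4, 3, 1,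 0, 4, 0, 4, 3]), (17, false, [4, 3, 1, 0, 1, 0, 1, 0, 1, 3]), (229, true, [1, 2, 0, 1, 0, 1, 3, 4, 0, 4, 3, 1, 0, 4]), (58, true, [3, 1, 3, 1, 0, 4, 3, 1, 3, 1, 0, 4, 3, 1]), (69, true, [0, 1, 0, 4, 0, 4, 3, 1, 3, 4, 0, 4, 3, 1]), (29, true, [1, 0, 1, 0, 1, 0, 1, 0, 1, 2, 0, 4, 0, 1, 3, 1]), (263, true, [2, 4, 0, 4, 0, 4, 3, 1, 3, 4, 0, 4, 3, 4, 3]), (58, false, [1, 0, 1, 3, 1, 3, 4, 0, 1, 0, 1, 0, 1, 3, 4]), (126, true, [1, 3, 4, 0, 1, 3, 1, 3]), (17, true, [4, 0, 4, 3, 1, 3, 1, 0, 4]), (252, true, [1, 0, 1, 0, 1, 0, 1, 3, 4, 3, 4, 0, 4, 3]), (58, false, [0, 4, 0, 4, 0, 4, 0, 1, 3, 1, 0, 4, 3, 4]), (87, false, [1, 0, 4, 0, 4, 3, 4, 0, 4, 3, 1, 3, 1, 3]), (188, true, [0, 1, 2, 0, 1, 0, 4, 0, 4, 3, 4, 3, 4, 0, 1, 3, 4]),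 (230, true, [1, 0, 4, 3, 4, 3, 4, 3, 1, 0, 1, 3, 1, 3, 1, 0]), (88, true, [1, 2, 0, 1, 0, 1, 0, 4, 3, 1, 0, 1, 0, 1, 0, 4]), (179, true, [4, 0, 1, 0, 1, 3, 1, 3, 1, 3, 1, 3, 1, 0, 4, 0]), (256, false, [1, 0, 1, 0, 1, 3, 4, 3, 4, 0, 4, 0, 4, 0, 4, 3]), (58, true, [3, 4, 0, 1, 0, 1, 3, 1, 3, 1, 0, 4, 3, 4, 3, 4]), (188, false, [0, 2, 4, 0, 1, 3, 4, 3, 1, 0, 1, 0, 4, 3, 1, 3, 4]), (58, false, [1, 0, 4, 0, 4, 0, 1, 3, 1, 3, 4]), (126, false, [0, 1, 3, 4, 0, 4, 3, 1, 0, 1, 0, 1]), (256, false, [0, 4, 0, 4, 0, 4, 0, 4, 3, 1, 3, 1, 0, 4]), (17, true, [0, 4, 0, 4, 0, 1, 3, 1, 0, 4, 3, 4, 0, 1]), (164, true, [2, 0, 1, 0, 1, 0, 4, 3]), (91, false, [0, 4, 3, 4, 0, 1, 0, 1, 3, 4, 0, 4, 0]), (188, false, [1, 2, 0, 4, 3, 4, 0, 1,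 3, 1, 3, 1, 3, 1]), (256, true, [0, 4, 3, 4, 3, 4, 0, 4, 0, 1, 3, 1, 3, 1, 3]), (214, true, [1, 3, 1, 3, 4, 3, 4, 3, 4, 3, 1, 0, 1]), (263, false, [2, 0, 1, 0, 4, 3, 1, 3, 4, 0, 4, 3, 1, 0, 4]), (88, false, [0, 2, 4, 0, 4, 3, 1, 0, 1, 0, 4, 3, 4, 0, 1, 3, 4, 0]), (87, true, [0, 4, 3, 1, 0, 4, 0, 4, 3, 1, 3, 4, 0]), (87, true, [0, 1, 0, 4, 3, 1, 3, 1, 0, 1, 3, 1, 0]), (230, false, [1, 0, 1, 3, 4, 0, 4, 0, 1, 3, 1, 0, 1]), (230, true, [3, 4, 0, 4, 3, 4, 3, 4, 0, 1, 0]), (117, false, [1, 0, 2, 4, 0, 4, 3, 4, 3, 1, 0, 1, 0]), (29, false, [0, 2, 4, 0, 4, 0, 4, 3, 1, 3, 1, 0, 1, 0, 4]), (91, true, [4, 3, 4, 3, 4, 0, 4, 3, 4, 0, 4, 0]), (69, true, [3, 4, 3, 4, 0, 4, 3, 1, 0, 4, 0, 4]), (69, false, [1, 0, 1, 3, 1, 3, 1, 0, 1,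 0, 1, 0, 1]), (17, false, [1, 3, 1, 0, 1, 0, 4, 3, 4]), (91, false, [3, 1, 0, 4, 3, 1, 3, 1, 0, 1, 0, 4, 3, 1, 0]), (88, true, [0, 2, 4, 0, 4, 0, 4, 3, 4, 3, 4, 3, 4, 3]), (214, false, [4, 3, 4, 0, 1, 3, 1, 3, 4, 0, 4, 3, 1, 0, 1]), (229, false, [0, 2, 4, 3, 4, 3, 4, 3, 4, 0, 1, 0]), (29, false, [1, 3, 4, 3, 4, 0, 1, 0, 1, 3, 1]), (245, true, [1, 3, 1, 0, 4, 0, 4, 0, 4, 3, 4, 3, 4]), (255, true, [1, 3, 1, 3, 4, 0, 4, 0, 4, 0, 4, 3, 1, 3, 4, 0, 4]), (245, false, [3, 1, 3, 1, 0, 4, 0, 4, 0, 4, 3, 4, 3, 4, 0]), (230, true, [3, 1, 3, 4, 0, 4, 3, 4, 3, 4, 3, 1]), (117, false, [3, 1, 3, 4, 0, 1, 0, 1, 0, 4, 3, 1, 0]), (263, false, [2, 0, 4, 0, 4, 3, 1, 0, 1, 0, 1, 0]), (126, true, [0, 1, 0, 1, 3, 4, 0, 1, 3, 1, 3, 4, 0, 1]),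 (179, true, [1, 0, 4, 0, 4, 3, 4, 0, 1, 0, 1, 0, 4]), (188, false, [0, 1, 2, 0, 4, 3, 1, 0, 1, 0, 4, 3, 1, 0, 1, 3]), (126, false, [0, 4, 0, 1, 0, 1, 0, 4, 0, 4, 3, 4, 3, 4, 3, 1]), (245, false, [1, 3, 1, 0, 4, 3, 4, 0, 1, 3, 1, 3, 4, 0]), (263, false, [2, 0, 4, 0, 1, 3, 4, 0, 4]), (117, true, [0, 1, 0, 4, 3, 4, 0, 1, 3, 1, 3, 1, 3, 4, 0, 4]), (214, true, [3, 4, 0, 4, 0, 4, 3, 4, 0, 4, 3, 4, 0]), (252, true, [1, 0, 1, 0, 1, 0, 1, 3, 4, 3, 4, 0, 4, 3]), (179, true, [4, 3, 1, 3, 1, 0, 4, 3, 4]), (255, true, [0, 1, 0, 1, 0, 4, 3, 4, 0, 1, 3, 1, 0, 4, 0, 4]), (255, false, [1, 3, 1, 0, 1, 0, 1, 3, 1, 0]), (29, false, [3, 4, 0, 4, 3, 4, 0, 4, 3, 4, 0, 4, 0, 4])]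
def r131 : List (ℕ × Bool × List ℕ) := [(27, true, [1, 0, 1, 2, 0, 4, 0, 4, 0, 4, 3, 1, 0]), (81, false, [0, 1, 0, 1, 0, 1, 0, 1, 0, 4, 0, 4, 0, 1, 3]), (278, false, [3, 1, 3, 1, 3, 4, 0, 1, 0, 1]), (217, false, [2, 0, 4, 3, 1, 0, 1, 0, 4, 0, 4, 0, 4, 3, 1]), (255, true, [2, 4, 3, 4, 3, 4, 0, 4, 0, 1, 3, 1, 3, 1, 3, 4]), (110, true, [1, 2, 0, 4, 0, 4, 3, 4, 3, 4, 0]), (258, true, [2, 0, 4, 0, 4, 0, 4, 3, 1, 3, 1, 0, 4, 0]), (78, true, [0, 1, 3, 1, 0, 1, 3, 1, 3, 4, 3, 4, 3, 4, 3, 1]), (239, false, [1, 2, 0, 1, 3, 4, 0, 1, 3, 1, 0, 1, 3]), (114, true, [2, 0, 1, 0, 1, 3, 1, 3, 1]), (255, true, [1, 2, 0, 1, 3, 4, 0, 4, 3, 1, 3, 4, 0]), (250, false, [2, 4, 0, 4, 0, 1, 3, 4, 3]), (3, true, [2, 0, 1, 0, 1, 3, 4, 3, 4, 3, 4,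 0, 4, 3]), (197, true, [0, 4, 0, 1, 3, 1, 3, 1, 3, 1, 3, 1, 0, 4]), (133, false, [1, 3, 1, 0, 4]), (47, true, [0, 1, 0, 4, 3, 4, 0, 4, 3, 1, 0, 1, 0]), (110, true, [1, 3, 1, 3, 1, 0, 4, 3, 4, 3, 4, 0]), (47, true, [3, 4, 0, 4, 0, 1, 3, 1, 3, 4, 3, 4, 0, 1]), (122, true, [1, 3, 1, 0, 4, 3, 4, 0, 4, 0, 4, 0]), (131, true, []), (160, true, [1, 0, 1, 0]), (81, false, [3, 4, 3, 1, 3, 1, 3, 4, 3, 4, 3, 1]), (120, false, [1, 0, 4, 3, 4, 0, 1, 0, 1, 3, 4, 0, 4, 0]), (187, false, [4, 0, 4, 3, 4, 3, 4, 0, 4, 3, 4, 0, 4]), (34, true, [0, 1, 0, 1, 0, 4]), (197, true, [2, 0, 4, 3, 1, 0, 1, 0, 1, 0, 4, 0]), (165, false, [0, 2, 4, 3, 4, 0, 1, 0, 1, 0, 4, 0]), (122, true, [2, 0, 4, 3, 1, 3, 1, 3, 4, 3, 4, 3, 4, 0, 4, 3]), (59, false,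 [0, 2, 4, 3, 1, 3, 1, 0, 4, 3, 4, 0]), (122, true, [2, 4, 0, 1, 3, 1, 0, 1, 3, 4, 3, 4, 0]), (78, true, [0, 2, 4, 3, 1, 0, 1, 3, 4, 3, 4, 3, 4]), (217, false, [1, 0, 1, 0, 1, 2, 0, 4, 0, 4, 3, 1, 0, 4, 3]), (240, true, [4, 0, 4, 0, 4, 0, 4]), (78, true, [3, 4, 0, 4, 0, 4, 3, 4, 0, 4, 3, 4, 0, 4]), (47, false, [2, 0, 1, 3, 1, 3, 4, 0, 4, 3, 1, 3, 1, 3, 4]), (114, true, [3, 4, 0, 1, 3, 4, 0, 4, 0, 1, 3, 1, 3, 1]), (122, true, [2, 0, 1, 0, 1, 0, 4, 3, 4, 0, 1, 0, 1, 0, 1, 3, 1]), (133, false, [1, 0, 1, 0, 4, 3, 1, 3, 1, 3, 1, 3]), (78, false, [0, 1, 0, 4, 3, 1, 0, 1, 3, 4, 3, 4, 0, 4, 0]), (133, false, [0, 1, 3, 1, 0, 4, 3, 1, 3, 1, 3]), (78, true, [0, 1, 0, 1, 3, 4, 0, 1, 0, 1, 0, 1, 3, 4, 3, 4, 3, 1]), (110, true, [0,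 2, 4, 3, 4, 0, 1, 3, 1, 0, 1, 3, 4, 3, 4]), (3, true, [3, 1, 3, 4, 3, 4, 0, 4, 3, 1, 0, 1]), (27, true, [0, 4, 3, 4, 3, 1, 0, 1, 0, 4]), (59, true, [1, 2, 0, 4, 0, 1, 3, 1, 3, 4]), (239, false, [1, 3, 4, 0, 1, 3, 1, 0, 1, 3, 4, 3]), (110, true, [0, 1, 0, 1, 3, 4, 0, 4, 3, 4, 0, 4, 3, 1, 3, 4]), (114, true, [0, 4, 3, 1, 0, 1, 0, 4, 0, 4, 3, 1, 0, 4, 0]), (26, true, [1, 3, 4, 0, 4, 0, 4, 3, 1, 0, 4]), (120, false, [2, 4, 0, 4, 0, 4, 0, 4, 3, 4, 3, 1, 3]), (217, false, [0, 4, 0, 1, 3, 1, 0, 4, 0, 1]), (3, true, [4, 3, 1, 3, 4, 0, 1, 3, 1, 3, 4, 3]), (154, false, [0, 1, 3, 4, 0, 4, 3, 1, 3, 1, 0, 4, 0]), (255, true, [2, 0, 4, 3, 1, 0, 1, 0, 4, 3, 1, 0, 1, 0, 4, 0]), (266, false, [3, 4, 3, 4, 0, 1, 0, 1, 0, 4, 3, 4, 0, 1,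 3]), (154, false, [4, 3, 4, 0, 4, 3, 4, 3, 4, 0, 4, 3, 1, 3]), (154, false, [0, 1, 2, 0, 1, 0, 1, 0, 4, 0, 4, 0, 4, 0]), (258, true, [0, 2, 4, 3, 4, 3, 4, 3, 1, 0, 4, 0, 1]), (131, true, []), (47, false, [3, 4, 0, 4, 0, 4, 3, 1, 0, 1]), (250, false, [4, 3, 4, 0, 1, 3, 1, 3, 1, 0, 1, 0, 4]), (27, true, [1, 3, 1, 3, 1, 3, 1, 0, 1, 0, 1, 0, 4]), (131, true, []), (78, false, [2, 0, 1, 0, 4, 3, 4, 3, 4, 3, 1, 0, 4, 0, 4, 3, 4]), (154, false, [1, 2, 0, 4, 0, 4, 0, 4, 3, 1, 3, 1, 0, 1, 0, 1, 3]), (26, true, [1, 0, 2, 4, 3, 4, 3]), (278, false, [3, 1, 3, 1, 0, 1, 0, 4, 3, 1, 3, 1, 0]), (165, false, [1, 3, 1, 3, 1, 0, 4, 3, 1, 3, 4, 0, 4]), (122, true, [0, 1, 3, 1, 0, 1, 0, 1, 0, 4, 0, 4, 0, 4, 3, 4, 0]), (78, false, [2, 0, 1,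 0, 1, 0, 4, 3, 1, 3, 1, 0]), (59, false, [0, 1, 0, 4, 3, 1, 3, 4, 0, 4, 3, 1, 0, 1, 3]), (154, false, [3, 4, 3, 4, 0, 4, 3, 1, 3, 1, 0, 1, 3, 4]), (59, true, [0, 2, 4, 0, 4, 3, 1, 3, 1, 0, 1, 0]), (78, true, [0, 2, 4, 3, 4, 3, 4, 0, 1, 0, 1, 3, 4]), (27, true, [0, 2, 4, 3, 1, 0, 4]), (78, true, [0, 1, 0, 1, 3, 1, 0, 1, 3, 1, 3, 4, 3, 4]), (154, false, [2, 4, 0, 4, 0, 4, 3, 1, 3, 4, 0, 1, 3]), (78, false, [2, 0, 1, 0, 4, 3, 4, 3, 4, 3, 1, 0, 4, 0, 4, 3, 4]), (197, true, [3, 1, 3, 1, 3, 1, 3, 1, 0, 1, 0, 4, 0, 4, 3, 1]), (133, false, [0, 1, 0, 2, 4, 0, 1, 0, 1, 3, 4, 0, 1, 0, 1]), (255, true, [1, 0, 4, 3, 1, 3, 1, 3, 4, 0, 1, 3, 1, 3]), (26, true, [4, 3, 4, 0, 1, 0, 1]), (258, true, [0, 1, 0, 4, 3, 1, 0, 1, 0, 1, 0, 4,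 3, 1, 0]), (265, false, [1, 3, 1, 0, 1, 0, 4, 0, 4, 3, 4, 3]), (266, false, [0, 2, 4, 3, 4, 3, 4, 0, 4, 3, 4, 0, 4]), (59, true, [0, 4, 0, 4, 3, 4, 3, 4, 0, 4, 0, 4, 0, 1, 0]), (239, false, [2, 4, 0, 4, 3, 4, 0, 4, 3, 4, 0, 4, 0]), (27, true, [2, 0, 1, 3, 1, 0, 1, 3, 4, 0, 1, 0, 1]), (27, true, [3, 4, 0, 1, 3, 4, 3, 4, 3, 4, 3]), (47, false, [2, 0, 4, 0, 4, 3, 4, 3, 4, 3, 4, 0, 4, 3]), (255, true, [1, 0, 1, 3, 1, 3, 1, 3, 4, 3, 4, 3, 1, 0, 1]), (78, false, [2, 0, 1, 0, 1, 0, 4, 3, 1, 3, 1, 0]), (187, false, [0, 1, 0, 1, 0, 2, 4, 0, 4, 3, 1, 0, 4, 0, 1]), (250, false, [2, 4, 3, 1, 0, 1, 3, 1, 0, 4, 3, 4]), (255, true, [3, 1, 3, 1, 3, 4, 0, 4, 3, 4, 0, 4, 3, 4]), (187, false, [1, 0, 1, 2, 0, 1, 3, 1, 0, 1, 3, 1, 0, 1]),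 (165, false, [1, 0, 2, 4, 0, 4, 0, 4, 0, 1, 3]), (47, true, [2, 0, 4, 3]), (81, false, [2, 4, 3, 1, 3, 1, 3, 4, 3, 4, 3, 1]), (78, false, [0, 1, 0, 4, 3, 1, 0, 1, 3, 4, 3, 4, 0, 4, 0]), (34, true, [4, 0, 1, 3, 4, 0, 4, 0, 1, 3, 4, 3, 1, 0]), (59, false, [2, 0, 4, 3, 4, 3, 1, 0, 1, 3, 1, 3, 1, 3]), (278, false, [3, 1, 0, 4, 0, 4, 0, 4, 3, 1, 0, 4]), (120, false, [0, 1, 3, 1, 3, 4, 3, 4, 3, 4, 0, 4, 3, 4, 0, 4]), (122, true, [3, 1, 3, 1, 0, 4, 3, 4, 0, 1, 0, 1, 0, 1, 3, 1]), (228, false, [3, 4, 3, 4, 3, 4, 0, 1, 0, 1, 3, 4]), (110, true, [4, 0, 4, 3, 4, 3, 4, 3, 1, 0, 1, 3, 1, 3]), (266, false, [0, 4, 0, 4, 3, 4, 0, 4, 3, 4, 0, 4]), (133, false, [0, 4, 3, 1, 0, 1, 0, 1, 3, 4, 0]), (34, true, [4, 3, 4, 3, 4, 0, 4, 0, 4,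 3, 4, 3, 1, 3]), (110, true, [2, 0, 1, 3, 1, 0, 1, 0, 1, 3, 4, 0, 4, 3, 4, 0]), (133, false, [1, 0, 2, 4, 3, 1, 0, 1, 0, 4])]

theorem q120 : closeb 18 ps18 base7 rgR om xs x120 orb r120 = true := by decide +kernel
theorem q121 : closeb 18 ps18 base7 rgR om xs x121 orb r121 = true := by decide +kernel
theorem q122 : closeb 18 ps18 base7 rgR om xs x122 orb r122 = true := by decide +kernel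
theorem q123 : closeb 18 ps18 base7 rgR om xs x123 orb r123 = true := by decide +kernel
theorem q124 : closeb 18 ps18 base7 rgR om xs x124 orb r124 = true := by decide +kernel
theorem q125 : closeb 18 ps18 base7 rgR om xs x125 orb r125 = true := by decide +kernel
theorem q126 : closeb 18 ps18 base7 rgR om xs x126 orb r126 = true := by decide +kernel
theorem q127 : closeb 18 ps18 base7 rgR om xs x127 orb r127 = true := by decide +kernel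
theorem q128 : closeb 18 ps18 base7 rgR om xs x128 orb r128 = true := by decide +kernel
theorem q129 : closeb 18 ps18 base7 rgR om xs x129 orb r129 = true := by decide +kernel
theorem q130 : closeb 18 ps18 base7 rgR om xs x130 orb r130 = true := by decide +kernel
theorem q131 : closeb 18 ps18 base7 rgR om xs x131 orb r131 = true := by decide +kernel

theorem c10 : Rows xc10 :=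
  Rows.cons q120 (Rows.cons q121 (Rows.cons q122 (Rows.cons q123 (Rows.cons q124 (Rows.cons q125 (Rows.cons q126 (Rows.cons q127 (Rows.cons q128 (Rows.cons q129 (Rows.cons q130 (Rows.cons q131 Rows.nil)))))))))))

end Cfsg.Agent.H698.U33.Clo
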