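import Cfsg.Agent.H698.U33.Clo.Rows

/-!
# S5525: the closure certificate, rows 132 to 143 (helper698; data of helper819, helper763)
-/

set_option autoImplicit false
set_option maxRecDepth 100000
set_option Elab.async false

namespace Cfsg.Agent.H698.U33.Clo

def r132 : List (ℕ × Bool × List ℕ) := [(46, true, [2, 0, 4, 0, 1, 0, 1, 3, 4, 0, 4, 0, 1]), (268, true, [2, 0, 4, 0, 1, 3, 4, 0, 4, 3, 1, 3, 4, 0, 4, 0, 1]), (274, false, [1, 2, 0, 1, 3, 1, 3, 4, 3]), (229, false, [0, 1, 2, 0, 4, 0, 4, 3, 1, 0, 4, 0]), (218, true, [0, 2, 4, 0, 1, 0, 1, 3, 4, 3, 4, 0, 1, 3, 1, 0]), (148, false, [0, 1, 0, 2, 4, 0, 1, 3, 1, 0, 1, 0, 4]), (29, false, [2, 4, 0, 4, 3, 1, 3, 4, 0, 1, 0]), (20, false, [2, 0, 4, 3, 4, 3, 1, 0, 1, 3]), (229,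 true, [2, 4, 0, 1, 0, 1, 0, 1, 3, 4, 0, 4, 3, 4, 0]), (61, true, [4, 3, 1, 0, 1, 3, 4, 0, 4, 3, 1, 3, 4, 0]), (61, true, [1, 3, 4, 0, 1, 3, 1, 0, 1, 0, 1, 0, 4, 0]), (148, true, [2, 0, 1, 3, 1, 0, 4, 0, 4, 3, 1, 3, 4]), (181, true, [0, 4, 0, 1, 3, 1, 0, 4, 0, 4, 0, 4]), (270, true, [1, 3, 4, 0, 1, 3, 1, 3, 4, 0, 4, 3, 1]), (29, false, [4, 0, 4, 3, 4, 3, 1, 0, 1, 0, 1, 3, 1, 3, 1]), (22, false, [3, 1, 0, 4, 0, 4, 0, 4, 3, 4, 3, 4, 3]), (274, true, [0, 1, 2, 0, 1, 0, 1, 0, 4, 3, 4, 3, 1]), (148, true, [1, 2, 0, 4, 3, 4, 3, 4, 0, 4, 0, 4, 3, 4, 3, 1]), (88, false, [2, 0, 1, 3, 1, 3, 1, 3, 1, 0, 1, 3]), (22, false, [0, 4, 3, 4, 3, 1, 0, 1, 3, 1, 0]), (170, true, [0, 2, 4, 3, 4, 3, 1, 0, 1, 3, 4, 3, 4, 3, 1, 3]), (88, true,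 [2, 4, 0, 4, 0, 4, 3, 4, 3, 4, 0, 1, 3, 1, 3, 1, 0]), (88, true, [1, 2, 0, 4, 3, 4, 3, 4, 0, 1]), (268, true, [2, 4, 3, 4, 0, 1, 3, 1, 3, 1, 0, 1, 3, 4, 0]), (170, true, [2, 4, 0, 4, 3, 1, 0, 1, 0, 4, 0, 4, 0]), (170, false, [0, 1, 0, 2, 4, 0, 1, 3, 1, 0, 4, 3, 1, 3, 4, 0]), (268, true, [2, 0, 4, 3, 4, 3, 4, 0, 4, 3, 1, 3]), (29, true, [0, 1, 2, 0, 1, 0, 4, 3, 1, 0, 1, 3, 4, 3, 4, 0]), (61, false, [1, 3, 1, 3, 1, 0, 4, 0, 4, 3, 1, 3, 1]), (274, false, [3, 1, 3, 1, 3, 4, 3, 4, 0, 1, 3, 1, 3, 1, 3]), (277, false, [4, 3, 4, 3, 4, 0, 4, 0, 1, 3, 1, 3]), (22, true, [0, 4, 3, 1, 3, 4, 0, 1]), (46, false, [1, 0, 1, 2, 0, 1, 0, 1, 0, 1, 3, 1, 3, 4, 0, 4]), (181, true, [3, 1, 0, 1, 3, 1, 3, 1, 0, 1, 3, 1, 3, 4]), (29, true, [0,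 1, 0, 1, 0, 4, 3, 4, 0, 4, 0, 4, 0]), (229, true, [1, 0, 2, 4, 0, 4, 3, 1, 3, 1, 3, 4, 3, 4, 0]), (20, false, [3, 4, 0, 4, 3, 4, 3, 4, 0, 4, 3, 1, 3, 1]), (22, true, [3, 1, 3, 1, 3, 4, 3, 4, 3, 1, 0, 1]), (181, true, [0, 1, 0, 1, 0, 1, 0, 4, 3, 1, 0, 1, 0, 1]), (46, false, [1, 0, 2, 4, 3, 4, 3, 1, 0, 4, 0, 4, 0, 1, 3]), (20, false, [1, 2, 0, 4, 3, 4, 0, 1, 3, 1, 3, 1]), (46, true, [0, 2, 4, 0, 1, 0, 1, 3, 1, 3, 4, 0, 4, 0, 4]), (61, false, [3, 1, 3, 4, 3, 4, 3, 4, 3, 1, 0]), (234, true, [2, 0, 1, 3, 1, 3, 4, 3, 4, 0, 4, 0, 4, 3, 4]), (46, true, [2, 4, 3, 1, 3, 4, 0, 4, 3, 4, 3, 1]), (46, false, [0, 1, 2, 0, 4, 3, 4, 3, 4, 0, 4, 0, 1, 3, 1]), (20, true, [2, 0, 4, 0, 4, 3, 1, 3, 1, 0, 4, 3, 4, 0, 1]), (22, true, [3, 4,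 3, 1, 0, 1, 0, 4]), (22, false, [0, 4, 3, 1, 0, 4, 3, 4, 0, 4, 3, 4]), (270, false, [0, 4, 0, 4, 0, 1, 3, 1, 3, 1, 3, 4, 3, 4]), (229, false, [2, 0, 1, 3, 4, 3, 4, 0, 4, 3, 4, 0, 4, 0, 4, 0]), (277, false, [1, 0, 1, 3, 4, 3, 4, 0, 1, 3, 1, 3, 1]), (270, true, [0, 1, 0, 1, 0, 4, 0, 4, 3, 4, 0, 4, 3, 1, 3]), (277, true, [4, 0, 4, 0, 1, 3, 1, 0, 4, 3, 1, 3, 1, 0]), (229, true, [0, 2, 4, 3, 4, 3, 4, 0, 1, 0, 1, 3, 4, 0, 1]), (61, false, [0, 1, 2, 0, 1, 3, 1, 3, 1, 0, 4, 3, 1, 3, 4]), (170, false, [0, 1, 2, 0, 1, 0, 1, 3, 1, 0, 4, 3, 1]), (234, false, [2, 4, 0, 4, 0, 4, 0, 4, 0]), (20, true, [3, 1, 0, 4, 3, 4, 3, 1, 0, 1, 3, 4]), (218, false, [1, 2, 0, 1, 3, 1, 3, 4, 3, 4, 3, 4, 0, 4, 0, 4, 0]), (66, true, [4, 3, 1, 3, 4,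 0]), (148, false, [2, 4, 0, 1, 3, 1, 0, 1, 3, 1, 3, 4, 0, 4]), (64, true, [4, 0, 1, 3, 1, 0, 4, 3, 1, 0, 1, 0, 1]), (88, false, [1, 2, 0, 4, 0, 1, 3, 1, 3, 4, 0, 1, 0, 1, 3]), (66, false, [1, 3, 1, 0, 1, 3, 4, 0, 4, 0, 1, 3, 1, 3, 1, 3, 1]), (66, true, [1, 3, 4, 0, 4, 3, 4, 0, 4, 0, 1, 3, 4]), (88, false, [0, 2, 4, 3, 4, 0, 1, 3, 1, 0, 1, 0, 4, 3, 1]), (66, false, [1, 3, 1, 0, 4, 3, 1, 3, 4, 0, 4, 0, 4, 0, 1]), (218, false, [0, 1, 2, 0, 4, 3, 4, 3, 4, 0, 4, 0, 4, 3]), (229, false, [2, 0, 1, 0, 1, 0, 1, 3, 1, 3, 1, 3, 4]), (181, false, [1, 3, 1, 3, 4, 3, 4, 3, 1, 0, 1, 3, 1, 0, 1]), (88, true, [2, 0, 4, 3, 1, 3, 1, 3, 1, 0, 4, 3, 4, 0, 4, 0]), (64, true, [0, 1, 3, 4, 3, 4, 0, 4, 3, 4, 0]), (218, false, [2, 0, 1, 0, 1,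 0, 4, 3, 4, 0, 1, 0]), (66, true, [3, 4, 3, 4, 0, 1, 3, 1, 3, 1, 3, 4, 0, 1, 3]), (268, false, [0, 1, 2, 0, 1, 3, 4, 0, 1, 0, 1, 0, 1, 3]), (277, false, [0, 4, 0, 1, 3, 1, 0, 1, 0, 1, 0, 4, 0, 4, 0, 1, 3]), (64, false, [0, 1, 0, 4, 3, 4, 3, 1, 0, 4, 3, 4]), (268, false, [0, 2, 4, 0, 1, 3, 1, 3, 4, 3, 4, 3, 4, 0, 4, 3, 1]), (218, true, [0, 2, 4, 3, 1, 3, 1, 3, 1, 0, 4, 0, 4, 3, 4, 3]), (64, false, [0, 4, 0, 4, 3, 4, 3, 1, 0, 1, 0, 1, 0, 4, 0]), (64, true, [4, 0, 1, 3, 4, 0, 4, 3, 1, 3, 1, 0, 1, 3]), (229, false, [2, 0, 1, 3, 4, 0, 1, 3, 1, 0, 1, 0, 1, 3, 4]), (274, true, [0, 4, 0, 4, 0, 1, 3, 1, 0, 4, 3, 4, 0, 4, 0]), (64, false, [0, 1, 3, 1, 0, 1, 3, 4, 0, 4, 0, 4, 3, 4, 0, 4, 3]), (148, false, [2, 0, 4, 3, 1, 0, 1, 0,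 1, 3]), (277, true, [4, 0, 1, 0, 1, 0, 4, 0, 4, 0, 4]), (170, true, [0, 1, 0, 1, 0, 2, 4, 0, 4, 0, 4, 0, 1, 3, 1, 0, 4]), (148, true, [1, 2, 0, 1, 3, 1, 3, 4, 0, 4, 3, 1]), (181, false, [1, 3, 1, 3, 4, 3, 4, 0, 4, 0, 4, 3, 1]), (234, false, [1, 0, 1, 0, 1, 0, 2, 4, 0, 4, 3, 4, 3, 4, 0]), (270, true, [3, 1, 0, 4, 3, 4, 0, 1]), (270, false, [4, 0, 1, 0, 4, 3, 1, 0, 1, 3]), (274, true, [2, 0, 1, 0, 1, 0, 1, 3, 4, 0, 4, 3, 4, 3]), (277, true, [0, 4, 0, 4, 3, 1, 3, 4, 0, 1]), (274, false, [1, 3, 1, 3, 1, 0, 4, 0, 4, 3, 1, 0, 4, 0, 4]), (29, true, [1, 3, 4, 3, 1, 0, 1, 0, 1, 3, 1, 3, 1, 3, 4]), (234, true, [1, 2, 0, 1, 0, 1, 3, 4, 3, 4, 0, 4, 3, 1, 0, 4]), (170, false, [0, 1, 2, 0, 4, 3, 1, 0, 1, 3, 1, 3, 4, 0, 1, 3]), (218,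 true, [0, 1, 0, 1, 2, 0, 4, 0, 4, 3, 4, 0, 1, 3, 4]), (20, true, [1, 3, 4, 0, 1, 0, 1, 0, 1, 3, 4, 0, 4, 3]), (66, false, [1, 3, 1, 3, 4, 3, 4, 0, 1, 3, 1, 0, 1, 3, 4]), (268, false, [0, 2, 4, 0, 1, 3, 1, 0, 1, 0, 1]), (181, false, [3, 1, 3, 4, 0, 4, 3, 4, 3, 4, 3, 4, 0]), (270, false, [3, 4, 0, 4, 0, 4, 3, 1, 0, 4, 0, 4, 0, 4]), (234, false, [0, 1, 0, 2, 4, 0, 4, 3, 4, 3, 4, 3, 4, 0, 1, 0, 1]), (234, true, [0, 2, 4, 3, 4, 3, 1, 0, 1, 0, 1, 0, 1, 3, 4, 3, 4]), (229, true, [1, 0, 1, 0, 2, 4, 3, 4, 3, 1, 0, 1, 0, 1]), (61, true, [3, 4, 3, 4, 3, 4, 0, 1, 3, 4, 3, 4, 0]), (148, false, [1, 0, 2, 4, 0, 4, 3, 1, 3, 1, 3, 4, 3, 4, 0]), (148, true, [2, 4, 0, 4, 0, 4, 3, 1, 3, 4, 0, 4, 0]), (29, false, [4, 0, 4, 3, 1, 3, 4, 0,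 4, 0, 1, 3, 1, 3, 4])]
def r133 : List (ℕ × Bool × List ℕ) := [(255, false, [0, 4, 3, 1, 0, 4, 0, 4, 0, 4, 3, 1]), (170, true, [1, 0, 1, 2, 0, 1, 3, 1, 0, 1, 0, 1, 0, 4, 0, 4]), (72, true, [1, 3, 4, 3, 1, 0, 1, 0, 4, 0, 4, 0, 1, 3, 1, 3]), (260, false, [0, 1, 0, 4, 3, 1, 3, 1, 0, 1, 0, 1, 3, 4, 3, 4, 0]), (231, false, [4, 0, 4, 0, 1, 3, 1, 0, 1, 3, 1, 0, 1, 0]), (254, false, [4, 3, 1, 3, 1, 3, 1, 3, 4, 0]), (126, true, [0, 2, 4, 3, 4, 3, 4, 0, 4, 0, 4, 0, 4, 0]), (95, true, [1, 2, 0, 4, 0, 4, 0, 4, 3, 4, 3, 4, 0, 4, 0]), (88, false, [1, 0, 2, 4, 3, 1, 0, 1, 3, 4, 0, 4, 3, 1, 3, 1]), (65, true, [2, 4, 0, 4, 0, 4, 0, 4, 3, 4, 3, 4, 0, 1, 3]), (174, true, [1, 3, 4, 3, 4, 0, 4, 0, 4, 0]), (231, false, [0, 1, 2, 0, 1, 3, 1,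 0, 4, 0, 4, 3]), (69, true, [1, 3, 4, 3, 4, 0, 4, 0, 4, 3, 1, 0, 4, 0]), (243, true, [0, 1, 3, 4, 0, 4, 0, 1, 3, 4, 0, 1]), (245, true, [0, 2, 4, 3, 1, 3, 1, 0, 1, 3]), (158, true, [4, 3, 1, 0, 1, 3, 4, 0, 4, 3, 1, 3, 1, 3]), (263, true, [2, 0, 4, 3, 1, 0, 1, 0, 4, 3, 1, 3, 1]), (131, false, [1, 0, 4, 0, 4, 3, 4, 0, 1, 3, 1, 3, 1, 3]), (254, false, [0, 4, 3, 4, 3, 4, 0, 1, 3, 4, 3, 4, 0]), (98, true, [3, 4, 0, 4, 3, 4, 3, 4, 0, 4, 0, 4]), (98, true, [1, 2, 0, 1, 0, 4, 0, 4, 3, 4, 0, 1, 0, 1, 0, 4, 3]), (63, false, [0, 1, 2, 0, 4, 3, 4]), (82, true, [1, 0, 4, 3, 4, 0, 4, 3, 4, 3, 4, 3]), (24, false, [3, 1, 3, 4, 0, 1, 0, 1, 0, 1, 0]), (114, false, [0, 1, 0, 4, 0, 4, 0, 1, 3, 4, 0]), (62, false, [2, 0, 4, 3, 1, 3, 1, 3,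 1, 0, 4, 3]), (42, false, [0, 4, 3, 4, 0, 4, 0, 1, 3, 1, 0, 1, 3, 4]), (34, true, [1, 3, 1, 3, 1, 3, 4, 3, 4, 3]), (158, true, [0, 2, 4, 0, 1, 0, 1, 3, 1, 0, 1, 3, 1]), (158, true, [0, 1, 3, 4, 0, 1, 3, 1, 3, 1, 3, 1, 0, 4, 3]), (17, true, [0, 1, 0, 4, 3, 1, 3, 4, 0, 4, 3, 1, 3, 1]), (263, true, [1, 0, 1, 0, 1, 0, 1, 0, 2, 4, 3, 4, 3, 4, 0, 1]), (240, false, [0, 1, 0, 1, 0, 1, 0, 1, 0, 2]), (69, true, [1, 0, 1, 3, 1, 3, 1, 3, 1, 3]), (260, false, [1, 2, 0, 4, 3, 1, 3, 1, 0, 1, 0, 1, 3, 4, 3, 4, 0]), (65, true, [1, 0, 1, 3, 1, 3, 4, 3, 4, 3, 4, 0, 4, 0, 4, 0]), (63, false, [0, 1, 0, 4, 3, 4, 0, 1, 3, 1, 3, 4, 3, 4]), (88, false, [3, 4, 3, 1, 0, 1, 0, 1, 0, 1, 3, 4, 0, 4]), (170, true, [0, 1, 2, 0, 1, 0, 1, 3, 1, 3, 1,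 0, 4, 3, 4, 3, 4, 0]), (131, false, [1, 3, 4, 0, 4]), (17, false, [1, 0, 4, 3, 1, 3, 1, 3, 1, 3, 1]), (211, true, [1, 3, 1, 0, 1, 0, 4, 3, 4, 3, 4, 0]), (184, false, [0, 1, 0, 1, 2, 0]), (184, false, [0, 1, 3, 1, 0, 1, 0, 4, 0, 4, 0, 1, 0]), (30, false, [1, 2, 0, 4, 3, 4, 3, 1, 0, 4, 3, 4, 3]), (30, true, [0, 1, 2, 0, 4, 3, 1, 0, 1, 0, 1, 0, 1]), (84, true, [0, 4, 3, 1, 3, 1, 0, 1, 0, 4, 3, 1, 3, 1]), (36, true, [1, 3, 4, 0, 1, 3, 1, 3, 1, 0, 4, 3, 4, 3, 1]), (133, true, []), (126, true, [3, 4, 3, 1, 0, 1, 3, 4, 3, 1, 0, 4, 3]), (131, false, [3, 1, 0, 4, 3, 4, 3, 4, 0, 1, 3]), (126, true, [1, 2, 0, 1, 0, 4, 3, 1, 0, 1, 0, 1, 0, 1]), (251, false, [1, 3, 1, 0, 4, 3, 4, 0, 4, 0, 1, 3, 4]), (16, false, [2, 4, 0, 1, 3, 1,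 3, 4, 0, 1, 0, 1]), (255, false, [2, 4, 3, 1, 0, 4, 3, 4, 3, 4, 0, 4, 0, 4, 3, 4, 0]), (72, true, [1, 2, 0, 4, 3, 1, 0, 1, 0, 4, 0, 4, 3, 1, 0, 1]), (255, false, [0, 1, 3, 1, 3, 1, 3, 4, 0, 4, 0, 1]), (174, true, [0, 2, 4, 0, 4, 3, 4, 3, 4, 3, 4, 0]), (9, false, [1, 3, 4, 3, 4, 0, 1, 3, 1, 3, 1]), (211, true, [3, 4, 0, 1, 3, 1, 3, 4, 3, 4, 0, 1, 3, 1]), (95, true, [0, 1, 0, 1, 0, 1, 3, 1, 3, 1, 0, 1, 3, 1]), (255, false, [2, 4, 3, 4, 3, 4, 3, 4, 0, 1, 3]), (8, true, [3, 1, 0, 4, 3, 4, 0, 4, 0, 1, 3, 1, 0]), (84, true, [1, 3, 1, 3, 4, 3, 4, 0, 4, 3, 4, 3, 4]), (83, true, [0, 2, 4, 0, 4, 0, 4, 0, 1, 3, 1, 3, 4, 3]), (18, true, [0, 1, 3, 1, 3, 4, 0, 1, 0, 1, 3, 1, 0, 4, 3]), (83, true, [0, 2, 4, 0, 4, 3, 1, 0, 4, 0]), (31,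 true, [2, 4, 0, 1, 3, 1, 3, 4, 0, 1, 0, 1]), (88, false, [1, 3, 1, 3, 4, 3, 4, 0, 1, 3, 1, 0, 4, 0, 1]), (98, true, [2, 4, 0, 4, 0, 4, 0, 4, 3, 1, 3, 1, 0]), (170, true, [3, 4, 3, 4, 3, 1, 0, 1, 3, 4]), (95, true, [2, 0, 1, 3, 1, 3, 1, 0, 1, 0, 1, 0, 1, 0]), (255, false, [1, 3, 4, 0, 1, 0, 1, 3, 4, 3, 1, 0, 4, 0, 4]), (255, false, [1, 0, 1, 0, 1, 0, 2, 4, 0, 1, 3, 1, 3, 1, 3]), (82, true, [1, 0, 4, 3, 1, 0, 1, 3, 4, 0, 4, 0, 4, 0]), (24, false, [0, 1, 0, 2, 4, 0, 1, 0, 1, 0, 1, 0]), (17, false, [1, 0, 4, 3, 1, 3, 1, 3, 1, 3, 1]), (142, true, [0, 1, 0, 4, 3, 1, 0, 1, 3, 4]), (42, false, [1, 2, 0, 4, 3, 4, 0, 4, 3, 1, 3, 1, 0, 1, 3]), (30, true, [1, 0, 4, 3, 1, 3, 1, 3, 1, 3, 4, 3, 4]), (72, true, [2, 4, 0, 1, 3, 1, 3,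 4, 0, 4, 0, 4, 3]), (65, true, [2, 0, 1, 0, 1, 3, 1, 3, 1, 0, 1, 3, 4]), (72, true, [4, 0, 4, 3, 1, 0, 1, 3, 4, 0, 4, 0, 4, 0, 4]), (65, true, [0, 4, 0, 4, 3, 1, 3, 1, 3, 1, 0, 4, 3]), (231, false, [0, 2, 4, 0, 4, 0, 4, 3, 1, 0, 1, 3, 1, 0]), (255, false, [1, 0, 2, 4, 0, 1, 0, 4, 3, 4, 0, 1]), (260, false, [0, 2, 4, 3, 4, 0, 4, 3, 1, 3, 1, 0, 1, 3, 4]), (231, false, [0, 4, 0, 4, 0, 1, 3, 1, 0, 4, 0, 4, 3]), (95, true, [3, 4, 0, 4, 0, 4, 3, 4, 3, 4, 0]), (170, true, [3, 1, 0, 1, 0, 1, 3, 1, 3, 1, 0, 1, 0, 4]), (255, false, [3, 1, 3, 1, 3, 4, 0, 4, 0, 1, 3, 1, 3, 1, 3]), (260, false, [4, 3, 4, 0, 4, 3, 1, 3, 1, 0, 1, 3, 4]), (17, true, [0, 1, 3, 4, 0, 1, 3, 1, 3, 1, 3, 1]), (30, false, [0, 4, 0, 1, 0, 1, 3, 4, 3, 4, 0,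 1, 0, 1]), (251, false, [0, 1, 0, 1, 3, 1, 3, 1, 0, 4, 3, 4, 0, 4, 3, 1]), (240, false, [0, 2, 4, 0, 1, 3, 1, 3, 1, 3, 4, 0]), (243, true, [0, 1, 0, 4, 3, 4, 0, 1, 3, 4, 3, 4, 0, 4, 0]), (114, false, [2, 4, 3, 1, 0, 4, 0, 4, 3, 4, 3, 4]), (88, false, [0, 1, 0, 1, 0, 1, 2, 0, 1, 3, 1, 0]), (98, true, [4, 0, 1, 3, 4, 3, 4, 0, 4, 3, 1, 3]), (254, false, [1, 0, 2, 4, 0, 4, 3, 4, 3, 4, 0, 1, 3, 4, 3, 4, 0]), (254, false, [1, 0, 1, 0, 1, 0, 1, 0, 1, 0, 2, 4, 0]), (69, true, [1, 2, 0, 1, 3, 1, 0, 1, 0, 1, 0, 4, 3, 1]), (69, true, [1, 0, 1, 2, 0, 1, 3, 4, 0, 1, 0, 1, 3, 1, 3]), (245, true, [2, 4, 0, 4, 0, 4, 3, 4, 3, 4, 3, 1, 0]), (62, false, [0, 4, 0, 4, 3, 1, 3, 1, 0, 1, 3, 4, 3, 1, 0]), (131, false, [0, 4, 0, 4, 0, 4, 0, 1,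 3, 4, 3, 4]), (126, true, [0, 1, 3, 4, 3, 4, 3, 4, 0, 1, 3, 1]), (263, true, [0, 4, 0, 1, 3, 1, 0, 4, 0, 4, 3, 4, 3]), (263, true, [0, 4, 3, 4, 0, 1, 0, 1, 3, 1, 0, 4, 3, 1]), (158, true, [2, 0, 1, 0, 1, 0, 1, 0, 4, 0, 4, 3, 1, 0, 1, 3, 1]), (31, true, [2, 4, 0, 1, 3, 1, 3, 4, 0, 1, 0, 1])]
def r134 : List (ℕ × Bool × List ℕ) := [(76, false, [1, 3, 4, 3, 1, 0, 1, 0, 4, 3, 4, 3, 4, 3]), (68, false, [3, 1, 3, 4, 3, 4, 0, 1, 0, 1, 0, 1, 3, 1]), (172, true, [0, 4, 0, 1, 0, 1, 0, 1, 3, 1, 3, 4, 3, 4, 0]), (76, false, [1, 2, 0, 4, 0, 1, 3, 1, 3, 4, 0, 4, 0, 4, 0]), (188, true, [2, 0, 4, 3, 4, 0, 4, 0, 1, 3, 4, 3, 4]), (126, true, [3, 1, 0, 1, 3, 4, 0, 4, 3, 1, 3, 4, 0, 4, 3]), (76, true, [1, 0, 2, 4, 0, 4, 3, 4, 3, 4, 0, 1,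 3]), (68, false, [2, 0, 1, 0, 4, 0, 4, 3, 1, 3, 1, 3, 1, 0, 1]), (141, false, [2, 4, 0, 1, 3, 1, 0, 4, 0, 4, 3, 4, 3, 4, 3]), (172, true, [0, 2, 4, 3, 1, 3, 1, 3, 1, 0, 1, 0, 4, 0, 4, 3]), (257, false, [0, 1, 0, 1, 0, 4, 3, 1, 0, 1, 0, 1, 0, 1, 3, 4]), (188, true, [3, 4, 0, 4, 3, 4, 3, 1, 0, 4, 0, 4]), (126, true, [2, 0, 1, 3, 1, 0, 4, 0, 4, 3, 1, 3, 4, 0, 4, 0]), (128, false, [1, 0, 1, 0, 1, 2, 0, 4, 3, 4, 3]), (186, true, [4, 0, 4, 0, 4, 3, 1, 3, 4, 0, 1, 0]), (257, true, [4, 0, 1, 0, 4, 3, 4, 3, 1, 0, 1, 0]), (188, false, [2, 0, 4, 3, 4, 3, 1, 0, 1, 0, 4, 3, 1]), (76, true, [1, 0, 4, 3, 4, 0, 4, 0, 4, 3, 1, 0]), (68, true, [0, 1, 0, 1, 3, 4, 3, 4, 3, 1, 0, 1, 3, 4, 0, 4]), (141, false, [4, 3, 1, 0, 1, 3, 4, 3, 4, 0,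 4, 0, 4, 0]), (75, true, [4, 3, 4, 0, 1, 0, 1, 3, 1, 0, 1, 3]), (112, true, [0, 1, 0, 1, 0, 1, 2, 0, 4, 0, 4, 3, 1, 0]), (63, true, [3, 4, 3, 4, 3, 4, 3, 4, 0, 4, 0, 4, 0]), (147, true, [1, 0, 4, 3, 1, 3, 1, 3, 1, 0, 4, 3, 1, 3]), (128, false, [1, 0, 1, 0, 1, 3, 4, 0, 4, 0]), (186, true, [2, 4, 3, 4, 0, 4, 3, 1, 3, 4, 0, 1, 3]), (147, false, [1, 0, 1, 3, 4, 0, 4, 3, 1, 0, 1, 0]), (30, true, [0, 4, 0, 1, 0, 1, 0, 4, 0, 4, 3, 4, 3, 4, 0]), (117, false, [3, 1, 0, 4, 3, 1, 3, 1, 0, 4, 0]), (51, false, [3, 1, 0, 4, 3, 4, 3, 4, 0, 4, 3, 1]), (128, true, [4, 0, 1, 0, 1, 3, 1, 3, 1, 0, 1, 3, 4]), (188, false, [3, 4, 0, 4, 0, 1, 3, 1, 3, 4, 0, 1]), (230, true, [0, 1, 0, 1, 0, 1, 3, 4, 3, 1, 0, 4, 0, 4, 3]), (68, true, [0, 1, 0,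 1, 2, 0, 4, 0, 4, 0, 1, 3, 1, 0, 4, 3, 4]), (188, true, [0, 2, 4, 3, 1, 0, 4, 3, 4, 3, 1, 0, 1, 3, 4, 0, 1]), (179, true, [0, 4, 3, 4, 0, 4, 3, 1, 3, 1, 0, 1, 3, 4, 3]), (112, true, [0, 1, 0, 1, 0, 1, 3, 4, 3, 4, 0, 1, 3]), (75, true, [2, 4, 0, 4, 3, 1, 3, 1, 0, 1, 3, 1, 0]), (126, false, [1, 0, 1, 0, 4, 0, 4, 3, 1, 3, 1, 0, 4, 0]), (188, false, [0, 2, 4, 3, 4, 0, 4, 3, 1, 3, 1, 3, 4, 0, 4, 3, 4]), (183, false, [2, 0, 1, 3, 1, 0, 1, 3, 1, 3, 4, 3, 4, 0, 1]), (182, false, [0, 2, 4, 3, 4, 3, 4, 0, 1, 3, 4, 3, 1]), (182, true, [2, 0, 4, 0, 4, 3, 1, 0, 1, 0, 4, 0]), (182, true, [3, 4, 3, 4, 0, 1, 3, 1, 3, 4, 3]), (128, true, [2, 4, 3, 1, 3, 1, 0, 1, 0, 1, 3, 1, 0, 4]), (257, true, [4, 0, 1, 0, 4, 3, 4, 3, 1, 0, 1, 0]), (145,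 false, [0, 4, 0, 1, 0, 1, 0, 1, 3, 1, 3, 4, 3, 4]), (267, true, [0, 1, 0, 1, 3, 1, 0, 1, 0, 4, 0, 4, 0, 1, 0]), (202, true, [3, 1, 3, 1, 3, 4, 3, 4, 3, 4, 0]), (188, false, [0, 4, 0, 4, 3, 4, 0, 1, 0, 1, 0, 4, 3, 4, 0, 4]), (117, true, [0, 1, 0, 1, 3, 1, 3, 4, 0, 1, 3, 1, 0, 4]), (117, true, [0, 1, 0, 1, 2, 0, 1, 0, 4, 3, 1, 0, 1, 3, 4]), (230, true, [0, 1, 0, 1, 0, 1, 2, 0, 4, 0, 1, 3, 4, 3, 4, 0]), (271, false, [0, 1, 3, 1, 3, 4, 3, 4, 3, 1, 0, 1, 0]), (188, true, [0, 4, 0, 1, 3, 4, 0, 4, 0, 1, 3, 1, 0, 4, 3, 1]), (179, true, [0, 2, 4, 0, 4, 3, 4, 0, 1, 0, 1, 3, 1, 0, 4, 0]), (117, true, [4, 0, 4, 0, 4, 3, 4, 0, 4, 3, 1, 0, 1]), (76, true, [4, 3, 4, 0, 4, 0, 4, 3, 4, 0]), (183, false, [3, 1, 0, 1, 3, 1, 0, 1, 0, 4,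 0, 4, 3, 1]), (182, false, [0, 4, 0, 4, 0, 4, 3, 1, 0, 4, 0, 1]), (126, false, [1, 0, 1, 0, 2, 4, 3, 4, 0, 1, 0, 1, 3, 4, 3]), (257, false, [0, 1, 0, 1, 0, 4, 3, 1, 0, 1, 0, 1, 0, 1, 3, 4]), (202, false, [1, 3, 1, 0, 1, 3, 4, 3, 4, 3, 4, 0, 1, 0]), (63, false, [4, 0, 1, 3, 4, 0, 4, 0, 4, 0, 4, 3, 1, 3, 4]), (112, false, [3, 1, 3, 4, 0, 4, 3, 4, 3, 4, 0, 4, 3]), (183, true, [1, 2, 0, 4, 3, 4, 0, 4, 0, 1, 3, 1, 0, 1, 3, 1, 3]), (112, false, [2, 0, 1, 0, 4, 3, 4, 0, 4, 0, 4, 3, 4, 0]), (183, true, [1, 3, 4, 0, 4, 3, 4, 3, 1, 0, 1, 3, 1, 0, 1, 0]), (172, false, [0, 2, 4, 3, 4, 3, 4, 3, 4, 3, 4, 3, 4]), (172, false, [0, 4, 0, 4, 0, 4, 0, 4, 0, 4, 0, 4]), (91, false, [1, 0, 2, 4, 0, 4, 3, 4, 3, 4, 0, 1, 3, 4]), (91, false,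 [1, 0, 4, 3, 4, 0, 4, 0, 4, 3, 1, 0, 4]), (104, true, [1, 0, 4, 3, 4, 0, 1, 0, 1, 0, 1, 3, 1, 3]), (51, true, [0, 4, 0, 1, 3, 1, 3, 1, 3, 1, 3, 1, 0, 4]), (145, true, [0, 4, 0, 4, 0, 4, 0, 4, 0, 4, 0, 4, 0]), (240, true, [4, 0, 4, 0, 1, 3, 1, 3, 1, 3, 1, 3, 1, 0]), (30, false, [0, 4, 3, 4, 0, 1, 0, 1, 3, 4, 3, 1, 0, 4, 3]), (267, false, [3, 1, 0, 1, 0, 1, 3, 1, 3, 4, 0, 4, 0, 4, 0]), (240, false, [3, 1, 3, 4, 0, 4, 0, 4, 3, 4, 0, 1, 0]), (76, false, [0, 1, 3, 1, 3, 1, 0, 1, 3, 1, 0, 1, 0]), (141, true, [3, 4, 3, 1, 3, 1, 0, 4, 0, 4, 3, 1, 3, 4]), (75, false, [1, 2, 0, 4, 3, 4, 3, 1, 0, 4, 3, 4, 0]), (75, false, [1, 3, 4, 0, 4, 0, 1, 3, 4, 0, 4, 3]), (141, true, [2, 0, 4, 0, 1, 0, 1, 3, 4, 3, 4, 0, 1, 0, 4]), (121, false,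 [1, 0, 4, 0, 1, 3, 1, 3, 4, 3, 4]), (257, true, [0, 1, 2, 0, 1, 0, 1, 0, 4, 0, 4, 3, 4, 0, 4, 3]), (257, true, [0, 1, 3, 1, 3, 1, 3, 4, 3, 4, 0, 4, 3, 4, 0]), (121, false, [0, 4, 3, 1, 0, 1, 0, 1, 3, 4, 3, 1]), (188, false, [0, 4, 3, 1, 3, 1, 3, 1]), (188, false, [0, 2, 4, 0, 1, 0, 1, 0, 1]), (117, false, [2, 4, 0, 1, 0, 4, 3, 4, 0, 4, 3, 1]), (117, false, [4, 3, 1, 3, 4, 0, 4, 3, 4, 0, 1]), (203, true, [4, 3, 1, 3, 1, 0, 1, 3, 4, 3, 1, 0, 4]), (203, true, [2, 4, 0, 1, 0, 1, 0, 1, 3, 4, 3, 1, 0, 4]), (186, false, [1, 2, 0, 1, 3, 4, 0, 1, 0, 1, 0]), (186, false, [1, 3, 1, 0, 4, 3, 1, 3, 1, 3]), (203, false, [1, 0, 1, 0, 1, 0, 1, 3, 1, 3, 1, 0, 4, 0]), (203, false, [1, 0, 1, 0, 1, 0, 1, 2, 0, 1, 0, 1, 3, 4, 3]), (179, false,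 [0, 1, 0, 4, 3, 1, 3, 1, 0, 4, 3, 1, 3, 1, 3]), (179, false, [0, 1, 0, 2, 4, 0, 1, 0, 1, 3, 4, 0, 1, 0, 1, 0]), (188, true, [2, 4, 0, 1, 0, 1, 3, 4, 3, 4, 0, 1, 3, 1]), (91, true, [2, 0, 4, 3, 1, 0, 1, 0, 4, 0, 4, 0, 4, 3]), (91, true, [3, 4, 0, 1, 3, 1, 3, 4, 3, 4, 3, 4, 0]), (188, true, [4, 3, 1, 3, 1, 0, 4, 0, 4, 3, 1, 0, 1]), (230, false, [0, 4, 0, 4, 3, 1, 3, 1, 3, 1, 0, 1, 3]), (230, false, [0, 2, 4, 3, 4, 0, 1, 0, 1, 0, 1, 3, 1, 0]), (257, false, [0, 1, 0, 1, 2, 0, 1, 3, 1, 0, 4, 3, 4, 3]), (257, false, [0, 1, 0, 1, 3, 1, 0, 1, 3, 4, 0, 4, 0]), (121, true, [0, 1, 0, 2, 4, 3, 4, 0, 1, 0, 1, 0]), (121, true, [0, 1, 0, 4, 0, 4, 3, 1, 3, 1, 3]), (104, false, [1, 0, 1, 3, 1, 0, 1, 3, 4, 3, 1, 0, 4, 3, 4]), (271, true,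 [3, 4, 3, 1, 0, 4, 0, 4, 0, 4, 3, 1])]
def r135 : List (ℕ × Bool × List ℕ) := [(183, true, [2, 4, 3, 1, 0, 4, 3, 4, 0, 1, 0, 1, 0, 4, 0, 4, 3]), (125, true, [1, 0, 1, 3, 4, 0, 1, 3, 1, 0, 4, 0, 4]), (5, true, [2, 0, 4, 0, 4, 0, 4, 3, 4, 3, 4, 3, 4, 0, 4]), (178, true, [1, 2, 0, 1, 3, 1, 0, 1, 3, 4, 3, 4, 3, 1]), (235, true, [0, 2, 4, 3, 1, 3, 1, 3, 4, 0, 4, 3, 4, 3, 1, 3]), (200, true, [1, 0, 1, 2, 0, 1, 3, 1, 3, 1, 0, 4, 3, 4, 0, 4, 3, 1]), (260, false, [0, 1, 3, 4, 3, 4, 0, 4, 3, 1, 3, 1, 3, 1]), (57, false, [0, 1, 2, 0, 4, 3, 1, 0, 1, 0, 1, 0, 1]), (226, false, [2, 0, 4, 0, 4, 3, 1, 3, 4, 0, 4, 0, 4, 0, 1]), (4, true, [0, 2, 4, 0, 4, 0, 1, 3, 4, 0, 4, 3, 4, 0, 4]), (144, false, [0, 1, 0, 1, 2, 0, 4, 3, 4, 0, 1, 0,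 4]), (6, true, [1, 0, 2, 4, 0, 1, 3, 1, 3, 1, 3, 4, 0, 4, 0]), (234, true, [2, 0, 4, 3, 4, 0, 4, 0, 4, 3, 4, 3, 4, 3, 4, 3]), (18, false, [4, 3, 1, 0, 1, 3, 4, 3, 1, 0, 1, 0]), (2, false, [3, 1, 0, 4, 3, 1, 0, 1, 0, 1, 3, 1]), (137, true, [2, 4, 3, 1, 3, 4, 0, 1, 0, 1, 3, 1, 0, 4]), (166, true, [2, 0, 4, 0, 1, 3, 1, 0, 4, 0, 4, 3, 4, 0]), (270, true, [0, 1, 2, 0, 1, 3, 1, 0, 4, 0, 4, 0, 1, 3, 1, 0, 1, 3]), (184, true, [4, 0, 4, 3, 4, 0, 1, 3, 1, 3, 4, 0]), (127, false, [1, 0, 4, 3, 1, 3, 4, 0, 4, 0, 4, 0, 1]), (231, false, [1, 0, 1, 0, 1, 3, 4, 0, 4, 3, 4, 3]), (83, true, [0, 1, 0, 1, 0, 1, 3, 1, 3, 4, 0, 4, 0]), (237, false, [1, 2, 0, 1, 3, 4, 0, 1, 3, 1, 3, 1, 3, 1, 0, 1]), (85, false, [1, 0, 1, 0, 1, 0, 4, 3, 1, 0,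 1, 0, 4, 3]), (275, true, [1, 2, 0, 4, 3, 1, 3, 1, 3, 1, 0, 4, 3, 4, 0]), (176, false, [3, 1, 3, 4, 0, 4, 0, 4, 0, 1]), (21, true, [2, 0, 4, 3, 4, 3, 4, 3, 4, 0, 1, 0, 1, 3, 1]), (135, true, []), (137, false, [0, 1, 3, 4, 0, 1, 0, 1, 0, 1, 3, 4, 0, 4, 3]), (5, false, [0, 1, 3, 1, 3, 4, 3, 4, 3, 4, 3]), (20, false, [1, 3, 1, 0, 4, 3, 4, 0, 4, 0, 4, 3]), (98, false, [3, 1, 3, 1, 3, 4, 3, 4, 0, 4, 3, 4, 0]), (73, true, [0, 1, 3, 1, 0, 4, 0, 4, 3, 1, 0, 4, 0, 4, 0, 4]), (69, false, [1, 2, 0, 1, 0, 4, 0, 4, 0, 4, 3, 1, 3, 1, 0, 1]), (178, true, [3, 1, 0, 4, 3, 4, 0, 4, 0, 4, 3, 1]), (88, false, [4, 0, 4, 0, 1, 3, 1, 0, 1, 0, 4, 0, 4]), (84, false, [3, 1, 3, 1, 3, 1, 0, 4, 3, 1]), (153, false, [0, 1, 2, 0, 4, 3, 4, 0, 1, 3]),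 (113, false, [0, 1, 3, 1, 0, 1, 0, 1, 0, 4, 0, 4, 3, 4, 3]), (270, true, [0, 1, 0, 1, 3, 1, 3, 4, 3, 4, 3, 4, 0, 1, 3]), (204, true, [0, 1, 3, 4, 0, 4, 3, 4, 3, 1, 0, 4, 0, 4, 0]), (57, false, [1, 0, 2, 4, 0, 1, 3, 1, 3, 1, 0, 4, 0]), (66, false, [2, 4, 0, 1, 3, 4, 0, 4, 0, 1, 3, 1, 3, 1]), (66, false, [1, 0, 1, 3, 4, 0, 4, 0, 4, 3, 4, 3, 4, 3, 1]), (217, true, [3, 4, 0, 4, 0, 1, 3, 4, 0, 4, 3, 1]), (174, true, [0, 4, 3, 1, 3, 4, 0, 4, 3, 1, 0, 1, 0, 4, 0]), (96, true, [0, 2, 4, 0, 1, 0, 1, 3, 1, 3, 1, 0, 4, 0, 4, 3, 1]), (173, true, [3, 4, 0, 4, 3, 4, 3, 4, 0, 1, 3, 4, 0]), (173, false, [1, 0, 1, 3, 4, 0, 1, 0, 1, 3, 1]), (260, false, [2, 4, 0, 4, 3, 4, 3, 1, 0, 4, 3, 4, 0, 1, 0, 4]), (177, false, [1, 3, 1, 3, 1, 0,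 1, 0, 4, 0, 4, 3]), (113, false, [0, 1, 0, 1, 3, 1, 3, 1, 3, 1, 0, 1, 0, 1, 0, 4]), (7, true, [0, 1, 2, 0, 4, 3, 4, 3, 1, 0, 1, 3, 4, 3, 4, 3]), (166, true, [0, 4, 0, 4, 3, 4, 0, 1, 0, 1, 3, 1, 0, 1]), (183, true, [3, 4, 0, 4, 0, 1, 3, 1, 3, 1]), (128, false, [2, 0, 1, 0, 1, 0, 1, 0, 1, 0, 4]), (199, false, [3, 1, 0, 4, 3, 4, 3, 1, 0, 1, 0, 1, 0, 1, 0]), (117, true, [1, 0, 1, 2, 0, 4, 0, 4, 3, 4, 3, 1, 0, 1, 0]), (274, false, [1, 0, 1, 0, 1, 0, 4, 0, 4, 3, 4, 0, 4]), (57, false, [0, 4, 0, 1, 3, 1, 3, 4, 0, 4, 3, 1, 0, 4, 3]), (177, true, [0, 4, 0, 4, 3, 1, 0, 1, 3, 1, 0, 1, 0, 1]), (199, false, [0, 1, 2, 0, 4, 0, 4, 3, 1, 0, 1, 0, 1, 3, 1, 0, 1, 3]), (29, false, [1, 3, 4, 0, 1, 0, 1, 3, 1, 3, 1, 0, 4, 0, 1]), (96, true,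 [0, 1, 0, 1, 3, 1, 0, 4, 3, 4, 0, 1, 0, 4]), (18, true, [0, 4, 0, 4, 0, 1, 3, 1, 0, 4, 3, 4, 3]), (258, true, [4, 0, 1, 3, 4, 0, 4, 3, 1, 0, 1, 0, 4, 0]), (167, true, [2, 0, 1, 0, 4, 3, 1, 3, 1, 3, 1]), (55, false, [1, 0, 4, 0, 4, 3, 4, 3, 4, 3]), (226, false, [3, 1, 0, 1, 0, 4, 3, 4, 0, 4, 0, 1]), (127, false, [2, 0, 1, 0, 4, 3, 4, 0, 4, 0, 1]), (113, false, [1, 3, 1, 3, 1, 3, 1, 0, 1, 0, 1, 3, 1]), (177, true, [1, 0, 4, 0, 1, 3, 1, 0, 4, 0]), (92, true, [4, 0, 1, 0, 1, 3, 4, 3, 1, 0, 4, 0, 4, 3, 4, 3]), (92, true, [0, 1, 0, 2, 4, 3, 4, 3, 1, 0, 1, 3, 1, 3, 4]), (237, false, [0, 1, 0, 4, 3, 4, 3, 4, 0, 4, 3, 4, 0]), (85, false, [2, 0, 4, 0, 4, 3, 4, 0, 1, 3, 4, 3, 1, 0]), (12, false, [0, 1, 0, 1, 3, 1, 0, 1, 0, 1, 3,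 1, 0]), (118, false, [0, 1, 0, 1, 0, 1, 3, 4, 0, 4, 0, 4]), (21, true, [1, 0, 4, 0, 4, 0, 1, 3, 4, 3, 4, 3, 1, 0]), (136, true, [1, 3, 4, 0, 1, 3, 1, 3, 4, 0, 1, 0, 4]), (5, false, [1, 0, 4, 3, 1, 0, 1, 3, 1, 3, 1, 3, 1]), (88, false, [2, 0, 1, 3, 4, 3, 4, 3, 4, 0, 4, 3, 4, 0, 1]), (128, false, [1, 0, 1, 3, 1, 3, 1, 3, 4, 0]), (4, false, [1, 3, 4, 0, 4, 0, 4, 0, 4, 3, 1, 3, 4, 0, 4, 0]), (6, true, [4, 3, 1, 3, 4, 0, 1, 3, 1, 3, 1, 3, 4]), (113, false, [4, 0, 1, 0, 1, 0, 1, 3, 4, 3, 4]), (254, false, [0, 4, 3, 1, 3, 4, 0, 4, 0, 4, 0, 4, 0]), (235, true, [0, 4, 0, 4, 3, 4, 3, 4, 0, 4, 0, 1]), (57, false, [3, 4, 0, 1, 3, 4, 3, 4, 3, 4, 0, 1, 3, 1]), (125, true, [2, 0, 1, 3, 1, 0, 1, 0, 1, 3, 4, 3, 4, 0, 1, 0]), (113, false,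 [2, 4, 0, 1, 3, 1, 3, 1, 0, 1, 3, 1, 0, 1, 0]), (254, false, [1, 0, 2, 4, 0, 4, 3, 1, 0, 1, 0, 1, 3, 4, 0]), (114, false, [4, 3, 1, 3, 1, 0, 1, 3, 1, 3, 4, 3, 4, 0, 1]), (82, false, [0, 4, 0, 4, 3, 1, 3, 4, 0, 4, 0, 1, 3]), (7, true, [1, 0, 4, 3, 4, 0, 4, 0, 4, 0, 1, 3, 4, 3]), (73, true, [2, 0, 1, 3, 1, 0, 4, 0, 4, 0, 4, 3, 4]), (55, false, [2, 0, 1, 3, 1, 0, 4, 3, 1, 3, 1, 0, 4, 3, 1, 3]), (168, false, [4, 0, 4, 3, 1, 0, 1, 0, 4, 0, 4, 0, 4, 0]), (153, false, [4, 3, 1, 0, 1, 0, 4, 0, 4, 0, 4, 3, 4, 3]), (231, false, [0, 1, 3, 1, 0, 1, 3, 4, 3, 4, 0, 4, 3, 4]), (184, true, [2, 4, 0, 1, 3, 1, 3, 1, 3, 4, 3, 4, 3, 1]), (200, true, [1, 0, 4, 3, 1, 3, 1, 0, 1, 3, 4, 0, 4, 0, 4]), (234, true, [3, 1, 0, 1, 0, 1, 3, 4, 3, 1,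 0, 4, 0]), (69, false, [0, 1, 0, 1, 3, 1, 0, 4, 0, 4, 0, 1, 3]), (2, false, [3, 4, 0, 4, 0, 1, 3, 1, 3, 1]), (176, false, [0, 1, 0, 2, 4, 0, 4, 0, 4, 0, 1]), (177, false, [1, 0, 4, 3, 4, 0, 4, 0, 4, 3, 1, 0, 4, 0]), (113, false, [0, 2, 4, 3, 4, 0, 1, 3, 1, 3, 1, 3, 4, 3]), (166, true, [4, 0, 1, 0, 1, 3, 4, 0, 1, 0, 1, 0, 4]), (98, false, [1, 2, 0, 4, 3, 1, 0, 1, 3, 4, 0, 1, 0, 1, 3]), (5, true, [1, 2, 0, 4, 3, 1, 0, 1, 3, 1, 3, 1, 3, 1]), (94, true, [0, 4, 3, 4, 0, 4, 3, 1, 3, 1, 0, 1, 3, 1])]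
def r136 : List (ℕ × Bool × List ℕ) := [(111, false, [2, 0, 1, 3, 4, 0, 1, 0, 1, 0, 1, 3, 4, 0, 4, 3]), (241, false, [0, 4, 3, 4, 0, 4, 3, 4, 0, 1, 3, 1, 3, 4, 3]), (49, true, [0, 1, 2, 0, 4, 0, 1, 3, 1, 0, 4, 0]), (213, false, [3, 1, 0, 1, 0, 1, 0, 1, 3, 1, 3, 4, 3, 4]), (34, false, [0, 1, 0, 1, 0, 4, 0, 4, 0]), (261, true, [0, 2, 4, 0, 4, 3, 4, 3, 1, 0, 1, 0, 1, 0, 1, 3, 1]), (114, false, [0, 1, 3, 4, 0, 4, 3, 4, 3, 1, 0, 4, 0, 4]), (128, false, [1, 2, 0, 1, 0, 4, 3, 1, 0, 1, 3, 4, 3, 4, 3]), (27, true, [3, 4, 3, 4, 3, 1, 0, 4, 0, 4]), (254, true, [0, 4, 0, 1, 3, 1, 3, 4, 0, 4, 0, 4, 0, 4, 0, 4]), (211, false, [0, 1, 0, 1, 3, 4, 3, 4, 0, 4, 3, 1, 0]), (120, false, [0, 4, 0, 4, 3, 1, 3, 1, 0, 4, 0]), (153, false, [1,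 0, 1, 0, 1, 3, 1, 3, 4, 0, 4, 3, 1, 0, 4, 0]), (154, false, [1, 0, 2, 4, 3, 4, 3, 4, 0, 4, 0, 4, 0, 4, 3, 1]), (190, true, [1, 0, 2, 4, 3, 4, 0, 1, 3, 1, 0, 1, 3, 1, 0]), (260, true, [3, 4, 3, 4, 3, 4, 0, 1, 0, 1, 3, 1, 3, 1, 3]), (217, false, [0, 4, 0, 1, 0, 1, 0, 4, 0, 4, 3, 4, 0]), (167, false, [0, 2, 4, 0, 1, 3, 1, 0, 4, 0, 4, 0, 1, 3, 1, 0]), (153, false, [2, 0, 4, 0, 4, 0, 4, 0, 4, 3, 1, 3, 1, 0, 4, 3, 4]), (140, true, [1, 0, 1, 0, 4, 3, 1, 0, 1, 3, 4, 3, 4]), (98, false, [0, 2, 4, 3, 4, 3, 1, 0, 1, 3, 1, 3, 4, 3]), (207, true, [1, 3, 4, 0, 4, 0, 4, 0, 4, 3, 1]), (65, false, [3, 4, 0, 1, 0, 1, 0, 4, 3, 4, 0, 1, 3]), (102, false, [0, 4, 3, 1, 0, 4, 3, 4, 0, 4, 3]), (255, true, [0, 4, 0, 4, 3, 4, 0, 4, 0, 4, 3]),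 (181, true, [3, 1, 0, 4, 3, 1, 0, 1, 0, 1, 3, 4, 0, 4, 0]), (208, true, [2, 4, 3, 4, 0, 4, 3, 4, 0, 1, 3, 1, 3]), (241, true, [1, 3, 1, 3, 1, 0, 1, 0, 4, 3, 4, 0, 1, 3]), (6, true, [4, 3, 1, 0, 4, 3, 4, 3, 4, 3, 1, 0, 4, 3, 4]), (260, true, [2, 0, 1, 0, 1, 3, 4, 0, 1, 0, 1, 0, 1, 0]), (137, true, [2, 0, 1, 3, 1, 0, 1, 3, 1, 0, 4, 0, 4, 3, 4]), (211, false, [3, 4, 3, 4, 0, 1, 0, 1, 3, 4]), (6, false, [2, 4, 0, 1, 0, 4, 3, 4, 3, 4, 3, 4, 3, 4]), (261, true, [3, 1, 0, 4, 3, 1, 0, 1, 3, 4, 3, 1]), (229, true, [4, 3, 4, 0, 1, 3, 1, 3, 4, 0, 4, 0, 1]), (126, false, [1, 2, 0, 1, 3, 1, 0, 4, 0, 4, 3, 1, 0, 1, 3]), (135, true, [1, 3, 4, 3, 1, 0, 4, 0, 4, 3, 1, 0, 4]), (27, false, [3, 4, 3, 4, 0, 1, 0, 1, 3, 4, 0, 1, 0, 1, 0]),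 (128, false, [1, 3, 4, 3, 4, 0, 1, 3, 1, 0, 4, 0, 4, 3]), (199, false, [0, 2, 4, 3, 4, 3, 4, 3, 1, 0, 1, 3, 1]), (6, true, [1, 3, 4, 3, 4, 3, 4, 0, 4, 3, 4, 0, 4, 0, 4]), (114, false, [3, 1, 0, 4, 3, 4, 0, 1, 0, 1, 3, 4, 0, 4]), (176, false, [3, 4, 3, 4, 0, 4, 3, 4, 3, 4, 0, 1, 3, 1, 0]), (120, true, [0, 2, 4, 3, 4, 0, 1, 0, 1, 3, 4, 3, 4, 0, 1]), (227, false, [0, 2, 4, 3, 1, 0, 4, 0, 4, 0]), (213, false, [1, 3, 1, 0, 1, 3, 1, 3, 1, 0, 1, 3, 4, 0, 1]), (122, false, [1, 3, 1, 0, 4, 3, 4, 0, 4, 0, 4, 3, 4, 0]), (136, false, [0, 4, 0, 1, 0, 1, 0, 4, 0, 4, 0, 1, 0]), (136, true, []), (254, true, [1, 3, 4, 3, 1, 0, 1, 0, 4, 3, 1, 3, 1, 0, 4]), (114, false, [2, 0, 1, 0, 1, 3, 1, 3, 4, 0, 4, 3, 1]), (167, false, [0, 2, 4, 3,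 1, 0, 4, 0, 4, 0, 4]), (185, true, [0, 4, 0, 4, 3, 4, 0, 1, 0, 1, 3, 1, 0, 1]), (97, true, [4, 0, 1, 3, 4, 0, 4, 0, 1, 3, 4, 3, 4]), (90, true, [2, 0, 4, 3, 4, 0, 1, 3, 4, 0]), (260, true, [2, 0, 1, 0, 1, 3, 4, 0, 4, 3]), (65, false, [1, 0, 1, 0, 1, 3, 1, 3, 1, 3, 4, 0, 4, 3, 1, 0]), (211, false, [1, 2, 0, 4, 3, 1, 3, 1, 3, 4, 3, 4, 0, 4, 0]), (6, true, [2, 0, 1, 0, 4, 3, 4, 0, 1, 3, 4, 3, 1]), (104, false, [1, 0, 1, 0, 1, 0, 1, 0, 1, 3, 1]), (241, false, [0, 2, 4, 0, 4, 0, 4, 3]), (118, true, [2, 0, 4, 3, 1, 3, 1, 3, 4, 3]), (26, false, [0, 1, 0, 1, 2, 0, 1, 0, 1, 3, 4, 3, 4]), (122, false, [0, 2, 4, 0, 1, 0, 1, 0]), (144, false, [3, 1, 0, 4, 0, 4, 3, 4, 0, 4, 3, 1]), (95, false, [0, 1, 3, 4, 3, 4, 0, 1, 3, 1, 3, 4]),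 (247, true, [0, 1, 3, 4, 0, 1, 0, 1, 3, 4, 0, 4]), (95, false, [1, 3, 4, 3, 4, 0, 1, 3, 1, 3, 4, 0]), (98, false, [0, 4, 0, 4, 3, 4, 0, 1, 0, 4]), (27, false, [2, 0, 1, 3, 1, 0, 1, 0, 4, 3, 1, 3, 1, 3, 1]), (181, false, [2, 0, 1, 3, 1, 3, 1, 0, 4, 0, 4, 3, 1, 0, 4, 0]), (124, true, [4, 0, 1, 3, 1, 0, 1, 3, 1, 3, 1, 0, 1, 0, 1]), (65, false, [0, 1, 0, 1, 2, 0, 4, 3, 1, 3, 1]), (118, true, [3, 4, 3, 1, 3, 1, 3, 4, 3]), (65, false, [1, 2, 0, 4, 0, 4, 3, 1, 3, 1, 0, 4, 3, 4]), (228, false, [1, 2, 0, 4, 3, 1, 0, 4, 0]), (244, true, [0, 4, 0, 4, 0, 4, 0, 4, 3, 1, 3, 4, 0, 4, 3, 4, 0]), (143, false, [1, 3, 1, 3, 4, 0, 4, 0, 1, 3]), (203, false, [4, 0, 4, 3, 4, 3, 4, 3, 1, 0, 4, 0]), (213, false, [2, 0, 4, 3, 1, 3, 1, 3, 1, 0]),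 (126, false, [3, 4, 0, 1, 3, 4, 3, 1, 0, 1, 3, 4]), (49, true, [3, 1, 3, 1, 0, 4, 0]), (254, true, [2, 0, 4, 0, 4, 3, 4, 3, 1, 0, 4, 3, 4]), (260, true, [1, 0, 4, 3, 4, 0, 4, 3, 4, 0, 4]), (36, true, [0, 1, 3, 4, 0, 1, 0, 1, 0, 1, 0, 4]), (229, true, [1, 2, 0, 1, 3, 1, 3, 1, 3, 1, 0, 1, 0]), (90, true, [0, 1, 3, 4, 3, 4, 3, 1, 0, 1, 0, 1, 0, 4, 3, 4, 3]), (59, true, [3, 1, 0, 1, 0, 4, 0, 4, 3, 1, 0, 4]), (181, false, [3, 4, 3, 1, 0, 4, 0, 4, 0, 4, 0, 1]), (124, true, [0, 1, 0, 1, 2, 0, 1, 0, 4, 3, 4, 0, 1, 3, 1, 0]), (213, false, [2, 4, 3, 4, 0, 4, 0, 4, 0, 1, 0]), (111, false, [4, 3, 4, 0, 4, 3, 4, 0, 4, 3, 4, 0]), (227, false, [1, 2, 0, 4, 0, 4, 3, 1, 3, 1, 0]), (137, false, [3, 4, 3, 4, 0, 1, 3, 1, 3, 4, 3, 4]), (6,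 false, [1, 3, 1, 0, 4, 3, 4, 0, 4, 0, 1, 3, 4, 0, 4]), (185, true, [1, 3, 4, 3, 1, 0, 1, 0, 1, 3, 1, 0, 4, 0]), (255, true, [0, 1, 0, 1, 2, 0, 1, 3, 1, 0, 1, 3, 4, 3, 4, 3]), (154, false, [1, 0, 1, 3, 4, 3, 4, 3, 4, 0, 1, 3, 1, 0, 1]), (140, true, [4, 3, 1, 0, 1, 0, 4, 0, 4, 3, 1, 0, 4, 0]), (27, true, [1, 2, 0, 4, 0, 1, 3, 1, 3, 1, 3, 4, 0, 4, 3, 1]), (220, true, [1, 0, 1, 0, 4, 3, 1, 3, 4, 0]), (226, true, [1, 2, 0, 1, 0, 1, 0, 4, 3, 4, 0, 1, 0, 1, 0, 4]), (220, true, [2, 4, 3, 4, 0, 1, 3, 1, 0, 1, 3, 1, 3, 4, 3]), (226, true, [0, 4, 3, 4, 0, 4, 3, 1, 0, 4]), (181, true, [0, 1, 2, 0, 4, 3, 1, 0, 1, 0, 1, 3, 4, 0, 4, 0]), (190, true, [0, 4, 3, 1, 3, 4, 0, 1, 0, 1, 3, 4, 3, 4]), (254, true, [2, 4, 0, 4, 0, 4, 3, 4, 0,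 4, 3, 4, 3, 1, 0]), (199, false, [3, 1, 0, 4, 0, 4, 3, 4, 3, 4, 0, 1, 3, 1, 0, 1]), (97, false, [0, 1, 0, 1, 2, 0, 4, 3, 4, 3, 1, 0, 4]), (84, false, [3, 1, 3, 4, 3, 4, 0, 4, 0, 4, 3, 1, 3, 1]), (6, true, [2, 0, 1, 0, 4, 3, 4, 3, 1, 0, 1, 0, 4, 0, 4]), (243, false, [3, 1, 0, 4, 3, 4, 0, 4, 0, 1, 3, 1, 3])]
def r137 : List (ℕ × Bool × List ℕ) := [(61, false, [0, 1, 3, 1, 3, 1, 0, 4, 0, 4, 3]), (90, false, [0, 1, 0, 1, 2, 0, 4, 0, 4, 0, 4, 3, 4, 3, 4]), (110, true, [0, 1, 2, 0, 1, 0, 1, 0, 4, 3, 1, 3, 1, 0]), (86, false, [2, 4, 3, 1, 0, 4, 3, 4, 0, 4, 3, 1, 3]), (256, false, [2, 4, 3, 1, 3, 1, 0, 1, 0, 4, 3, 1]), (98, true, [2, 0, 4, 3, 1, 0, 1, 0, 1, 3, 4]), (65, true, [2, 4, 3, 4, 3, 1, 0, 1, 0, 1, 0, 1, 3, 1, 3, 1, 0]),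 (110, false, [0, 2, 4, 3, 4, 0, 1, 3, 1, 0, 4, 3, 4, 3, 4, 3]), (255, true, [0, 1, 0, 1, 0, 4, 0, 4, 3, 1, 0, 4]), (87, false, [1, 0, 1, 2, 0, 1, 3, 1, 0, 1, 3, 1, 0, 1, 0, 1, 0]), (90, false, [2, 4, 0, 4, 3, 4, 3, 4, 0, 4, 0, 4, 3, 4, 3, 4, 3]), (69, true, [4, 3, 1, 0, 4, 3, 4, 3, 1, 0, 1, 3, 4, 0, 1]), (49, true, [2, 0, 1, 0, 4, 3, 4, 0, 4]), (256, true, [0, 2, 4, 3, 1, 0, 1, 3, 4, 3, 4, 0, 1, 0, 4]), (270, true, [3, 1, 0, 1, 0, 4, 3, 4, 0, 4, 3, 4, 0, 1, 0, 1, 0]), (109, true, [4, 3, 1, 0, 4, 3, 1, 3, 1, 3, 1]), (276, true, [2, 4, 0, 1, 3, 4, 0, 4, 3, 4, 3, 1, 0, 4, 0]), (66, true, [1, 3, 4, 0, 1, 0, 1, 3, 4, 3, 4]), (71, false, [2, 4, 3, 1, 0, 1, 0, 1, 0, 1, 3, 1, 3, 1, 0, 1]), (199, true, [0, 1, 0, 1, 0, 1, 0, 2,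 4, 3, 4, 3, 4, 0, 4, 0, 4]), (234, true, [2, 0, 1, 0, 1, 3, 1, 3, 1, 3, 1, 0, 4, 3, 4, 0]), (110, true, [2, 0, 1, 0, 1, 0, 1, 0, 1, 3, 1, 3, 1, 0, 4, 3, 1]), (270, false, [1, 0, 4, 3, 1, 3, 4, 0, 4, 3, 1, 0, 4, 3]), (84, false, [3, 1, 0, 4, 3, 4, 3, 1, 0, 1, 3, 4, 0, 1]), (126, true, [0, 1, 3, 4, 3, 4, 3, 1, 0, 4, 0, 4, 3, 4]), (123, false, [0, 1, 3, 1, 3, 1, 0, 4, 0, 4, 3, 4, 3, 4, 3, 4, 0]), (88, true, [1, 3, 4, 3, 4, 3, 4, 0, 1, 0, 1, 3, 4]), (110, true, [0, 2, 4, 0, 1, 3, 4, 3, 1, 0, 1, 3, 4, 0, 1]), (87, true, [0, 2, 4, 0, 1, 3, 1, 3, 4, 0, 1, 3, 1, 3]), (181, true, [1, 0, 1, 2, 0, 4, 3, 4, 0, 1, 0, 1, 3, 1, 0]), (49, false, [0, 4, 3, 1, 3, 4, 0, 4, 0, 4, 0, 4]), (136, false, [1, 0, 1, 0, 4, 0, 4, 3, 1, 0, 1, 0]),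 (71, true, [2, 4, 3, 1, 0, 4, 3, 4, 3, 4, 0, 4, 0, 4, 3, 4, 0]), (182, true, [1, 0, 1, 3, 1, 3, 1, 3, 4, 3, 4, 0, 1, 0]), (65, false, [2, 4, 3, 1, 0, 1, 0, 1, 3, 1, 0, 4, 0, 4, 0]), (95, false, [2, 4, 0, 4, 3, 1, 0, 1, 3, 1, 0, 1, 0]), (170, false, [3, 4, 0, 1, 3, 1, 3, 4, 0, 4, 0, 1, 3, 1, 0]), (92, true, [0, 2, 4, 0, 1, 3, 4, 3, 1, 0, 1, 0, 1, 0, 4, 3, 4, 3]), (92, false, [2, 0, 4, 3, 1, 0, 1, 0, 4, 3, 1, 3, 4]), (65, false, [0, 1, 2, 0, 4, 3, 4, 3, 4, 0, 1, 3]), (50, true, [0, 1, 0, 4, 3, 1, 3, 4, 0, 4, 0]), (83, true, [3, 1, 3, 4, 0, 4, 0, 1, 3, 4, 3, 4, 0, 4, 0]), (181, true, [0, 1, 0, 1, 0, 1, 0, 4, 0, 4, 0, 4, 0, 1, 3]), (66, true, [0, 1, 0, 1, 3, 1, 3, 1, 0, 4, 3, 4, 0, 4, 3, 4]), (253, true, [3, 1, 0, 1, 3, 4,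 0, 4, 0, 4, 3, 4, 0, 4]), (180, false, [4, 0, 4, 0, 4, 3, 4, 0, 4, 3, 4, 3, 4]), (244, true, [0, 1, 2, 0, 4, 0, 4, 3, 4, 3, 1, 0, 4, 0, 4]), (260, false, [2, 0, 4, 0, 4, 0, 4, 3, 4, 3, 4, 0, 1, 3, 4]), (251, false, [4, 0, 4, 3, 1, 0, 1, 0, 1, 3, 1, 3, 1, 3]), (211, true, [0, 4, 0, 1, 3, 4, 3, 1, 0, 1, 0, 4, 3, 1, 3]), (88, false, [3, 1, 0, 4, 3, 4, 3, 1, 0, 4, 3, 4, 3, 4]), (180, true, [3, 1, 0, 4, 0, 4, 3, 4, 0, 4, 3, 4, 3, 4, 3]), (266, false, [4, 3, 4, 0, 4, 3, 4, 3, 4, 0, 4]), (209, false, [2, 0, 4, 0, 4, 3, 4, 3, 4, 0]), (97, false, [4, 3, 1, 0, 1, 0, 4, 3, 4, 3, 1]), (266, true, [0, 2, 4, 0, 4, 0, 4, 3, 4, 3, 1, 0, 1, 3, 4]), (90, true, [2, 4, 0, 1, 0, 4, 3, 1, 0, 1, 0, 1, 3, 1, 0]), (65, true, [0, 2, 4, 3, 4, 3,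 1, 0, 1, 0, 4, 3, 4, 3, 1]), (83, false, [0, 2, 4, 3, 1, 3, 1, 3, 4, 3, 4, 3, 1, 3]), (86, true, [0, 1, 0, 2, 4, 0, 4, 3, 4, 0, 4, 3, 1, 0, 1, 0, 4]), (255, false, [1, 0, 1, 3, 4, 3, 1, 0, 1, 3, 4]), (123, true, [3, 1, 0, 4, 0, 4, 0, 1, 3, 1, 0, 4, 0, 4, 0, 1]), (123, false, []), (43, false, [0, 1, 3, 1, 0, 4, 3, 1, 3, 4, 0, 4, 0, 4]), (95, true, [0, 1, 0, 1, 3, 4, 3, 4, 0, 1, 3, 4, 3, 1]), (66, false, [3, 1, 3, 4, 0, 4, 0, 4, 0, 1, 3, 4, 3, 1, 0]), (182, false, [4, 0, 1, 0, 1, 3, 4, 0, 4, 0, 4, 3, 4, 0, 4]), (65, false, [0, 2, 4, 3, 4, 3, 4, 3, 4, 0, 4, 0, 4, 0, 4]), (218, true, [2, 0, 1, 0, 1, 0, 1, 3, 1, 3, 1, 0, 1, 0, 4, 3, 1, 3]), (170, true, [0, 1, 0, 1, 0, 1, 0, 4, 3, 1, 0, 1, 0, 4]), (110, false, [2, 0, 4, 3,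 4, 3, 4, 0, 4, 3, 4, 0, 4, 3, 4]), (88, true, [0, 1, 0, 1, 3, 1, 0, 1, 0, 4, 0, 4, 3, 1, 0]), (244, false, [0, 4, 3, 4, 0, 1, 0, 1, 3, 1, 0, 1, 3, 4]), (56, false, [4, 0, 4, 3, 1, 0, 1, 0, 4, 3, 4, 3, 4]), (109, false, [0, 1, 3, 1, 0, 1, 0, 1, 3, 1, 3, 1, 3, 4, 0]), (97, true, [2, 0, 1, 3, 1, 3, 1, 0, 1, 0, 4]), (49, true, [2, 0, 4, 0, 4, 0, 4, 3, 1, 3, 4]), (110, false, [0, 2, 4, 0, 4, 0, 4, 3, 4, 3, 4, 3, 4, 3, 4, 0, 1, 0]), (84, true, [0, 1, 0, 1, 2, 0, 4, 0, 4, 0, 4]), (90, true, [2, 4, 0, 1, 0, 4, 3, 4, 0, 1, 0, 1, 0, 4, 3, 4, 0]), (135, true, [1, 2, 0, 4, 3, 4, 0, 4, 0, 1, 3, 4, 3, 1]), (199, false, [0, 1, 0, 1, 2, 0, 4, 3, 4, 3, 4, 0, 1, 3, 1, 0]), (136, true, [1, 0, 1, 2, 0, 1, 0, 4, 3, 4, 0, 4, 3, 4, 0]), (69,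 false, [0, 1, 0, 4, 3, 4, 3, 1, 0, 1, 0, 1, 0, 1, 0, 1]), (255, false, [3, 1, 0, 1, 0, 4, 3, 1, 3, 1, 0, 4, 0, 4]), (61, true, [4, 3, 1, 0, 4, 0, 4, 3, 1, 0]), (50, false, [0, 4, 0, 1, 0, 1, 0, 4, 3, 4, 0, 1, 0, 1]), (276, false, [0, 1, 0, 1, 0, 2, 4, 3, 4, 3, 4, 3, 1, 0]), (98, false, [0, 2, 4, 3, 1, 0, 1, 0, 1, 3, 1, 3, 4]), (141, false, [1, 3, 1, 0, 1, 0, 1, 3, 1, 3, 4, 3, 4, 0, 1, 3]), (65, true, [2, 4, 0, 1, 3, 1, 0, 4, 3, 1, 0, 1, 0, 4, 0, 4]), (211, false, [2, 4, 0, 4, 3, 1, 0, 1, 3, 4, 3, 1, 0, 1, 3, 4]), (242, false, [0, 1, 3, 1, 3, 4, 0, 1, 0, 1, 3, 1, 0]), (255, true, [3, 4, 0, 1, 0, 1, 3, 1, 0, 1, 3, 1, 3, 1]), (43, true, [4, 3, 4, 0, 1, 0, 1, 0, 4, 3, 1]), (209, true, [1, 0, 2, 4, 0, 4, 3, 1, 3, 4, 0, 4]),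 (141, true, [1, 3, 4, 0, 1, 0, 1, 0, 4, 0]), (253, false, [3, 1, 0, 1, 0, 4, 0, 4, 3, 1, 3, 1, 0, 4]), (260, true, [0, 2, 4, 0, 4, 3, 1, 3, 1, 0, 4, 0, 4, 3, 1, 3]), (56, true, [1, 0, 4, 0, 4, 3, 1, 3, 1, 3, 1, 0, 1]), (126, false, [3, 4, 3, 1, 0, 1, 0, 1, 3, 1, 0, 1, 3, 1, 0, 1]), (49, false, [1, 0, 4, 0, 1, 3, 4, 0, 4, 0, 4]), (181, false, [0, 1, 0, 2, 4, 0, 1, 3, 1, 3, 1, 0, 4, 0]), (135, false, [0, 1, 3, 1, 0, 4, 3, 4, 3, 4, 3, 1, 0, 4, 3]), (218, false, [2, 0, 4, 0, 4, 0, 4, 0, 4, 3, 4, 3, 4]), (88, false, [0, 1, 0, 4, 0, 4, 0, 4, 3, 1, 0, 1, 3, 1, 0]), (66, false, [0, 1, 3, 1, 0, 1, 3, 1, 3, 1, 0, 4, 3, 4, 0, 1]), (181, false, [0, 1, 3, 1, 3, 1, 3, 1, 0, 1, 0, 1, 3, 1]), (242, true, [1, 0, 1, 0, 1, 0, 4, 3, 4, 0,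 4, 0, 4, 3, 1, 3]), (234, false, [1, 0, 1, 2, 0, 1, 3, 1, 3, 4, 3]), (251, true, [0, 1, 0, 1, 3, 4, 0, 1, 0, 1, 0, 1, 3, 4, 3, 4, 3]), (123, true, [0, 4, 3, 1, 0, 1, 0, 1, 0, 4, 3, 4, 0, 4])]
def r138 : List (ℕ × Bool × List ℕ) := [(28, false, [1, 0, 4, 0, 4, 3, 1, 3, 1, 3, 1, 0, 4, 3]), (45, true, [1, 0, 1, 3, 4, 0, 1]), (104, false, [1, 3, 1, 3, 4, 0, 4, 0, 4, 0, 1, 3, 4, 3, 4]), (34, true, [3, 4, 3, 1, 0, 1, 3, 1, 3, 4, 0]), (56, true, [1, 0, 1, 0, 1, 3, 1, 3, 4, 3, 4, 0, 1, 3, 1, 3]), (37, true, [4, 3, 4, 3, 4, 0, 4, 0, 4, 3, 1]), (37, true, [0, 1, 0, 1, 3, 4, 0, 4, 0, 1, 3, 1, 0, 4, 3, 4]), (18, true, [1, 0, 2, 4, 0, 4, 3, 1, 0, 4, 0]), (250, true, [4, 0, 1, 3, 1, 0, 1, 3, 1, 3, 4, 3]), (250, true, [0, 1, 2, 0, 4,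 3, 1, 3, 1, 3, 4, 0, 4]), (207, true, [1, 3, 1, 0, 1, 3, 1, 3, 1, 0, 4]), (56, true, [1, 0, 4, 3, 4, 3, 4, 0, 4, 0, 4, 0, 4]), (138, true, []), (176, true, [0, 1, 3, 4, 0, 4, 3, 4, 0, 4, 3, 1, 3, 4, 0]), (56, true, [0, 1, 3, 1, 0, 1, 0, 4, 3, 4, 0, 4, 3]), (56, true, [0, 4, 3, 4, 3, 1, 0, 1, 3, 4, 3, 4, 0, 1, 3]), (176, true, [0, 1, 0, 1, 3, 1, 3, 1, 3, 4, 3, 4, 0, 1, 0]), (28, false, [4, 3, 4, 0, 4, 3, 1, 0, 4, 0, 4]), (37, true, [0, 4, 3, 4, 0, 4, 0, 1, 3, 1, 3, 1, 3, 1, 3]), (104, false, [0, 1, 0, 1, 0, 1, 0, 4, 3, 1]), (104, false, [1, 0, 1, 3, 4, 3, 4, 0, 4, 0, 4, 0]), (250, true, [3, 4, 0, 4, 3, 1, 3, 1, 3, 1, 0, 1, 3]), (250, true, [0, 1, 0, 1, 3, 4, 3, 1, 0, 1, 3, 1, 3, 1, 3, 1]), (28, false, [2, 0, 1, 3, 1, 0,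 1, 3, 1, 3, 4, 3, 4, 0, 1, 3]), (145, false, [3, 1, 0, 1, 0, 1, 0, 1, 3, 1, 3, 4, 3, 4]), (207, true, [1, 0, 1, 0, 1, 0, 4, 3, 1, 0, 1, 0, 1, 3, 1, 0, 1]), (28, false, [1, 2, 0, 4, 3, 4, 0, 4, 3, 1, 3, 1, 0, 1, 3]), (37, true, [0, 1, 0, 1, 0, 4, 0, 4, 0, 4]), (56, true, [1, 0, 1, 3, 1, 3, 4, 3, 4, 3, 4, 3, 4, 0]), (56, true, [0, 4, 0, 4, 0, 4, 3, 1, 3, 4, 0, 1, 3]), (56, true, [4, 3, 1, 0, 1, 3, 4, 3, 1]), (176, true, [0, 4, 0, 4, 3, 1, 0, 1, 3, 4, 3, 4, 0, 1, 3, 4, 3]), (145, false, [0, 1, 0, 1, 3, 4, 3, 1, 0, 1, 0, 4, 3, 1, 0, 1]), (138, true, []), (34, true, [1, 0, 1, 0, 4, 0, 4, 3, 1, 3, 1, 3, 1, 0, 1]), (250, true, [2, 4, 3, 1, 0, 4, 3, 4, 3, 4, 0, 4, 0]), (250, true, [1, 0, 2, 4, 0, 1, 3, 1, 3, 4, 0, 1, 0, 4]),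 (250, true, [2, 0, 1, 3, 1, 3, 1, 3, 4, 3, 4, 0, 1, 0]), (45, true, [4, 0, 1, 0, 1, 3, 4, 0, 4, 0]), (28, false, [0, 1, 0, 1, 0, 1, 2, 0, 1, 0, 1, 0, 1, 0, 1]), (37, true, [0, 4, 0, 4, 0, 4, 0, 1, 3, 4, 3]), (207, true, [1, 0, 4, 3, 4, 0, 1, 3, 1, 3, 1, 0, 4]), (239, true, [0, 1, 2, 0, 4, 3, 1, 0, 1, 0, 4, 0, 4, 3, 4]), (239, true, [0, 4, 0, 4, 0, 4, 3, 4]), (207, true, [4, 0, 4, 3, 1, 3, 1, 0, 1, 3, 4, 0, 1, 3]), (239, true, [3, 1, 0, 4, 0, 4, 0, 1, 3, 1, 3, 1]), (104, false, [0, 1, 0, 1, 2, 0, 1, 3, 1, 3, 1, 0, 4, 3, 4, 3]), (45, true, [1, 0, 4, 3, 4, 0, 4, 0, 1, 3, 1, 0, 1, 3]), (138, true, []), (37, true, [0, 4, 3, 4, 0, 4, 0, 1, 3, 1, 3, 1, 3, 1, 3]), (28, false, [3, 4, 3, 1, 0, 1, 3, 1, 3, 4, 0]), (37, true, [0,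 1, 3, 4, 0, 1, 3, 1, 0, 4, 3]), (176, true, [1, 0, 1, 0, 1, 3, 1, 0, 1, 3, 1, 0, 1, 0, 1, 3, 4]), (37, true, [0, 4, 0, 4, 0, 4, 0, 1, 3, 4, 3]), (28, false, [2, 4, 3, 4, 0, 4, 3, 1, 0, 4, 0, 4]), (104, false, [1, 3, 1, 3, 1, 0, 1, 0, 4, 3, 4, 3, 1]), (176, true, [0, 1, 0, 4, 3, 4, 3, 4, 3, 4, 0, 4, 3, 1, 3, 4]), (207, true, [1, 3, 4, 3, 4, 3, 1, 0, 1, 3, 1, 3, 1, 3]), (34, true, [0, 1, 3, 1, 0, 1, 3, 1, 3, 4, 3, 4, 0, 1, 3]), (207, true, [1, 3, 1, 3, 1, 0, 1, 0, 4, 3, 4, 0, 4]), (18, true, [2, 0, 1, 0, 4, 3, 1, 0, 1, 3, 4]), (176, true, [1, 0, 4, 3, 4, 3, 4, 0, 4, 0]), (45, true, [2, 4]), (104, false, [4, 0, 1, 3, 4, 3, 4, 3, 1, 0, 4]), (104, false, [0, 1, 0, 2, 4, 0, 4, 3, 1]), (37, true, [0, 1, 0, 1, 0, 4, 0, 4, 0,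 4]), (104, false, [4, 3, 4, 3, 4, 0, 4, 0, 1, 3, 4, 3, 4]), (34, true, [0, 4, 3, 4, 0, 4, 0, 1, 3, 1, 0, 1, 3, 4]), (250, true, [0, 1, 3, 1, 0, 4, 0, 4, 0, 1, 3, 1, 0, 1, 0]), (104, false, [1, 3, 4, 0, 4, 0, 4, 3, 1, 0, 1, 0, 1]), (45, true, [3, 1, 3, 1, 3, 1, 0, 1, 3, 1, 0]), (18, true, [0, 1, 0, 1, 0, 2, 4, 0, 4, 3, 1, 3, 4, 0, 4]), (176, true, [4, 3, 1, 3, 4, 0, 4, 3, 1, 0, 4, 3]), (176, true, [3, 4, 3, 4, 3, 1, 0, 4, 0, 4, 0, 1, 3]), (250, true, [1, 0, 4, 0, 1, 3, 4, 0, 4, 0, 1, 3, 4, 0]), (28, false, [0, 1, 3, 1, 0, 1, 3, 1, 3, 4, 3, 4, 0, 1, 3]), (18, true, [2, 4, 3, 4, 3, 1, 0, 4, 0, 4, 3, 1]), (138, true, []), (28, false, [0, 4, 3, 4, 0, 4, 0, 1, 3, 1, 0, 1, 3, 4]), (239, true, [3, 4, 3, 4, 0, 1, 3, 1, 0, 4]),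 (104, false, [1, 0, 2, 4, 0, 4, 0, 1, 3, 4, 3, 4]), (250, true, [0, 1, 0, 1, 2, 0, 4, 0, 4, 3, 1, 3, 1, 3, 1]), (104, false, [4, 3, 1, 3, 1, 3, 4, 0, 4, 3, 1]), (250, true, [2, 0, 1, 3, 4, 0, 1, 3, 1, 3, 1, 0, 1, 3, 1]), (56, true, [1, 3, 1, 0, 4, 3, 1, 0, 1, 0, 1, 3, 1, 3, 4]), (28, false, [0, 2, 4, 3, 1, 0, 1, 3, 1, 3, 4, 0]), (34, true, [1, 0, 4, 0, 4, 3, 1, 3, 1, 3, 1, 0, 4, 3]), (56, true, [1, 3, 1, 0, 4, 3, 4, 3, 1, 0, 1, 0, 4]), (18, true, [2, 4, 0, 1, 0, 1, 3, 4, 3, 4, 3, 1]), (45, true, [4, 0, 4, 3, 4, 3, 1, 0, 1, 0, 1, 0]), (28, false, [1, 0, 1, 0, 4, 0, 4, 3, 1, 3, 1, 3, 1, 0, 1]), (34, true, [4, 3, 4, 0, 4, 3, 1, 0, 4, 0, 4]), (56, true, [0, 1, 3, 4, 3, 1, 0, 1, 0, 1, 0, 1, 3, 4, 3, 4, 0]), (207, true, [4,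 0, 1, 3, 1, 3, 4, 0, 1, 0, 1, 3]), (176, true, [0, 2, 4, 0, 4, 0, 1, 3, 4, 0, 4, 0, 1, 3, 4, 0]), (145, false, [3, 4, 3, 1, 0, 1, 0, 1, 3, 4, 0, 4, 0]), (176, true, [0, 4, 3, 4, 0, 1, 3, 1, 3, 4, 0, 1, 0, 4]), (145, false, [0, 4, 0, 1]), (250, true, [4, 0, 1, 0, 4, 3, 1, 3, 4]), (104, false, [3, 4, 0, 1, 0, 1, 3, 4, 0, 1, 0, 1, 3, 1, 3]), (37, true, [0, 1, 0, 1, 3, 4, 0, 4, 0, 1, 3, 1, 0, 4, 3, 4]), (37, true, [0, 1, 3, 4, 0, 1, 3, 1, 0, 4, 3]), (138, true, []), (138, true, []), (56, true, [4, 0, 1, 3, 1, 0, 4, 3, 4, 3, 4, 3, 4, 0, 4, 3]), (207, true, [4, 0, 4, 3, 1, 0, 1, 0, 4, 3, 4, 3]), (28, false, [1, 2, 0, 1, 0, 4, 0, 4, 3, 1, 3, 1, 3, 1, 0, 1]), (37, true, [4, 3, 4, 3, 4, 0, 4, 0, 4, 3, 1]), (176, true, [1, 2, 0,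 4, 3, 1, 3, 4]), (176, true, [1, 0, 1, 2, 0, 1, 3, 1, 3, 4, 3]), (56, true, [3, 4, 3, 4, 0, 4, 3, 4, 0, 1, 3, 1, 3, 1]), (18, true, [1, 0, 4, 0, 1, 3, 4, 0, 4, 0, 1, 3, 1, 0])]
def r139 : List (ℕ × Bool × List ℕ) := [(62, false, [4, 0, 1, 0, 1, 3, 1, 0, 1, 3, 4, 3, 1]), (123, true, [2, 4, 3, 4, 3, 4, 0, 4, 3, 4, 0, 1, 0, 1]), (226, false, [2, 0, 4, 3, 4, 0, 1, 3, 1, 3, 4]), (251, false, [0, 1, 0, 1, 3, 4, 0, 4, 0, 4, 3, 4, 0, 4, 3]), (242, true, [0, 1, 2, 0, 4, 0, 1, 3, 1, 0, 4, 3, 4, 0, 1]), (42, false, [1, 2, 0, 4, 3, 1, 0, 1, 3, 1, 3, 4, 0, 1, 0, 1]), (62, true, [0, 4, 3, 1, 0, 1, 0, 4, 3, 1, 3, 1, 0]), (42, true, [1, 3, 1, 0, 1, 3, 4, 0, 1, 3, 1]), (191, false, [2, 0, 1, 0, 4, 0, 4, 3, 1, 3, 1, 3, 1, 0, 1]), (109,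 true, [0, 1, 0, 4, 3, 1, 3, 1, 0, 1, 0, 1, 3, 4, 3]), (212, true, [4, 0, 4, 3, 4, 3, 1, 0, 1, 0, 1, 0, 1, 3, 1]), (204, false, [4, 3, 4, 3, 4, 3, 1, 0, 4, 3, 4, 3, 1, 0]), (123, false, [3, 4, 3, 4, 0, 1, 3, 1, 0, 1, 0, 1, 3]), (181, true, [1, 3, 1, 3, 1, 3, 1, 3, 1, 0, 4, 0, 4, 3, 1, 0, 1]), (90, true, [0, 1, 0, 1, 0, 2, 4, 0, 4, 3, 4, 3, 4, 0, 1, 0]), (221, true, [1, 0, 4, 3, 1, 3, 4, 0, 4, 0, 4, 3, 4]), (242, false, [0, 2, 4, 3, 4, 3, 4, 3, 4, 0, 1, 0, 1, 3, 4, 0]), (251, true, [0, 1, 0, 4, 3, 1, 3, 1, 0, 1, 3, 4, 3, 1]), (123, false, [0, 1, 2, 0, 4, 0, 4, 0, 4, 3, 1, 0, 1, 3, 4, 3]), (235, false, [2, 4, 3, 4, 0, 1, 3, 1, 0]), (109, false, [2, 0, 1, 0, 1, 0, 4, 3, 1, 3, 1, 3, 4]), (274, false, [1, 3, 1, 0, 4, 0, 4,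 0, 4, 3, 1, 3, 1, 3]), (212, false, [1, 3, 4, 0, 4, 3, 4, 3, 1, 0, 4, 0, 4, 0, 4, 3]), (203, true, [1, 3, 1, 0, 1, 0, 1, 3, 4, 0, 4, 3, 4, 0, 4, 3]), (51, true, [2, 0, 1, 3, 4, 0, 1, 0, 1, 3, 1, 0, 4]), (89, false, [1, 0, 2, 4, 3, 4, 0, 4, 0, 4, 0, 4, 3, 1, 3, 1, 3]), (203, false, [0, 1, 0, 1, 3, 4, 3, 1, 0, 1, 3, 1, 3, 1, 3, 4]), (118, true, [4, 3, 4, 0, 1, 3, 1, 0, 1, 0, 4, 3]), (260, true, [1, 3, 1, 3, 1, 3, 1]), (221, true, [1, 2, 0, 4, 3, 1, 0, 1, 0, 4, 0, 4, 0, 4, 3, 4, 0]), (51, false, [0, 4, 0, 4, 0, 4, 0, 4, 3, 4, 3, 4, 0, 4, 0, 1]), (204, true, [2, 0, 4, 3, 4, 0, 1, 3, 1, 3, 1, 0, 1, 3, 4]), (89, true, [0, 4, 3, 4, 0, 4, 3, 4, 0, 1, 0]), (42, false, [0, 1, 0, 1, 3, 1, 0, 1, 3, 1, 0, 4, 0, 4]), (262, false, [2,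 4, 0, 1, 0, 1, 0, 1, 3, 1, 3, 1, 0, 4, 3, 4, 0]), (235, true, [1, 3, 1, 0, 4, 3, 1, 0, 1, 0, 4, 0, 4, 3, 1, 0]), (114, false, [1, 0, 1, 2, 0, 1, 0, 4, 0, 4, 3]), (226, true, [0, 1, 3, 1, 3, 4, 0, 1, 3, 1, 3, 1, 3, 4]), (42, true, [2, 0, 4, 3, 4, 0, 4, 0, 1, 3, 1, 3, 1, 3]), (262, true, [0, 2, 4, 3, 1, 0, 4, 0, 4, 0, 1, 3, 1, 0, 1]), (268, true, [1, 3, 1, 0, 1, 3, 4, 3, 4, 3, 1, 3]), (174, true, [3, 4, 0, 4, 0, 4, 0, 4, 0, 4, 0]), (174, false, [3, 1, 0, 1, 0, 1, 3, 1, 3, 4, 3, 4]), (185, true, [4, 0, 1, 0, 4, 3, 1, 0, 1, 3, 1, 0, 1]), (181, false, [1, 3, 1, 3, 4, 0, 4, 3, 1, 3, 1, 3, 1]), (212, false, [3, 1, 3, 4, 0, 4, 3, 1, 3, 1, 3, 4, 0]), (212, true, [0, 2, 4, 3, 1, 0, 1, 0, 4, 0, 4, 0, 4, 3, 4, 0]), (29, false, [2,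 4, 0, 4, 0, 4, 0, 4, 0, 4, 3, 1, 3, 4, 0, 4, 3]), (79, false, [0, 1, 3, 1, 0, 1, 0, 4, 3, 4, 0, 4, 0, 1]), (224, true, [1, 0, 1, 2, 0, 4, 0, 1, 3, 1, 3, 4, 3, 4]), (62, true, [4, 3, 4, 0, 1, 0, 1, 3, 1]), (251, true, [1, 3, 1, 3, 4, 0, 4, 3, 4, 0, 4, 0, 4]), (90, false, [1, 0, 1, 3, 4, 3, 4, 3, 1, 0, 1, 3, 1, 3]), (63, true, [1, 0, 4, 0, 4, 3, 4, 3, 4, 0]), (224, false, [2, 4, 0, 4, 0, 4, 3, 1, 3, 1, 3]), (191, true, [1, 0, 1, 0, 4, 3, 4, 0, 4, 0, 4, 0, 1, 0]), (260, false, [0, 1, 3, 4, 0, 1, 3, 1, 3, 4, 3, 4, 3]), (212, true, [2, 0, 1, 0, 4, 3, 1, 0, 1, 3, 4, 3, 1]), (268, true, [0, 1, 0, 1, 0, 2, 4, 3, 4, 0, 1, 0, 1, 3]), (185, false, [3, 4, 0, 4, 0, 4, 0, 1, 3, 4, 0, 4, 0]), (123, true, [3, 1, 0, 1, 0, 4, 3, 4, 0,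 4, 0, 4, 3]), (221, false, [0, 1, 3, 4, 0, 4, 3, 1, 0, 1, 0, 1, 3, 1, 0, 4, 3]), (79, true, [3, 1, 3, 1, 0, 1, 3, 1, 3, 1, 0, 1]), (212, true, [4, 3, 1, 3, 4, 0, 4, 0, 4, 3, 4]), (114, true, [2, 0, 1, 3, 4, 3, 4, 3, 4, 3, 4]), (268, false, [0, 4, 0, 1, 3, 4, 0, 4, 3, 1, 3, 1, 0, 1, 0]), (274, true, [4, 0, 4, 0, 4, 3, 1, 3, 1, 0, 4, 0, 1]), (268, false, [0, 2, 4, 3, 4, 3, 1, 0, 1, 0, 4, 0, 4, 3]), (109, false, [3, 4, 3, 1, 0, 1, 3, 4, 3, 4, 3, 4, 0, 4]), (226, true, [2, 4, 0, 4, 0, 4, 0, 1, 3, 4, 3, 1, 0]), (276, true, [0, 1, 3, 1, 3, 1, 3, 4, 3, 4, 3, 4]), (158, false, [0, 1, 0, 1, 3, 4, 3, 1, 0, 1, 3, 4]), (260, false, [1, 2, 0, 1, 0, 4, 3, 4, 0, 1, 3, 1, 3, 1, 3, 4, 0]), (221, false, [0, 1, 0, 1, 0, 2, 4, 0, 4, 3, 4,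 0, 4, 0, 1]), (212, false, [1, 0, 2, 4, 3, 1, 0, 1, 0, 1, 3, 1, 3, 1, 3, 4]), (83, false, [3, 4, 3, 1, 3, 1, 3, 1, 3, 1, 3, 4]), (118, false, [1, 0, 1, 2, 0, 4, 3, 1, 0]), (29, true, [2, 0, 4, 0, 4, 0, 1, 3, 1, 0, 4, 3, 4, 0, 4, 0]), (83, true, [0, 2, 4, 3, 4, 3, 4, 3, 1, 3]), (212, false, [0, 2, 4, 0, 4, 3, 4, 0, 4, 3, 4, 3, 4, 0, 1]), (235, true, [2, 0, 1, 0, 1, 0, 4, 3, 1, 0, 1, 0, 1, 3]), (226, false, [3, 4, 0, 1, 0, 1, 0, 1, 3, 1, 3, 4]), (109, true, [0, 2, 4, 3, 4, 0, 4, 3, 1, 3, 1, 0, 1, 3, 4, 3, 1]), (191, true, [0, 1, 0, 1, 2, 0, 4, 0, 4, 0, 1, 3, 1, 0, 4, 3, 4]), (20, false, [4, 0, 1, 3, 4, 0, 4, 0, 1, 3]), (262, false, [3, 1, 3, 1, 0, 4, 0, 4, 3, 1, 3, 1, 0, 4, 3]), (224, false, [3, 4, 0, 4, 3, 4, 3, 4, 0,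 4, 3]), (84, true, [1, 2, 0, 4, 3, 4, 0, 4, 3, 1, 0, 4, 3]), (276, true, [2, 4, 0, 4, 3, 1, 0, 1, 0, 4, 3, 1]), (158, false, [0, 1, 2, 0, 1, 3, 1, 0, 1, 0, 1, 3, 1, 3, 4]), (251, false, [0, 1, 0, 4, 3, 1, 3, 4, 0, 4, 3, 4, 0]), (62, false, [1, 2, 0, 1, 0, 1, 0, 4, 3, 4, 0, 1, 3, 1, 0]), (181, false, [1, 2, 0, 1, 3, 1, 3, 1, 3, 4, 3, 4, 0, 4, 3, 4]), (51, false, [4, 0, 4, 0, 1, 3, 1, 3, 1, 3, 1, 0, 1, 0, 1]), (89, true, [0, 1, 2, 0, 1, 0, 4, 3, 4, 3, 4, 3, 4, 0, 4, 0, 4]), (90, false, [1, 2, 0, 4, 0, 4, 0, 4, 3, 1, 3, 1, 0, 4, 0, 1]), (51, true, [4, 3, 4, 0, 4, 3, 4, 3, 4, 3, 1, 0, 1, 0]), (181, true, [0, 2, 4, 0, 4, 0, 1, 3, 1, 3, 1, 3, 1, 0, 1, 3, 4]), (235, false, [1, 3, 4, 3, 4, 0, 4, 0, 1, 3, 1, 3, 1, 3, 4]), (191,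 false, [0, 1, 3, 4, 3, 4, 3, 4, 0, 4, 3, 4, 0, 4, 0]), (158, true, [2, 4, 0, 1, 3, 4, 0, 4, 0, 4, 0, 4, 3, 4, 3]), (276, false, [3, 4, 3, 1, 0, 1, 0, 1, 0, 4, 3, 4, 0, 1]), (158, true, [3, 4, 3, 4, 0, 4, 0, 4, 3, 4, 0, 1, 3]), (276, false, [2, 4, 0, 4, 0, 4, 0, 1, 3, 4, 3, 4]), (89, false, [0, 4, 0, 4, 3, 1, 3, 1, 3, 1, 0, 4, 0, 4, 3]), (90, true, [0, 4, 3, 1, 3, 1, 3, 4, 3, 4, 3, 4, 0, 4, 0, 1]), (224, true, [0, 1, 0, 1, 0, 1, 3, 1, 0, 1, 3, 1, 3]), (262, true, [4, 0, 4, 3, 4, 0, 4, 3, 1, 0, 1, 0, 1, 3, 1, 0]), (84, false, [3, 1, 3, 4, 0, 1, 3, 1, 0, 1, 0, 1, 3, 1, 0]), (20, true, [0, 4, 0, 4, 3, 4, 3, 4, 0, 1, 3, 1, 0]), (260, true, [2, 0, 4, 0, 1, 0, 1, 3, 1, 3, 1, 3, 1]), (63, false, [0, 1, 0, 4, 3, 1, 3, 4, 0, 4,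 3, 1, 3, 1, 0])]
def r140 : List (ℕ × Bool × List ℕ) := [(253, false, [0, 1, 2, 0, 4, 0, 4, 0, 4, 3, 1, 3, 1, 0, 1, 0, 4]), (246, false, [2, 4, 3, 4, 3, 4, 0, 1, 0, 1, 3, 1, 3, 1]), (91, true, [3, 1, 0, 1, 0, 1, 3, 1, 3, 1, 0, 1, 0, 4]), (114, false, [0, 4, 3, 4, 0, 4, 0, 4, 0, 4, 3]), (90, false, [4, 0, 1, 3, 1, 3, 4, 3, 4, 0, 1, 3, 1, 3, 1]), (236, true, [3, 4, 3, 1, 0, 1, 3, 1, 3, 4, 0, 1, 0, 1, 0]), (88, false, [0, 2, 4, 0, 1, 3, 1, 3, 1, 3, 1, 0, 1, 0, 1, 0]), (141, false, [2, 0, 4, 3, 4, 0, 1, 0, 1, 0, 4, 0, 4, 3, 1, 3, 4]), (52, true, [1, 0, 1, 3, 1, 0, 4, 3, 4, 3, 4, 0]), (49, false, [0, 4, 0, 1, 0, 1, 3, 1, 0, 1, 0, 4]), (255, false, [2, 0, 4, 0, 1, 0, 1, 3, 4, 3, 1, 0, 1, 3, 4, 0]), (182, true, [1, 3, 4, 3,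 1, 0, 1, 3, 1, 3, 1, 0, 4]), (49, true, [0, 1, 0, 2, 4, 0, 1, 0, 1, 3, 4, 3]), (183, true, [1, 3, 1, 0, 4, 0, 4, 3, 4, 3, 4, 3]), (78, false, [3, 4, 3, 4, 0, 1, 3, 1, 3, 4, 0]), (62, true, [3, 1, 0, 4, 3, 4, 0, 4, 3, 4, 3, 4, 0]), (255, false, [4, 3, 1, 3, 1, 3, 1, 0, 4, 0, 4, 3, 4, 0, 1, 3]), (30, true, [2, 0, 4, 0, 4, 3, 4, 0, 1, 0, 1]), (186, true, [0, 4, 3, 1, 3, 1, 0, 4, 3, 4, 0, 4, 0]), (76, false, [0, 1, 0, 1, 3, 1, 3]), (76, false, [0, 4, 0, 4, 0, 1, 3, 1, 3, 1, 3, 4, 0, 4, 3]), (188, false, [2, 0, 4, 3, 4, 3, 1, 0, 1, 0, 4, 0, 4, 0, 1, 3, 4]), (246, false, [1, 0, 1, 2]), (91, true, [2, 4, 0, 1, 3, 1, 0, 1, 3, 4, 0, 4, 0, 1]), (158, false, [2, 0, 4, 0, 4, 0, 4, 3, 1, 0, 1, 3, 4, 3, 1]), (231, false, [1, 3, 1,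 3, 1, 3, 4, 3, 4, 3, 1]), (236, true, [2, 4, 3, 4, 0, 4, 3, 1, 3, 1, 0, 4, 3, 1]), (147, false, [1, 0, 1, 3, 4, 3, 1, 0, 4, 0, 4, 0, 4, 3, 1, 3]), (209, true, [1, 0, 1, 2, 0, 4, 3, 4, 3, 4, 3, 4]), (209, true, [4, 0, 4, 3, 4, 3, 4, 3, 4]), (182, true, [4, 3, 4, 0, 1, 3, 1, 0, 4, 0, 4, 3, 1, 0, 1, 3]), (122, true, [0, 2, 4, 0, 4, 3, 1, 3, 4, 0, 4, 3]), (245, false, [0, 2, 4, 0, 4, 0, 4, 3, 1, 0, 1, 3, 4, 3]), (158, false, [2, 0, 4, 3, 4, 0, 1, 3, 1, 3, 1, 0, 4, 3, 1, 0]), (218, false, [0, 4, 0, 4, 3, 1, 3, 1, 3, 4, 3, 4, 0, 1, 3]), (49, false, [0, 1, 0, 1, 3, 1, 0, 4, 0, 1]), (188, false, [1, 0, 1, 0, 4, 3, 4, 3, 4, 0, 1]), (52, false, [1, 0, 1, 2, 0, 1, 0, 1, 3, 1, 0, 1, 3, 4, 3, 4]), (136, true, [1, 0, 1, 0, 4, 3, 4,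 0, 1, 3, 4, 3, 4]), (254, true, [0, 1, 0, 1, 3, 1, 3, 4, 0, 4, 0, 1, 3, 4]), (231, true, [0, 1, 0, 1, 0, 2, 4, 3, 4, 3, 4]), (169, false, [0, 1, 0, 1, 2, 0, 4, 0, 1, 3, 4, 0, 4]), (17, true, [4, 0, 4, 3, 1, 3, 1, 3, 4, 0, 4, 3, 4, 3, 4]), (117, false, [2, 4, 3, 1, 3, 1, 0, 1, 0, 4, 3]), (68, true, [1, 0, 1, 0, 2, 4, 0, 4, 0, 4, 0, 4, 3]), (107, true, [3, 1, 3, 1, 3, 1, 0, 4, 3, 1, 3, 1, 0, 1, 3]), (257, true, [0, 1, 0, 1, 3, 1, 3, 4, 0, 1, 0, 1, 3, 4, 3, 1]), (258, true, [1, 0, 4, 3, 4, 3, 1, 0, 1, 3, 1, 0, 1, 3, 4]), (38, true, [1, 0, 1, 0, 1, 3, 4, 3, 1, 0, 4, 3, 4, 3, 4]), (152, false, [1, 3, 4, 0, 4, 0, 4, 0, 4, 3, 4, 3, 4, 0, 4]), (254, true, [2, 4, 3, 4, 3, 4, 0, 4, 3, 4, 0, 4, 3]), (152, false, [2, 0, 1, 0, 1,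 3, 4, 3, 1, 0, 1, 0, 4, 3, 4, 3, 1]), (168, true, [0, 2, 4, 3, 4, 3, 4, 3, 1]), (249, true, [1, 3, 4, 0, 4, 0, 1, 3, 1, 0, 1, 3, 1, 0]), (126, true, [0, 2, 4, 0, 4, 3, 1, 0, 1, 3, 1, 3, 1, 3]), (91, true, [0, 1, 2, 0, 1, 0, 1, 3, 1, 3, 1, 0, 4, 3, 4, 3, 4, 0]), (181, true, [1, 0, 4, 3, 4, 3, 1, 0, 1, 0, 1, 0, 4, 3]), (255, false, [3, 4, 0, 4, 3, 1, 0, 1, 0, 1, 3, 1, 0, 4, 0, 1]), (119, true, [1, 0, 4, 3, 4, 3, 1, 0, 1, 3, 1, 3, 4]), (63, false, [2, 4, 0, 4, 3, 4, 0, 1, 3, 1, 3, 4, 0, 4, 0, 4]), (188, true, [1, 2, 0, 1, 3, 1, 0, 1, 3, 4, 3, 4, 3, 1, 0, 4]), (209, false, [1, 0, 2, 4, 0, 4, 3, 1, 3, 4, 0, 4, 3, 1, 0, 1, 3]), (78, true, [0, 1, 0, 1, 0, 4, 3, 1, 3, 4, 0, 4, 3, 4, 3]), (76, false, [0, 4, 0, 1, 3, 1, 0, 4, 3,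 4, 3, 1, 0, 1, 0]), (271, false, [3, 4, 3, 1, 3, 1, 3, 4, 3, 4]), (55, true, [0, 2, 4, 3, 4, 0, 1, 0, 1, 3, 1, 0, 4, 0]), (271, false, [2, 0, 4, 3, 1, 3, 1, 3, 4, 3, 4]), (173, false, [2, 4, 0, 1, 0, 1, 0, 1, 0, 1, 3, 4, 3]), (169, false, [0, 4, 0, 1, 3, 1, 3, 1, 3, 1, 0, 4, 0, 1]), (179, false, [0, 1, 0, 1, 3, 1, 3, 1, 0, 1, 0, 4, 0, 4, 0, 4, 3]), (246, false, [4, 0, 4, 3, 1, 3, 1, 3, 1]), (141, false, [1, 3, 1, 0, 4, 3, 4, 3, 4, 3, 1, 0, 4, 3, 4]), (209, false, [4, 3, 4, 3, 4, 0, 4, 0, 4, 3, 4, 0]), (181, true, [0, 1, 2, 0, 1, 0, 1, 0, 4, 3, 1, 3, 1]), (271, false, [1, 0, 2, 4, 0, 1, 0, 1, 0, 1, 3, 1]), (91, true, [3, 4, 3, 1, 3, 1, 3, 4, 3, 4, 0, 1, 3, 1, 0, 1, 3]), (60, true, [4, 0, 4, 0, 4, 0, 4, 3, 4, 3, 1]), (194,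 true, [1, 3, 4, 0, 1, 0, 4]), (236, true, [3, 1, 3, 1, 0, 1, 3, 1, 3, 4, 3, 4, 3, 4, 3]), (107, true, [3, 4, 3, 4, 3, 4, 0, 1, 3, 4]), (263, true, [3, 1, 3, 1, 0, 1, 3, 1, 0, 4, 0, 4, 3, 4, 0, 1]), (68, true, [3, 1, 3, 1, 0, 1, 3, 4, 3, 1, 0, 4]), (263, true, [0, 1, 0, 1, 2, 0, 1, 0, 4, 0, 4, 0, 4, 3, 4, 0]), (68, true, [0, 1, 2, 0, 1, 0, 1, 3, 4, 0, 1, 0, 1]), (90, false, [2, 0, 1, 0, 1, 3, 4, 0, 4, 0, 4, 0]), (253, false, [3, 4, 0, 1, 0, 1, 0, 4, 3]), (114, false, [4, 0, 1, 3, 1, 3, 4, 0, 4, 3]), (182, true, [2, 0, 1, 0, 1, 0, 1, 3, 4, 3, 4, 0, 1, 0]), (188, true, [0, 4, 0, 1, 3, 4, 0, 4, 3, 1, 0]), (136, true, [3, 1, 3, 4, 0, 1, 3, 1, 3, 4, 3, 4, 0, 1]), (126, true, [0, 4, 3, 4, 3, 1, 0, 1, 3, 1, 3, 1, 3]), (218, false,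 [2, 4, 3, 1, 3, 4, 0, 4, 3, 1, 0, 1, 0, 4, 3]), (182, true, [2, 0, 4, 3, 4, 3, 1, 0, 1, 0, 4, 0, 4, 0, 4]), (68, true, [1, 3, 1, 3, 4, 0, 4, 0, 4, 0, 4, 3]), (145, true, [0, 1, 0, 4, 3, 1, 3, 1, 3, 1, 3, 1]), (203, true, [0, 4, 0, 4, 0, 4, 0, 1, 3, 4, 3, 1]), (183, true, [0, 2, 4, 3, 1, 3, 1, 0, 1, 3, 4]), (158, false, [0, 1, 3, 4, 3, 4, 0, 1, 3, 1, 0, 1, 3]), (169, false, [1, 0, 1, 2, 0, 4, 0, 1, 3, 1, 0, 4, 0]), (179, false, [0, 1, 2, 0, 1, 0, 1, 3, 1, 3, 1, 0, 1, 0, 4]), (236, true, [0, 2, 4, 3, 4, 3, 1, 0, 1, 0, 4, 3, 4, 3, 4, 3]), (186, true, [0, 1, 0, 4, 3, 4, 0, 1, 3, 1, 0, 1]), (158, false, [1, 0, 1, 3, 4, 3, 1, 0, 1, 0, 4, 0, 4, 0, 1]), (49, true, [1, 2, 0, 4, 3, 1, 3, 1, 0, 4]), (230, false, [1, 3, 1, 0, 1,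 3, 4, 0, 1, 0, 1, 3]), (240, false, [1, 2, 0, 4, 0, 4, 3, 4, 3, 4, 3, 4, 0, 4]), (30, true, [3, 4, 3, 4, 3, 1, 0, 1, 3, 1, 3, 4, 3, 4]), (88, false, [4, 0, 1, 3, 4, 0, 4, 0, 1, 0]), (122, true, [4, 0, 4, 3, 4, 0, 1, 3, 4, 3, 4, 0, 4, 3]), (255, false, [1, 2, 0, 1, 0, 1, 0, 1, 0, 1, 3, 1, 3, 1, 0, 1]), (62, true, [1, 3, 4, 0, 1, 3, 1, 0, 4, 3, 1]), (266, true, [3, 4, 0, 1, 3, 1, 3, 4])]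
def r141 : List (ℕ × Bool × List ℕ) := [(80, false, [1, 2, 0, 4, 3, 4, 0, 4, 3, 4, 0, 4, 0, 1]), (23, false, [3, 1, 0, 1, 3, 1, 0, 4, 0, 4]), (216, false, [1, 0, 1, 3, 1, 3, 1, 3, 1, 0, 1, 0, 4, 0, 4, 3]), (125, false, [0, 1, 2, 0, 4, 0, 4, 3, 1, 0, 1, 0, 1, 3, 1, 0, 1, 3]), (21, false, [4, 0, 4, 3, 4, 0, 1, 3, 4, 3, 4, 0]), (261, false, [0, 2, 4, 3, 1, 3, 1, 0, 4, 3, 1, 0, 1, 3, 1]), (115, false, [1, 0, 1, 3, 4, 0, 1, 0, 1, 0, 1, 3, 4, 3, 4]), (83, false, [0, 1, 3, 1, 3, 1, 0, 1, 3, 4, 0, 1, 0]), (269, true, [0, 4, 0, 4, 3, 4, 3, 4, 3, 4, 0, 1, 3, 1, 0, 1]), (167, false, [0, 4, 3, 4, 3, 1, 0, 1, 0, 4, 3, 4, 3, 4, 3, 4, 0, 1]), (191, true, [1, 3, 1, 3, 1, 0, 1, 0, 1, 0, 1, 3, 1, 3]), (166, true, [3, 4, 3, 1, 0, 1, 0,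 4, 3, 1, 3, 1, 0]), (66, false, [2, 4, 3, 1, 0, 1, 0, 4, 0, 4, 0, 4, 0, 4, 0]), (172, false, [1, 0, 2, 4, 0, 4, 3, 4, 3, 4, 3, 4, 0, 1, 0, 4]), (266, true, [2, 0, 4, 3, 4, 0, 1, 3, 1, 0, 4, 0, 4, 0]), (270, false, [2, 4, 3, 1, 3, 1, 3, 4, 0, 4, 3, 1, 3, 1, 3, 1, 0]), (134, true, [1, 0, 4, 0, 1, 3, 1, 3, 4, 0, 4, 0, 1, 0]), (249, false, [4, 3, 1, 0, 1, 0, 1, 3, 1, 3, 4, 0, 4, 3]), (152, true, [3, 1, 0, 4, 3, 1, 0, 1, 0, 4, 3, 4, 0, 1, 3, 4]), (249, false, [1, 2, 0, 1, 0, 4, 3, 4, 0, 4, 0, 4]), (49, false, [3, 1, 3, 1, 3, 1, 0, 1, 3, 1, 0, 1, 3, 1, 3, 4]), (178, false, [1, 0, 2, 4, 0, 1, 0, 4, 3, 4, 0, 4, 0, 1, 3, 1, 0]), (185, false, [2, 4, 0, 1, 0, 4, 3, 1, 0, 1, 3, 4, 0, 4]), (262, true, [2, 0, 1, 3, 1, 3, 4]), (236,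 false, [1, 0, 1, 2, 0, 4, 0, 1, 3, 1, 0, 1, 0, 4, 3, 4, 3]), (57, true, [1, 3, 1, 0, 4, 3, 4, 3, 4, 3, 1, 0, 4, 3, 4, 3, 1]), (156, false, [3, 4, 3, 1, 0, 1, 0, 1, 3, 1, 0, 1, 3, 1]), (87, true, [0, 4, 3, 1, 0, 1, 3, 1, 3, 1, 0, 4, 0, 1]), (85, true, [1, 3, 4, 3, 1, 0, 1, 3, 4, 3, 4, 0, 1, 3, 1]), (112, false, [1, 0, 4, 0, 4, 3, 4, 0, 1, 0, 1, 3, 4]), (127, false, [2, 4, 0, 1, 3, 1, 0, 4, 3, 1, 3, 4, 0, 4, 3, 1]), (98, false, [0, 1, 0, 4, 3, 4, 0, 1, 3, 1, 0, 4, 0, 4, 0, 4]), (235, false, [4, 3, 4, 0, 4, 0, 1, 3, 4, 0]), (128, false, [0, 1, 0, 1, 3, 1, 0, 1, 3, 1, 0, 1, 0]), (149, true, [2, 4, 0, 1, 3, 1, 3, 1, 0, 1, 3]), (150, false, [0, 1, 2, 0, 4, 3, 4, 3, 1, 0, 4, 3, 4, 0, 4]), (16, false, [2, 0, 4, 3, 1, 0, 1, 3,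 1, 3, 1, 3]), (186, false, [2, 4, 0, 1, 0, 4, 3, 1, 3, 4]), (260, true, [0, 1, 3, 1, 0, 4, 0, 4, 3, 1, 3, 4, 0, 4, 3, 1, 3]), (214, false, [0, 4, 0, 1, 0, 1, 0, 4, 0, 4, 0, 4, 3, 4, 0, 1]), (168, false, [1, 2, 0, 1, 3, 1, 3, 4, 0, 4, 3, 4, 3, 1]), (51, false, [0, 1, 3, 1, 3, 4, 3, 4, 0, 1, 0, 1, 3, 4, 3]), (86, true, [1, 3, 1, 0, 1, 0, 1, 0, 1, 3]), (212, true, [2, 0, 1, 0, 1, 0, 1, 3, 4, 3, 1, 0, 4, 0, 4, 0]), (212, false, [0, 1, 0, 2, 4, 0, 4, 3, 1, 0, 1, 0, 1, 3, 4, 0, 4]), (181, false, [0, 2, 4, 0, 1, 0, 1, 0, 4, 0, 4, 0, 4, 3, 4, 3, 4]), (249, false, [2, 4, 3, 1, 0, 1, 3, 4, 3, 4, 3, 4, 0, 4]), (254, true, [3, 1, 0, 1, 0, 4, 3, 4, 0, 1, 0, 1, 3, 4, 3]), (254, false, [2, 0, 1, 3, 1, 3, 4, 0, 4, 3, 1, 3, 1, 0, 4, 0]),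 (179, true, [2, 0, 1, 3, 1, 0, 4, 3, 1, 3, 4, 0, 4, 3]), (223, false, [1, 0, 1, 2, 0, 1, 3, 1, 0, 1, 3, 1, 0, 1, 0, 1]), (124, false, [0, 1, 0, 1, 3, 4, 0, 4, 3, 1, 0, 4]), (111, false, [2, 0, 1, 3, 4, 3, 4, 0, 4, 3]), (189, true, [0, 1, 2, 0, 1, 0, 4, 0, 4, 3, 1, 0, 1, 0]), (223, false, [2, 4, 0, 4, 0, 4, 3, 1, 3, 1, 0, 4, 0, 4, 3, 4]), (189, false, [2, 0, 1, 0, 1, 3, 4, 0, 4, 3, 4, 3, 4, 0, 1, 0, 1]), (7, false, [0, 1, 0, 1, 3, 4, 0, 4, 3, 4, 0, 4, 3, 1, 3, 4]), (234, true, [0, 1, 0, 1, 2, 0, 1, 0, 4, 3, 4, 3, 4, 0, 4, 0, 1]), (69, true, [2, 4, 0, 1, 3, 1, 0, 1, 0, 1, 0, 4, 3, 4]), (50, true, [1, 0, 4, 3, 1, 0, 1, 3, 4, 3, 4]), (141, false, [1, 2, 0, 1, 3, 1, 0, 1, 3, 1, 0, 1, 3, 1, 0]), (141, true, []), (165, false,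 [0, 2, 4, 0, 1, 3, 4, 3, 1, 0, 1, 0, 1, 0, 1]), (68, false, [1, 2, 0, 1, 0, 4, 0, 4, 0, 4, 3, 1, 3, 4]), (268, false, [0, 4, 0, 1, 3, 4, 0, 4, 3, 1, 3, 1, 0, 1, 0]), (114, true, [2, 0, 1, 3, 4, 3, 4, 3, 4, 3, 4]), (213, false, [1, 2, 0, 1, 0, 1, 3, 4, 3, 4, 0, 4, 3, 1, 0, 4]), (94, true, [1, 0, 1, 0, 2, 4, 0, 1, 0, 1, 0, 4]), (96, true, [1, 3, 1, 3, 1, 0, 4, 0, 4, 3, 4, 0, 1, 0]), (236, false, [2, 0, 4, 3, 4, 3, 1, 0, 1, 0, 4, 0, 4, 0, 4]), (221, true, [3, 4, 0, 4, 3, 4, 3, 4, 3, 4, 0, 4, 0, 1]), (189, false, [0, 1, 3, 1, 3, 1, 3, 1, 3, 1, 0, 1, 0, 1, 3]), (18, false, [1, 2, 0, 4, 3, 4, 3, 4, 3, 4]), (214, false, [0, 4, 0, 1, 3, 1, 0, 1, 3, 1, 3, 4, 3, 4, 0, 1]), (50, true, [0, 1, 3, 4, 3, 1, 0, 1, 0, 4, 3, 1, 3]), (167,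 false, [0, 1, 3, 4, 3, 4, 0, 4, 3, 1, 0, 4, 3]), (98, false, [3, 1, 0, 1]), (199, false, [1, 0, 1, 2, 0, 1, 3, 4, 3, 4, 3, 4, 0, 1, 3]), (112, false, [2, 0, 1, 0, 4, 3, 4, 3, 4, 0, 1, 3, 4, 0]), (169, true, [1, 0, 2, 4, 3, 4, 0]), (140, false, [1, 0, 1, 3, 4, 0, 1, 0, 1, 0, 1, 3, 4, 0, 4]), (111, true, [1, 2, 0, 1, 3, 1, 0, 1, 3, 1, 0, 1, 3, 1, 3, 4, 3]), (64, true, [2, 0, 4, 3, 4, 3, 4, 0, 4, 0, 4, 0, 4, 3, 4, 0]), (137, true, [3, 1, 3, 4, 3, 4, 3, 1, 0, 4]), (184, false, [2, 0, 4, 0, 1, 0, 1, 0, 4, 3, 4, 0, 1, 0]), (65, true, [2, 4, 0, 1, 3, 1, 3, 4, 3, 4, 3, 4, 3, 4, 3, 1]), (261, false, [0, 4, 0, 4, 0, 4, 3, 1, 0, 1, 3, 4]), (75, true, [1, 0, 2, 4, 3, 4, 0, 4, 3, 1, 0, 4, 0]), (149, false, [0, 4, 0, 4, 0, 4, 3, 1,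 0]), (260, true, [0, 4, 0, 1, 3, 4, 3, 4, 3, 4, 0, 4, 3, 1]), (42, true, [0, 4, 3, 1, 3, 1, 0, 4]), (25, false, [3, 4, 3, 4, 3, 4, 0, 4, 3]), (64, true, [1, 0, 1, 0, 2, 4, 3, 4, 3, 4, 0, 1, 0, 1, 3, 4, 0]), (73, true, [0, 1, 0, 1, 0, 4, 0, 4, 3, 1, 0, 4, 0, 4, 3]), (192, true, [1, 2, 0, 4, 0, 4, 3, 4, 0, 1, 0, 1, 3, 4]), (277, true, [0, 4, 0, 4, 0, 4, 3, 4, 3, 4, 3, 4, 0, 4, 3]), (182, true, [1, 0, 1, 2, 0, 1, 0, 1, 3, 1, 3, 1, 3, 1, 0, 4]), (180, false, [2, 4, 0, 1, 0, 1, 3, 1, 3, 4, 0]), (121, false, [3, 1, 0, 1, 3, 4, 0, 1, 3, 1, 0]), (263, true, [0, 2, 4, 0, 4, 0, 4, 3, 4, 3, 1, 0, 1, 0, 1, 0, 1]), (10, false, [2, 4, 3, 1, 0, 1, 0, 4, 3, 4, 0, 4]), (214, true, [2, 4, 3, 4, 0, 4, 3, 4, 0, 1, 3, 1, 3, 4, 0]), (80, false,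 [2, 0, 4, 3, 4, 3, 1, 0, 1, 3, 4, 0, 1, 3, 1]), (272, true, [2, 0, 1, 0, 1, 0, 1, 0, 4, 0, 4, 0, 1]), (56, false, [1, 0, 4, 3, 1, 0, 1, 3, 1, 0, 1, 0, 4]), (107, true, [1, 3, 1, 0, 4, 3, 1, 3, 1, 3, 1, 0, 4, 3]), (42, true, [4, 0, 1, 0, 4, 3, 4, 0, 4, 0]), (83, true, [0, 1, 2, 0, 1, 0, 4, 3, 4, 3, 1, 0, 4, 0, 1]), (154, false, [2, 4, 3, 4, 3, 1, 0, 1, 3, 4, 3, 4, 3, 1, 3]), (260, false, [2, 0, 4, 3, 1, 3, 1, 0, 1, 3, 1, 0, 4]), (26, false, [2, 0, 4, 0, 1, 0, 1, 0, 1]), (179, false, [1, 0, 1, 2, 0, 4, 3, 4, 0, 1, 3, 1, 3, 4])]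
def r142 : List (ℕ × Bool × List ℕ) := [(14, false, [1, 0, 4, 0, 1, 3, 1, 3, 1]), (16, false, [1, 3, 1, 3, 1, 3, 1, 0, 4, 3, 4, 0, 1, 3]), (63, true, [1, 3, 4, 3, 1, 0, 1, 0, 4, 3, 1, 3, 1, 3, 1]), (133, true, [3, 1, 3, 4, 0, 1, 3, 1, 0, 4]), (281, false, [1, 0, 1, 2, 0, 1, 0, 1, 3, 4, 3, 4, 0, 1]), (41, false, [4, 3, 1, 3, 1, 0, 4, 3, 4, 3, 1]), (36, true, [4, 3, 1, 0, 1, 0, 4, 0, 4, 3, 1, 0, 4]), (41, false, [0, 1, 0, 1, 0, 1, 3, 1, 0, 1, 3, 1]), (79, false, [1, 0, 4, 0, 4, 3, 4, 3, 1, 0, 1, 0, 1, 0, 4, 3]), (79, false, [1, 0, 1, 0, 1, 3, 4, 0, 4, 3, 1, 3, 1]), (63, true, [4, 3, 1, 0, 1, 0, 1, 3, 4, 3, 1, 0, 4, 3]), (281, false, [0, 1, 0, 2, 4, 3, 4, 0, 1, 3, 1, 0, 4, 0, 4]), (14, false, [1, 0, 4, 0, 1, 3, 1, 3, 1]),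 (281, false, [3, 4, 0, 4, 3, 4, 0, 1, 0, 1, 3, 1, 0]), (196, false, [0, 1, 0, 1, 0, 2, 4, 3, 4, 3, 4, 0]), (281, false, [1, 3, 1, 3, 1, 0, 4, 3, 4, 3, 1]), (196, false, [4, 3, 4, 3, 1, 0, 1, 3, 1, 3, 4, 0, 1, 0]), (9, false, [1, 3, 4, 3, 1, 0, 1, 0, 4, 0, 4, 0, 1]), (41, false, [3, 1, 0, 4, 3, 4, 3, 4, 3, 4, 0, 1, 0]), (63, true, [2, 4, 3, 4, 3, 1, 0, 1, 3, 4, 3, 4, 0, 1, 0]), (63, true, [3, 4, 3, 4, 0, 4, 3, 4, 0, 1, 3, 1, 3, 1, 3]), (143, false, [0, 2, 4, 0, 4, 0, 4, 3, 1, 0, 4]), (143, true, [0, 4, 0, 4, 0, 4, 0]), (41, false, [3, 1, 0, 1, 3, 1, 0, 1, 0, 4, 0, 4, 3, 1, 0]), (142, false, [1, 3, 4, 0, 1, 0]), (44, false, [0, 4, 0, 1, 3, 1, 0, 4, 0, 4, 0]), (41, false, [1, 3, 4, 0, 4, 3, 4, 0, 1, 0, 1, 3, 1, 0]), (14,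 false, [0, 4, 0, 4, 0, 4, 0, 1, 3, 4, 3, 1]), (281, false, [3, 1, 3, 4, 3, 4, 0, 1, 3, 1, 0, 4, 0, 4]), (281, false, [4, 3, 1, 0, 4, 3, 4, 3, 4, 3, 4, 0, 1, 0]), (196, false, [3, 1, 0, 1, 0, 4, 3, 1, 3, 1, 0, 1, 3, 4, 3]), (196, false, [1, 0, 1, 3, 1, 3, 4, 3, 4, 0, 1, 3, 4, 3, 1]), (142, false, [3, 4, 3, 1, 0, 4]), (14, false, [0, 4, 0, 4, 0, 4, 3, 1, 3, 4]), (133, true, [3, 4, 0, 4, 3, 4, 3, 4, 0, 4, 0]), (79, false, [3, 4, 3, 1, 0, 1, 3, 4, 3, 4, 3, 1, 0, 1, 3]), (143, false, [2, 4, 3, 1, 3, 4, 0, 1, 3, 4]), (79, false, [0, 4, 3, 4, 0, 1, 0, 1, 3, 1, 3, 1, 0, 1]), (16, false, [2, 4, 3, 4, 3, 4, 0, 4, 0, 4, 3, 1]), (9, false, [1, 0, 1, 0, 4, 3, 1, 0, 1, 3, 4, 3, 4, 0, 1]), (14, false, [1, 0, 1, 3, 1, 0, 4, 3, 4, 0,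 4, 3]), (63, true, [3, 1, 0, 4, 3, 4, 0, 1, 0, 1, 3, 4, 3]), (79, false, [3, 4, 0, 4, 0, 1, 3, 4, 3, 4, 0, 1, 0, 1, 3]), (79, false, [0, 1, 3, 4, 3, 1, 0, 4, 3, 4, 0, 1, 0, 1]), (44, false, [1, 0, 4, 3, 4, 3, 4, 3, 4, 3, 4]), (79, false, [3, 1, 3, 1, 0, 1, 3, 1, 3]), (142, false, [0, 4, 3, 4, 0, 1, 3]), (133, true, [0, 1, 3, 4, 3, 4, 3, 4, 0, 1, 3, 4, 3, 1]), (36, true, [4, 3, 4, 0, 4, 3, 1, 3, 1, 0, 1, 3]), (36, true, [3, 1, 0, 4, 3, 4, 0, 4, 3, 4, 3, 4, 3]), (9, false, [1, 0, 1, 3, 4, 3, 4, 3, 1]), (36, true, [1, 3, 4, 0, 4]), (281, false, [0, 4, 0, 1, 3, 1, 3, 4, 0, 4, 0, 1, 3, 1, 3, 1]), (14, false, [1, 0, 1, 3, 1, 0, 4, 3, 4, 0, 4, 3]), (14, false, [0, 1, 3, 4, 0, 1, 3, 1, 0, 4, 3, 1]), (63, true, [4, 0, 1, 0, 4,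 3, 4, 3, 4, 3, 1]), (196, false, [2, 4, 3, 1, 3, 1, 0, 4, 0, 4, 0, 1, 0]), (63, true, [0, 1, 0, 1, 2, 0, 4, 3, 1, 3, 1, 3]), (16, false, [1, 0, 4, 0, 1, 3, 4, 0, 4, 0, 1, 3, 1, 0]), (63, true, [4, 3, 4, 3, 1, 0, 1, 3, 4, 3, 4, 0, 1, 0]), (41, false, [1, 3, 1, 3, 4, 3, 4, 0, 1, 3, 1, 0, 4, 0, 4]), (196, false, [4, 0, 1, 3, 4, 0, 1, 0]), (133, true, [0, 4, 3, 4, 0, 4, 3, 1, 3, 1, 0, 1, 3, 1]), (142, false, [3, 4, 3, 1, 0, 4]), (142, false, [1, 3, 4, 0, 1, 0]), (14, false, [0, 4, 0, 4, 0, 4, 0, 1, 3, 4, 3, 1]), (142, false, [0, 4, 3, 1, 0, 1, 3]), (16, false, [2, 4, 3, 4, 3, 1, 0, 4, 0, 4, 3, 1]), (79, false, [0, 4, 0, 1, 0, 1, 0, 1, 3, 1]), (63, true, [1, 3, 4, 0, 4, 3, 1, 0, 4, 0, 4, 3, 1, 0]), (16, false, [2, 4, 3, 1,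 0, 4, 3, 1]), (41, false, [2, 4, 3, 1, 3, 1, 0, 4, 3, 4, 3, 1]), (196, false, [1, 0, 1, 0, 1, 0, 1, 3, 4, 0, 4, 3, 1, 3]), (196, false, [0, 1, 2, 0, 1, 3, 4, 3, 4, 3, 1, 0, 1, 3, 4]), (143, true, [3, 1, 3, 1, 0, 1]), (41, false, [0, 1, 2, 0, 1, 3, 1, 0, 1, 0, 4, 0, 4, 3, 1, 0]), (9, false, [4, 0, 4, 3, 1, 0, 1, 0, 4, 3, 1]), (36, true, [0, 1, 0, 4, 3, 1, 0, 1, 0, 1, 3, 4, 0, 4, 0, 1]), (41, false, [0, 2, 4, 0, 4, 3, 4, 3, 1, 0, 1, 3, 1, 0, 4]), (79, false, [0, 1, 3, 1, 0, 1, 0, 1, 0, 4, 0, 4, 3, 1, 0, 1]), (63, true, [2, 4, 3, 1, 0, 1, 0, 1, 3, 4, 3, 1, 0, 4, 3]), (79, false, [4, 0, 1, 0, 1, 3, 1, 3, 4, 0, 1, 0, 1, 0]), (63, true, [3, 1, 3, 1, 0, 4, 3, 1, 3, 1, 3]), (79, false, [1, 3, 4, 0, 4, 3, 4, 3, 4, 0, 4, 3, 1,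 0, 4, 0]), (281, false, [1, 0, 1, 0, 1, 2, 0, 4, 3, 4, 3, 1]), (14, false, [4, 0, 1, 3, 1, 0, 1, 0, 4, 3, 1]), (133, true, [0, 1, 0, 1, 3, 1, 3, 1, 0, 1, 3]), (281, false, [0, 1, 0, 4, 3, 4, 0, 1, 3, 1, 0, 4, 0, 4]), (41, false, [0, 1, 2, 0, 4, 3, 4, 3, 4, 3, 4, 0, 1, 0]), (16, false, [0, 1, 0, 1, 2, 0, 4, 3, 4, 3]), (14, false, [0, 4, 0, 4, 0, 4, 3, 1, 3, 4]), (133, true, [1, 0, 4, 3, 4, 0, 1, 3, 4, 3]), (196, false, [1, 3, 4, 3, 1, 0, 4, 3, 4, 3, 1, 0, 1]), (44, false, [3, 4, 3, 1, 0, 4, 3, 4, 0, 1]), (281, false, [0, 1, 3, 4, 0, 1, 3, 1, 3, 1, 0, 4, 3, 4, 3, 1]), (142, false, [0, 4, 3, 4, 0, 1, 3]), (281, false, [0, 2, 4, 0, 4, 3, 4, 0, 1, 0, 1, 3, 1, 0]), (142, false, [0, 4, 3, 1, 0, 1, 3]), (79, false, [0, 1, 3,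 1, 3, 1, 3, 4, 3, 4, 3, 1, 0, 1, 0]), (63, true, [0, 1, 2, 0, 4, 3, 4, 0, 1, 0, 1, 3, 4, 3]), (41, false, [2, 0, 1, 0, 1, 0, 1, 3, 1, 0, 1, 3, 1]), (41, false, [1, 0, 1, 0, 2, 4, 3, 4, 0, 1, 3, 1, 0, 4, 0, 4]), (14, false, [0, 1, 3, 4, 0, 1, 3, 1, 0, 4, 3, 1]), (14, false, [4, 0, 1, 3, 1, 0, 1, 0, 4, 3, 1]), (196, false, [3, 1, 0, 1, 3, 4, 3, 1, 0, 4, 0, 4, 0, 4]), (44, true, [4, 3, 4, 0, 4, 3, 1, 3, 4, 0, 1, 3]), (9, false, [3, 4, 0, 4, 3, 4, 0, 4, 3, 4, 0, 4, 0]), (36, true, [4, 3, 1, 0, 1, 3, 1, 0, 4, 3, 1, 3, 4, 0]), (196, false, [3, 1, 0, 4, 3, 1, 0, 1, 3, 4, 3]), (196, false, [3, 1, 3, 4, 0, 1, 3, 1, 0, 4, 0]), (281, false, [1, 3, 1, 0, 1, 0, 1, 3, 4, 3, 4, 0, 1]), (9, false, [3, 1, 0, 4, 0, 4, 0, 4, 0, 1, 3, 4,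 3])]
def r143 : List (ℕ × Bool × List ℕ) := [(104, false, [2, 0, 1, 3, 1, 3, 4, 0, 4, 3, 4, 3, 1, 0, 1]), (118, false, [1, 0, 4, 0, 1, 3, 4, 3, 4, 3, 1, 0, 4, 0]), (104, true, [1, 0, 1, 0, 1, 3, 4, 3, 1, 0, 4, 0, 4, 3, 4, 0]), (268, false, [1, 2, 0, 4, 3, 4, 3, 1, 0, 1, 3, 1, 0, 1, 3, 4]), (236, false, [0, 2, 4, 0, 1, 0, 4, 3, 4, 3, 4, 3, 4, 0, 1, 3, 4]), (23, true, [2, 0, 4, 0, 4, 3, 1, 3]), (23, false, [4, 0, 1, 3, 1, 3, 1, 0, 1, 3, 4, 3]), (107, true, [1, 0, 1, 0, 4, 3, 4, 0, 1, 3, 1, 0, 4, 0, 1]), (34, false, [4, 0, 4, 0, 4, 3, 4, 3, 4, 3, 4, 3, 4]), (268, false, [0, 1, 2, 0, 4, 0, 4, 3, 1, 3, 1, 0, 4, 0, 4, 3, 1]), (166, false, [2, 0, 1, 0, 1, 3, 1, 0, 1, 3, 4, 3]), (203, false, [2, 4, 0, 1, 3, 4, 0, 4, 0, 4, 3,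 4, 0, 4, 0]), (279, false, [0, 1, 3, 1, 3, 1, 0, 4, 0, 1]), (204, true, [2, 4, 3, 1, 0, 1, 0, 1, 3, 4, 3, 1, 0]), (204, false, [4, 3, 1, 0, 1, 3, 4, 0, 1, 0, 1, 3, 1]), (136, false, [0, 1, 0, 2, 4, 0, 4, 0, 1, 3, 1, 3, 1, 0]), (136, true, [0, 4, 0, 4, 3, 4, 3, 4, 0, 4, 0, 4, 3]), (76, true, [3, 1, 3, 1, 3, 1, 3, 1, 0, 4]), (23, true, [0, 1, 0, 2, 4, 3, 4, 3, 1, 0, 1, 3, 4, 0, 4, 0]), (247, false, [4, 0, 1, 0, 1, 3, 1, 0, 4, 3, 4, 3, 1]), (34, true, [1, 0, 1, 0, 1, 0, 4, 3, 1, 0]), (194, false, [0, 4, 0, 4, 3, 4, 3, 1, 0, 1, 3, 4, 0, 4, 3]), (268, true, [0, 1, 0, 1, 0, 4, 0, 4, 0, 4, 0]), (236, false, [0, 4, 3, 1, 3, 4, 0, 4, 0, 1]), (166, false, [1, 3, 4, 0, 1, 0, 1, 3, 4, 3, 4, 0]), (236, false, [1, 0, 1, 0, 4, 3, 4,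 3, 4, 0, 4, 0, 1, 3, 1]), (268, false, [0, 4, 0, 4, 3, 4, 0, 4, 3, 1, 0, 1, 0, 4, 0, 4]), (34, false, [1, 3, 4, 0, 4, 3, 4, 3, 1, 3]), (166, true, [3, 4, 0, 1, 0, 1, 0, 4, 0, 4, 3, 4, 3, 4]), (208, true, [1, 3, 1, 0, 1, 3, 1, 0, 1, 0, 1]), (194, false, [1, 0, 1, 3, 1, 0, 4, 0, 4, 3, 1, 0, 4]), (208, false, [0, 1, 2, 0, 4, 3, 4, 0, 4, 0, 1, 0]), (203, true, [1, 2, 0, 4, 0, 1, 3, 1, 0, 1, 3, 1, 0]), (136, true, [4, 0, 4, 3, 1, 0, 1, 0, 1, 3, 1, 3, 1, 3]), (23, false, [1, 0, 1, 2, 0, 1, 3, 4, 3, 4, 0, 4, 3, 1, 0]), (104, false, [4, 3, 4, 3, 4, 0, 4, 0, 4, 0, 4, 3, 1, 0, 4]), (236, true, [1, 0, 1, 3, 4, 0, 4, 0, 1, 3, 1, 3, 1, 3, 1, 0]), (236, false, [1, 0, 2, 4, 3, 4, 3, 4, 0, 4, 3, 4, 0, 4, 0, 4, 3]), (34, true, [0, 1,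 3, 1, 3, 1, 3, 4, 3, 4, 0, 1, 3, 1, 3, 1]), (142, false, [1, 0, 2, 4, 0, 1, 3, 4, 3, 1]), (76, false, [4, 3, 4, 3, 1, 0, 4, 3, 4, 0, 1, 0, 1]), (203, true, [1, 0, 4, 3, 4, 0, 1, 0, 1, 3, 4, 0, 4, 3, 1]), (107, false, [3, 1, 3, 1, 3, 1, 3, 4, 3, 4, 0, 4, 3, 4, 0]), (166, true, [4, 0, 1, 0, 1, 0, 1, 3, 4, 0, 4, 3, 1, 3, 4]), (268, false, [1, 3, 4, 0, 4, 0, 1, 3, 1, 0, 4, 3, 4]), (107, false, [4, 0, 4, 3, 1, 0, 1, 3, 4, 3, 1, 0, 4, 3, 4]), (194, true, [2, 4, 0, 1, 3, 1, 0, 4, 3, 1, 3, 4]), (23, false, [0, 4, 3, 1, 0, 1, 0, 4, 0, 4, 3, 1, 0]), (23, true, [1, 0, 1, 3, 1, 3, 4, 0, 4, 0, 4, 3, 4]), (268, true, [0, 2, 4, 0, 4, 0, 1, 3, 1, 0, 4, 3, 1, 3, 4]), (208, true, [4, 0, 4, 3, 1, 0, 1, 0, 4, 0, 4, 3, 1, 0, 1]), (23, true,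 [1, 2, 0, 1, 3, 1, 3, 4, 0, 4, 0, 1, 3]), (194, true, [4, 3, 1, 3, 1, 0, 4, 0]), (118, true, [1, 0, 1, 0, 2, 4, 0, 4, 3, 4, 0, 4, 3]), (76, false, [2, 4, 0, 1, 0, 1, 0, 1]), (194, false, [0, 1, 2, 0, 4, 3, 4, 0, 4, 3, 1, 0]), (76, false, [1, 0, 4, 0, 1, 3, 1, 0, 4, 3, 4, 3, 4, 3, 1]), (107, true, [0, 4, 3, 1, 3, 4, 0, 4, 3, 1, 0, 1, 0, 4]), (76, true, [0, 2, 4, 0, 1, 3, 1, 3, 1, 0, 1, 3]), (107, true, [3, 4, 3, 1, 0, 4, 3, 4, 0, 4, 0, 4, 3, 1, 0]), (204, false, [3, 4, 0, 4, 0, 4, 3, 4, 3, 1, 0, 1, 0, 1]), (236, true, [2, 4, 0, 1, 3, 4, 0, 4, 3, 1, 3, 1, 3, 1, 0, 4]), (23, false, [4, 3, 1, 0, 1, 3, 1, 0, 1, 0, 4]), (236, false, [1, 0, 1, 0, 4, 3, 4, 0, 1, 3, 4, 3, 4, 0]), (268, false, [4, 3, 4, 3, 1, 0, 4, 0, 4, 3, 1,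 0]), (208, false, [0, 1, 0, 1, 0, 1, 0, 1, 0, 1, 0, 1, 0, 1, 2]), (247, true, [3, 4, 3, 1, 0, 1, 0, 4, 0, 4, 3, 1, 0, 1, 0]), (208, true, [4, 0, 4, 0, 4, 3, 4, 0, 4, 3, 4]), (247, true, [0, 1, 0, 1, 0, 1, 0, 1, 2, 0, 4, 0, 4, 3]), (104, true, [1, 3, 1, 3, 4, 0, 4, 3, 1, 0, 4, 0, 4, 0]), (136, false, [2, 4, 3, 1, 3, 1, 0, 4, 3, 4, 3]), (23, false, [2, 4, 0, 1, 3, 1, 3, 1, 0, 1, 0, 4]), (136, true, [1, 3, 4, 0, 4, 3, 1, 3, 1, 0, 4, 0, 1]), (203, true, [4, 0, 1, 3, 4, 0, 4, 3, 1, 3, 1, 3]), (247, false, [3, 4, 0, 4, 3, 1, 3, 1, 0]), (236, true, [0, 4, 0, 4, 3, 1, 3, 4, 0, 4, 3, 4, 3, 4, 0, 4, 0]), (118, false, [4, 3, 4, 3, 1, 0, 1, 0, 1, 3, 1, 0, 4]), (23, true, [3, 4, 3, 4, 0, 4, 0, 4, 3, 1, 0, 4, 3]), (268, true, [1, 0,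 4, 3, 1, 3, 4, 0, 4, 3, 4, 3, 1, 0, 4, 0]), (203, false, [2, 0, 4, 0, 4, 3, 1, 0, 4, 0, 4, 3, 4, 3]), (268, true, [2, 4, 3, 1, 3, 4, 0, 4, 0, 4, 3, 4, 3, 1, 3]), (194, true, [1, 0, 4, 3, 4, 0, 1, 3, 1, 3, 4, 3, 4, 0, 4, 3]), (118, false, [3, 1, 3, 4, 0, 4, 3, 4, 3, 1, 0, 1, 0]), (118, true, [0, 2, 4, 0, 4, 3, 4, 0, 1, 3, 4, 3]), (76, true, [1, 2, 0, 4, 3, 1, 3, 1, 3, 4, 0, 4, 0]), (208, false, [0, 2, 4, 3, 1, 3, 1, 0, 1, 3, 4, 0]), (23, true, [1, 3, 1, 3, 4, 3, 4, 0, 4, 0, 4, 3, 1, 3]), (136, false, [0, 4, 3, 1, 3, 1, 0, 4, 0, 4]), (23, false, [2, 4, 0, 1, 0, 1, 0, 1, 3, 1]), (279, true, [0, 2, 4, 3, 4, 0, 4, 3, 1, 0, 1, 0, 1, 0, 1]), (142, true, [4, 3, 4, 0, 4, 0]), (236, false, [0, 2, 4, 3, 4, 3, 4, 0, 1, 3, 1, 3, 1]),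 (204, false, [2, 0, 1, 3, 4, 0, 1, 3, 1, 3, 1, 3, 1]), (203, false, [1, 3, 1, 3, 1, 0, 1, 0, 1, 3, 1, 3, 1, 0, 1]), (204, true, [1, 0, 1, 0, 1, 0, 2, 4, 0, 4, 3, 1]), (268, true, [0, 4, 3, 4, 0, 1, 3, 1, 3, 1, 3, 1, 0, 4, 3, 1]), (247, true, [1, 2, 0, 4, 3, 4, 3, 4, 0, 4, 3, 1, 0, 1]), (236, true, [0, 4, 3, 4, 0, 1, 3, 1, 3, 4, 0, 1, 0]), (104, false, [2, 0, 1, 0, 1, 0, 4, 3, 1, 3, 1, 0]), (236, true, [2, 4, 3, 4, 3, 1, 0, 4, 0, 4, 3, 1, 3, 4, 0, 4]), (204, true, [1, 2, 0, 1, 3, 1, 3, 4, 3, 4, 0, 1, 3, 4, 3]), (107, false, [4, 0, 4, 3, 4, 3, 1, 0, 1, 0, 1, 0]), (34, false, [4, 0, 4, 3, 4, 3, 1, 0, 1, 3, 4, 0]), (118, true, [0, 4, 3, 4, 3, 4, 0, 1, 3, 4, 3]), (247, false, [0, 2, 4, 0, 1, 3, 4, 0, 4, 0, 4, 0, 4, 3, 4, 3]),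 (166, true, [0, 1, 3, 1, 3, 1, 3]), (104, true, [4, 3, 1, 3, 4, 0, 4, 0, 1, 3, 1, 0]), (236, true, [2, 4, 3, 1, 0, 1, 0, 4, 3, 1]), (268, true, [2, 0, 1, 3, 1, 3, 4, 3, 4, 0, 4, 3, 4, 3, 1]), (166, false, [3, 1, 0, 4, 3, 1, 0, 1, 0, 1, 3, 1]), (268, false, [2, 4, 3, 4, 0, 4, 3, 1, 0]), (34, true, [1, 3, 1, 0, 1, 0, 4, 3, 4, 3, 4, 3, 4, 0])]

theorem q132 : closeb 18 ps18 base7 rgR om xs x132 orb r132 = true := by decide +kernel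
theorem q133 : closeb 18 ps18 base7 rgR om xs x133 orb r133 = true := by decide +kernel
theorem q134 : closeb 18 ps18 base7 rgR om xs x134 orb r134 = true := by decide +kernel
theorem q135 : closeb 18 ps18 base7 rgR om xs x135 orb r135 = true := by decide +kernel
theorem q136 : closeb 18 ps18 base7 rgR om xs x136 orb r136 = true := by decide +kernel
theorem q137 : closeb 18 ps18 base7 rgR om xs x137 orb r137 = true := by decide +kernel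
theorem q138 : closeb 18 ps18 base7 rgR om xs x138 orb r138 = true := by decide +kernel
theorem q139 : closeb 18 ps18 base7 rgR om xs x139 orb r139 = true := by decide +kernel
theorem q140 : closeb 18 ps18 base7 rgR om xs x140 orb r140 = true := by decide +kernel
theorem q141 : closeb 18 ps18 base7 rgR om xs x141 orb r141 = true := by decide +kernel
theorem q142 : closeb 18 ps18 base7 rgR om xs x142 orb r142 = true := by decide +kernel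
theorem q143 : closeb 18 ps18 base7 rgR om xs x143 orb r143 = true := by decide +kernel

theorem c11 : Rows xc11 :=
  Rows.cons q132 (Rows.cons q133 (Rows.cons q134 (Rows.cons q135 (Rows.cons q136 (Rows.cons q137 (Rows.cons q138 (Rows.cons q139 (Rows.cons q140 (Rows.cons q141 (Rows.cons q142 (Rows.cons q143 Rows.nil)))))))))))

end Cfsg.Agent.H698.U33.Clo
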