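import Cfsg.Agent.H698.U33.Clo.Rows

/-!
# S5525: the closure certificate, rows 144 to 155 (helper698; data of helper819, helper763)
-/

set_option autoImplicit false
set_option maxRecDepth 100000
set_option Elab.async false

namespace Cfsg.Agent.H698.U33.Clo

def r144 : List (ℕ × Bool × List ℕ) := [(232, true, [2, 4, 0, 1, 3, 1, 3, 4, 0, 4, 3, 4, 3, 1, 0]), (128, false, [4, 3, 4, 0, 4, 3, 4, 0, 1, 3, 4, 3]), (203, true, [3, 1, 0, 4, 3, 1, 0, 1, 3, 1, 0]), (231, false, [4, 0, 1, 0, 4, 3, 4, 3, 4, 3, 4, 0, 1, 0]), (236, true, [3, 1, 0, 1, 0, 4, 0, 4, 3, 1, 0, 1, 0, 1, 0]), (135, false, [4, 0, 4, 3, 4, 3, 1, 0, 1, 3, 4, 0, 1, 3]), (242, false, [0, 4, 3, 1, 3, 4, 0, 1, 3, 1, 3]), (9, true, [1, 3, 4, 0, 4, 3, 4, 3, 4, 0, 4,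 0]), (147, false, [4, 0, 4, 0, 1, 3, 1, 3, 1, 3, 4, 0, 4, 0]), (240, true, [4, 0, 4, 0, 1, 3]), (188, false, [2, 4, 0, 1, 0, 1, 3, 1, 0, 4, 0, 4]), (247, true, [4, 0, 4, 0, 4, 3, 4, 3, 4, 0, 4, 3, 4, 0, 1, 0]), (128, false, [4, 0, 4, 0, 1, 3, 1, 3, 1, 0, 1, 0, 1, 0, 1]), (238, true, [1, 3, 4, 0, 1, 0, 1, 3, 4, 0, 1]), (186, false, [0, 1, 3, 4, 0, 4, 3, 4, 3, 4]), (208, false, [4, 0, 1, 0, 1, 3, 4, 0, 4, 3, 1, 3]), (147, false, [1, 0, 4, 0, 1, 3, 1, 0, 4, 0, 4, 3, 4]), (266, false, [4, 0, 4, 0, 1, 3, 4, 0, 4, 0, 1, 3, 1, 3]), (63, true, [1, 0, 1, 3, 4, 0, 4, 0, 4, 0]), (203, true, [0, 1, 3, 4, 3, 4, 3, 4, 0, 4, 3, 4]), (203, true, [2, 4, 0, 4, 3, 4, 0, 1]), (52, true, [2, 4, 3, 4, 3, 4, 0, 1, 3, 1]), (159, false, [1, 0,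 4, 0, 4, 3, 4]), (128, false, [0, 1, 0, 1, 3, 1, 3, 1, 3, 1, 0, 1, 0, 4, 3, 4]), (236, true, [1, 2, 0, 4, 0, 1, 3, 4, 3, 4, 0, 4]), (147, false, [4, 3, 4, 0, 4, 3, 4, 0, 1, 0, 1, 3, 1, 3]), (158, false, [0, 1, 2, 0, 4, 0, 4, 0, 1, 3, 1, 0, 1]), (231, false, [0, 2, 4, 3, 4, 0, 1, 3, 1, 3, 4, 3]), (236, true, [1, 0, 1, 2, 0, 1, 3, 1, 3, 1, 3, 4, 3, 4, 3, 1, 0]), (236, true, [1, 3, 4, 3, 1, 0, 1, 0, 4]), (186, false, [2, 4, 3, 4, 3, 4, 3, 4, 0, 4, 3, 1, 0]), (203, false, [2, 0, 1, 3, 4, 0, 1, 0, 1, 0, 1, 0, 4, 3]), (208, false, [0, 2, 4, 0, 4, 0, 4, 3, 4, 0, 1, 0, 1, 0]), (158, false, [1, 0, 2, 4, 0, 4, 0, 4, 3, 4, 0, 4, 3, 4, 3, 4]), (169, true, [1, 0, 1, 3, 4, 3, 4, 3, 4, 0, 4, 0, 4, 3]), (240, true, [2, 0, 1, 3, 1, 3,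 1, 3, 4, 0, 4, 0]), (52, false, [2, 0, 1, 3, 4, 0, 1, 3, 1, 3, 1]), (147, false, [1, 3, 4, 3, 4, 0, 1, 3, 4, 3, 1, 0]), (158, false, [2, 0, 4, 0, 4, 0, 4, 0, 4, 3, 4, 3, 1, 0]), (204, true, [1, 0, 2, 4, 0, 4, 0, 4, 0, 4, 0]), (136, false, [1, 0, 4, 0, 1, 3, 4, 0, 4, 0, 1, 3, 4]), (147, false, [1, 3, 4, 0, 4, 3, 1, 3, 1, 3, 4, 0, 1]), (230, false, [3, 1, 3, 1, 0, 1, 0, 4, 3, 1, 3, 4]), (259, true, [2, 0, 4, 3, 1, 0, 4, 0, 4, 0, 1, 3, 4, 3, 1]), (203, false, [1, 0, 1, 2, 0, 1, 3, 1, 0, 4, 0, 4, 0, 1, 3, 1]), (203, true, [1, 0, 1, 2, 0, 1, 0, 4, 0, 4, 3, 1]), (119, false, [1, 0, 2, 4, 0, 4, 0, 4, 3, 1, 3, 4]), (232, true, [1, 3, 4, 3, 4, 0, 4, 0, 1, 3, 1, 0, 1]), (204, true, [1, 2, 0, 4, 3, 1, 0, 1, 0, 4, 3, 1]), (240, false,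 [0, 1, 0, 1, 0, 1, 0, 4, 0, 4, 3, 1, 3, 1]), (204, true, [0, 1, 3, 4, 0, 4, 0, 4, 0, 4, 0]), (240, false, [0, 2, 4, 0, 1, 0, 4, 3, 1, 0]), (239, false, [1, 3, 4, 0, 1, 3, 4, 3]), (169, true, [3, 4, 3, 4, 3, 4, 3, 1, 3]), (203, false, [4, 3, 1, 0, 4, 3, 1, 3]), (203, true, [1, 3, 1, 0, 1, 3, 4, 0, 1, 3, 1, 0]), (203, false, [0, 1, 2, 0, 4, 0, 4, 3, 1, 3, 1, 3, 1, 0, 1, 3]), (188, false, [4, 3, 4, 0, 4, 0, 1, 3, 1, 0, 4, 0, 4]), (63, true, [2, 0, 1, 0, 1, 0, 4, 3, 4, 3, 1, 0, 1, 0]), (240, true, [2, 0, 1, 0, 1, 3, 1, 0, 1, 0, 1, 3, 4]), (136, false, [2, 0, 1, 3, 1, 3, 1, 3, 4, 3, 4, 0, 1]), (266, true, [2, 4, 0, 4, 3, 4, 3, 4]), (203, false, [0, 1, 0, 1, 3, 4, 3, 1, 0, 4, 3, 4, 3, 4]), (271, false, [3, 4, 0, 4, 0, 4, 3,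 4, 3, 4, 0, 1]), (119, false, [0, 4, 0, 1, 3, 1, 0, 1, 0, 4, 0, 4, 0, 1, 0]), (9, true, [4, 0, 4, 3, 4, 0, 1, 0, 1, 3, 1, 0, 4]), (119, false, [1, 0, 4, 0, 4, 0, 4, 3, 1, 3, 4]), (135, false, [4, 0, 4, 3, 4, 0, 1, 3, 1, 3, 1, 0, 1, 3, 1]), (188, false, [0, 4, 0, 1, 0, 1, 3, 1, 3, 1]), (230, false, [0, 1, 3, 1, 0, 1, 3, 1, 0, 1, 3, 1]), (128, false, [0, 1, 0, 1, 2, 0, 1, 0, 1, 0, 4, 0, 4, 3, 4]), (9, true, [3, 4, 0, 4, 0, 4, 3, 1, 3, 1, 0, 1]), (266, true, [4, 3, 1, 3, 4, 0, 1, 3, 1, 3, 4, 3, 4]), (203, false, [0, 1, 0, 1, 2, 0, 4, 3, 1, 0, 1, 3, 4]), (52, false, [3, 1, 0, 4, 3, 4, 3, 4, 3, 1, 0, 4, 0, 4]), (128, false, [0, 1, 0, 2, 4, 0, 4, 3, 4, 0, 1, 3, 1, 3, 1]), (242, false, [3, 4, 3, 4, 0, 1, 0, 1, 3, 4, 3, 1, 0,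 4]), (266, false, [1, 3, 1, 0, 1, 0, 4, 0, 4, 0, 4, 0]), (158, false, [1, 0, 1, 3, 4, 0, 1, 0, 1, 3, 1, 0, 4, 3, 1]), (203, true, [2, 0, 4, 3, 4, 0, 1, 3, 1, 0, 4]), (259, true, [0, 1, 0, 4, 0, 4, 3, 1, 0, 1, 0, 1, 0, 4, 0]), (188, false, [2, 0, 1, 0, 1, 0, 1, 0, 4, 3, 4, 0, 1]), (259, true, [0, 1, 3, 4, 0, 4, 3, 4, 3, 1, 0, 4, 0, 4, 0, 4]), (188, false, [4, 3, 4, 3, 1, 0, 4, 0, 4]), (236, true, [1, 0, 1, 0, 1, 2, 0, 4, 3, 4, 3, 4]), (232, true, [0, 2, 4, 3, 4, 3, 4, 3, 4, 0, 1, 3, 4, 0]), (231, false, [3, 4, 0, 4, 3, 1, 3, 1, 3, 4, 0, 4, 0]), (247, true, [1, 3, 4, 3, 4, 0, 4, 0, 1, 3, 4, 0]), (136, false, [4, 0, 1, 3, 1, 0, 1, 3, 1, 3, 4, 0]), (158, false, [0, 1, 3, 4, 3, 4, 3, 4, 0, 4, 3, 1, 0, 1]), (203, false, [1,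 3, 1, 3, 1, 3, 1, 0, 4, 3, 4, 0, 1, 0]), (169, true, [0, 1, 0, 1, 2, 0, 4, 3, 4, 3, 4, 0, 1]), (186, false, [4, 3, 4, 0, 4, 0, 4, 3, 4, 0, 4, 0]), (203, false, [0, 2, 4, 3, 1, 0, 1, 0, 1, 3, 1, 0]), (238, true, [0, 4, 3, 1, 0, 1, 3, 1, 0, 4]), (247, true, [0, 4, 3, 4, 3, 1, 0, 1, 0, 4, 3, 1, 3, 4, 0]), (238, true, [0, 2, 4, 0, 1, 3, 1, 0, 4, 3, 4, 0, 4]), (236, true, [1, 0, 1, 0, 1, 3, 4, 0, 4, 3, 1, 3, 4, 0, 4]), (188, false, [1, 0, 1, 0, 1, 2]), (230, false, [3, 4, 0, 4, 3, 4, 0, 4, 0, 4, 3, 4, 3, 1]), (135, false, [1, 2, 0, 4, 0, 1, 3, 1, 0, 4, 3, 4, 3]), (63, true, [0, 1, 0, 1, 0, 1, 0, 1, 3, 4, 3, 4, 0, 1]), (158, false, [0, 4, 3, 1, 3, 1, 3, 4, 0, 4, 3]), (128, false, [2, 0, 4, 3, 1, 0, 1, 0, 1, 3, 1, 0, 1, 3, 1,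 0, 4]), (271, false, [2, 0, 4, 0, 4, 0, 4, 3, 1, 0]), (266, true, [1, 3, 4, 0, 4, 3, 1, 0, 1, 0, 4]), (266, false, [3, 1, 0, 1, 3, 4, 3, 4, 0, 4, 3]), (242, false, [1, 0, 1, 3, 4, 0, 1, 3, 1, 3, 4, 0, 4, 0]), (203, false, [0, 4, 0, 4, 3, 1, 0, 1, 0, 1, 0, 4, 3, 4]), (147, false, [1, 0, 1, 3, 4, 0, 4, 3, 1, 3, 1, 0, 1, 0, 4]), (208, false, [0, 1, 0, 1, 2, 0, 1, 0, 4, 3, 1, 3, 1, 3, 4]), (240, false, [0, 4, 0, 4, 0, 4, 3, 1, 0, 1, 3, 4, 0])]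
def r145 : List (ℕ × Bool × List ℕ) := [(241, false, [1, 2, 0, 4, 0, 4, 0, 1, 3, 4, 0, 1]), (241, false, [2, 4, 0, 4, 0, 4, 3, 1, 3, 4, 0, 4, 0]), (31, true, [0, 4, 0, 4, 3, 1, 3, 1, 0, 1, 0]), (241, false, [1, 3, 4, 3, 4, 3, 1, 0, 4, 3, 1]), (197, true, [1, 0, 4, 0, 4, 3, 4, 0, 4, 3, 1, 3, 1]), (65, false, [2, 4, 0, 1, 3, 1, 0, 4, 0, 4, 0, 1, 3, 1, 3, 1]), (104, false, [1, 0, 4, 0, 4, 3, 1, 0, 1, 0, 4]), (241, false, [4, 3, 4, 0, 4, 3, 1, 3, 4, 0, 4, 3]), (251, true, [1, 3, 1, 3, 1, 3, 4, 0, 1, 3, 1, 3, 4]), (31, true, [4, 3, 1, 0, 1, 0, 4, 3, 4, 0]), (267, false, [1, 3, 1, 3, 1, 3, 4, 3, 4, 3, 4, 0, 4]), (197, true, [1, 0, 4, 0, 4, 3, 1, 3, 1, 3, 4, 3, 4]), (65, false, [4, 0, 1, 0, 1, 3, 1, 3, 1, 3, 1, 3, 1, 0, 4]),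 (255, true, [4, 0, 1, 3, 4, 3, 4, 3, 4, 0, 1, 3, 4, 3]), (217, true, [2, 0, 1, 3, 4, 0, 4, 3, 1, 3, 1, 3, 4, 0]), (145, true, []), (65, false, [3, 4, 0, 4, 0, 4, 3, 1, 3, 4, 0, 4, 3, 4, 3, 4]), (104, false, [1, 0, 2, 4, 3, 4, 0, 1, 3, 1, 3, 4]), (165, false, [2, 0, 1, 0, 4, 3, 1, 3, 1, 3, 4, 0, 1]), (251, true, [1, 0, 1, 0, 1, 0, 4, 3, 1, 0, 1, 0, 4]), (255, true, [3, 1, 3, 1, 3, 4, 0, 1, 3, 1, 3, 4]), (140, true, [3, 1, 3, 4, 0, 1, 0, 1, 3, 1, 3, 1]), (217, true, [3, 1, 0, 4, 3, 1, 3, 4, 0, 4, 3, 4, 3, 4, 0, 1]), (197, true, [0, 1, 3, 4, 3, 4, 0, 4, 3, 4, 0, 1, 0, 1]), (255, true, [2, 4, 0, 1, 3, 4, 3, 4, 3, 4, 0, 1, 3, 4, 3]), (217, true, [3, 1, 0, 4, 3, 4, 0, 1, 0, 1, 0, 4, 3]), (215, true, [1, 3, 4, 0, 4, 3, 1, 3,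 1, 3, 4, 0, 4, 3, 4, 0]), (198, false, [1, 3, 1, 0, 1, 0, 4, 3, 4, 3, 1, 0, 1, 0, 4]), (78, false, [3, 4, 0, 4, 3, 4, 0, 1, 0, 1, 3, 1, 0, 1]), (138, false, [4, 3, 1, 3]), (134, true, [1, 0, 4, 0, 4, 3, 4, 3, 4, 3, 4, 3, 4, 3]), (65, false, [2, 0, 4, 3, 4, 0, 4, 3, 1, 3, 4, 0, 4, 0, 4, 0, 4]), (226, false, [1, 0, 2, 4, 3, 4, 3, 4, 0, 4, 0, 4, 3, 4, 0, 1]), (165, false, [3, 1, 3, 4, 0, 1, 0, 1, 0, 4, 3, 1]), (65, false, [4, 3, 1, 0, 1, 3, 1, 0, 1, 0, 4, 0, 4, 3, 1]), (226, false, [0, 2, 4, 0, 4, 0, 4, 0, 1, 3, 1, 0, 4, 0, 4, 0]), (140, true, [2, 0, 1, 0, 4, 3, 1, 3, 1, 0, 1, 0, 1]), (255, true, [2, 0, 1, 0, 1, 0, 4, 3, 1, 0, 1, 0, 4]), (267, false, [1, 2, 0, 4, 3, 4, 3, 4, 3, 4, 0, 4]), (255, true, [0, 1, 0, 1, 0, 2, 4,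 0, 1, 3, 1, 3, 4]), (26, false, [1, 3, 4, 3, 1, 0, 1, 3, 4, 0]), (211, false, [3, 4, 0, 4, 0, 1, 3, 1, 3, 1, 3, 4, 0, 4, 3]), (248, true, [2, 4, 3, 4, 3, 4, 3, 1, 0, 4, 3, 1]), (248, true, [4, 0, 4, 0, 4, 0, 1, 3, 4, 0, 1]), (134, true, [1, 0, 1, 3, 1, 3, 1, 3, 4, 0, 4, 0, 1, 0]), (134, true, [0, 1, 0, 1, 0, 1, 0, 1, 0, 1, 0, 1, 0]), (241, false, [1, 3, 4, 3, 4, 3, 1, 0, 1, 3, 1, 0, 1]), (104, true, [4, 0, 1, 0, 1, 0, 4, 3]), (104, false, [3, 1, 3, 4, 3, 4, 3, 4, 0, 1, 0, 1, 3, 1, 3, 4]), (255, true, [0, 1, 0, 1, 0, 4, 3, 1, 0, 1, 0, 4]), (218, true, [2, 0, 1, 0, 4, 0, 4, 3, 4, 3, 4, 0, 4, 0, 4, 0, 4]), (218, true, [3, 1, 3, 4, 3, 4, 0, 4, 0, 4, 3, 4, 3, 4, 3, 4]), (226, false, [1, 0, 4, 0, 4, 0, 4, 3, 4, 3, 4, 0, 4,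 3, 1]), (206, false, [1, 0, 4, 3, 1, 0, 1, 0, 1, 3, 1, 0, 4, 3, 1, 0]), (65, false, [2, 4, 0, 1, 3, 1, 0, 1, 3, 1, 3, 4, 3, 4, 0, 1]), (226, false, [0, 4, 3, 4, 3, 4, 3, 1, 0, 1, 3, 4, 3, 4, 3]), (207, false, [4, 0, 4, 0, 1, 3, 4, 0, 4, 3, 4, 0, 4]), (145, false, [0, 4, 0, 1, 0, 1, 0, 4, 0, 4, 0, 1, 0]), (26, false, [1, 0, 4, 0, 4, 3, 1, 0, 1, 3, 4]), (211, false, [0, 4, 3, 1, 0, 1, 0, 1, 0, 1, 3, 4, 3, 4, 0]), (267, false, [1, 3, 4, 0, 4, 0, 4, 0, 4, 3, 4]), (211, false, [4, 0, 1, 0, 1, 0, 1, 3, 4, 3, 1, 0, 1, 0]), (114, false, [4, 3, 4, 0, 4, 3, 4, 0, 4, 3, 4, 3, 4, 0]), (249, false, [4, 0, 4, 3, 1, 3, 1, 0, 4]), (78, false, [2, 0, 4, 3, 4, 0, 4, 3, 1, 3, 4, 0, 1]), (145, true, []), (78, false, [3, 4, 0, 4, 0, 4, 3,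 1, 3, 4, 0, 1]), (145, true, []), (241, false, [1, 0, 4, 3, 1, 3, 4, 0, 4, 3, 4, 3, 4, 0]), (241, false, [1, 0, 2, 4, 0, 1, 0, 4, 3, 4, 0, 4, 0, 4, 3]), (104, true, [1, 2, 0, 4, 3, 4, 0, 4, 0, 4, 3, 1]), (104, true, [1, 3, 4, 0, 4, 3, 4, 3, 4, 0, 1]), (26, false, [0, 1, 0, 4, 3, 4, 0, 4, 3, 4, 0, 4, 0, 4, 3, 1]), (140, true, [3, 1, 3, 4, 0, 1, 0, 1, 0, 1, 0, 1]), (100, true, [0, 4, 3, 4, 3, 1, 0, 1, 3, 1, 0, 1, 0]), (251, true, [0, 1, 3, 4, 3, 4, 3, 4, 0, 1, 3, 4, 3]), (31, true, [1, 0, 4, 3, 4, 3, 1, 0, 1, 3, 4, 3, 4, 3, 4]), (165, false, [0, 1, 3, 1, 3, 4, 3, 4, 3, 4]), (248, true, [3, 1, 0, 1, 3, 1, 3, 4, 0, 4, 0, 4]), (120, false, [0, 1, 0, 1, 3, 4, 0, 4, 3, 4, 3, 1, 0]), (122, true, [1, 0, 4, 3, 4, 3, 1, 0, 4, 0,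 4, 0]), (215, true, [3, 1, 0, 4, 3, 4, 0, 1, 3, 1, 3, 1, 0, 1, 3]), (215, true, [3, 4, 3, 4, 3, 1, 0, 4, 3, 4, 3, 4, 0, 4, 0]), (122, true, [1, 0, 2, 4, 0, 4, 0, 1, 3, 4, 3, 4, 3]), (218, true, [2, 0, 4, 3, 4, 3, 1, 0, 1, 0, 1, 0, 1, 3, 1, 3]), (114, false, [2, 4, 0, 1, 3, 4, 0, 4, 3, 4, 3, 4, 0]), (114, false, [4, 3, 1, 0, 4, 3, 4, 0, 4, 0, 4, 3]), (218, true, [3, 4, 0, 4, 0, 1, 3, 1, 3, 1, 3, 1, 0, 1, 0]), (218, true, [1, 0, 1, 0, 1, 2, 0, 1, 3, 1, 3, 4, 3, 4, 0]), (218, true, [1, 0, 1, 0, 1, 3, 1, 0, 1, 0, 4, 0, 4, 3]), (122, true, [3, 1, 3, 4, 0, 4, 0, 1, 3, 4, 3, 4, 3]), (122, true, [2, 0, 1, 0, 4, 3, 4, 3, 1, 0, 4, 0, 4, 0]), (122, true, [0, 1, 0, 2, 4, 0, 1, 0, 1, 3, 1, 3, 4, 0, 1]), (122, true, [0, 1, 0, 4, 3,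 1, 3, 1, 0, 1, 0, 4, 3, 1]), (249, false, [4, 0, 4, 3, 1, 3, 1, 0, 1, 3, 4, 0, 1, 3, 1]), (249, false, [4, 0, 1, 0, 1, 3, 4, 0, 1, 0, 1, 0, 1, 3, 4]), (145, false, [4, 3, 1, 0, 1, 3, 4, 0, 4, 3, 1]), (145, false, [4, 0, 1, 3, 1, 0, 4, 3, 4, 0, 1]), (198, false, [2, 4, 0, 1, 0, 1, 3, 1, 3, 1, 0, 4, 3, 1, 0]), (198, false, [4, 3, 1, 3, 1, 0, 1, 0, 1, 3, 4, 0, 1, 3]), (120, false, [0, 1, 3, 4, 3, 4, 0, 4, 0, 4, 3, 4, 3]), (226, false, [0, 1, 2, 0, 1, 0, 4, 0, 4, 3, 1, 0, 1, 3, 4, 3, 1, 0]), (226, false, [0, 1, 3, 1, 3, 4, 3, 4, 0, 1, 0, 1, 3, 4, 3, 1, 0]), (120, false, [0, 1, 2, 0, 4, 0, 4, 3, 4, 3, 4, 0, 4, 0]), (241, false, [3, 4, 0, 4, 3, 4, 0, 4, 0, 4, 3, 1, 0, 1, 3, 1]), (241, false, [1, 0, 4, 3, 4, 0, 1, 3, 1, 3, 4,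 3, 4, 3, 1, 0]), (100, true, [4, 0, 1, 3, 1, 3, 1, 0, 4, 3, 4, 3, 4]), (100, true, [0, 4, 3, 1, 0, 1, 0, 1, 3, 4, 0, 1, 0]), (248, true, [4, 0, 4, 0, 4, 0, 1, 3, 4, 0, 1]), (248, true, [2, 4, 3, 4, 3, 4, 3, 1, 0, 4, 3, 1]), (248, true, [3, 1, 0, 1, 3, 1, 3, 4, 0, 4, 0, 4]), (238, false, [1, 0, 1, 0, 1, 0, 1, 0])]
def r146 : List (ℕ × Bool × List ℕ) := [(61, true, [1, 3, 1, 0, 1, 0, 1, 3, 4, 3, 4, 0, 4]), (241, false, [3, 4, 3, 1, 3, 1, 3, 4, 0, 4, 0]), (222, false, [1, 0, 1, 2, 0, 4, 0, 1, 3, 1, 0, 4, 3, 4, 0]), (61, true, [0, 4, 3, 1, 3, 1, 3, 4, 3, 4, 3, 4, 0, 4]), (125, true, [0, 1, 0, 2, 4, 3, 4, 3, 4, 0, 1, 0, 1, 3]), (182, true, [2, 4, 0, 1, 0, 1, 3, 1, 0, 4, 0, 4, 0, 4, 3]), (104, false, [0, 1, 0, 1, 2, 0, 1, 0,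 4, 0, 4, 3, 4, 3]), (241, false, [2, 0, 4, 0, 1, 0, 1, 0, 4, 3, 4, 3]), (257, true, [0, 1, 3, 1, 3, 4, 0, 4, 0]), (222, false, [1, 0, 1, 3, 4, 3, 1, 0, 1, 3, 4, 0, 4, 3]), (56, false, [1, 3, 1, 0, 1, 0, 4, 3, 4, 0, 1, 0, 1, 0, 1, 0]), (125, true, [0, 1, 0, 4, 0, 4, 0, 4, 3, 1, 3, 1, 0]), (182, true, [4, 0, 1, 3, 4, 3, 4, 0, 1, 0, 1, 3, 1, 3]), (176, true, [1, 0, 1, 0, 4, 3, 4, 3, 4, 3, 1, 0, 1, 0, 4]), (243, false, [2, 0, 1, 3, 4, 0, 4, 3, 1, 0, 1, 0, 1, 3, 1]), (104, false, [3, 1, 3, 4, 3, 4, 3, 4, 0, 1, 0, 1, 3, 1, 3, 4]), (182, true, [1, 0, 1, 0, 4, 3, 1, 3, 1, 0, 4, 0, 4, 3, 4, 3]), (104, false, [0, 1, 0, 1, 3, 1, 3, 4, 3, 4, 0, 4, 0]), (250, false, [3, 1, 0, 4, 3, 1, 0, 1, 0, 1, 3, 4, 3]), (257, true, [0, 1, 2, 0,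 1, 0, 4, 3, 4, 3]), (247, false, [3, 1, 0, 4, 3, 4, 0, 4, 0, 4, 3, 4, 3]), (90, false, [3, 1, 0, 1, 0, 1, 0, 1, 3, 4, 0, 1]), (146, false, [0, 4, 3, 1, 3, 1, 3, 4, 3, 4, 3, 1]), (251, true, [0, 1, 0, 1, 3, 4, 3, 4, 0, 1, 0, 1, 0, 1, 3, 4, 3, 4, 0]), (176, true, [1, 0, 1, 0, 2, 4, 0, 4, 0, 4, 0, 1, 3, 1, 3, 4]), (243, false, [3, 1, 0, 4, 3, 4, 0, 1, 3, 1, 3, 1, 0, 1]), (217, false, [0, 1, 3, 1, 0, 1, 3, 1, 0, 4, 0, 4, 0, 1]), (241, true, [1, 0, 1, 0, 1, 3, 1, 3, 4, 0, 4, 3, 1, 0]), (47, true, [0, 1, 0, 1, 0, 4, 3, 1, 0, 1, 0, 1, 3, 1, 3, 1]), (250, false, [4, 3, 4, 0, 4, 3, 4, 3, 1, 0, 4, 0, 4, 3, 4]), (197, true, [0, 4, 0, 4, 3, 4, 3, 4, 3, 1]), (182, true, [1, 0, 1, 0, 2, 4, 0, 1, 0, 1, 3, 4, 3, 4, 0, 4, 0]), (202, false,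 [0, 1, 0, 1, 2, 0, 1, 3, 4, 0, 1, 0]), (250, false, [2, 0, 1, 3, 4, 0, 1, 3, 1, 3, 1, 0, 4, 0]), (92, true, [3, 1, 0, 1, 3, 1, 0, 1, 0, 4]), (222, false, [0, 1, 0, 2, 4, 0, 4, 3, 1, 3, 1, 3, 1, 0, 4]), (90, false, [2, 0, 1, 3, 1, 3, 1, 3, 1, 0, 4, 3, 1]), (247, false, [2, 0, 1, 3, 4, 0, 4, 3, 4, 3, 4, 0, 4, 0]), (125, true, [0, 1, 3, 4, 3, 4, 0, 4, 0, 4, 3, 4, 3]), (234, true, [1, 0, 4, 0, 1, 3, 1, 0, 4, 3, 4, 3, 4]), (35, false, [3, 1, 0, 1, 3, 1, 3, 1, 0, 1, 0, 4, 3, 1]), (97, false, [1, 0, 4, 0, 1, 3, 4, 0, 4, 0, 4, 0, 4]), (103, false, [4, 0, 1, 0, 4, 3, 4, 0, 4, 0, 1, 3, 4, 3, 4]), (103, false, [2, 4, 3, 1, 3, 4, 0, 4, 3, 4, 3, 1, 0, 4, 0, 4]), (197, true, [0, 2, 4, 3, 4, 0, 4, 0, 4, 0, 1]), (257, true, [4, 0, 1,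 3, 1, 0, 1, 0, 4, 3, 4, 3]), (97, false, [4, 0, 4, 3, 4, 0, 1, 3, 1, 3, 1, 3, 4, 3]), (146, false, [0, 4, 3, 1, 3, 1, 3, 4, 3, 4, 3, 1]), (146, true, []), (234, true, [1, 0, 2, 4, 3, 1, 0, 1, 3, 4, 0, 4, 0, 4]), (182, true, [4, 3, 4, 0, 1, 0, 1, 0, 4, 3, 1, 3, 1, 0]), (182, true, [2, 4, 0, 4, 3, 1, 3, 1, 3, 4, 0, 1, 0, 1, 3]), (202, false, [0, 1, 0, 1, 3, 1, 0, 4, 3, 1, 3]), (246, false, [4, 3, 1, 3, 4, 0, 4, 3, 4, 3, 1, 0, 1, 3, 1]), (92, true, [2, 0, 1, 3, 1, 0, 1, 3, 1, 3, 4]), (222, false, [0, 1, 0, 4, 3, 4, 0, 1, 0, 1, 0, 1, 3, 4]), (95, false, [3, 1, 3, 1, 0, 4, 3, 4, 3, 4, 3, 1, 3]), (248, false, [1, 0, 4, 3, 1, 0, 1, 3, 4, 3, 1, 0, 4, 0]), (35, false, [0, 4, 0, 4, 3, 4, 0, 4, 3, 4, 3, 1, 0, 1]), (97, false, [1,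 0, 2, 4, 3, 1, 0, 4, 3, 4, 3, 4, 3, 4]), (125, true, [0, 1, 2, 0, 4, 0, 4, 3, 4, 3, 4, 0, 4, 0]), (61, true, [1, 0, 1, 3, 1, 0, 1, 3, 4, 0, 1, 0]), (35, false, [1, 0, 1, 3, 1, 0, 4, 0, 4, 3, 4, 3]), (44, false, [1, 0, 1, 0, 4, 0, 4, 0, 1, 3]), (222, false, [2, 0, 1, 3, 1, 0, 4, 3, 4, 3, 4, 0, 4, 0, 1, 0]), (146, true, []), (222, false, [3, 1, 0, 1, 3, 4, 0, 4, 0, 4, 3, 4, 3, 1, 3]), (146, true, []), (90, false, [1, 0, 4, 0, 1, 3, 1, 0, 1, 3, 4, 0, 1]), (90, false, [1, 0, 2, 4, 3, 1, 0, 1, 3, 1, 0, 4, 3, 1]), (95, false, [2, 4, 3, 1, 3]), (95, false, [4, 0, 1, 0]), (95, true, [1, 0, 1, 3, 1, 3, 1, 0, 4, 3, 1, 3, 4, 0, 4, 0]), (241, false, [4, 0, 4, 0, 4, 0, 4, 0, 4, 3, 4]), (103, false, [1, 3, 1, 0, 4, 3, 1, 0, 1, 3, 4,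 3, 1, 0, 1, 0]), (197, true, [0, 1, 0, 4, 0, 4, 0, 1]), (202, false, [1, 3, 1, 3, 1, 0, 4, 0, 4, 3, 4]), (162, true, [0, 1, 0, 1, 0, 4, 3, 4, 0, 1, 0, 1, 0, 1, 3, 1]), (176, true, [1, 0, 1, 0, 4, 3, 4, 0, 1, 3, 4]), (247, false, [4, 0, 4, 3, 1, 3, 1, 0]), (56, false, [0, 4, 0, 4, 0, 4, 0, 1, 3, 1, 0, 4, 3, 4, 0, 4]), (248, false, [4, 3, 4, 3, 4, 3, 4, 0, 1, 3, 1, 0]), (248, false, [2, 4, 0, 4, 0, 4, 0, 4, 3, 1, 0, 1, 3]), (56, false, [4, 3, 4, 3, 4, 3, 1, 0, 1, 3, 4, 0, 4, 3, 4]), (92, true, [1, 3, 4, 0, 1, 3, 1, 0, 1, 3, 1, 3, 4]), (95, true, [1, 3, 1, 3, 1, 3, 4, 3, 4, 3, 4, 0]), (95, true, [4, 3, 1, 0, 4, 0, 4, 3, 1, 0, 1]), (92, true, [1, 2, 0, 4, 3, 1, 0, 1, 3, 1, 0, 1, 0, 4]), (92, true, [3, 1, 0, 4, 3, 1, 3, 4]),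 (92, true, [2, 0, 1, 3, 4, 0, 1, 0, 4]), (125, true, [1, 0, 1, 3, 1, 0, 1, 0, 1, 0, 4, 3, 4, 0, 1, 0]), (125, true, [1, 0, 1, 2, 0, 1, 3, 1, 3, 1, 3, 4, 0, 4, 3, 1, 3]), (251, true, [3, 4, 0, 4, 0, 1, 3, 4, 0, 4, 0, 1, 3, 4]), (251, true, [0, 4, 3, 4, 3, 1, 0, 4, 3, 4, 3, 1, 0, 4]), (246, false, [0, 1, 3, 4, 0, 4, 3, 4, 0, 4, 3, 1, 3]), (246, false, [0, 1, 2, 0, 4, 3, 4, 0, 4, 3, 4, 0, 1, 0]), (217, false, [1, 3, 4, 0, 4, 3, 4, 0, 1, 3, 4]), (217, false, [1, 2, 0, 4, 3, 4, 0, 4, 3, 1, 0, 4]), (90, false, [2, 0, 1, 0, 1, 0, 1, 3, 1, 3, 1, 0, 4, 3, 1]), (90, false, [3, 1, 3, 1, 3, 1, 0, 1, 0, 1, 3, 4, 0, 1]), (234, true, [1, 0, 2, 4, 3, 4, 0, 4, 3, 4, 3, 4]), (47, true, [1, 0, 4, 3, 1, 3, 4, 0, 4, 0, 1, 3]), (47, true,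 [0, 1, 3, 1, 3, 1, 3, 1, 0, 1, 0, 1]), (234, true, [1, 0, 4, 0, 4, 3, 4, 0, 4, 0, 4]), (241, true, [3, 1, 0, 4, 3, 4, 0, 1, 3, 1, 3, 1, 0, 1, 3]), (241, true, [2, 0, 1, 3, 4, 0, 4, 3, 1, 0, 1, 0, 1, 3, 1, 0]), (56, false, [1, 0, 1, 3, 1, 3, 1, 0, 4, 3, 4, 0, 4, 3, 4, 0]), (56, false, [0, 1, 3, 1, 0, 1, 0, 1, 3, 4, 0, 4, 3, 4, 0, 4, 3]), (234, true, [1, 0, 1, 0, 1, 2, 0, 1, 3, 1, 0, 1, 3, 4, 3, 4]), (234, true, [1, 0, 1, 0, 1, 3, 1, 0, 1, 3, 1, 0, 4, 0, 4]), (56, false, [3, 1, 0, 1, 3, 4, 3, 4, 0, 4, 0, 1, 3]), (243, false, [0, 1, 3, 4, 0, 4, 3, 4, 3, 1, 0, 1, 0])]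
def r147 : List (ℕ × Bool × List ℕ) := [(185, true, [1, 3, 1, 3, 4, 0, 4, 0, 4, 3, 4, 0, 1, 3, 4, 3]), (185, true, [1, 3, 1, 3, 4, 0, 4, 0, 4, 3, 4, 0, 1, 3, 4]), (259, false, [0, 1, 0, 4, 0, 4, 0, 4, 3, 1, 3, 1, 0, 1, 0, 4]), (185, true, [0, 1, 0, 1, 0, 4, 3, 4, 3, 4, 3, 4, 0, 1, 0, 1, 0]), (185, true, [4, 0, 4, 0, 4, 0, 4, 3, 1, 0, 1, 3, 1, 0, 1]), (185, false, [4, 0, 4, 3, 1, 0, 1, 0, 1, 0, 1, 3, 1, 3, 1]), (108, true, [4, 3, 4, 3, 4, 3, 4, 0, 4, 0, 4, 3, 1, 0, 1]), (185, true, [0, 1, 0, 1, 0, 4, 3, 4, 3, 4, 3, 4, 0, 1, 0, 1]), (224, true, [0, 1, 2, 0, 4, 3, 4, 3, 4, 3, 4, 0, 1, 3, 4, 3]), (259, false, [0, 1, 0, 4, 0, 4, 3, 4, 0, 1, 0, 1, 3, 1, 3, 4]), (259, false, [0, 1, 0, 4, 0, 4, 0, 4, 3, 1, 3, 1, 0, 1, 0, 4, 3]),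 (185, true, [2, 4, 3, 4, 3, 4, 3, 4, 0, 1, 3, 1, 0, 1, 3, 1]), (185, false, [2, 4, 3, 4, 0, 1, 3, 1, 3, 1, 3, 1, 0, 1, 0, 1]), (249, false, [1, 0, 4, 3, 4, 0, 1, 0, 1, 3, 4, 3, 1, 0, 1, 0]), (187, true, [0, 4, 0, 1, 3, 1, 0, 4, 0, 4, 0, 1, 0]), (185, false, [3, 4, 0, 4, 3, 4, 3, 4, 0, 1, 3, 4, 3, 4, 3, 1]), (108, true, [4, 3, 4, 3, 4, 3, 4, 0, 4, 0, 4, 3, 1, 0, 1, 0]), (108, true, [0, 4, 0, 4, 0, 4, 0, 4, 3, 4, 3, 4, 0, 1, 3, 1]), (108, true, [3, 4, 0, 4, 0, 4, 0, 4, 3, 4, 3, 4, 0, 1, 3, 1]), (224, true, [0, 1, 3, 4, 0, 4, 0, 4, 0, 4, 3, 1, 0, 4, 0]), (224, true, [0, 1, 2, 0, 4, 3, 4, 3, 4, 3, 4, 0, 1, 3, 4]), (224, true, [0, 1, 2, 0, 4, 3, 4, 3, 4, 3, 4, 0, 1, 3, 4, 0]), (94, true, [1, 3, 1, 0, 1, 0, 1, 3, 1, 0, 1, 3,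 1, 3]), (177, true, [1, 3, 1, 0, 1, 0, 1, 3, 4, 0, 1, 0, 1, 0]), (249, false, [1, 0, 4, 3, 4, 0, 1, 0, 1, 3, 4, 3, 1, 0, 1, 3]), (187, true, [0, 4, 0, 1, 3, 1, 0, 4, 0, 4, 0, 1, 3]), (249, false, [1, 0, 4, 3, 4, 0, 1, 0, 1, 3, 4, 3, 1, 0, 1]), (187, true, [0, 4, 0, 1, 3, 1, 0, 4, 0, 4, 0, 1]), (247, false, [4, 3, 1, 0, 1, 0, 1, 0, 4, 3, 4, 0, 1, 3, 4]), (60, false, [0, 1, 0, 4, 0, 4, 3, 4, 0, 4, 3, 4, 0, 4, 3]), (177, true, [1, 2, 0, 1, 3, 1, 3, 1, 0, 4, 3, 1, 3, 1]), (108, true, [0, 4, 0, 4, 0, 4, 0, 4, 3, 4, 3, 4, 0, 1, 3, 1, 3]), (134, false, [0, 4, 0, 4, 3, 1, 0, 1, 3, 4, 0, 4]), (108, true, [3, 4, 3, 4, 3, 4, 3, 4, 0, 4, 0, 4, 3, 1, 0, 1]), (140, false, [0, 4, 0, 1, 3, 1, 3, 1, 0, 4, 3, 1, 3, 4, 0, 4]), (202, true,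 [0, 2, 4, 0, 1, 0, 4, 3, 4, 3, 4, 0, 4]), (224, true, [0, 1, 3, 4, 0, 4, 0, 4, 0, 4, 3, 1, 0, 4, 3]), (224, true, [0, 1, 3, 4, 0, 4, 0, 4, 0, 4, 3, 1, 0, 4]), (259, false, [4, 3, 4, 3, 1, 0, 1, 3, 4, 0, 1, 0, 1]), (247, false, [1, 3, 1, 0, 1, 0, 1, 3, 4, 3, 1, 0, 4, 0, 4]), (0, false, [0, 1, 3, 1, 0, 1, 3, 1, 0, 1]), (108, true, [0, 1, 3, 4, 0, 1, 3, 1, 3, 1, 3, 4]), (94, true, [1, 3, 1, 0, 1, 0, 1, 3, 1, 0, 1, 3, 1]), (94, true, [1, 2, 0, 1, 3, 1, 3, 1, 0, 1, 3, 1, 0, 1]), (177, true, [1, 3, 1, 0, 1, 0, 1, 3, 4, 0, 1, 0, 1]), (108, false, [1, 3, 4, 0, 1, 3, 1, 3, 1, 0, 1, 0, 4, 0]), (228, false, [3, 1, 0, 4, 0, 4, 3, 4, 0, 4, 3, 1, 3, 4]), (129, true, [4, 0, 1, 0, 1, 0, 4, 0, 4, 0, 1]), (129, false, [3]), (247, false,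 [0, 1, 0, 4, 0, 4, 0, 4, 3, 1, 3, 4, 0, 4, 3, 1]), (60, false, [0, 1, 0, 4, 0, 4, 3, 4, 0, 4, 3, 4, 0, 4]), (60, false, [0, 1, 0, 2, 4, 3, 4, 0, 4, 3, 4, 0, 4, 3, 4]), (134, false, [3, 4, 3, 4, 0, 1, 3, 1, 0, 4, 3, 4]), (134, false, [0, 4, 0, 4, 3, 1, 0, 1, 3, 4, 0, 4, 0]), (140, false, [0, 4, 3, 1, 0, 1, 3, 4, 3, 1, 0, 4, 0, 4, 0, 4]), (202, true, [0, 4, 3, 1, 3, 4, 0, 4, 0, 4, 3, 4]), (140, false, [0, 4, 0, 1, 3, 1, 3, 1, 0, 4, 3, 1, 3, 4, 0, 4, 0]), (202, true, [0, 4, 3, 1, 3, 4, 0, 4, 0, 4, 3, 4, 3]), (0, false, [0, 1, 2, 0, 1, 3, 1, 0, 1, 3, 1]), (108, true, [1, 0, 4, 3, 1, 0, 1, 0, 1, 0, 4]), (259, false, [2, 4, 0, 4, 0, 1, 3, 1, 0, 4, 3, 1, 3, 1]), (259, false, [4, 3, 4, 3, 1, 0, 1, 3, 4, 0, 1, 0, 1, 0]), (0, false,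 [0, 1, 3, 1, 0, 1, 3, 1, 0, 1, 0]), (108, true, [1, 0, 4, 3, 1, 0, 1, 0, 1, 0, 4, 3]), (189, false, [2, 4, 0, 1, 0, 1, 3, 4, 0, 1, 0, 1, 3, 1]), (129, false, []), (189, false, [4, 3, 1, 3, 1, 0, 4, 3, 1, 3, 1, 0, 1]), (129, false, [0]), (108, false, [0, 1, 0, 4, 3, 1, 0, 1, 0, 1, 3, 1, 3, 4]), (108, false, [1, 3, 4, 0, 1, 3, 1, 3, 1, 0, 1, 0, 4]), (269, true, [2, 4, 0, 1, 3, 4, 0, 4, 0, 4, 0, 4, 3, 4, 3]), (269, true, [4, 3, 1, 0, 4, 3, 4, 3, 4, 3, 4, 0, 4, 0]), (156, false, [4, 0, 4, 3, 1, 3, 4, 0, 4, 0, 4, 0, 4, 0]), (144, false, [1, 0, 1, 3, 1, 3, 4, 0, 4, 3, 1, 3, 4]), (240, true, [3, 1, 3, 1, 0, 1, 3, 1, 3, 4, 3, 4, 3, 4]), (206, true, [4, 0, 1, 3, 1, 3, 1, 0, 4, 3, 4, 3, 4, 0, 1, 0]), (185, true, [4, 0, 1, 0, 1,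 0, 1, 3, 1, 3, 4, 3, 4, 0]), (174, true, [3, 4, 3, 4, 0, 1, 3, 1, 0, 4, 0, 4, 0, 4]), (242, true, [1, 3, 1, 3, 4, 3, 4, 3, 1, 0, 1, 3, 4]), (144, false, [0, 4, 3, 1, 3, 4, 0, 1, 0, 1, 0, 4, 3]), (189, false, [2, 4, 0, 1, 0, 1, 3, 4, 0, 1, 0, 1, 3, 1, 0]), (189, false, [2, 4, 0, 1, 0, 1, 3, 4, 0, 1, 0, 1, 3, 1, 3]), (189, false, [4, 3, 1, 3, 1, 0, 4, 3, 1, 3, 1, 0, 1, 0]), (189, false, [4, 3, 1, 3, 1, 0, 4, 3, 1, 3, 1, 0, 1, 3]), (269, true, [2, 4, 0, 1, 3, 4, 0, 4, 0, 4, 0, 4, 3, 4]), (269, true, [0, 2, 4, 3, 1, 3, 1, 0, 4, 3, 1, 3, 1, 3, 1]), (269, true, [0, 4, 0, 1, 0, 1, 3, 4, 0, 1, 0, 1, 0, 1]), (269, true, [4, 3, 1, 0, 4, 3, 4, 3, 4, 3, 4, 0, 4]), (156, false, [2, 4, 0, 4, 3, 1, 3, 4, 0, 4, 3, 4, 3, 4]), (156, false,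 [4, 0, 4, 3, 1, 3, 4, 0, 4, 0, 4, 0, 4]), (144, false, [1, 0, 1, 2, 0, 1, 0, 4, 0, 4, 3, 1, 3, 4]), (144, false, [1, 0, 1, 3, 1, 3, 4, 3, 4, 0, 1, 0, 4]), (206, true, [4, 0, 4, 3, 4, 3, 4, 0, 1, 3, 1, 3, 1, 0, 1]), (206, true, [4, 0, 1, 3, 1, 3, 1, 0, 4, 3, 4, 3, 4, 0, 1]), (185, true, [2, 4, 3, 1, 3, 1, 3, 1, 0, 1, 0, 4, 0, 4]), (185, true, [4, 0, 1, 0, 1, 0, 1, 3, 1, 3, 4, 3, 4]), (242, true, [1, 3, 1, 3, 4, 3, 4, 3, 1, 0, 1, 3, 4, 0]), (242, true, [1, 3, 1, 3, 4, 3, 4, 3, 1, 0, 1, 3, 4, 3]), (144, false, [0, 4, 3, 1, 3, 4, 0, 1, 0, 1, 0, 4]), (144, false, [0, 2, 4, 0, 1, 0, 4, 3, 1, 3, 1, 3, 4]), (206, true, [4, 3, 1, 0, 4, 3, 4, 0, 4, 0, 4, 3, 1, 0, 4]), (263, true, [1, 3, 4, 0, 4, 3, 4, 3, 4, 0, 4, 0, 4, 0, 4, 0]),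 (263, true, [1, 2, 0, 4, 3, 4, 0, 4, 0, 4, 3, 4, 3, 4, 3, 4, 3]), (206, true, [4, 0, 1, 3, 4, 0, 4, 3, 4, 3, 4, 0, 1, 3, 4]), (240, false, [4, 3, 1, 3, 1, 0, 1, 0, 4, 3, 4, 0, 1]), (240, false, [0, 4, 3, 4, 0, 4, 0, 4, 0, 1, 3, 1, 0, 1]), (263, true, [1, 2, 0, 4, 3, 4, 0, 4, 0, 4, 3, 4, 3, 4, 3, 4, 0]), (263, true, [1, 3, 4, 0, 4, 3, 4, 3, 4, 0, 4, 0, 4, 0, 4, 3]), (263, true, [1, 2, 0, 4, 3, 4, 0, 4, 0, 4, 3, 4, 3, 4, 3, 4]), (263, true, [1, 3, 4, 0, 4, 3, 4, 3, 4, 0, 4, 0, 4, 0, 4]), (206, true, [4, 0, 1, 3, 4, 0, 4, 3, 4, 3, 4, 0, 1, 3, 4, 0]), (240, false, [4, 3, 1, 0, 1, 3, 4, 3, 1, 0, 4, 0, 4])]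
def r148 : List (ℕ × Bool × List ℕ) := [(132, true, [1, 0, 2, 4, 3, 1, 0, 1, 0, 4, 3, 4, 0]), (184, true, [2, 0, 4, 0, 1, 0, 1, 3, 1, 3, 1, 0, 4]), (90, false, [0, 4, 0, 4, 0, 1, 3, 4, 3, 4, 0, 1, 0, 1, 3, 1, 3]), (30, false, [2, 0, 1, 3, 1, 3, 4, 3, 4, 0, 1, 0]), (75, false, [1, 3, 1, 0, 1, 3, 4, 3, 4, 3, 1, 0]), (248, false, [0, 1, 2, 0, 1, 0, 4, 3, 4, 0, 1, 0]), (270, false, [1, 2, 0, 1, 0, 4, 0, 4, 3, 1, 0, 4, 0, 4, 0, 1, 3]), (172, true, [0, 4, 3, 4, 3, 1, 0, 1, 0, 4, 3, 4, 3, 1, 0, 4]), (226, true, [0, 2, 4, 3, 1, 0, 4, 3, 4, 3, 1, 0, 1]), (66, true, [0, 4, 3, 1, 0, 1, 0, 4, 3, 1, 0, 1, 3]), (116, true, [4, 0, 4, 3, 4, 0, 1, 3, 1, 3, 1, 3, 1, 0]), (111, false, [3, 4, 3, 1, 0, 1, 0, 1, 0, 4, 3, 1, 3, 1]), (213, false,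 [3, 1, 0, 1, 3, 4, 3, 4, 3, 1, 0, 1, 3, 1, 0]), (277, true, [2, 4, 3, 1, 3, 1]), (205, false, [2, 4, 0, 4, 3, 4, 0, 1, 0, 1, 0, 4]), (148, false, [0, 1, 3, 1, 3, 4, 3, 4, 0, 4, 3, 1]), (132, false, [0, 2, 4, 0, 4, 0, 4, 3, 1, 0]), (3, false, [3, 4, 0, 1, 3, 1, 0, 4, 0, 4, 3, 1, 0, 4, 3]), (116, true, [1, 0, 1, 0, 1, 0, 4, 0, 4, 3, 1, 0, 1, 3, 1]), (65, true, [0, 4, 0, 1, 3, 1, 3, 4, 0, 4, 0, 4, 3, 4, 3, 1]), (95, true, [1, 0, 1, 0, 1, 0, 1, 3, 1, 3, 1, 3, 4, 0]), (277, true, [1, 2, 0, 4, 3, 4, 0, 4, 0, 4, 0, 1, 0]), (211, true, [0, 4, 0, 1, 3, 4, 0, 4, 0, 4, 3, 4, 3, 4, 0, 1]), (193, true, [4, 0, 1, 0, 1, 3, 1, 3, 4, 0, 4, 3, 1, 0]), (103, false, [1, 0, 1, 0, 1, 3, 4, 3, 4, 3, 1, 0, 1, 3, 1]), (155, true, [3, 4, 0, 1,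 3, 4, 3, 4, 3, 4, 0, 1]), (148, false, [0, 4, 0, 1, 0, 1, 0, 4, 3, 1, 0, 4]), (190, false, [4, 3, 1, 0, 1, 0, 4, 3, 1, 3, 1]), (155, false, [0, 1, 0, 1, 0, 4, 3, 4, 0, 4, 0, 1, 0]), (181, true, [3, 4, 0, 1, 3, 4, 3, 1, 0, 1, 0, 4, 3, 1, 0]), (190, false, [1, 3, 4, 0, 1, 0, 1, 0, 1, 3, 4, 3]), (66, false, [2, 0, 1, 3, 1, 0, 1, 0, 1, 3, 4, 3, 4, 0]), (7, false, [0, 1, 0, 4, 3, 1, 3, 1, 3, 4, 0, 4, 3, 4, 0]), (193, false, [1, 0, 4, 3, 4, 3, 4, 3, 1, 0]), (194, false, [1, 2, 0, 1, 3, 1, 0, 4, 0, 4, 0, 1, 0]), (97, false, [1, 0, 4, 3, 4, 0, 1, 0, 1, 3, 4, 0, 4, 0]), (66, false, [2, 0, 4, 0, 1, 3, 4, 0, 4, 0, 4, 3, 4, 3, 4, 0, 1]), (181, true, [1, 0, 1, 0, 1, 3, 4, 0, 1, 3, 1, 3, 1, 0, 1]), (194, false, [3, 4, 0, 1, 0, 1, 3,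 1, 0, 1, 3, 4]), (211, true, [1, 0, 1, 3, 1, 0, 1, 3, 4, 0, 1]), (116, false, [1, 0, 1, 3, 1, 0, 1, 3, 4, 3, 4, 3, 1, 3]), (103, false, [0, 4, 3, 4, 3, 4, 3, 1, 0, 4, 3, 4, 3]), (85, true, [3, 4, 3, 4, 3, 4, 0, 4, 0, 4, 0, 4, 3, 1, 0, 4]), (248, false, [3, 1, 0, 4, 0, 4, 0, 4, 3, 4, 0, 4, 3, 1, 3]), (65, true, [0, 4, 3, 1, 0, 1, 0, 4, 3, 4, 3, 4, 3, 1, 0]), (66, true, [3, 1, 3, 4, 3, 4, 0, 1, 3, 1, 0, 1]), (3, false, [0, 4, 0, 4, 3, 4, 3, 1, 0, 4]), (75, false, [4, 0, 4, 0, 4, 0, 4, 3, 1, 3, 4, 0, 4, 3, 1]), (111, false, [1, 0, 1, 3, 4, 0, 1, 0, 1, 0, 1, 3, 4, 3, 4, 3, 1]), (184, true, [0, 1, 3, 4, 3, 4, 0, 4, 0, 1, 3, 1, 0, 4]), (277, true, [2, 4, 3, 4, 3, 1, 0, 1, 3, 1, 0, 1, 3]), (277, true, [1, 0, 2, 4, 0, 4, 3, 1,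 0, 1, 0, 1, 3, 1, 3, 1]), (213, false, [0, 4, 0, 1, 0, 1, 0, 1, 3, 1, 3, 1, 0]), (273, false, [1, 3, 4, 0, 4, 3, 4, 3, 4]), (7, false, [0, 4, 3, 1, 0, 1, 0, 1, 3, 4, 0, 1, 0]), (75, false, [4, 0, 4, 3, 4, 3, 4, 0, 1, 3]), (97, false, [2, 4, 0, 1, 0, 1, 0, 4, 0, 4, 3, 1, 3, 1]), (172, true, [3, 1, 3, 1, 3, 4, 3, 4, 3, 4, 3, 4]), (154, false, [0, 1, 0, 1, 3, 1, 3, 4, 0, 1, 0, 1, 0, 1, 3, 4]), (66, false, [1, 2, 0, 1, 3, 1, 0, 1, 3, 4, 0, 1]), (148, false, [1, 0, 1, 3, 4, 3, 1, 0, 1, 0, 1]), (65, true, [1, 3, 1, 3, 1, 3, 1, 0, 1, 0, 4, 0, 4, 0]), (95, true, [2, 0, 4, 0, 1, 3, 4, 3, 1, 0, 1, 3, 1]), (90, false, [3, 4, 3, 1, 0, 1, 0, 4]), (85, true, [0, 4, 3, 1, 0, 1, 0, 1, 0, 1, 3, 1, 3, 4, 3, 4, 0]), (3, false, [1, 0, 1,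 0, 1, 3, 1, 3, 4, 3, 4, 0, 4, 0, 4]), (7, false, [3, 4, 3, 1, 0, 1, 3, 4, 0, 4, 0, 1, 0]), (171, false, [4, 0, 4, 3, 1, 0, 1, 3, 1, 0, 4, 0, 4]), (61, true, [3, 4, 3, 1, 0, 1, 3, 4, 0, 4, 0, 4, 3, 4, 0, 4]), (181, true, [3, 4, 3, 4, 3, 4, 3, 1, 0, 1, 3, 4, 0, 4, 3, 4]), (270, false, [1, 2, 0, 4, 0, 4, 0, 1, 3, 1, 0, 1, 0, 1, 0]), (171, false, [3, 1, 0, 4, 3, 4, 0, 1, 0, 4]), (132, true, [2, 4, 0, 1, 3, 1, 0, 4, 3, 1, 0, 1]), (226, true, [1, 2, 0, 1, 0, 4, 0, 4, 3, 1, 3, 1, 0, 4]), (154, false, [3, 1, 3, 4, 0, 1, 0, 1, 0, 1, 3, 4, 3, 4, 0]), (175, false, [0, 4, 3, 1, 0, 1, 0, 1, 0, 1, 3, 4]), (205, false, [0, 4, 3, 1, 0, 1, 0, 1, 3, 4, 0, 1, 3, 1, 3, 4]), (61, true, [2, 4, 3, 1, 0, 4, 0, 4, 3, 4, 0, 4]), (270, false, [0,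 2, 4, 0, 1, 3, 4, 0, 1]), (171, false, [0, 1, 3, 1, 3, 1, 3, 1, 0, 1, 0]), (97, false, [1, 0, 1, 0, 2, 4, 0, 4, 0, 4, 3, 4, 3, 1]), (233, true, [4, 0, 1, 0, 4, 3, 1, 3, 1, 0, 1, 3]), (155, false, [4, 0, 4, 0, 4, 0, 1, 3, 1, 0, 4, 3, 1]), (111, false, [1, 0, 1, 3, 1, 3, 1, 3, 1, 3, 1, 0]), (85, true, [3, 1, 0, 1, 0, 1, 3, 1, 0, 1, 3, 4, 3, 1, 0, 4]), (154, false, [1, 0, 4, 0, 4, 0, 4, 3, 4, 0, 4, 3, 4, 0]), (193, false, [3, 1, 0, 4, 3, 4, 0, 4, 0, 4, 0, 1, 3, 1]), (148, false, [1, 0, 4, 0, 4, 0, 4, 3, 1, 0, 1, 3, 1, 0, 1]), (103, false, [1, 3, 1, 3, 4, 3, 4, 3, 4]), (30, false, [0, 4, 3, 1, 3, 4, 0, 4, 0, 1, 3, 1]), (90, false, [3, 1, 0, 1, 3, 1, 3, 1, 0, 1, 3, 4, 0]), (273, false, [3, 4, 0, 1, 0, 1, 0, 4, 3, 4, 0, 1,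 0, 4]), (194, false, [3, 1, 3, 4, 0, 4, 0, 1, 3, 4, 0, 4]), (248, false, [4, 0, 4, 0, 4, 0, 1, 3, 1, 3, 4, 3, 4]), (190, false, [1, 0, 4, 0, 4, 0, 4, 3, 4, 3, 4, 3, 4, 0, 4, 0]), (226, true, [1, 2, 0, 1, 3, 1, 0, 1, 0, 1, 3, 4, 0, 4, 3, 4, 0, 1]), (205, false, [1, 2, 0, 1, 0, 1, 0, 4, 0, 4, 3, 4, 0, 4, 3]), (233, true, [2, 0, 1, 0, 4, 3, 1, 0, 1, 3, 1, 3, 1, 0, 1]), (211, true, [0, 2, 4, 0, 1, 0, 1, 3, 4, 3, 4, 0]), (172, true, [0, 1, 0, 4, 0, 4, 0, 4, 3, 4, 3, 1]), (132, false, [2, 0, 1, 3, 1, 0, 4, 0, 4, 0, 1, 3]), (66, true, [1, 3, 1, 0, 4, 3, 4, 3, 4, 3, 4, 0, 4, 0]), (273, false, [1, 2, 0, 1, 0, 4, 3, 4, 3, 1, 0, 4, 0]), (277, true, [0, 1, 2, 0, 1, 0, 1, 3, 4, 3, 4, 0, 4, 0, 4, 3]), (30, false, [1, 3, 1, 3, 4, 0,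 4, 3, 4, 3, 1, 0, 4, 3]), (277, true, [2, 4, 3, 1, 0, 4, 0, 4, 3, 4, 3, 4, 0, 1]), (148, false, [4, 3, 4, 0, 4, 3, 1, 3, 4, 0, 4]), (213, false, [1, 0, 4, 3, 1, 0, 1, 0, 1, 3]), (61, true, [2, 0, 4, 0, 4, 3, 1, 3, 4, 0, 4, 3, 4]), (95, true, [2, 0, 1, 3, 4, 0, 4, 3, 1, 0, 4, 0, 1]), (233, true, [0, 4, 3, 1, 3, 1, 0, 1, 0, 4, 3, 4, 3, 1]), (184, true, [1, 0, 4, 3, 4, 0, 4, 3, 4, 3, 4, 3, 1, 0, 4])]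
def r149 : List (ℕ × Bool × List ℕ) := [(269, true, [0, 1, 2, 0, 1, 0, 1, 0, 4, 3, 4, 0]), (268, true, [3, 1, 0, 1, 0, 1, 0, 4, 3, 1, 3, 4, 0, 4]), (50, true, [4, 3, 4, 3, 4, 0, 4, 0, 4, 0, 4, 3, 4, 3, 1, 3]), (262, false, [0, 1, 3, 4, 3, 1, 0, 1, 3, 4]), (212, true, [1, 0, 2, 4, 3, 1, 0, 1, 3, 1, 0, 1, 0, 4]), (90, true, [1, 2, 0, 4, 0, 4, 3, 1, 3, 1, 3, 1, 0, 1, 0]), (128, true, [0, 4, 3, 4, 3, 4, 3, 4, 3, 4, 0, 4]), (234, false, [0, 2, 4, 3, 1, 0, 1, 0, 4, 3, 4, 0, 4, 0]), (226, true, [0, 1, 0, 4, 3, 4, 0, 4, 0, 4, 3, 4, 0, 1, 3, 4]), (156, false, [2, 0, 4, 3, 1, 0, 1, 0, 4, 3, 1, 3, 1]), (212, true, [0, 2, 4, 3, 1, 3, 1, 0, 4, 3, 1, 3, 1, 0, 1, 0]), (202, true, [4, 0, 1, 3, 1, 3, 4, 3, 4, 3, 1, 0, 1]), (273, true,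 [1, 0, 1, 0, 4, 3, 4, 0, 4, 3, 1, 0, 4]), (108, true, [0, 1, 3, 4, 3, 4, 0, 4, 0, 4, 3, 4, 0]), (237, true, [1, 2, 0, 4, 0, 1, 3, 1, 0, 4, 3, 1, 3, 1, 0]), (153, false, [1, 0, 1, 2, 0, 1, 0, 4, 3, 4, 3, 4, 0, 4, 0, 1, 3, 4]), (221, true, [1, 2, 0, 4, 3, 4, 3, 4, 0, 4, 3, 4]), (181, true, [2, 4, 3, 1, 0, 4, 0, 4, 0, 4, 3, 4, 0]), (57, true, [2, 0, 1, 0, 1, 3, 4, 0, 4, 0, 1, 3, 1, 0]), (237, false, [1, 0, 1, 0, 1, 0, 2, 4, 0, 4, 3, 4, 3, 1, 3]), (172, false, [0, 2, 4, 3, 4, 3, 1, 0, 1, 0, 1, 0, 4, 0, 4]), (124, false, [0, 1, 2, 0, 1, 0, 1, 3, 1, 3, 4, 0, 4, 3, 1, 0, 4]), (141, false, [1, 2, 0, 1, 3, 1, 0, 1, 3, 1, 0, 4, 0, 4]), (236, false, [0, 1, 2, 0, 4, 0, 1, 3, 1, 0, 1, 0, 4, 0, 4]), (261, true, [1, 2, 0, 4, 0, 4, 0,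 1, 3, 4, 3, 4]), (261, false, [2, 0, 4, 0, 1, 0, 1, 3, 4, 3, 1, 0, 4, 0]), (200, false, [0, 1, 2, 0, 1, 0, 4, 3, 4, 0, 4, 0, 4, 3, 1, 3, 1]), (197, false, [0, 4, 3, 4, 0, 4, 3, 1, 3, 1, 3, 4, 0, 1]), (233, true, [3, 1, 3, 1, 3, 4, 3, 4, 0]), (221, false, [1, 2, 0, 1, 3, 1, 3, 4, 0, 1, 0, 1, 0, 4]), (190, true, [1, 0, 1, 3, 4, 0, 4, 3, 4, 0, 1, 0, 1]), (153, true, [0, 1, 2, 0, 1, 0, 4, 3, 4, 0, 1, 0, 1, 0, 1, 3, 1]), (255, false, [0, 2, 4, 3, 1, 0, 4, 3, 4, 0, 4, 3, 4, 3]), (111, false, [2, 4, 0, 4, 3, 4, 0, 4, 0, 4, 0, 1, 3, 4]), (128, false, [0, 1, 0, 4, 3, 4, 3, 1, 0, 4, 0]), (153, true, [1, 0, 1, 3, 1, 0, 1, 3, 4, 3, 4, 3, 1, 0, 4]), (221, true, [1, 0, 2, 4, 0, 1, 3, 1, 3, 1, 0, 1, 3, 4]), (237, true, [2, 4, 3, 1,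 0, 4, 3, 4, 0, 1, 3, 4, 3, 1]), (98, false, [0, 1, 2, 0, 4, 0, 1, 3, 1, 0, 4, 3]), (269, false, [2, 0, 1, 0, 4, 3, 4, 0, 4, 0, 1, 3, 4, 3, 4, 0, 4, 3]), (111, true, [4, 0, 1, 3, 1, 0, 4, 0, 4, 3, 1, 0, 1, 0, 1]), (185, false, [0, 4, 0, 1, 3, 1, 3, 1, 3, 1, 0, 1, 0, 4, 0, 4]), (212, false, [1, 2, 0, 4, 3, 4, 3, 4, 0, 4, 0, 4, 0]), (68, false, [0, 1, 0, 1, 3, 4, 0, 4, 0, 1, 3, 1]), (255, true, [2, 0, 1, 3, 1, 3, 4, 0, 4, 3, 1, 3, 1, 3, 1]), (185, true, [3, 4, 0, 4, 3, 4, 0, 4, 3, 1, 3, 1]), (221, false, [1, 2, 0, 4, 0, 4, 0, 1, 3, 1, 0, 4, 3, 4, 0, 1]), (16, false, [3, 4, 3, 1, 0, 1, 0, 1, 3, 1, 0, 4, 3, 4]), (16, true, [0, 1, 0, 4, 3, 4, 0, 4, 3, 1, 0, 1]), (262, false, [3, 4, 0, 4, 0, 4, 3, 4, 3, 1, 0, 1, 3, 4]), (124,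 false, [3, 4, 3, 4, 0, 4, 0, 1, 3, 4, 0, 4, 3, 1]), (127, true, [0, 2, 4, 0, 4, 3, 4, 3, 1, 0, 4, 3, 4, 3, 4, 0]), (256, false, [3, 1, 3, 1, 0, 4, 3, 4, 3, 4, 0, 4, 0, 4, 0]), (263, false, [1, 2, 0, 1, 0, 4, 3, 4, 3, 4, 3, 1, 0, 4]), (124, true, [0, 1, 0, 1, 3, 1, 3, 1, 0, 4, 3, 4, 0, 1, 3, 1]), (156, true, [1, 2, 0, 1, 0, 4, 3, 1, 3, 1, 0, 1, 3, 4, 0]), (112, true, [0, 1, 2, 0, 1, 3, 1, 3, 1, 0, 4, 3, 4]), (68, true, [4, 0, 1, 3, 1, 3, 1, 3, 4, 0, 4, 0, 1, 3]), (111, false, [0, 4, 0, 4, 3, 1, 0, 1, 0]), (96, true, [0, 4, 3, 1, 3, 1, 0, 1, 0, 4, 3, 4, 0]), (9, false, [0, 1, 3, 4, 3, 4, 3, 4, 0, 4, 0, 1]), (202, false, [0, 1, 0, 4, 0, 4, 3, 4, 0, 1, 0, 1, 3]), (64, true, [1, 3, 1, 0, 1, 3, 1, 3, 1, 0, 1, 0, 1, 0, 1]),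 (124, true, [1, 0, 1, 2, 0, 4, 0, 1, 3, 1, 0, 4, 3, 1, 3, 1, 0]), (89, true, [2, 0, 1, 3, 4, 0, 4, 3, 4, 0, 4, 0, 4, 0]), (167, true, [1, 3, 4, 0, 1, 0, 1, 3, 1, 0, 4, 0, 4]), (141, true, [0, 2, 4, 0, 4, 3, 4, 3, 4, 0, 1]), (167, false, [3, 4, 3, 4, 0, 1, 3, 1]), (247, true, [0, 1, 0, 4, 3, 4, 3, 4, 3, 4, 0, 4, 0, 4, 0, 4]), (226, false, [1, 3, 1, 0, 4, 3, 4, 3, 1, 0, 1, 3]), (273, false, [0, 2, 4, 0, 4, 3, 1, 0, 1, 0, 4, 3]), (57, false, [2, 4, 0, 1, 0, 4, 3, 4, 3, 4, 3, 4, 0, 1, 3, 1]), (98, true, [0, 4, 3, 4, 3, 4, 0]), (212, false, [2, 0, 4, 0, 1, 3, 1, 0, 4, 3, 1, 0]), (89, false, [0, 2, 4, 0, 4, 3, 1, 0, 1, 0, 1, 0, 4, 3, 1, 3, 4]), (236, true, [1, 2, 0, 1, 3, 4, 0, 4, 0, 4, 3, 4, 3, 4, 0, 4, 3]), (263, true, [0,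 2, 4, 3, 1, 0, 1, 0, 4, 3, 4, 0, 1, 3, 4, 3, 4]), (64, false, [4, 0, 4, 0, 4, 3, 1, 3, 4, 0, 4, 3, 1]), (200, true, [1, 0, 2, 4, 0, 1, 0, 1, 3, 1, 0, 1, 3]), (96, false, [0, 1, 0, 1, 3, 4, 3, 4, 0, 4, 0, 1, 3, 1]), (118, false, [0, 4, 3, 1, 0, 4, 3, 4, 3, 4, 3, 4, 0, 1, 0, 1]), (118, true, [4, 0, 1, 3, 1, 3, 4, 3, 4, 0, 1, 3]), (153, false, [0, 4, 0, 1, 0, 1, 0, 1, 3, 1]), (50, false, [1, 3, 4, 0, 4, 0]), (98, false, [4, 3, 1, 0, 4, 0, 4, 0, 4, 3, 4, 0, 4, 3]), (181, false, [1, 0, 1, 0, 2, 4, 0, 1, 0, 4, 3, 4, 3, 4]), (127, false, [1, 0, 1, 2, 0, 4, 0, 4, 0, 4, 3, 1, 3, 1, 0, 1]), (112, false, [0, 1, 2, 0, 1, 0, 1, 3, 4, 0, 1, 3, 1, 0, 4]), (90, false, [1, 0, 1, 0, 2, 4, 0, 1, 3, 1, 3, 4, 3]), (111, true, [1, 0, 1, 2,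 0, 4, 0, 4, 0, 1, 3, 1, 3]), (83, false, [3, 1, 3, 1, 0, 1, 3, 1, 3, 1, 0, 1]), (262, true, [4, 3, 4, 0, 4, 3, 4, 3, 1, 0, 1]), (256, true, [1, 3, 1, 0, 4, 3, 4, 3, 4, 0, 1, 3, 4, 3]), (141, false, [3, 4, 0, 1, 3, 1, 3, 1, 3]), (190, false, [3, 1, 3, 4, 0, 4, 3, 4, 3, 1, 3]), (141, true, [0, 4, 0, 4, 0, 1, 3, 1, 0, 4, 0, 4, 3, 1, 3, 4, 0]), (237, false, [0, 1, 2, 0, 4, 3, 4, 3, 4, 0, 4, 0, 1, 3, 1, 3, 4]), (204, false, [0, 4, 3, 4, 3, 1, 0, 4, 3, 4, 3, 1, 0, 1]), (172, true, [2, 0, 1, 0, 4, 3, 4, 0, 1, 3, 1, 3, 4, 3, 4, 0, 1]), (247, false, [0, 1, 3, 1, 3, 4, 0, 4, 0, 1, 3, 1, 3, 1, 3, 4]), (234, true, [2, 0, 1, 3, 4, 3, 4, 0, 4, 0, 1]), (9, true, [1, 0, 1, 0, 4, 3, 1, 3, 1, 3, 4, 3]), (268, false, [4, 3, 4, 3, 1, 0,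 4, 0, 4, 3, 1, 0]), (98, true, [0, 2, 4, 3, 1, 0, 1, 0, 1, 3, 1, 3, 1, 0, 1, 0, 4, 0]), (108, false, [4, 0, 4, 3, 1, 3, 1, 0, 4, 3, 1, 0, 1, 0, 4]), (204, true, [1, 3, 4, 0, 1, 0, 1, 3, 4, 0, 1, 0, 1]), (83, true, [2, 0, 1, 0, 4, 3, 4, 0, 4, 0, 4, 3, 4, 0]), (262, true, [0, 1, 3, 1, 3, 4, 3, 4, 3, 1, 0, 1, 3, 4, 0]), (233, false, [0, 4, 3, 4, 0, 1, 0, 1, 3, 1, 0, 4, 0, 4, 0]), (249, false, [1, 3, 4, 3, 4, 0, 1, 0, 1, 0, 4, 0, 4, 3, 4]), (249, true, [3, 1, 0, 4, 3, 1, 0, 1, 0, 4, 0, 4, 0]), (197, true, [2, 0, 4, 3, 4])]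
def r150 : List (ℕ × Bool × List ℕ) := [(64, false, [4, 3, 4, 0, 1, 3, 1, 3, 1, 0, 1, 0, 1, 0, 1]), (221, false, [3, 4, 3, 4, 0, 1, 3, 1, 3, 4, 0, 1]), (150, true, [0, 4, 0, 1, 0, 1, 0, 4, 0, 4, 0, 1, 0]), (247, true, [0, 2, 4, 0, 1, 3, 1, 0, 4, 0, 4, 3, 1, 3, 1]), (236, false, [1, 3, 4, 3, 1, 0, 1, 3, 1, 0, 1, 0, 4]), (72, false, [1, 3, 1, 0, 1, 0, 1, 0, 4, 0, 4, 0, 4, 3]), (171, false, [0, 1, 2, 0, 1, 3, 1, 0, 4, 3, 1]), (186, true, [0, 1, 2, 0, 4, 0, 4, 0, 1, 3, 1, 0]), (86, true, [1, 0, 1, 0, 1, 0, 4, 3, 4, 0, 4, 0, 1, 3, 1, 3]), (243, true, [0, 1, 2, 0, 4, 0, 4, 0, 1, 3, 4, 3]), (125, false, [1, 0, 1, 2, 0, 1, 0, 1, 0, 4, 0, 4, 0, 1, 3, 1]), (79, false, [4, 3, 4, 0, 4, 3, 1, 3, 1, 3, 4, 0, 1]), (70, true, [2, 0,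 4, 3, 4, 0, 4, 0, 4, 3, 4, 3, 1, 0, 1]), (224, true, [0, 1, 0, 1, 2, 0, 1, 0, 1, 3, 1, 3, 1, 3, 4, 0]), (232, false, [0, 1, 0, 2, 4, 0, 1, 0, 4, 3, 4, 0, 4, 3]), (203, false, [0, 1, 0, 1, 0, 2, 4]), (70, false, [4, 3, 4, 3, 4, 0, 4, 3, 1, 3, 1, 3, 1]), (68, true, [1, 0, 1, 0, 1, 0, 1, 3, 4, 0, 4, 3, 1]), (112, true, [1, 2, 0, 4, 0, 4, 3, 1, 0, 1, 0, 4, 0]), (232, true, [2, 0, 4, 0, 4, 0, 1, 3, 4, 0, 4, 0, 4]), (252, true, [0, 1, 0, 1, 3, 1, 3, 1, 3, 1, 3, 1, 3]), (190, true, [1, 0, 1, 2, 0, 1, 0, 1, 3, 1, 3, 1, 3, 1, 0]), (179, true, [2, 4, 0, 1, 0, 1, 3, 4, 0, 4]), (224, false, [0, 4, 0, 1, 3, 1, 0, 4, 0, 4, 0, 1, 3, 1, 0]), (242, false, [4, 3, 4, 3, 1, 0, 1, 3, 4, 0, 1, 3]), (242, true, [0, 4, 0, 1, 0, 1, 3, 1, 0, 1,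 0, 4]), (190, true, [0, 2, 4, 3, 1, 0, 4, 3, 4, 0, 4, 0, 4, 0, 1]), (191, false, [0, 1, 0, 1, 2, 0, 4, 0, 1, 3, 4, 0, 4, 3]), (141, false, [1, 2, 0, 1, 3, 1, 0, 4, 3, 1, 3, 1, 0, 4, 3]), (70, true, [3, 4, 0, 1, 0, 1, 0, 1, 3, 1, 0, 4, 3, 1]), (189, false, [3, 4, 3, 4, 0, 4, 0, 4, 0, 4, 3]), (203, true, [1, 0, 1, 0, 1, 3, 4, 0, 1, 3, 1, 0]), (240, true, [1, 3, 1, 0, 1, 3, 4, 3, 4, 3, 1, 3]), (198, true, [4, 0, 4, 3, 1, 3, 4, 0, 4, 0, 4, 3, 4, 3]), (171, true, [1, 0, 2, 4, 0, 4, 0, 4, 0, 1, 3, 1, 0, 4]), (276, true, [2, 0, 1, 0, 4, 0, 4, 0, 1, 3, 1, 0, 1, 3]), (203, true, [0, 2, 4, 0, 1, 0, 4, 3, 1, 0, 1, 0, 1, 3, 1]), (232, false, [1, 2, 0, 4, 3, 4, 0, 4, 0, 4, 0, 4, 3, 1]), (151, true, [1, 0, 1, 3, 4, 3, 4, 3, 4, 3, 1,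 0, 4]), (64, true, [1, 0, 1, 0, 4, 3, 4, 0, 1, 3, 1, 3, 4, 3, 4]), (152, true, [1, 2, 0, 1, 3, 4, 0, 4, 3, 4, 0, 4, 3, 1, 3, 4, 0]), (157, true, [0, 1, 0, 1, 0, 1, 0, 4, 0, 4, 0]), (125, true, [1, 0, 2, 4, 3, 1, 0, 1, 0, 4, 0, 4, 0]), (259, false, [4, 0, 1, 3, 1, 3, 1, 0, 4, 3, 4, 3, 4, 0]), (240, false, [2, 0, 1, 3, 1, 0, 1, 3, 1, 3, 1, 0]), (157, false, [1, 3, 1, 3, 4, 3, 4, 3, 4]), (203, false, [3, 1, 3, 1, 3, 4, 0, 1, 3, 1, 3, 1, 0, 1, 0]), (19, false, [0, 1, 2, 0, 1, 0, 4, 3, 1, 3, 1, 3, 1, 0, 4, 3]), (19, true, [0, 1, 2, 0, 4, 3, 1, 3, 1, 0, 4, 3, 1]), (219, false, [0, 1, 2, 0, 1, 3, 4, 3, 4, 0, 4, 0, 4, 3, 1, 0]), (156, false, [2, 0, 1, 0, 4, 0, 4, 3, 1, 3, 1]), (127, true, [1, 0, 2, 4, 0, 1, 0, 1, 0, 1, 3, 1,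 0, 4]), (257, false, [3, 1, 3, 1, 0, 1, 0, 4, 3, 1, 3, 4, 0, 4]), (72, true, [3, 1, 0, 4, 0, 4, 0, 4, 3, 4, 3, 4, 0, 4, 3, 1]), (156, true, [3, 1, 0, 1, 0, 1, 3, 1, 3, 1, 0, 1, 3, 4]), (243, false, [1, 3, 4, 0, 4, 3, 1, 3, 1, 0, 4, 0]), (281, false, [1, 3, 4, 0, 1, 3, 1, 3, 1, 0, 1, 3, 4, 0, 1]), (259, true, [1, 2, 0, 1, 0, 1, 0, 1, 3, 4, 3, 1, 0, 1, 0]), (152, false, [1, 0, 1, 0, 1, 2, 0, 4, 3, 4, 0, 4, 3, 4, 0, 1]), (236, false, [0, 2, 4, 3, 4, 0, 4, 3, 1, 0, 1, 0, 1, 0, 1]), (196, true, [3, 4, 0, 1, 0, 1, 3, 1, 3, 4]), (79, true, [0, 1, 3, 4, 3, 4, 0, 1, 3, 1, 3, 1, 3, 4]), (58, true, [0, 4, 3, 4, 3, 4, 3, 4, 0, 4, 0, 4, 0]), (190, false, [0, 1, 0, 1, 2, 0, 1, 0, 4, 3, 4, 3, 1, 0, 1, 3]), (263, false, [1, 0, 2, 4,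 0, 1, 3, 1, 0, 1, 0, 1, 3, 4, 0, 1]), (208, false, [2, 4, 3, 1, 3, 4, 0, 4, 3]), (179, false, [0, 2, 4, 0, 4, 0, 1, 3, 4, 3, 4, 3, 4, 0, 4, 3]), (208, true, [0, 2, 4, 0, 4, 3, 1, 3, 1, 3, 4, 0, 4, 3, 1, 3]), (230, false, [0, 2, 4, 3, 1, 0, 4, 0, 4, 3, 1, 0, 4, 3]), (86, false, [3, 4, 3, 4, 0, 4, 3, 1, 3, 1, 0, 1, 0, 1]), (70, false, [0, 1, 0, 1, 2, 0, 1, 3, 4, 3, 4, 0, 1]), (112, false, [1, 0, 2, 4, 0, 1, 0, 1, 3, 1, 3, 1, 0, 4, 0, 4, 3, 4]), (98, true, [0, 1, 0, 1, 0, 1, 3, 1, 3, 1, 3, 1, 0, 1, 0, 4, 3]), (236, true, [0, 4, 0, 1, 3, 1, 0, 4, 3, 1, 0]), (263, true, [0, 1, 0, 1, 0, 2, 4, 0, 4, 0, 4, 0, 4, 3, 4, 0, 1, 0, 4]), (224, true, [3, 1, 0, 1, 0, 4, 3, 1, 3, 4, 0, 4, 0, 1]), (72, false, [1, 0, 4, 3, 4, 3, 4, 0, 1,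 3, 1, 3, 4, 3, 4]), (58, false, [4, 0, 4, 0, 4, 3, 1, 0, 1, 0, 4, 0, 4, 3, 1]), (190, false, [0, 2, 4, 3, 4, 3, 1, 0, 1, 3, 4, 0, 4, 0, 4]), (236, true, [1, 2, 0, 4, 0, 1, 3, 1, 0, 4, 0, 4]), (183, false, [0, 4, 3, 1, 0, 1, 0, 4, 0, 4, 3, 1, 3, 4, 0]), (183, true, [0, 1, 0, 1, 3, 1, 3, 1, 3, 1, 0]), (276, false, [2, 4, 3, 1, 3, 1, 0, 1, 0, 1]), (150, true, [0, 4, 0, 1, 0, 1, 0, 4, 0, 4, 0, 1, 0]), (98, false, [4, 0, 1, 3, 1, 3, 1, 0, 4, 3, 1, 3, 4, 0, 4, 0]), (68, false, [0, 1, 3, 1, 3, 4, 3, 4, 3, 1, 0, 1, 3, 4, 0, 1]), (127, false, [0, 2, 4, 3, 1, 0, 4, 3, 4, 0, 4, 3, 4, 3, 1]), (281, true, [0, 1, 0, 1, 2, 0, 4, 3, 4, 0, 1, 0, 1, 0, 4]), (72, true, [1, 0, 1, 0, 4, 3, 4, 0, 4, 0, 1, 3, 1, 0]), (198, false, [0, 2, 4,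 3, 4, 0, 4, 3]), (214, false, [3, 1, 0, 4, 3, 4, 0, 1, 0]), (219, true, [1, 2, 0, 1, 0, 1, 0, 1, 3, 4, 3, 1, 0, 1, 0]), (257, true, [0, 1, 0, 1, 0, 1, 2, 0, 4, 0, 4, 3, 4, 0, 1, 0]), (237, false, [1, 0, 1, 0, 1, 3, 1, 0, 1, 3, 1, 3, 1, 3, 4]), (189, true, [3, 1, 0, 1, 3, 4, 0, 4, 0, 1, 0]), (237, true, [1, 3, 1, 0, 4, 3, 4, 0, 1, 0, 1, 0, 4, 0, 4]), (232, true, [0, 4, 3, 4, 3, 4, 0, 4, 0, 1, 3, 4, 3, 1]), (189, false, [0, 4, 3, 1, 0, 1, 3, 1, 3, 4, 0, 1, 0, 4]), (252, false, [0, 4, 3, 1, 0, 1, 0, 4, 0, 4, 3, 1, 0, 4]), (230, true, [0, 2, 4, 0, 1, 0, 1, 3, 1, 3, 1, 0, 4, 3, 1]), (186, false, [0, 1, 0, 4, 0, 4, 3, 4, 0, 4, 3, 1, 3, 1, 3]), (196, false, [1, 0, 1, 0, 1, 2, 0, 4, 3, 1, 0, 1, 3]), (221, true, [3, 1, 0, 4, 0,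 4, 3, 1, 0, 1, 0, 1]), (151, false, [4, 0, 4, 3, 4, 3, 4, 0, 4, 0, 4, 0, 4, 3, 1]), (224, false, [1, 2, 0, 1, 3, 1, 0, 4, 0, 4, 0, 1, 3, 1, 0, 4, 0]), (189, true, [0, 1, 0, 1, 3, 1, 3, 1, 0, 1, 3, 4, 0]), (214, true, [1, 0, 4, 3, 1, 0, 1, 0, 4, 0, 4, 3]), (247, false, [0, 1, 3, 4, 3, 1, 0, 4, 3]), (141, true, [2, 4, 0, 4, 3, 4, 0, 4, 0, 1, 3, 4, 3, 4, 0, 4]), (188, true, [1, 0, 1, 3, 4, 0, 4, 3, 4, 0, 1, 0, 1]), (188, false, [3, 1, 3, 4, 0, 4, 3, 4, 3, 1, 3]), (191, true, [1, 2, 0, 1, 0, 1, 0, 1, 0, 1, 3, 4, 3, 4, 0, 1, 3])]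
def r151 : List (ℕ × Bool × List ℕ) := [(95, false, [2, 4, 0, 4, 3, 1, 3, 1, 0, 4, 0, 4, 3, 1, 3]), (255, false, [2, 0, 4, 3, 4, 0, 1, 3, 1, 3, 4, 3, 4, 3, 1]), (166, false, [0, 1, 2, 0, 1, 3, 1, 3, 1, 0, 1, 0, 1, 3, 4, 0]), (84, false, [0, 2, 4, 0, 1, 0, 4, 3, 4, 0, 1, 3, 4, 3, 4, 3]), (86, false, [0, 1, 3, 4, 0, 4, 0, 4, 0, 4, 3, 4, 3, 1]), (186, false, [1, 3, 1, 0, 1, 0, 1, 3, 1, 3, 4, 3, 4]), (234, true, [1, 3, 4, 0, 4, 3, 4, 3, 4, 0, 1, 3, 1, 3, 1]), (62, true, [1, 3, 1, 0, 1, 0, 4, 0, 4, 3, 4]), (235, false, [2, 4, 0, 4, 3, 1, 3, 4, 0, 4, 0, 4, 0, 4, 0]), (253, true, [0, 2, 4, 0, 4, 0, 4, 3, 4, 0, 4, 3, 4, 3, 4, 3]), (28, false, [1, 0, 1, 3, 1, 0, 1, 0, 4, 3, 1, 3, 1]), (112, false, [3, 4, 3, 1, 3, 1, 3, 1, 3, 1,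 3]), (91, false, [1, 0, 2, 4, 0, 1, 3, 1, 3, 4, 3]), (243, false, [0, 1, 0, 1, 0, 4, 3, 1, 3, 4, 0, 4, 3, 4, 3]), (256, false, [0, 4, 0, 1, 3, 1, 3, 1, 0, 1, 0, 4, 3, 4]), (57, true, [2, 0, 1, 3, 1, 0, 1, 3, 1, 0, 4, 0, 4, 3, 4]), (43, true, [2, 4, 3, 4, 3, 4, 0, 4, 3, 1, 3, 1, 0]), (198, false, [2, 4, 3, 1, 0, 1, 0, 1, 3, 1, 3, 1, 0]), (67, true, [2, 4, 0, 1, 3, 4, 0, 4, 3, 1, 3, 1, 3]), (73, true, [2, 0, 1, 0, 4, 3, 4, 0, 4, 0, 4, 3, 4, 0, 1]), (270, true, [1, 2, 0, 1, 3, 1, 3, 1, 0, 1, 3, 4, 3, 4, 3, 1, 0]), (170, true, [2, 0, 4, 3, 1, 0, 1, 0, 4, 3, 4, 0, 4, 0]), (256, false, [4, 3, 4, 3, 4, 3, 4, 0, 4, 0, 4, 0]), (187, true, [1, 0, 1, 3, 1, 3, 1, 3, 1, 0, 4, 3, 1, 0, 1]), (257, true, [0, 1, 0, 2, 4, 3, 4, 0, 4, 3,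 1, 3, 1, 3]), (61, true, [0, 1, 0, 1, 2, 0, 4, 3, 4, 3, 1, 0, 1, 0, 1]), (151, false, [0, 1, 0, 1, 3, 1, 3, 4, 3, 4, 0, 4, 0, 4, 3, 1]), (119, true, [0, 1, 3, 1, 3, 1, 3, 4, 3, 4, 3, 4, 0, 1]), (65, false, [2, 0, 4, 3, 4, 3, 1, 0, 1, 0, 4]), (71, false, [0, 2, 4, 0, 4, 3, 1, 0, 1, 3, 4, 3, 1, 0, 1, 0]), (246, true, [1, 0, 1, 0, 1, 0, 2, 4, 0, 4, 3, 1, 3, 1, 0]), (273, false, [1, 3, 4, 0, 4, 0, 4, 0, 4, 3, 4, 3, 1, 0]), (200, false, [2, 0, 1, 3, 1, 3, 1, 0, 4, 0, 4, 3, 4, 3, 4]), (121, false, [2, 4, 3, 1, 3, 1, 3, 1, 3, 4, 3]), (213, false, [4, 3, 4, 3, 1, 0, 1, 3, 4, 3, 4]), (89, false, [1, 0, 1, 0, 1, 0, 4, 3, 4, 0, 1, 0, 4]), (205, false, [0, 4, 3, 1, 0, 1, 3, 4, 3, 4, 0, 4, 0, 1]), (96, false, [0, 4, 0, 4, 3, 1, 3,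 4, 0, 4, 0, 1, 3]), (64, true, [0, 1, 0, 1, 2, 0, 1, 0, 4, 3, 4, 3, 4, 3, 4, 3, 4]), (152, false, [3, 1, 3, 4, 0, 4, 0, 1, 3, 4, 0, 4]), (5, true, [1, 2, 0, 4, 0, 1, 3, 1, 0, 1]), (254, true, [1, 2, 0, 1, 3, 4, 0, 1, 3, 1, 3, 4, 3, 4, 0, 1]), (192, true, [1, 0, 1, 0, 4, 3, 1, 3, 4, 0, 4, 3, 1, 3]), (87, false, [0, 1, 0, 2, 4, 0, 1, 0, 4, 3, 4, 0, 1, 0, 1]), (190, false, [0, 2, 4, 3, 4, 3, 1, 0, 1, 3, 4, 3, 4, 0, 1]), (182, false, [0, 4, 3, 4, 0, 1, 0, 1, 3, 4, 3, 1, 0, 1, 3]), (255, true, [2, 0, 1, 3, 1, 0, 4, 0, 4, 3, 4, 0, 1, 3]), (58, true, [1, 3, 1, 0, 1, 3, 1, 0, 1, 0, 4, 0, 4, 0, 4, 0]), (76, true, [2, 4, 0, 4, 3, 4, 3, 4, 3, 4, 3, 4, 0]), (115, true, [2, 0, 4, 0, 1, 3, 4, 3, 4, 0, 4, 3, 4]), (72, false, [1, 0,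 4, 3, 4, 0, 1, 3, 1, 3, 1, 3, 4, 0, 4, 3]), (90, false, [1, 0, 2, 4, 0, 1, 3, 1, 0, 4, 0, 4, 0]), (80, false, [0, 4, 3, 1, 0, 1, 0, 4, 3, 1, 0, 1, 3, 4, 3]), (256, true, [0, 2, 4, 0, 1, 0, 1, 0, 4, 3]), (67, false, [1, 2, 0, 1, 3, 4, 3, 4, 0, 1, 3, 4, 3, 4, 3]), (150, true, [0, 4, 0, 4, 0, 4, 0, 4, 3, 1, 0, 4, 0]), (253, true, [1, 0, 1, 3, 1, 3, 1, 3, 1, 0, 1, 3]), (255, true, [1, 2, 0, 1, 0, 1, 0, 4, 3, 1, 0, 1, 3, 4, 3, 4, 0]), (123, false, [1, 0, 1, 0, 2, 4, 3, 4, 0, 1, 0, 1, 0, 1, 3]), (241, false, [4, 3, 1, 0, 1, 3, 4, 0, 4]), (109, false, [0, 1, 0, 2, 4, 3, 4, 3, 4, 3, 4, 3, 4]), (158, true, [1, 0, 4, 3, 4, 3, 4, 0, 1, 3, 1, 0, 4, 0, 4, 3]), (96, true, [0, 1, 2, 0, 4, 3, 4, 0, 4, 0, 4, 3, 4, 0, 1, 3, 4]), (213,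 true, [4, 0, 1, 0, 1, 3, 4, 3, 4, 0]), (212, false, [0, 1, 0, 2, 4, 0, 4, 0, 4, 3, 1, 0, 1, 0, 4, 3]), (76, false, [1, 3, 1, 3, 4, 0, 4, 3, 1, 3, 4, 0, 1]), (170, false, [0, 2, 4, 3, 1, 0, 1, 3, 1, 3, 4, 3, 4, 3]), (105, true, [1, 3, 4, 3, 1, 0, 4, 0, 4, 3, 1, 3, 4]), (151, false, [0, 1, 3, 1, 3, 1, 0, 4, 3, 4, 0, 1, 0, 1, 0, 4]), (269, false, [0, 1, 2, 0, 4, 0, 4, 0, 4, 3, 1, 3, 1, 0]), (212, true, [0, 1, 0, 1, 0, 2, 4, 3, 4, 0, 4, 3, 4, 0, 1, 3]), (200, true, [2, 4, 3, 1, 3, 1, 0, 1, 0, 1, 0, 4, 0]), (112, false, [2, 4, 0, 4, 3, 1, 3, 1, 0, 4, 3, 1, 3, 1, 3, 4]), (103, false, [0, 4, 3, 1, 3, 1, 3, 4, 0, 1, 3, 1, 3, 4, 0]), (280, true, [3, 4, 3, 1, 3, 1, 3, 4, 3, 4, 0, 1, 3, 1, 0, 1]), (195, false, [4, 0, 1, 3, 4, 3,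 4, 3, 4, 3, 1, 3]), (237, true, [0, 4, 3, 1, 0, 1, 0, 1, 0, 4, 0, 4, 0, 4, 3, 4]), (53, false, [0, 4, 0, 1, 3, 4, 0, 4, 3, 4]), (267, false, [2, 4, 3, 4, 3, 1, 0, 1, 0, 1, 0]), (261, true, [0, 1, 2, 0, 4, 3, 1, 0, 1, 0, 4, 0, 4, 3]), (91, false, [1, 0, 2, 4, 3, 4, 3, 4, 0, 4]), (231, true, [4, 3, 1, 0, 1, 0, 4, 3, 4, 3, 4, 3, 1]), (199, true, [0, 2, 4, 0, 4, 3, 4, 3, 1, 0, 1, 3, 4, 0, 1, 3]), (158, true, [4, 3, 4, 3, 4, 0, 4, 3, 1, 0, 1, 0]), (216, false, [0, 2, 4, 0, 1, 3, 1, 0, 4, 3, 4, 0, 4]), (179, false, [1, 0, 1, 3, 1, 3, 4, 0, 1, 3, 1, 0]), (126, false, [1, 3, 4, 0, 4, 3, 4, 3, 1, 0, 1, 3, 1]), (276, true, [1, 0, 1, 0, 1, 2, 0, 4, 3, 1, 3, 1, 3, 4, 0]), (214, false, [2, 0, 4, 0, 1, 3, 1, 0, 4, 3, 4, 3, 4, 3, 4,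 0]), (219, true, [3, 1, 3, 1, 3, 4, 3, 4, 3, 4, 3, 1]), (219, false, [2, 4, 0, 1, 3, 1, 3, 1, 3, 1, 3, 1, 0, 4, 0, 4]), (181, false, [2, 0, 1, 3, 1, 0, 4, 3, 4, 0]), (222, true, [0, 4, 3, 1, 0, 1, 3, 4, 0, 4, 0, 1, 3, 1, 0]), (124, false, [0, 2, 4, 3, 4, 0, 4, 3, 4, 3, 4, 0, 1]), (156, false, [1, 3, 1, 0, 4, 3, 4, 3, 4, 0, 1, 3, 4, 0]), (277, false, [1, 3, 1, 0, 1, 0, 1, 3, 1, 3, 1, 3, 4, 3, 4, 3]), (218, true, [1, 2, 0, 1, 3, 1, 0, 1, 3, 4, 3, 4, 0, 4, 3]), (256, true, [0, 1, 2, 0, 4, 0, 1, 3, 4, 0, 4, 0, 4, 3, 1, 0]), (5, false, [1, 2, 0, 1, 3, 1, 3, 1, 3, 1, 0, 1, 0, 1]), (212, false, [1, 0, 1, 0, 2, 4, 0, 4, 3, 4, 0, 4, 3, 4]), (71, true, [0, 4, 3, 4, 3, 4, 0, 1, 3, 4, 3, 4, 0, 4, 0]), (63, true, [1, 3, 1, 0, 4, 3,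 1, 0, 1, 0, 1, 0, 1, 3, 4, 0]), (183, false, [0, 1, 3, 1, 3, 4, 0, 4, 3, 1, 3, 1, 0, 4, 0, 1]), (182, true, [1, 0, 1, 0, 1, 2, 0, 1, 0, 1, 0, 4, 3, 4, 3]), (178, true, [1, 0, 1, 3, 1, 3, 1, 3, 4, 3, 4, 3, 4, 3, 4, 0]), (109, true, [1, 0, 2, 4, 3, 4, 0, 4, 0, 4, 0, 4, 0, 4]), (154, false, [0, 2, 4, 0, 1, 3, 1, 3, 1, 3, 1, 0, 1, 0, 1, 3, 1]), (88, false, [2, 0, 1, 0, 4, 0, 4, 0, 1, 3, 1, 0, 4, 3, 4, 3]), (71, true, [0, 1, 3, 1, 0, 1, 3, 1, 3, 4, 3, 4, 3, 4, 3, 4, 0]), (169, false, [0, 1, 0, 1, 3, 1, 0, 4, 3, 4, 0, 1, 0, 4]), (152, true, [1, 0, 1, 3, 4, 3, 4, 3, 1, 0, 1, 3, 1, 0, 1]), (224, true, [4, 0, 4, 0, 4, 3, 4, 0, 1, 0, 1, 3])]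
def r152 : List (ℕ × Bool × List ℕ) := [(61, false, [0, 1, 0, 4, 3, 4, 3, 4, 0, 4, 0, 1, 3, 4, 3, 1]), (151, true, [0, 1, 0, 1, 0, 1, 0, 1, 3, 1, 3, 1, 0, 4, 0]), (218, true, [0, 1, 0, 2, 4, 0, 4, 3, 1, 3, 1, 0, 4, 3, 4, 0]), (96, true, [2, 0, 4, 0, 4, 3, 4, 3, 4, 3]), (42, true, [1, 0, 1, 0, 2, 4, 3, 4, 0, 1, 3, 4, 3, 4, 0]), (72, true, [1, 0, 1, 3, 1, 0, 1, 0, 1, 0, 4, 3, 4, 3]), (63, false, [1, 0, 1, 0, 2, 4, 0, 1, 3, 1, 3, 4, 3]), (258, false, [0, 4, 0, 4, 0, 4, 3, 4, 3, 1, 0, 1, 3, 1, 3]), (73, true, [2, 0, 4, 3, 4, 3, 4, 0, 4, 0, 4, 0, 4, 3, 1, 0]), (236, false, [0, 1, 2, 0, 1, 0, 4, 3, 1, 3, 4, 0, 4, 0, 1, 3, 4]), (217, false, [0, 1, 0, 1, 2, 0, 4, 0, 1, 3, 4, 0, 4, 3]), (90, true, [0, 1, 2, 0, 4, 3, 4, 3, 4, 3,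 4, 0, 4, 0, 1]), (269, false, [1, 0, 4, 0, 1, 3, 4, 0, 4, 0, 4, 3, 4, 0]), (256, false, [0, 1, 0, 4, 3, 4, 0, 1, 3, 1, 3, 4, 3, 4]), (223, true, [0, 1, 0, 2, 4, 0, 4, 0, 4, 0, 1, 3, 4, 3, 4, 0, 4]), (88, true, [1, 2, 0, 1, 0, 1, 3, 4, 0, 1, 0, 1, 0, 1, 0]), (245, true, [1, 0, 1, 0, 4, 3, 1, 3, 4, 0, 4, 3, 1, 0]), (128, true, [1, 0, 1, 3, 4, 3, 1, 0, 1, 0, 1, 3, 4]), (124, true, [0, 1, 0, 4, 3, 4, 0, 1, 0, 1, 3, 4, 0, 1]), (224, true, [1, 3, 1, 0, 4, 3, 4, 0, 4, 0, 1]), (19, false, [0, 1, 0, 2, 4, 3, 4, 3, 1, 0, 1, 0, 1, 0]), (277, true, [1, 0, 1, 0, 2, 4, 0, 4, 0, 1, 3, 1, 0, 4, 0, 4]), (274, false, [0, 1, 3, 1, 0, 1, 3, 4, 3, 4, 3, 1]), (243, true, [1, 0, 1, 0, 1, 0, 1, 3, 4, 3, 1, 0, 4]), (189, false, [1, 0, 1, 3, 4,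 0, 1, 0, 1, 3, 1, 3]), (170, true, [2, 4, 3, 1, 3, 4, 0, 4, 0, 1, 3, 1, 3, 4, 3]), (242, false, [2, 4, 0, 1, 3, 1]), (123, true, [3, 1, 3, 4, 0, 4, 0, 4, 0, 1, 3, 1, 0, 4]), (205, true, [2, 0, 4, 0, 4, 3, 4, 3, 4, 0, 4, 3]), (55, false, [0, 1, 2, 0, 1, 3, 4, 0, 4, 3, 4, 0, 4, 3, 1]), (124, true, [2, 0, 1, 3, 4, 0, 4, 3, 4, 0, 4, 3, 1, 3, 1]), (261, true, [1, 0, 1, 0, 2, 4, 0, 1, 3, 4, 3, 4]), (122, false, [2, 4, 3, 1, 0, 4, 3, 4, 0, 4, 0, 4, 3, 1, 0]), (281, true, [0, 2, 4, 0, 4, 3, 1, 0, 1, 3, 1, 3]), (42, true, [0, 1, 2, 0, 1, 0, 1, 3, 4, 3, 1, 0, 1, 3]), (218, true, [1, 0, 2, 4, 3, 4, 0, 4, 0, 1, 3, 4, 0, 4, 3, 1, 3, 4]), (247, true, [4, 3, 4, 3, 4, 3, 1, 0, 1, 3, 4, 0, 1, 0]), (219, true, [2, 4, 3, 4, 0, 1, 3, 1,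 3, 1, 0, 4, 0]), (70, true, [1, 3, 1, 0, 1, 3, 4, 0, 4, 0, 4, 0, 1, 0]), (73, false, [4, 0, 1, 3, 4, 0, 4, 3, 1, 0, 1, 0, 4, 0, 4, 0]), (123, false, [1, 3, 4, 3, 4, 3, 4, 3, 1, 0, 1, 3, 4, 0, 1]), (223, false, [1, 0, 1, 0, 4, 3, 4, 0, 4, 3, 4, 0, 4, 0, 4, 3]), (263, true, [0, 4, 0, 4, 0, 4, 3, 1, 0, 1, 3, 1, 0, 4, 0]), (164, true, [0, 1, 2, 0, 4, 0, 1, 3, 1, 0, 1, 3, 1, 3, 1]), (232, false, [4, 0, 4, 3, 4, 0, 4, 0, 1, 3, 1, 0, 4]), (98, false, [0, 2, 4, 0, 1, 0, 1, 3, 1, 3, 1, 0, 4, 3, 4]), (224, false, [3, 1, 3, 4, 0, 4, 0, 4, 0, 1, 3, 1, 0, 4]), (172, false, [4, 3, 4, 0, 4, 3, 1, 3, 1, 3, 4, 0, 4, 3, 1]), (58, true, [2, 4, 3, 1, 0, 4, 3, 4, 0, 4, 0, 4, 3, 1, 0, 4]), (190, false, [0, 4, 3, 4, 3, 4, 3, 4, 0, 4, 3, 1,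 3, 4, 0, 4, 0]), (21, true, [3, 1, 0, 1, 3, 4, 0, 4, 0, 4, 3, 4, 0, 1]), (237, false, [1, 0, 1, 0, 2, 4, 3, 4, 0, 1, 3, 1, 3, 1, 0, 4]), (204, false, [2, 4, 3, 4, 0, 4, 0, 4, 3, 1, 0, 1, 0]), (269, true, [0, 1, 3, 1, 3, 4, 3, 4, 3, 1, 0, 1, 3, 1, 0, 1]), (212, false, [1, 0, 1, 2, 0, 4, 0, 4, 3, 1, 0, 4, 0, 4, 3]), (220, false, [0, 1, 0, 4, 0, 4, 3, 4, 3, 4, 0, 1, 3, 1, 0, 1]), (255, false, [0, 1, 0, 4, 3, 4, 0, 1, 3, 4, 3, 4, 3]), (213, true, [1, 0, 1, 0, 1, 3, 1, 3, 1, 0, 4, 3, 4, 0, 1]), (150, false, [1, 2, 0, 1, 3, 4, 0, 4, 3, 4, 0, 4, 3, 1, 3, 4]), (258, false, [2, 0, 1, 0, 1, 3, 1, 0, 4, 0, 4, 0, 4]), (223, true, [1, 2, 0, 4, 0, 4, 0, 1, 3, 1, 0, 1, 0, 4, 3]), (181, false, [1, 3, 1, 0, 4, 3, 1, 3, 1]), (96, false,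 [3, 4, 0, 1, 3, 1, 3, 4, 3, 4, 3]), (268, false, [2, 4, 3, 4, 3, 1, 0, 4, 0, 4, 3, 1]), (7, false, [0, 2, 4, 3, 4, 3, 1, 0, 1, 3, 1, 3, 1, 0, 4, 0, 4]), (208, true, [0, 1, 0, 4, 0, 4, 3, 1, 0, 1, 3, 4, 0, 4, 0]), (214, false, [0, 1, 3, 4, 3, 4, 3, 1, 0, 1, 3, 1, 3, 4, 3]), (58, false, [1, 0, 2, 4, 0, 4, 3, 4, 0, 1, 3, 1, 3, 1, 0, 1, 3]), (254, false, [3, 4, 0, 4, 0, 4, 3, 4, 3, 4, 0, 1, 3, 4]), (140, false, [1, 3, 1, 0, 1, 0, 1, 3, 1, 3, 1, 3, 1, 0, 4]), (268, true, [0, 1, 2, 0, 4, 3, 4, 0, 1, 3, 1, 3, 1, 0, 1, 0, 4, 0]), (213, true, [1, 0, 1, 0, 1, 3, 1, 3, 1, 0, 4, 3, 4, 0, 1]), (223, false, [3, 1, 0, 4, 3, 1, 0, 1, 3, 4, 3, 1, 0, 1, 0, 1]), (57, true, [2, 0, 1, 3, 1, 3, 4, 3, 4, 0, 4, 3]), (60, true, [3, 1, 3, 1, 3,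 1, 3, 4, 0, 4, 3, 1, 0, 4]), (189, true, [4, 0, 1, 3, 1, 3, 1, 3, 4, 3, 4, 3, 1]), (219, true, [2, 0, 1, 3, 1, 3, 1, 3, 1, 0, 1, 0, 4, 0, 4, 3]), (2, true, [1, 3, 1, 0, 4, 0, 4, 3, 1, 3, 4]), (254, true, [2, 0, 1, 0, 4, 3, 4, 3, 4, 3, 4, 0, 4, 0, 4, 0, 4]), (216, true, [0, 4, 3, 4, 0, 4, 3, 4, 3, 4, 0, 4, 3, 1]), (151, false, [1, 3, 1, 0, 4, 3, 1, 3, 1, 0, 4, 0]), (153, false, [1, 0, 4, 3, 1, 0, 1, 0, 4, 3, 4, 0, 1, 3, 4, 3]), (51, false, [1, 0, 1, 0, 1, 0, 2, 4, 3, 4, 3, 1]), (237, false, [2, 0, 4, 3, 4, 3, 4, 3, 1, 0, 1, 3, 4, 3]), (50, true, [0, 4, 3, 1, 0, 1, 0, 1, 3, 1, 0, 4, 3, 1]), (191, false, [1, 0, 4, 3, 4, 0, 1, 0, 1, 0, 4, 3, 4, 3]), (263, false, [1, 3, 1, 0, 1, 0, 1, 0, 4, 0, 4, 3, 1, 0, 1]), (157, false,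 [0, 1, 3, 1, 0, 1, 0, 4, 3, 1, 0, 1, 3, 1]), (66, true, [2, 4, 3, 1, 0, 1, 0, 1, 3, 4, 0, 4, 3, 1, 3]), (281, true, [1, 3, 4, 3, 1, 0, 4, 0, 4, 0, 1, 3, 4, 0]), (65, true, [3, 1, 3, 1, 0, 1, 3, 1, 0, 4, 0, 4]), (158, false, [0, 1, 3, 1, 3, 1, 0, 1, 0, 1, 0, 4, 0, 4, 3, 1]), (190, true, [0, 1, 2, 0, 4, 0, 1, 3, 1, 3, 1, 3, 4, 3, 4, 3, 4]), (141, true, [1, 0, 4, 3, 1, 0, 1, 3, 4, 3, 4, 0, 1, 3, 4, 0]), (270, true, [0, 1, 3, 4, 3, 4, 3, 4, 0, 1, 0, 1, 3, 1, 3, 1]), (177, true, [0, 1, 0, 1, 3, 1, 0, 4, 0, 4, 0, 4, 3]), (253, false, [0, 1, 2, 0, 1, 0, 4, 0, 4, 3, 1, 0, 1, 3, 1, 0, 1, 0]), (217, false, [2, 4, 0, 4, 0, 1, 3, 1, 0, 4]), (241, true, [1, 0, 4, 3, 4, 3, 1, 0, 4]), (235, true, [1, 0, 1, 3, 4, 3, 4, 0, 4, 0, 4, 3,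 1]), (164, true, [1, 2, 0, 4, 0, 4, 3, 1, 3, 4, 0, 1, 0]), (170, true, [0, 2, 4, 3, 1, 3, 1, 0, 4, 3, 4, 3, 1, 3]), (158, true, [0, 1, 0, 4, 3, 1, 0, 1, 3, 4, 0]), (98, false, [1, 3, 1, 0, 1, 3, 1, 0, 4, 0, 4, 0, 1, 3]), (226, false, [0, 4, 3, 1, 3, 4, 0, 1, 3, 1, 3, 1, 3, 4]), (249, true, [0, 4, 3, 1, 0, 4, 3, 4, 0, 4, 0, 4]), (181, true, [0, 4, 0, 4, 3, 4, 0, 4, 0, 4, 3, 1, 0, 1, 3]), (68, false, [3, 1, 0, 1, 0, 1, 3, 4, 0, 1, 0, 1, 0, 1, 3, 4]), (212, false, [0, 2, 4, 0, 4, 3, 1, 3, 4, 0, 4, 0, 4, 0, 4, 0, 4]), (84, true, [0, 1, 0, 2, 4, 3, 4, 0, 1, 0, 1]), (63, false, [3, 4, 0, 4, 0, 1, 3, 1, 0, 1, 3, 1, 0]), (241, true, [1, 0, 4, 0, 4, 0, 4, 3, 1, 0, 1, 3, 4, 0])]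
def r153 : List (ℕ × Bool × List ℕ) := [(12, false, [1, 3, 4, 3, 1, 0, 4, 0, 4, 0, 1, 3]), (122, true, [1, 3, 1, 0, 4, 3, 4, 0, 1, 3, 4, 0]), (231, true, [0, 1, 0, 2, 4, 0, 4, 0, 4, 3, 4, 0, 4, 3, 1]), (27, true, [1, 0, 1, 2, 0, 1, 3, 4, 3, 4, 0, 1]), (135, false, [0, 2, 4, 0, 1, 3, 1, 0, 4, 3]), (136, false, [0, 4, 3, 1, 0, 1, 3, 4, 3, 4, 0, 1, 3, 4, 3, 1]), (92, true, [2, 0, 1, 0, 4, 3, 4, 0, 1, 3, 1, 3, 1, 0, 1, 3]), (272, false, [0, 4, 0, 1, 0, 1, 3, 4, 0, 4, 0, 4, 3]), (66, false, [3, 1, 0, 1, 0, 4, 0, 4, 3, 1, 0, 1, 3, 4, 0, 4]), (89, false, [0, 2, 4, 3, 4, 0, 1, 3, 1, 3, 1, 3, 4, 0, 1]), (153, false, [0, 1, 0, 2, 4, 0, 1, 3, 4, 3]), (269, false, [0, 2, 4, 3, 1, 0, 1, 0, 1, 0, 4, 3, 4]), (98, false, [0, 1, 2, 0,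 1, 0, 4, 0, 4, 0, 4, 3, 1, 0]), (224, false, [2, 4, 0, 4, 3, 4, 3, 1, 0, 4, 0, 4, 0, 4, 3, 4]), (108, true, [3, 1, 0, 1, 3, 4, 0, 1, 0, 1]), (111, false, [0, 4, 0, 4, 3, 4, 0, 1, 3, 1, 3, 4, 0, 1]), (181, false, [0, 1, 0, 2, 4, 3, 4, 3, 4, 0, 4, 0, 4, 3, 4, 0, 1]), (125, true, [4, 3, 1, 0, 4, 0, 4, 3, 1, 0, 4, 0, 4, 3]), (34, true, [4, 3, 4, 3, 4, 0, 4, 3, 1, 0, 1, 0]), (273, false, [0, 1, 0, 1, 3, 4, 0, 4, 3, 4, 0, 4]), (237, true, [2, 0, 1, 3, 1, 3, 4, 3, 4, 3, 4, 0, 4, 3, 1, 0]), (226, false, [0, 1, 3, 1, 0, 4, 3, 4, 3, 1, 0, 1, 3, 4, 0, 1]), (224, false, [3, 1, 3, 1, 0, 4, 3, 1]), (80, false, [4, 3, 1, 3, 4, 0, 4, 3]), (204, true, [2, 4, 3, 4, 3, 4, 0, 4, 3, 1, 0, 1, 0]), (234, true, [4, 0, 1, 3, 1, 3, 4, 0, 4, 0,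 1, 3, 1]), (187, false, [3, 4, 3, 1, 0, 4, 3, 4, 0, 4, 0, 4, 0, 4]), (200, false, [2, 4, 0, 4, 0, 4, 0, 1, 3, 4, 3, 4, 0, 1]), (213, true, [1, 0, 1, 0, 1, 2, 0, 1, 0, 4, 3, 4, 0, 4, 0]), (157, false, [1, 3, 1, 0, 1, 0, 4, 3, 1, 0, 1, 0, 4, 3, 1]), (257, true, [0, 4, 3, 1, 3, 4, 0, 1, 3, 1, 3, 1, 0, 4, 0]), (235, true, [4, 0, 1, 3, 4, 0, 4, 3, 4, 3, 1, 0, 1, 0]), (230, false, [4, 0, 1, 0, 4, 3, 4]), (236, false, [1, 2, 0, 1, 3, 1, 3, 1, 3, 1, 0, 4, 0, 4, 3, 1, 3, 1]), (72, false, [1, 0, 1, 3, 4, 3, 4, 0, 1, 3, 4, 3, 4]), (128, false, [3, 1, 3, 1, 0, 1, 0, 1, 0, 1, 3, 4, 0, 4]), (223, false, [1, 0, 1, 3, 4, 0, 1, 3, 1, 3, 1, 3, 1, 0]), (224, true, [0, 1, 0, 2, 4, 3, 4, 0, 4, 3, 4, 0, 4, 3, 1]), (266, true, [2, 4, 0, 4,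 0, 1, 3, 1, 3, 1, 3, 1]), (19, false, [1, 0, 1, 0, 1, 2, 0, 4, 0, 4, 0]), (110, true, [0, 2, 4, 3, 1, 0, 1, 3, 1, 0, 1, 0, 4, 0, 4, 0]), (72, true, [0, 1, 2, 0, 1, 3, 4, 0, 1, 3, 1, 3, 4]), (165, false, [2, 4, 0, 4, 3, 4, 3, 4, 0, 1, 3, 1]), (197, false, [0, 4, 0, 1, 3, 4, 3, 1, 0, 4]), (204, true, [1, 3, 1, 3, 4, 0, 4, 0, 4, 3, 4, 0]), (72, false, [1, 0, 4, 0, 1, 3, 1, 0, 4, 0, 4, 0, 1, 3, 1, 0]), (247, true, [1, 3, 1, 3, 1, 0, 4, 0, 4, 3]), (75, true, [0, 1, 0, 1, 3, 4, 3, 4, 0, 4, 3, 1, 0, 4, 3]), (104, false, [2, 4, 0, 4, 0, 1, 3, 1, 3, 4, 0, 4, 0, 4, 0]), (165, false, [4, 3, 1, 3, 1, 0, 4, 3, 1, 3, 1, 3, 4]), (92, false, [3, 1, 3, 1, 0, 4, 3, 4, 0, 1, 0, 1, 0, 4, 3]), (154, true, [3, 1, 3, 1, 0, 4, 3, 4, 3, 4, 3,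 1, 0, 4, 3]), (243, false, [0, 1, 2, 0, 1, 0, 1, 3, 1, 3, 4]), (255, true, [0, 1, 0, 2, 4, 3, 4, 0, 1, 0, 1, 0, 4]), (115, true, [2, 0, 4, 3, 4, 3, 4, 3, 1, 0, 4, 3, 4, 3, 1]), (87, false, [0, 4, 0, 4, 0, 1, 3, 4, 0, 4, 0, 4, 3, 4, 0]), (128, false, [3, 1, 3, 4, 0, 4, 3, 4, 3, 4, 3]), (42, false, [4, 0, 1, 0, 1, 3, 1, 3, 1, 3, 1, 0, 4, 3, 4, 0, 1]), (171, true, [3, 1, 3, 1, 0, 4, 3, 1, 3, 1, 0, 4, 3, 1, 0]), (42, false, [3, 1, 3, 1, 0, 1, 3, 4, 0, 4, 0, 1, 0]), (277, true, [1, 0, 1, 0, 1, 0, 1, 2, 0, 1, 0, 4, 0, 4, 3, 1, 3]), (268, false, [4, 3, 4, 0, 4, 3, 1, 3, 1, 3, 4, 0, 1]), (111, true, [0, 1, 3, 1, 0, 1, 0, 1, 0, 4, 0, 4, 0, 4, 3, 4, 0]), (152, false, [0, 1, 0, 4, 3, 1, 0, 1, 3, 4, 3, 4, 0, 1, 3, 4]), (223, false,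 [1, 0, 1, 0, 1, 0, 4, 3, 1, 3, 1, 0]), (3, true, [2, 4, 3, 4, 0, 4, 3, 1, 3, 1, 0, 4, 0]), (149, false, [4, 0, 4, 3, 4, 3, 4, 3, 1, 3]), (73, false, [1, 0, 1, 3, 1, 3, 4, 3, 4, 3, 4, 0, 4, 0, 4]), (124, false, [0, 1, 2, 0, 4, 0, 1, 3, 4, 0, 4, 3, 1, 3, 4, 0]), (254, false, [3, 1, 0, 1, 3, 1, 3, 1, 3, 4, 3, 4, 3, 1, 0]), (221, false, [4, 3, 4, 0, 4, 0, 1, 3, 1, 0, 4, 0, 1]), (88, true, [4, 3, 4, 0, 1, 0, 1, 0, 1, 3, 4, 0, 4, 3, 4, 0]), (247, true, [3, 4, 0, 1, 3, 1, 0, 1, 0, 4, 3, 4, 0, 4, 3]), (126, false, [3, 4, 3, 4, 0, 4, 0, 1, 3, 4, 3, 4, 0, 1, 0, 4]), (220, true, [1, 0, 2, 4, 0, 4, 0, 1, 3, 1, 3, 1, 3, 1, 0, 4, 3, 1]), (78, false, [4, 3, 1, 0, 1, 3, 1, 0, 4, 0, 4]), (182, false, [0, 1, 0, 2, 4, 0, 1, 3, 1, 3, 4,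 0, 4, 0, 4, 0, 4]), (77, false, [0, 2, 4, 3, 1, 3, 1, 3, 4, 3, 4, 3, 1, 3]), (73, true, [1, 2, 0, 1, 0, 1, 3, 1, 3, 4, 3, 4, 0, 1, 3, 1]), (10, true, [2, 0, 1, 0, 1, 3, 4, 0, 1, 0, 1, 0, 4]), (183, false, [1, 0, 1, 3, 1, 0, 1, 3, 4, 3, 4, 0, 4, 3, 1, 0]), (202, false, [0, 1, 0, 4, 3, 4, 3, 1, 0, 4, 3, 4, 3, 1]), (90, false, [3, 4, 0, 4, 3, 4, 0, 4, 0, 4, 3, 4, 0, 1]), (180, true, [1, 0, 2, 4, 0, 4, 0, 1, 3, 4, 3, 4, 0]), (203, false, [0, 4, 0, 4, 3, 1, 0, 1, 3, 4]), (197, true, [4, 3, 1, 0, 1, 0, 4, 3, 4, 0, 1, 3, 1]), (251, false, [0, 1, 0, 1, 3, 4, 0, 4, 3, 4, 0, 4, 3, 1, 3, 4]), (9, true, [1, 3, 1, 3, 4, 0, 4, 3, 4, 3, 4, 0, 1]), (124, false, [1, 2, 0, 4, 3, 1, 0, 1, 0, 1, 0, 1, 3, 4]), (149, true, [1, 0, 1, 0, 2,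 4, 0, 4, 3, 1, 3, 1, 3, 1, 0, 1, 3]), (85, false, [1, 0, 1, 2, 0, 4, 0, 4, 3, 4, 3, 1, 0, 4, 0, 4]), (43, true, [1, 0, 1, 2, 0, 1, 0, 1, 3, 4, 3, 1]), (190, false, [4, 0, 1, 3, 4, 3, 4, 0, 4, 3, 1, 0, 4]), (247, true, [1, 3, 1, 3, 4]), (256, true, [1, 0, 1, 0, 1, 0, 1, 2, 0, 1, 0, 1, 3, 1, 0, 4, 0, 1]), (263, false, [1, 0, 1, 0, 4, 3, 4, 0, 4, 3, 4, 0, 1, 0, 1]), (232, false, [2, 4, 0, 4, 3, 4, 3]), (86, false, [0, 4, 3, 4, 0, 4, 0, 4, 0, 4, 3, 4, 3, 4]), (191, false, [1, 0, 4, 3, 1, 0, 4, 0, 4, 0, 1, 0]), (262, false, [2, 0, 1, 3, 4, 0, 4, 3, 4, 3, 4, 0, 1, 3, 4, 3]), (92, false, [1, 3, 4, 0, 4, 3, 1, 0, 1, 0, 1, 3, 1, 3, 4, 3]), (226, false, [0, 1, 0, 2, 4, 0, 1, 0, 1, 3, 1, 0, 4, 0, 4]), (89, false, [0, 4, 0, 1, 3,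 1, 3, 4, 0, 1, 0, 1, 3, 1, 0]), (0, true, [0, 1, 0, 1, 3, 1, 3, 4, 3, 4, 3, 4, 0, 4]), (237, false, [1, 2, 0, 1, 0, 1, 3, 1, 0, 1, 3, 1, 3, 1, 3, 4]), (177, false, [0, 1, 0, 1, 2, 0, 4, 0]), (153, true, []), (183, true, [0]), (5, false, [2, 0, 1, 0, 1, 3, 1, 3, 1, 3, 1, 0, 1]), (273, false, [1, 0, 4, 0, 1, 3, 4, 0, 4, 0, 1, 3]), (64, true, [4, 3, 1, 3, 1, 3, 4, 3, 4, 0, 1, 3, 1, 3, 4]), (234, true, [4, 0, 1, 0, 4, 3, 4, 0, 1, 0, 1, 3])]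
def r154 : List (ℕ × Bool × List ℕ) := [(66, true, [4, 0, 1, 3, 4, 0, 4, 3, 4, 3, 4, 0, 1, 3, 4]), (69, false, [2, 0, 1, 0, 1, 0, 1, 3, 4, 3, 4, 0, 4, 0, 4]), (3, false, [2, 0, 4, 3, 1, 0, 1, 0, 1, 3, 1, 0, 4, 3]), (241, true, [1, 3, 4, 3, 1, 0, 4, 3, 4, 0, 1, 3]), (254, false, [2, 0, 1, 0, 1, 3, 1, 0, 4, 0, 4, 3, 1, 3]), (67, false, [1, 0, 1, 3, 1, 0, 4, 3, 4, 0, 4, 0]), (85, false, [2, 0, 1, 0, 1, 3, 4, 0, 1, 0, 1, 0, 1]), (171, false, [4, 3, 1, 3, 1, 3, 4, 3, 4, 3, 1]), (131, false, [0, 2, 4, 0, 1, 3, 4, 3, 1, 0, 1, 0, 1]), (125, false, [0, 1, 0, 1, 0, 2, 4, 0, 1, 3, 1, 3, 1, 3, 4, 0, 1]), (78, false, [3, 1, 0, 4, 3, 4, 0, 1, 3, 4, 3, 4, 0, 4]), (65, true, [0, 4, 3, 1, 0, 1, 3, 4, 3, 4, 3, 1, 0]), (69, false, [4, 0,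 4, 3, 4, 0, 4, 0, 4, 3, 1, 0, 1, 3, 4]), (209, false, [2, 0, 1, 3, 1, 3, 4, 0, 4, 3, 4, 3, 1, 0, 1]), (190, false, [2, 4, 3, 4, 3, 1, 0, 1, 3, 4, 3, 4, 3]), (227, true, [2, 4, 0, 4, 3, 4, 3]), (182, false, [0, 2, 4, 3, 1, 3, 1, 0, 4, 3, 1, 0]), (151, false, [0, 2, 4, 0, 1, 3, 1, 0, 1, 0, 4, 3, 1, 3, 1, 0, 4]), (78, false, [1, 0, 4, 3, 1, 0, 1, 3, 4, 3, 4, 0, 1, 0]), (72, false, [1, 0, 4, 0, 4, 3, 1, 3, 1, 0, 4, 3, 1]), (197, false, [1, 3, 4, 0, 4, 3, 4, 3, 4, 3]), (154, true, [0, 4, 3, 4, 0, 4, 3, 1, 3, 1, 0, 1, 3, 1]), (193, true, [0, 4, 3, 4, 0, 4, 3, 1, 3, 1, 0, 1, 3, 1]), (80, true, [2, 4, 3, 1, 0, 1, 3, 4, 0, 4, 3, 1, 3, 1]), (242, false, [2, 0, 1, 3, 4, 0, 4, 3, 4, 0, 4]), (42, false, [1, 3, 4, 0, 4, 3, 4, 3, 4,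 3, 4, 0]), (19, false, [2, 0, 4, 0, 4, 3, 1, 3, 4, 0, 4, 0, 1, 3, 1, 3]), (181, true, [0, 1, 3, 1, 0, 1, 0, 4, 3, 1, 3, 4, 0, 4]), (241, true, [0, 1, 3, 1, 3, 4, 3, 4, 0, 4, 3, 1]), (199, true, [0, 1, 3, 4, 3, 1, 0, 1, 0, 1, 0, 1, 3, 4]), (141, false, [0, 2, 4, 3, 1, 3, 1, 3, 4, 0, 4, 3, 1, 3, 1]), (229, true, [0, 1, 0, 1, 0, 4, 3, 1, 0, 1, 3, 4, 3]), (103, true, [2, 4, 0, 1, 3, 1, 3, 4, 3, 4, 0, 4, 0]), (126, true, [2, 4, 0, 4, 0, 1, 3, 1, 3, 4, 0, 4, 0, 1, 3, 1]), (90, false, [1, 0, 1, 0, 1, 0, 2, 4, 0, 4, 3, 1, 0, 4, 3]), (197, true, [0, 1, 0, 2, 4, 0, 1, 3, 1, 0, 4, 0, 4, 3, 1]), (192, true, [0, 1, 0, 1, 2, 0, 4, 3, 4, 3, 1]), (59, false, [0, 4, 0, 1, 0, 1, 3, 1, 3, 4]), (73, true, [2, 0, 4, 3, 4, 3, 1, 0, 4, 0, 4,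 3, 4, 3]), (211, true, [3, 4, 3, 4, 3, 1, 0, 4, 3, 4, 0, 1, 0, 1, 3]), (154, true, []), (171, false, [3, 1, 0, 4, 3, 4, 3, 4, 0, 4, 3, 1, 0, 4, 3]), (103, false, [0, 1, 0, 1, 3, 1, 0, 1, 0, 4, 0, 4, 0, 4, 0, 1]), (73, true, [1, 0, 4, 3, 1, 3, 4, 0, 4, 0]), (253, true, [1, 2, 0, 1, 3, 1, 3, 1, 0, 1, 0, 4, 3, 4, 3, 4]), (180, false, [2, 4, 3, 4, 3, 1, 0, 4, 0, 4, 0, 1, 3, 1]), (192, false, [0, 1, 2, 0, 4, 0, 4, 3, 1, 0, 1, 0, 4]), (148, false, [3, 1, 0, 1, 3, 1, 0, 1, 3, 1, 3, 1, 3, 4]), (110, false, [0, 1, 0, 4, 3, 4, 0, 1, 3, 1, 0, 4, 0, 1]), (178, true, [0, 1, 0, 2, 4, 3, 4, 0, 1, 0, 1, 0, 1, 3]), (7, true, [3, 1, 0, 4, 3, 4, 0, 4, 3, 4, 3, 1, 3]), (172, true, [0, 1, 0, 2, 4, 0, 4, 0, 4, 3, 4, 0, 1, 0, 1, 0]), (245,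 true, [4, 0, 1, 3, 1, 0, 4, 3, 1, 3, 1, 0, 1, 0, 4]), (57, false, [1, 0, 1, 3, 1, 3, 1, 3, 1, 0, 4, 3]), (225, true, [1, 0, 4, 0, 4, 0, 4, 3, 1, 0, 4, 3]), (85, false, [2, 0, 1, 0, 4, 3, 4, 0, 4, 0, 4, 3, 1, 0, 4]), (234, true, [4, 3, 1, 3, 1, 3, 1, 0, 4, 3, 4, 0, 1, 0, 4]), (103, false, [0, 1, 3, 4, 3, 1, 0, 4, 3, 4, 3]), (192, true, [1, 3, 4, 0, 4, 3, 4, 3, 4, 0, 4, 0]), (38, true, [4, 3, 4, 3, 1, 0, 1, 0, 4, 3]), (67, false, [2, 4, 3, 4, 3, 1, 0, 1, 0, 4, 3, 1, 3, 1, 3, 1]), (111, false, [0, 1, 0, 1, 3, 4, 3, 4, 0, 4, 3, 1, 3, 4]), (73, false, [3, 1, 3, 1, 0, 1, 0, 1, 3, 1, 0, 4, 0]), (154, true, [0, 4, 3, 4, 0, 4, 3, 1, 3, 1, 0, 1, 3, 1]), (154, false, [0, 1, 3, 4, 0, 1, 3, 1, 0, 4, 3, 1]), (251, true, [0, 1, 0, 4,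 3, 1, 0, 1, 0, 1, 0, 4, 3, 4]), (193, true, [0, 1, 0, 1, 0, 1, 0, 1, 0, 1, 0, 1, 0, 1]), (26, true, [1, 0, 1, 0, 1, 3, 4, 0, 1, 3, 1, 3]), (278, false, [3, 1, 0, 4, 3, 4, 0, 4, 0, 4, 3]), (10, true, [0, 4, 3, 1, 3, 4, 0, 1, 0, 1, 3, 4, 3, 1]), (120, true, [1, 0, 4, 3, 1, 3, 1, 0, 4, 3, 1, 3, 1, 0]), (59, false, [0, 1, 0, 1, 2, 0, 1, 0, 1, 3, 4, 3, 4]), (136, false, [4, 3, 4, 0, 4, 3, 1, 0, 1, 0, 1, 0, 4, 3, 4]), (87, true, [1, 0, 1, 3, 1, 3, 1, 3, 4, 0, 4, 3, 1, 3, 1, 0]), (154, false, [0, 4, 3, 1, 3, 1, 0, 4, 3, 1, 0, 1, 0, 1, 3]), (49, false, [0, 1, 2, 0, 4, 3, 1, 3, 1, 3, 1, 3, 4]), (270, true, [0, 1, 0, 2, 4, 0, 4, 0, 4, 0, 4, 3, 1, 0]), (3, true, [1, 0, 1, 3, 1, 0, 1, 0, 4, 0, 4, 0, 4, 0, 4]), (42, false, [0, 1,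 3, 4, 0, 1, 0, 1, 3, 4, 0]), (81, true, [1, 3, 4, 0, 4, 3, 1, 3, 1, 0, 4, 3]), (103, false, [1, 0, 1, 3, 4, 0, 1, 3, 1, 0, 1, 0, 4]), (153, true, [0, 1, 3, 4, 0, 1, 0, 1, 0, 1, 3, 4, 0, 4, 0]), (122, false, [4, 3, 1, 0, 4, 3, 4, 0, 1, 0, 1, 3, 1, 0]), (115, true, [0, 4, 0, 4, 0, 4, 3, 4, 3, 4, 0, 1, 3, 1]), (277, true, [2, 0, 4, 3, 1, 3, 1, 3, 1, 0, 1, 0, 1, 3, 1, 3, 4]), (95, true, [0, 2, 4, 0, 1, 0, 1, 3, 1, 3, 1, 0, 1, 3, 1]), (97, true, [2, 0, 1, 3, 1, 3, 1, 0, 1, 0, 1, 0, 4, 3]), (171, true, [0, 2, 4, 3, 1, 0, 1, 0, 1, 0, 4, 0, 4, 0, 1]), (103, false, [1, 0, 1, 0, 1, 3, 1, 3, 4, 3, 4, 3, 4, 3, 1]), (199, true, [2, 4, 3, 4, 3, 4, 0, 4, 0, 1, 3, 1, 3, 1, 3, 4]), (66, true, [1, 2, 0, 4, 0, 4, 3, 4, 3, 4, 3, 4, 0, 4]),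 (20, false, [1, 3, 1, 0, 1, 3, 4, 0, 1, 0, 1, 3, 4]), (277, true, [0, 1, 0, 1, 0, 1, 3, 4, 0, 4, 0, 1, 0]), (223, false, [0, 1, 0, 1, 0, 1, 0, 4, 0, 4, 0, 1, 3, 1, 0]), (256, false, [0, 1, 0, 1, 0, 4, 3, 4, 3, 4, 3, 4, 0]), (214, true, [1, 2, 0, 4, 3, 4, 0, 1, 0, 1, 0, 4, 3, 4, 0, 4, 3]), (21, true, [1, 0, 2, 4, 0, 1, 3, 1, 0, 1, 3, 4]), (190, false, [0, 4, 0, 4, 3, 1, 3, 1, 0, 1]), (110, false, [0, 4, 3, 4, 0, 1, 3, 1, 0, 1, 3, 1]), (92, true, [0, 1, 2, 0, 1, 0, 1, 0, 4, 3, 4, 0, 1, 0, 1, 3]), (125, false, [4, 3, 1, 3, 1, 3, 4, 0, 1, 3, 1, 3, 4, 0, 4, 3]), (120, true, [1, 2, 0, 4, 3, 4, 0, 4, 3, 1, 3, 4]), (103, false, [2, 4, 0, 4, 0, 4, 3, 1, 0, 1, 3, 1]), (38, true, [4, 3, 4, 3, 4, 3, 4, 0, 1, 3, 1, 0, 4, 0]), (205,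 false, [3, 4, 3, 1, 0, 4, 3, 4, 0, 1]), (200, false, [1, 3, 1, 0, 1, 3, 1, 3, 1, 0, 4, 3, 1]), (181, false, [2, 0, 1, 3, 1, 0, 1, 0, 1, 3, 4, 0, 1, 3, 1]), (171, true, [3, 4, 3, 4, 0, 1, 0, 4]), (114, false, [1, 3, 1, 3, 1, 3, 1, 3, 4, 0, 1]), (276, true, [0, 4, 0, 4, 0, 4, 3, 1, 0, 1, 3, 4, 3, 4, 3]), (112, true, [1, 3, 4, 3, 4, 0, 1, 3, 1, 3, 4, 0]), (269, false, [0, 4, 0, 4, 0, 4, 3, 4, 0, 1, 0, 1, 0])]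
def r155 : List (ℕ × Bool × List ℕ) := [(155, true, []), (65, false, [1, 3, 4, 3, 4, 3, 4, 0, 4, 0, 4, 0, 4, 3, 1]), (46, true, [3, 4, 0, 4, 3, 4, 3, 4, 0, 1, 3]), (65, true, [3, 1, 0, 4, 3, 1, 0, 1, 3, 4]), (81, false, [0, 1, 0, 1, 0, 4, 0, 4, 3, 4, 3, 4, 3, 4]), (163, true, [2, 4, 3, 1, 3, 1, 3, 1, 3, 1, 3, 1]), (211, false, [2, 4, 0, 1, 0, 4, 3, 1, 3, 1, 3, 4, 3]), (22, true, [1, 2, 0, 1, 0, 4, 3, 1, 3, 1, 0, 4]), (42, false, [3, 4, 0, 1, 0, 1, 3, 4, 0, 4, 3]), (226, false, [0, 2, 4, 0, 1, 3, 1, 3, 1, 0, 4, 3, 4, 0, 1, 0, 1]), (92, false, [0, 1, 3, 4, 0, 4, 0, 4, 3, 1, 0, 1, 0, 4, 0]), (22, false, [2, 0, 4, 3, 1, 0, 1, 0, 1, 0, 1, 3]), (191, true, [0, 1, 0, 4, 0, 4, 3, 1, 0, 1, 0, 4, 0, 4, 0]), (221, false, [0, 1,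 0, 2, 4, 0, 1, 0, 4, 3, 4, 0, 1, 3]), (215, false, [1, 2, 0, 4, 3, 4, 3, 1, 0, 4, 3, 4, 0, 1]), (261, true, [3, 1, 0, 4, 3, 4, 3, 4, 0, 4, 3, 4]), (233, false, [1, 3, 1, 3, 1, 0, 1, 3, 1, 0, 4, 0, 4]), (155, false, [3, 1, 3, 4, 3, 4, 3, 1, 0, 4, 3, 1]), (42, true, [4, 0, 4, 3, 4, 0, 4, 3, 4, 3, 1, 0]), (155, true, [3, 4, 0, 1, 3, 1, 3, 4, 3, 4, 0, 1, 3, 1, 3]), (46, true, [0, 4, 0, 1, 3, 1, 3, 1, 0, 4, 3, 4, 3, 1, 3]), (64, true, [2, 4, 0, 1, 3, 1, 3, 1, 0, 1, 3, 4, 0, 1, 0]), (235, false, [1, 0, 4, 3, 4, 3, 4, 0, 1, 3, 1, 3, 1, 0, 1, 0]), (215, true, [3, 1, 0, 4, 3, 1, 0, 1, 3, 4, 3, 1, 0, 1, 3]), (101, false, [2, 0, 4, 0, 1, 3, 1, 0, 4, 0]), (41, false, [2, 0, 1, 3, 4, 0, 4, 3, 1, 3, 1, 0, 1, 3]), (66, true, [2, 4,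 3, 4, 3, 4, 0, 1, 3, 1, 3, 1, 0, 1, 3]), (155, false, [0, 1, 0, 1, 0, 4, 0, 4, 3, 4, 0, 1, 0]), (61, true, [1, 0, 4, 0, 1, 3, 1, 3, 4, 0, 1, 0, 1, 3, 1, 3]), (191, true, [3, 4, 3, 4, 3, 1, 0, 4, 3]), (127, false, [3, 1, 3, 1, 3, 1, 0, 1, 0, 1, 3, 1, 3, 1, 0, 4]), (226, false, [1, 2, 0, 1, 0, 1, 3, 4, 3, 1, 0, 4, 3, 4]), (64, false, [0, 2, 4, 0, 1, 0, 4, 3, 4, 0, 4, 0, 4, 3, 1, 0, 1]), (109, false, [4, 3, 4, 0, 4, 3, 1, 0, 1, 0, 4, 0, 4, 0, 4, 0]), (233, false, [3, 1, 0, 1, 3, 4, 0, 4]), (225, false, [3, 1, 0, 4, 0, 4, 3, 1, 3, 1, 3, 1, 0, 1]), (221, true, [0, 2, 4, 3, 4, 0, 4, 3, 4]), (101, false, [2, 0, 4, 0, 1, 3, 1, 0, 4, 0]), (155, true, [4, 0, 4, 0, 4, 3, 4, 0, 4, 3, 4, 0, 1, 0]), (155, true, [0, 4, 0, 4, 3, 4, 0,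 4, 3, 4, 0, 1, 0, 1]), (72, false, [1, 2, 0, 1, 3, 1, 3, 1, 0, 1, 0, 1, 0, 1, 3, 4, 0]), (109, true, [1, 0, 4, 3, 4, 0, 1, 0, 1, 3, 4, 0, 4, 3]), (226, true, [1, 0, 1, 2, 0, 4, 0, 1, 3, 1, 3, 4, 3]), (226, false, [2, 4, 3, 4, 0, 4, 0, 4, 0, 4, 3, 4, 3, 4, 3, 4]), (191, false, [4, 0, 4, 0, 4, 3, 4, 3, 1, 0, 1, 0, 4, 3, 4, 0]), (27, false, [1, 0, 1, 3, 1, 0, 1, 3, 1, 3, 1, 0, 4, 3, 4, 3]), (226, true, [0, 1, 0, 1, 0, 1, 2, 0, 4, 0, 1, 3, 1, 0, 4, 3]), (155, true, []), (155, false, [1, 3, 4, 3, 4, 0, 1, 3, 1, 3, 4, 0]), (41, true, [1, 2, 0, 1, 3, 4, 3, 4, 0, 1, 0, 1, 0]), (261, false, [3, 4, 0, 4, 3, 4, 0, 4, 0, 4, 3, 1, 0, 1, 3, 1]), (233, true, [1, 0, 1, 0, 2, 4, 0, 1, 3, 4, 3, 4]), (27, true, [4, 3, 1, 0, 4, 3, 4, 0,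 1, 0, 1, 3]), (210, true, [2, 0, 4, 0, 1, 3, 1, 0, 1, 0, 4, 0]), (171, false, [0, 1, 3, 1, 0, 4, 0, 4, 3, 1, 0, 4, 0, 1]), (233, true, [4, 3, 4, 3, 4, 0, 1, 3, 1, 0, 1, 3]), (127, true, [4, 3, 4, 3, 4, 3, 4, 0, 4, 0, 1, 3]), (248, true, [1, 2, 0, 4, 3, 1, 0, 1, 0, 4, 3, 4, 0, 1]), (86, false, [2, 0, 1, 0, 1, 3, 1, 3, 4, 0, 4, 3, 1, 0, 4]), (225, false, [1, 0, 4, 3, 4, 3, 4, 0, 4, 3, 4]), (106, true, [0, 1, 0, 1, 0, 1, 0, 4, 3, 1, 0, 1, 3, 4, 3, 4]), (22, false, [2, 0, 4, 3, 1, 0, 1, 0, 1, 0, 1, 3]), (155, false, [0, 1, 0, 1, 0, 4, 3, 4, 0, 1, 3, 1, 3, 1, 0, 4]), (221, true, [1, 0, 1, 0, 1, 0, 2, 4, 0, 4, 3, 4, 0]), (66, false, [1, 0, 2, 4, 0, 4, 0, 4, 3, 4, 0, 4, 3, 4, 0, 4]), (65, false, [3, 4, 3, 1, 3, 1, 3, 4, 0, 4,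 3, 1, 0, 4]), (81, false, [1, 3, 1, 0, 1, 3, 4, 0, 4, 3, 1, 3, 1, 0]), (61, false, [0, 1, 2, 0, 4, 0, 1, 3, 1, 3, 1, 3, 4, 3, 4, 3, 1]), (120, false, [3, 4, 3, 1, 0, 4, 0, 4, 3, 1, 3, 4, 0, 4, 0]), (211, true, [1, 0, 2, 4, 3, 4, 3, 1, 0, 4, 3, 4, 3, 4, 3, 4]), (226, true, [2, 4, 3, 4, 3, 4, 0, 4, 0, 1, 3]), (220, false, [4, 3, 4, 3, 1, 0, 4, 0, 4, 0, 4, 3, 1, 0]), (171, true, [0, 4, 3, 1, 3, 1, 3, 4, 0, 4, 3, 4, 3, 1, 3]), (72, true, [1, 2, 0, 1, 0, 4, 0, 4, 0, 4, 3, 1, 3, 1, 0]), (148, true, [4, 3, 1, 0, 1, 0, 1, 0, 4, 3, 1, 0]), (221, false, [2, 0, 4, 3, 1, 0, 1, 3, 1, 3, 1, 0, 4, 3, 4, 0, 1]), (163, false, [2, 4, 3, 1, 0, 4, 3, 1]), (201, true, [2, 0, 1, 0, 1, 0, 1, 3, 4, 0]), (127, false, [0, 1, 0, 1, 0, 4, 0, 4,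 3, 4, 0, 4]), (92, true, [3, 4, 0, 1, 3, 4, 0, 4, 3, 1, 3, 1, 3, 1]), (41, false, [2, 0, 1, 3, 4, 0, 4, 3, 1, 3, 1, 0, 1, 3]), (210, false, [2, 4, 3, 4, 3, 4, 0, 4, 0, 1, 3, 4, 3, 4, 3]), (220, true, [0, 1, 0, 1, 3, 1, 3, 1, 0, 1, 0, 4]), (210, false, [2, 4, 3, 4, 3, 4, 0, 4, 3, 1, 3, 1, 0]), (225, true, [4, 0, 4, 3, 4, 0, 4, 0, 4, 3, 1, 0, 1, 3, 1]), (210, false, [0, 1, 0, 2, 4, 3, 1]), (225, true, [1, 3, 4, 3, 1, 0, 4, 0, 4, 0, 4, 3, 1]), (120, true, [2, 0, 4, 0, 1, 3, 4, 0, 4, 0, 1, 3, 1]), (155, false, [0, 1, 0, 1, 0, 4, 0, 4, 3, 4, 0, 1, 0]), (61, false, [1, 2, 0, 4, 3, 4, 0, 1, 3, 1, 3, 1]), (106, true, [3, 1, 0, 4, 3, 4, 3, 1, 0, 1, 0, 1, 3, 1, 3]), (22, true, [1, 2, 0, 1, 0, 4, 3, 1, 3, 1, 0, 4]), (235, true,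 [0, 1, 3, 1, 0, 1, 3, 1, 0, 4, 3]), (41, true, [2, 0, 4, 0, 4, 3, 4, 3, 4, 0]), (127, true, [4, 3, 4, 0, 1, 0, 1, 0, 4, 0, 4, 3, 4]), (41, true, [2, 0, 4, 0, 4, 3, 4, 3, 4, 0]), (191, false, [3, 4, 0, 4, 3, 1, 3, 1, 3, 4, 3, 4, 0, 4]), (61, true, [2, 0, 4, 0, 4, 0, 1, 3, 1, 0, 1, 3, 1, 0, 4]), (46, false, [0, 4, 3, 4, 3, 4, 3, 1, 0, 1, 3, 4, 0, 1, 3]), (148, false, [0, 4, 3, 4, 0, 4, 0, 4, 3, 4, 0, 1, 3]), (106, true, [3, 1, 3, 1, 0, 4, 3, 1, 0, 1, 0, 4]), (163, false, [0, 2, 4, 0, 4, 3, 1, 0, 1, 3, 4, 3]), (65, true, [3, 4, 0, 1]), (106, true, [4, 3, 4, 3, 4, 0, 4, 0, 1, 3, 4]), (248, false, [2, 4, 0, 4, 3, 4, 3, 4, 3, 4, 3, 4, 3]), (81, true, [1, 0, 1, 0, 1, 0, 1, 0, 4, 0]), (201, false, [0, 1, 0, 2, 4, 0, 4, 3, 4,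 0, 4, 0, 1, 3]), (86, true, [2, 0, 1, 3, 4, 0, 4, 3, 1, 0, 1, 3, 4]), (81, true, [0, 1, 0, 4, 0, 4, 0, 4, 0, 1, 3]), (41, false, [0, 1, 2, 0, 4, 3, 4, 3, 4, 3, 4, 3, 1]), (163, true, [2, 0, 4, 3, 1, 0, 4, 3, 4]), (46, false, [1, 0, 1, 0, 1, 3, 4, 0, 4, 3, 1, 3, 1])]

theorem q144 : closeb 18 ps18 base7 rgR om xs x144 orb r144 = true := by decide +kernel
theorem q145 : closeb 18 ps18 base7 rgR om xs x145 orb r145 = true := by decide +kernel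
theorem q146 : closeb 18 ps18 base7 rgR om xs x146 orb r146 = true := by decide +kernel
theorem q147 : closeb 18 ps18 base7 rgR om xs x147 orb r147 = true := by decide +kernel
theorem q148 : closeb 18 ps18 base7 rgR om xs x148 orb r148 = true := by decide +kernel
theorem q149 : closeb 18 ps18 base7 rgR om xs x149 orb r149 = true := by decide +kernel
theorem q150 : closeb 18 ps18 base7 rgR om xs x150 orb r150 = true := by decide +kernel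
theorem q151 : closeb 18 ps18 base7 rgR om xs x151 orb r151 = true := by decide +kernel
theorem q152 : closeb 18 ps18 base7 rgR om xs x152 orb r152 = true := by decide +kernel
theorem q153 : closeb 18 ps18 base7 rgR om xs x153 orb r153 = true := by decide +kernel
theorem q154 : closeb 18 ps18 base7 rgR om xs x154 orb r154 = true := by decide +kernel
theorem q155 : closeb 18 ps18 base7 rgR om xs x155 orb r155 = true := by decide +kernel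

theorem c12 : Rows xc12 :=
  Rows.cons q144 (Rows.cons q145 (Rows.cons q146 (Rows.cons q147 (Rows.cons q148 (Rows.cons q149 (Rows.cons q150 (Rows.cons q151 (Rows.cons q152 (Rows.cons q153 (Rows.cons q154 (Rows.cons q155 Rows.nil)))))))))))

end Cfsg.Agent.H698.U33.Clo
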