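import Cfsg.Agent.H698.U33.Clo.Rows

/-!
# S5525: the closure certificate, rows 156 to 167 (helper698; data of helper819, helper763)
-/

set_option autoImplicit false
set_option maxRecDepth 100000
set_option Elab.async false

namespace Cfsg.Agent.H698.U33.Clo

def r156 : List (ℕ × Bool × List ℕ) := [(280, false, [3, 1, 3, 4, 0, 4, 0, 1, 3, 1, 0, 4, 3]), (97, false, [2, 0, 1, 0, 4, 3, 4, 3, 1, 0, 4, 3, 4, 3, 4]), (222, true, [0, 1, 3, 4, 3, 4, 0, 1, 3, 1, 3, 1, 3, 4, 0, 1]), (170, false, [2, 0, 1, 3, 4, 0, 4, 0, 1, 3, 1, 0]), (121, true, [4, 0, 1, 3, 4, 0, 4, 0, 4, 3, 1, 0, 1, 3]), (164, true, [0, 1, 2, 0, 1, 3, 4, 0, 4, 3, 4, 3, 4]), (179, true, [0, 2, 4, 0, 1, 0, 1, 0, 1, 3, 1, 3, 1, 3, 4, 0, 4, 3]), (98, false, [2, 0, 4,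 0, 4, 0, 1, 3, 1, 0, 4, 0, 1]), (204, true, [0, 4, 0, 4, 3, 4, 0, 4, 3, 1, 0, 1]), (179, true, [0, 1, 0, 4, 3, 4, 0, 1, 3, 1, 0, 4, 0, 4]), (212, false, [1, 3, 1, 3, 1, 0, 4, 3, 4, 3, 1, 0, 1, 3, 1]), (38, true, [0, 1, 3, 4, 3, 1, 0, 4, 3, 4, 3, 1, 0, 4, 3]), (263, false, [2, 0, 1, 3, 4, 3, 4, 0, 1, 0, 1, 0, 1]), (263, false, [0, 1, 0, 2, 4, 3, 4, 3, 4]), (189, false, [0, 2, 4, 0, 4, 3, 4, 3, 1, 0, 1, 0, 1, 3, 1, 0]), (198, true, [1, 3, 1, 0, 1, 0, 1, 3, 1, 3, 1, 0]), (196, true, [1, 0, 1, 0, 1, 0, 1, 0, 4, 0]), (223, true, [0, 4, 3, 4, 3, 4, 0, 4, 3, 4, 0, 4, 0, 1, 0]), (237, true, [0, 1, 2, 0, 1, 3, 1, 0, 1, 0, 4, 3, 1, 3, 1]), (255, true, [0, 4, 0, 4, 0, 4, 3, 1, 0, 1, 3, 1, 3, 4, 0]), (68, false, [0, 1, 2, 0, 1, 3, 1,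 3, 1, 0, 1, 3, 4, 0, 1]), (117, false, [1, 0, 1, 3, 4, 0, 1]), (202, false, [0, 1, 3, 1, 3, 1, 0, 1, 3, 1, 0, 4, 0]), (91, false, [0, 1, 3, 4, 3, 1, 0, 1, 3, 1, 3, 1]), (219, false, [2, 0, 4, 0, 1, 3, 4, 3, 1, 0, 1, 3, 1, 0]), (74, true, [4, 3, 4, 0, 1, 3, 1, 0, 1, 0, 4]), (256, false, [4, 0, 4, 0, 1, 3, 4, 3, 4, 3, 4]), (80, false, [1, 3, 1, 3, 4, 0, 1, 3, 1, 0, 4, 0, 4, 0]), (141, false, [4, 0, 4, 3, 4, 0, 4, 3, 4, 3, 4, 0, 1, 0]), (70, true, [4, 0, 4, 0, 1, 3, 1, 0, 4, 0, 4, 0, 4, 3]), (247, true, [2, 4, 3, 1, 3, 4, 0, 4, 3, 1]), (212, false, [1, 2, 0, 1, 3, 1, 0, 4, 3, 1, 3, 4, 0, 4, 3, 4]), (88, true, [3, 4, 0, 4, 3, 4, 3, 1, 0, 1, 3, 1, 0, 1]), (279, false, [0, 1, 0, 1, 2, 0, 1, 0, 1, 3, 1]), (167, true, [4, 0, 1,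 3, 1, 3, 1, 3, 4, 0, 4, 0]), (237, false, [3, 1, 3, 1, 3, 4, 0, 4, 3, 1, 3, 1, 3, 4, 3]), (151, false, [2, 4, 3, 4, 3, 1, 0, 1, 0, 1, 0, 4, 3, 4, 0, 1]), (231, true, [0, 4, 0, 4, 3, 4, 0, 4, 3, 1, 0, 1]), (151, false, [3, 1, 0, 4, 3, 1, 0, 1, 0, 1, 3, 4, 0, 4]), (264, true, [0, 1, 3, 4, 3, 4, 0, 1, 3, 1]), (117, true, [1, 3, 4, 0, 1, 3, 1, 3, 1, 3, 4, 3]), (156, false, [0, 4, 3, 1, 3, 1, 3, 4, 3, 4, 3, 1]), (94, false, [1, 0, 1, 3, 4, 0, 1, 3, 1, 0, 1, 0, 1, 3, 1]), (150, false, [2, 4, 3, 4, 3, 1, 0, 1, 0, 4, 0]), (70, true, [1, 0, 1, 0, 2, 4, 0, 4, 0, 1, 3, 1, 0, 4, 0, 4, 0]), (121, true, [1, 3, 4, 3, 1, 0, 1, 3, 1, 0, 1, 0, 1, 0]), (243, true, [0, 2, 4, 0, 1, 3, 4, 0, 4, 0, 1, 3, 1]), (189, false, [4, 0, 4, 0, 4, 3, 4,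 3, 1, 0, 1, 0, 1, 0, 4]), (150, true, [0, 4, 3, 1, 0, 4, 0, 4, 3, 4, 0, 1, 0, 1]), (70, true, [0, 2, 4, 0, 4, 3, 1, 0, 1, 0, 4, 0, 4, 3, 1, 0, 4]), (147, false, [1, 3, 1, 3, 1, 0, 1, 3, 4, 3, 1, 0, 1]), (141, false, [2, 0, 1, 0, 4, 0, 4, 3, 1, 0, 4, 0, 4, 3, 4, 3]), (156, false, [3, 4, 3, 4, 0, 1, 3, 1, 3, 4, 0, 1]), (88, true, [2, 4, 0, 4, 3, 4, 0, 1, 3, 1, 3, 1, 0, 1, 3, 1, 3]), (185, true, [0, 1, 0, 1, 3, 4, 3, 1, 0, 1, 0, 4, 3, 4, 0]), (247, true, [4, 0, 4, 0, 1, 3, 4, 0, 4, 3]), (88, true, [1, 2, 0, 4, 3, 4, 3, 4, 0, 4, 0, 4, 3, 1, 0, 4]), (68, false, [3, 1, 0, 1, 0, 1, 3, 1, 0, 4, 0, 4, 0, 1, 3]), (117, false, [2, 0, 4, 3, 4, 3, 4, 3, 4, 3, 4, 3, 4]), (230, false, [0, 1, 3, 1, 3, 1, 3, 4, 0, 1, 0, 1, 3, 1, 0, 4]),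 (253, true, [1, 2, 0, 1, 0, 1, 3, 1, 0, 1, 3, 4, 0, 4, 0, 4, 0]), (68, false, [1, 0, 4, 0, 1, 3, 1, 3, 1, 3, 4, 0, 4]), (156, false, [0, 1, 3, 4, 3, 4, 0, 1, 3, 1, 3, 4]), (117, true, [0, 4, 0, 1, 3, 4, 3, 4, 3, 4, 0, 1, 3, 4]), (256, true, [2, 4, 0, 1, 3, 1, 3, 1, 0, 1, 3, 4, 0, 1, 0]), (165, false, [2, 0, 4, 0, 1, 0, 1, 3, 4, 3, 4, 0, 1, 0, 4]), (263, false, [3, 4, 3, 4, 0, 4, 3, 4, 0, 4, 0, 4, 0]), (202, false, [0, 1, 0, 1, 3, 1, 0, 1, 3, 4, 0, 4, 3, 4]), (149, false, [2, 4, 3, 4, 3, 1, 0, 4, 0, 4, 3, 1, 0]), (170, false, [3, 4, 0, 1, 0, 1, 0, 4, 0, 4, 3, 4]), (258, false, [1, 0, 1, 2, 0, 4, 3, 4, 3, 1, 0, 4, 0, 4]), (256, false, [2, 4, 0, 1, 0, 1, 3, 1, 3, 4, 0, 1, 0, 1]), (255, true, [0, 1, 2, 0, 1, 0, 4, 3, 1, 0, 1,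 3, 4, 3, 1]), (167, true, [1, 0, 1, 0, 4, 0, 4, 0, 4, 3, 1, 3]), (165, false, [3, 4, 0, 4, 3, 1, 3, 1, 0, 1, 3, 4, 3]), (237, true, [4, 0, 4, 0, 1, 3, 1, 3, 4, 0, 4, 0, 4, 0, 4, 3]), (231, false, [1, 0, 1, 0, 4, 3, 4, 0, 4, 3, 4, 3, 4]), (58, true, [1, 0, 1, 3, 4, 3, 1, 0, 1, 3, 4, 3, 4, 3]), (98, false, [1, 3, 1, 0, 1, 0, 4, 3, 4, 0, 1, 3, 1, 3]), (269, false, [0, 4, 0, 4, 3, 1, 0, 1, 0, 1, 3, 1, 3, 1, 0, 1, 0]), (232, false, [3, 1, 0, 1, 0, 1, 3, 1, 0, 1, 3, 4, 0]), (198, true, [0, 1, 0, 1, 0, 1, 2, 0, 1, 3, 1, 0, 1, 0]), (230, false, [3, 4, 3, 4, 0, 4, 0, 4, 3, 1, 0, 4, 0, 4, 0, 1]), (219, false, [2, 0, 4, 3, 4, 0, 4, 0, 4, 3, 4, 3, 4, 0, 1]), (269, false, [1, 0, 1, 0, 1, 2, 0, 1, 0]), (219, false, [3, 1, 3, 1, 0, 1,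 0, 1, 0, 1, 3, 4, 3]), (33, true, [2, 4, 3, 1, 0, 1, 3, 1, 0, 4]), (62, false, [0, 2, 4, 0, 4, 3, 1, 3, 1, 0, 4, 3, 4, 3]), (253, true, [1, 0, 4, 0, 4, 0, 4, 3, 4, 3, 4, 3, 1]), (117, false, [1, 0, 1, 0, 4, 0, 4, 3, 1, 0, 4, 0, 1]), (63, true, [0, 2, 4, 0, 1, 0, 4, 3, 1]), (88, true, [4, 0, 4, 3, 4, 0, 1, 0, 1, 0, 4, 0, 4, 3, 1]), (222, true, [2, 0, 4, 3, 4, 3, 4, 0, 4, 0, 4, 3, 4, 3]), (223, true, [1, 2, 0, 1, 0, 4, 3, 1, 3, 1, 3, 4, 0, 4]), (58, true, [2, 0, 4, 3, 4, 3, 1, 0, 1, 0, 4, 0]), (271, true, [2, 0, 4, 3, 4, 0, 1, 0, 1, 3, 4]), (149, true, [3, 1, 3, 1, 3, 1, 3, 4, 0, 4, 3, 1, 0, 4, 0]), (280, false, [1, 0, 2, 4, 3, 4, 3, 1, 0, 1, 3]), (263, false, [1, 3, 4, 0, 1, 0, 1, 3, 1, 0, 1, 3, 1]), (33, true, [1, 0, 4,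 3, 1, 0, 1, 0, 1, 3, 4]), (164, true, [0, 4, 0, 1, 3, 4, 3, 4, 3, 4, 0, 1, 3, 1, 0]), (91, false, [2, 0, 4, 3, 1, 0, 1, 0, 1, 3, 4, 3]), (60, false, [0, 1, 2, 0, 1, 0, 1, 0, 4, 3, 1, 0, 4]), (256, true, [3, 4, 0, 1, 3, 1, 3, 1, 0, 1, 3, 4, 0, 1, 0]), (0, false, [4, 0, 1, 3, 4, 0, 4, 3, 1, 3, 1]), (190, false, [0, 1, 0, 2, 4, 0, 4, 3, 4, 0, 4, 0, 1]), (70, true, [0, 1, 3, 1, 0, 1, 3, 4, 0, 1, 0, 1, 3, 1]), (237, false, [1, 0, 2, 4, 0, 4, 3, 4, 3, 4, 3, 1, 0]), (68, false, [0, 2, 4, 0, 4, 3, 1, 0, 1, 0, 1, 3, 1, 3, 1, 0, 4, 3]), (50, true, [4, 3, 1, 0, 1, 3, 4, 3, 4, 0, 4, 3, 1, 3]), (219, false, [0, 4, 3, 4, 3, 1, 0, 4, 3, 4, 0, 1, 0, 1, 3, 1]), (190, false, [0, 1, 0, 1, 3, 4, 0, 4, 3, 4, 3, 1])]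
def r157 : List (ℕ × Bool × List ℕ) := [(86, true, [1, 0, 2, 4, 0, 4, 0, 1, 3, 4, 3, 4, 3, 1, 3]), (96, true, [3, 1, 3, 4, 3, 4, 0, 1, 0, 1, 0, 1, 3]), (252, false, [1, 3, 1, 3, 4, 0, 4, 0, 1, 3, 1, 0, 4, 0]), (152, true, [1, 3, 1, 0, 1, 3, 4, 3, 4, 0, 4, 3, 1, 0, 4]), (129, true, [1, 0, 4, 0, 4, 3, 1, 0, 4, 0, 1]), (179, false, [3, 1, 0, 1, 3, 1, 3, 1, 0, 1, 3, 4, 3]), (269, false, [0, 4, 3, 1, 0, 1, 3, 4, 3, 4, 3, 4, 0, 1, 0, 4]), (253, true, [4, 0, 1, 3, 1, 3, 1, 0, 1, 0, 4, 3, 4, 3, 4]), (179, true, [0, 4, 0, 4, 3, 1, 0, 1, 0, 1, 3, 1, 3, 4, 3, 4]), (253, false, [1, 3, 1, 0, 1, 3, 1, 3, 1, 0, 4, 3, 4, 0, 4]), (234, false, [3, 4, 0, 4, 0, 4, 3, 1, 3, 1]), (72, false, [2, 0, 4, 3, 1, 0, 4, 3, 4, 0, 4, 0, 4, 3, 1, 0, 4]),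 (253, true, [2, 4, 0, 1, 3, 1, 3, 1, 0, 4, 3, 1, 3, 4]), (96, false, [0, 1, 0, 1, 3, 1, 3, 4, 0, 4, 3, 4, 0, 4, 3]), (79, false, [0, 1, 0, 1, 3, 4, 3, 4, 0, 4, 0, 4, 0, 4]), (249, true, [2, 4, 3, 1, 0, 1, 0, 4, 3, 1, 0, 4]), (109, true, [1, 3, 4, 3, 1, 0, 1, 3, 4, 3, 4, 3, 1, 3]), (69, false, [2, 4, 0, 1, 0, 4, 3, 1, 0, 1, 0, 1, 3, 1]), (216, true, [0, 2, 4, 3, 4, 3, 4, 3, 4, 0, 4, 0, 4, 3, 4]), (21, false, [0, 1, 2, 0, 4, 0, 1, 3, 4, 0, 4, 0, 1, 0]), (235, true, [0, 4, 3, 1, 3, 4, 0, 4, 0, 4, 0]), (51, false, [3, 4, 0, 4, 0, 1, 3, 4, 3, 4, 0, 4, 3, 1, 3, 1]), (212, false, [2, 0, 1, 3, 4, 3, 4, 0, 1, 3, 1, 3, 1, 0, 1, 3, 1]), (189, false, [1, 2, 0, 4, 3, 1, 3, 1, 0, 4, 3, 4, 0, 1]), (224, true, [0, 2, 4, 3, 4, 3, 4, 3, 1,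 0, 1, 0]), (214, false, [0, 1, 2, 0, 4, 0, 4, 3, 1, 0]), (96, false, [0, 1, 3, 4, 0, 4, 3, 4, 0]), (253, false, [1, 0, 1, 2, 0, 1, 0, 1, 3, 1, 3, 4, 0, 4, 0]), (128, true, [1, 0, 1, 3, 1, 3, 1, 0, 4, 3, 1, 3, 1, 0, 1]), (189, true, [3, 4, 3, 1, 3, 1, 3, 1, 3, 1]), (269, true, [4, 3, 1, 3, 1, 3, 4, 0, 1]), (196, false, [0, 1, 2, 0, 4, 3, 1, 0, 1]), (259, true, [0, 2, 4, 0, 1, 0, 4, 3, 4, 0, 4, 3, 4]), (245, false, [2, 0, 1, 3, 1, 0, 1, 3, 1, 3, 4, 3]), (123, true, [1, 0, 1, 2, 0, 1, 3, 1, 3, 1, 3, 4, 3, 4, 0, 4, 3, 4]), (188, false, [4, 0, 1, 0, 1, 3, 4, 0, 4, 0, 4, 3, 4, 3, 4]), (219, true, [0, 4, 3, 4, 0, 4, 0, 1, 3, 1, 0, 4, 0]), (256, false, [1, 2, 0, 1, 0, 1, 0, 1, 3, 4, 3, 1, 0, 4, 0, 4]), (230, true, [1, 0, 1, 2, 0,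 4, 0, 4, 0, 4, 3, 1, 0, 1, 0]), (60, false, [0, 4, 3, 1, 3, 1, 3, 1, 0, 4, 3, 4, 0]), (125, false, [2, 4, 3, 1, 0, 1, 3, 4, 3, 1, 0, 1, 0, 1, 0, 1]), (128, true, [1, 2, 0, 1, 3, 1, 3, 1, 0, 1, 0, 1, 3, 4, 3, 1, 0, 1]), (121, true, [0, 1, 0, 1, 0, 4, 3, 4, 3, 4, 3, 1, 0, 4, 3, 4]), (125, true, [0, 2, 4, 3, 4, 0, 4, 3, 4, 3, 4, 0, 4]), (224, true, [2, 4, 3, 1, 3, 1, 0, 4, 0, 4, 3, 1, 3]), (157, true, [1, 0, 1, 0, 4, 0, 4, 3, 1, 0, 1, 0, 4, 0, 4, 0]), (150, false, [1, 0, 1, 0, 1, 0, 4, 0, 4]), (158, true, [4, 0, 4, 0, 4, 3, 4, 0, 1, 0, 1, 0, 4, 3, 4, 3]), (169, false, [2, 0, 4, 3, 1, 3, 1, 3, 1, 3, 1, 3]), (89, true, [4, 0, 1, 0, 1, 3, 1, 0, 4, 0, 4, 3, 1]), (124, true, [3, 4, 0, 4, 3, 4, 3, 4, 0, 1, 3, 1, 0, 4, 0, 4]), (123,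 false, [0, 2, 4, 3, 1, 0, 4, 0, 4, 3, 1, 3, 4, 0, 1]), (221, false, [0, 1, 2, 0, 1, 3, 1, 0, 1, 3, 1, 0, 1, 3, 1]), (214, false, [2, 0, 4, 0, 4, 0, 4, 0, 4, 3, 1, 3, 4, 0, 4, 3, 1]), (169, true, [0, 1, 2, 0, 4, 0, 1, 3, 1, 3, 1, 0]), (69, true, [0, 2, 4, 0, 4, 0, 4, 0, 4, 3, 1, 3, 1, 0, 1, 0, 1]), (121, false, [2, 4, 3, 1, 0, 1, 0, 1, 0, 1, 0, 1]), (252, true, [0, 4, 3, 4, 0, 4, 0, 1, 3, 4, 3, 1, 0]), (128, false, [1, 3, 4, 0, 4, 3, 4, 3, 4, 0, 4, 3, 1, 3, 4, 0, 4]), (189, false, [0, 1, 3, 4, 0, 4, 0, 1, 3, 4, 0, 4]), (202, true, [0, 2, 4, 0, 4, 3, 1, 0, 1, 0, 4, 0]), (186, true, [0, 2, 4, 3, 4, 0, 4, 3, 1, 3, 4, 0, 1, 3]), (124, false, [1, 0, 4, 3, 1, 3, 1, 3, 4, 0, 1, 3, 1, 3]), (60, true, [0, 1, 0, 2, 4, 0, 1, 3, 1, 0,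 1, 0, 1, 3, 1, 0]), (219, false, [3, 1, 3, 4, 3, 4, 0, 4, 3, 4, 0, 1, 0]), (153, true, [1, 0, 4, 3, 1, 0, 1, 0, 1, 3, 1, 0, 4, 3, 1]), (186, false, [0, 4, 0, 1, 3, 1, 3, 1, 0, 4, 3, 4, 3, 1, 3]), (128, false, [0, 1, 0, 1, 2, 0, 1, 3, 4, 0, 4, 0, 4, 0, 1]), (200, true, [0, 1, 3, 4, 3, 4, 0, 1, 3, 1, 0, 4, 3, 1]), (196, true, [1, 2, 0, 4, 0, 4, 0, 4, 0, 4, 0, 4, 3]), (152, false, [4, 0, 4, 3, 4, 0, 1, 3, 4, 3, 4, 0, 4, 3]), (224, false, [2, 0, 1, 3, 1, 3, 1, 0, 1, 3, 4]), (249, false, [1, 3, 1, 0, 4, 3, 4, 3, 1, 0, 4]), (153, false, [0, 4, 3, 4, 0, 1, 3, 1, 3, 1, 0, 4, 3, 1, 0]), (259, false, [4, 0, 1, 0, 4, 3, 1, 3, 1, 0, 1, 3, 4, 3, 1]), (183, false, [2, 0, 1, 0, 1, 0, 4, 3, 1, 3, 1, 0, 1, 3, 4, 0, 1]), (198, false, [2,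 4, 3, 4, 0, 4, 3, 1, 3, 1, 0, 1, 3, 1]), (21, true, [2, 4, 3, 1, 0, 1, 3, 4, 3, 4, 0, 1, 3]), (96, true, [1, 0, 1, 3, 4, 0, 1, 3, 1, 3, 1, 3, 1, 0, 1]), (72, true, [0, 1, 2, 0, 1, 0, 4, 3, 4, 0, 4, 3, 4, 0, 1, 0, 1, 0]), (256, true, [1, 2, 0, 1, 3, 4, 0, 4, 0, 4, 3]), (158, false, [1, 0, 4, 3, 4, 0, 1]), (216, true, [3, 1, 0, 4, 0, 4, 0, 4, 3, 1, 0, 1, 0]), (214, true, [2, 4, 3, 1, 3, 1, 3, 4, 0, 4, 0, 1, 0]), (188, true, [0, 4, 3, 4, 0, 4, 0, 1, 3, 1, 0, 4, 3, 1, 3, 4]), (200, false, [1, 0, 4, 3, 4, 0, 4, 3, 1, 0, 1, 0, 1]), (169, true, [0, 1, 0, 1, 2, 0, 4, 0, 1, 3, 4, 3]), (86, false, [0, 1, 0, 1, 2, 0, 1, 0, 1, 3, 1, 0, 1, 3, 4, 3]), (216, false, [2, 0, 1, 3, 1, 3, 4, 0, 1, 3, 1, 3, 1, 3]), (198, true, [4, 0, 1, 0, 1,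 3, 4, 0, 4, 0, 4, 3, 4]), (212, true, [0, 1, 2, 0, 1, 0, 4, 3, 1, 3, 1, 3, 1, 0, 4]), (89, false, [1, 0, 1, 3, 1, 3, 4, 0, 4, 3, 4, 3]), (189, true, [0, 2, 4, 0, 1, 0, 1, 0, 1, 0, 4, 0, 4, 3, 4, 0]), (129, false, [0, 1, 3, 1, 3, 1, 0, 4, 0, 4, 3, 1, 0, 1, 3]), (230, false, [3, 1, 0, 1, 3, 1, 3, 4, 0, 1, 3, 1, 0]), (235, false, [0, 1, 0, 1, 3, 1, 0, 4, 0, 4]), (169, false, [1, 2, 0, 1, 0, 1, 3, 1, 3, 1, 0, 1, 3]), (216, false, [0, 1, 3, 4, 0, 4, 0, 4, 3, 4, 0, 4, 3, 4, 0, 1, 0]), (157, true, [1, 0, 1, 0, 4, 0, 4, 3, 1, 0, 1, 0, 4, 0, 4, 0]), (63, true, [0, 4, 0, 1, 3, 1, 0, 1, 0, 4, 3, 1, 3, 4]), (202, false, [1, 3, 1, 3, 4, 3, 4, 0, 1, 3, 1, 3, 1, 0]), (63, false, [1, 0, 2, 4, 0, 4, 3, 4, 0, 4, 0, 4, 0, 1, 0]), (183, true,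 [0, 1, 0, 2, 4, 3, 4, 3, 1, 0, 1, 3, 1, 3, 1, 3, 4]), (79, true, [1, 0, 1, 3, 1, 3, 1, 3, 1, 0, 1, 0, 1, 0]), (221, true, [1, 0, 1, 2, 0, 1, 0, 1, 3, 1, 3, 1, 3, 4, 3, 4]), (150, true, [0, 1, 0, 4, 3, 4, 0, 4, 3, 1]), (109, false, [1, 0, 1, 3, 1, 3, 4, 0, 1, 0, 1, 0, 1, 3, 4, 3]), (245, true, [0, 1, 2, 0, 1, 3, 1, 3, 4, 3, 4, 3, 1, 0]), (224, false, [0, 2, 4, 0, 4, 3, 4, 3, 4, 0, 4, 0, 4]), (234, true, [3, 1, 0, 1, 0, 4, 3, 1, 3, 1, 0, 4, 3, 1]), (51, true, [1, 0, 4, 0, 1, 3, 1, 0, 1, 3, 1, 3, 4]), (214, true, [0, 2, 4, 3, 4, 3, 1, 0, 1, 3, 4, 3, 4, 0, 1, 0, 1])]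
def r158 : List (ℕ × Bool × List ℕ) := [(245, false, [0, 1, 0, 1, 3, 4, 0, 4, 0, 4, 0, 1, 3, 4, 3]), (261, true, [1, 3, 4, 3, 1, 0, 1, 3, 1, 0, 1, 3, 1]), (133, true, [2, 4, 3, 4, 0, 4, 3, 4, 0, 4, 0, 1, 3]), (21, true, [1, 2, 0, 4, 0, 1, 3, 1, 3, 1, 3, 1, 0, 1, 0]), (50, false, [1, 0, 4, 3, 1, 3, 1, 3, 1, 0, 1, 3]), (202, true, [3, 1, 3, 1, 3, 4, 3, 4, 3, 4, 0, 1, 3, 1]), (113, false, [0, 4, 0, 4, 3, 4, 0, 1, 3]), (72, true, [3, 4, 3, 1, 0, 1, 0, 4, 3, 4, 3, 1, 3]), (60, true, [0, 2, 4, 0, 1, 3, 1, 3, 1, 0, 4, 3, 4, 3, 1]), (187, true, [0, 4, 0, 1, 0, 1, 0, 1, 3, 4, 3, 1, 0, 1]), (236, true, [3, 4, 0, 1, 0, 1, 3, 1, 3, 1, 3, 1, 0, 4]), (151, true, [3, 4, 3, 4, 0, 1, 3, 1, 0, 1, 0, 1]), (191, true, [0, 4, 3, 4, 3, 1, 0,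 1, 3, 1, 3, 1, 0]), (252, true, [4, 3, 4, 3, 4, 0, 1, 0, 1, 3, 1, 3, 4]), (215, false, [1, 3, 4, 0, 4, 3, 4, 0, 4, 3, 4, 3, 4, 0]), (223, true, [1, 0, 1, 0, 1, 3, 4, 3, 1, 0, 1, 3]), (259, false, [1, 3, 1, 0, 1, 3, 1, 0, 4, 3, 4, 3, 4, 3, 4]), (222, false, [2, 0, 1, 3, 1, 0, 1, 3, 1, 3, 4, 3]), (223, false, [2, 4, 3, 4, 0, 4, 3, 1, 0, 1, 3, 4, 3, 4]), (244, true, [3, 4, 3, 1, 3, 1, 3, 1, 0, 1, 0, 1, 3, 4, 0]), (280, false, [1, 3, 1, 0, 1, 0, 1, 3, 4, 0, 4, 0, 1]), (144, false, [0, 1, 3, 1, 0, 4, 0, 4, 0, 1, 3]), (108, false, [0, 1, 0, 4, 0, 4, 0, 1, 3, 1, 3, 4, 3, 4, 0]), (215, true, [0, 2, 4, 0, 1, 0, 4, 3, 4, 3, 4, 0, 4]), (236, true, [1, 3, 4, 0, 1, 3, 1, 3, 4, 0, 4, 0, 1, 0]), (269, false, [0, 2, 4, 3, 1, 0, 4, 0, 4,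 0, 4, 3]), (235, false, [0, 1, 0, 1, 0, 4, 0, 4, 3, 4, 0, 4, 0, 1]), (158, false, [0, 1, 0, 1, 0, 4, 0, 4, 3, 4, 0, 1, 0]), (70, false, [3, 1, 0, 4, 3, 1, 0, 1, 0, 4, 0, 4, 0, 1]), (269, false, [1, 0, 4, 3, 4, 0, 1, 0, 1, 0, 4, 3, 1]), (191, true, [3, 4, 3, 1, 0, 1, 0, 1, 0, 1, 0, 4]), (222, true, [0, 4, 0, 1, 0, 1, 0, 1, 3, 4, 0, 1]), (51, true, [0, 4, 0, 1, 3, 1, 3, 4, 0, 1, 0, 1, 3, 4]), (214, true, [2, 4, 0, 1, 0, 4, 3, 4, 3, 4, 3, 1, 0, 4, 0, 4]), (200, true, [4, 3, 1, 0, 1, 3, 1, 3, 4, 3, 4, 3]), (190, true, [0, 1, 3, 4, 3, 4, 0, 1, 3, 1, 3, 1, 0, 1, 3]), (40, false, [3, 4, 0, 1, 3, 1, 3, 4, 0, 4, 0, 1]), (262, false, [4, 0, 4, 3, 4, 3, 1, 0, 4, 3, 4, 0, 4]), (139, false, [1, 0, 4, 0, 4, 3, 1, 3, 4, 0, 4, 3]), (89,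 true, [0, 1, 0, 2, 4, 0, 4, 0, 4, 3, 4, 3, 4, 3, 4, 0]), (174, true, [2, 4, 3, 4, 3, 4, 0, 1, 3, 4, 3, 1]), (94, false, [2, 0, 1, 0, 4, 3, 4, 3, 1, 0, 1, 0, 1]), (216, false, [1, 3, 1, 0, 4, 3, 1, 0, 1, 0, 4, 3, 1]), (259, false, [1, 0, 1, 2, 0, 4, 3, 1, 0, 1, 0, 4, 3]), (33, true, [3, 1, 0, 1, 0, 1, 3, 1, 0]), (140, false, [1, 0, 1, 3, 4, 3, 1, 0, 1, 0, 4, 0, 4, 0, 1]), (189, true, [4, 3, 1, 0, 1, 0, 1, 0, 1, 3, 4, 3, 4, 0, 1, 0]), (152, true, [3, 1, 0, 4, 3, 4, 0, 1, 3, 4, 3]), (152, false, [0, 1, 0, 4, 0, 4, 0, 4, 3, 4, 3, 4, 0, 4, 0, 1]), (226, true, [0, 2, 4, 3, 4, 3, 1, 0, 1, 3, 1, 3, 4, 0, 1]), (108, true, [0, 1, 3, 1, 3, 1, 0, 4, 3, 4, 3, 4, 0, 1, 0]), (234, false, [3, 4, 3, 4, 0, 1, 0, 1, 3, 1]), (195, true, [1,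 0, 2, 4, 3, 4, 3, 1, 0, 1, 3, 4, 0, 4, 0]), (102, true, [2, 4, 3, 1, 0, 1, 3, 1, 0, 4, 3, 1, 3]), (96, false, [0, 2, 4, 3, 4, 3, 4, 0, 4, 3, 1, 0, 4, 0]), (196, false, [2, 4, 0, 4, 3, 4, 3, 1, 0, 4, 0, 1]), (4, true, [2, 0, 1, 0, 4, 3, 1, 3, 1, 0, 1]), (246, true, [0, 1, 0, 1, 0, 1, 0, 2, 4, 3, 4, 0, 4, 0, 4]), (140, false, [0, 4, 3, 4, 0, 4, 3, 1, 0, 1, 0, 4, 3]), (187, true, [3, 1, 0, 4, 3, 4, 3, 4, 3, 4, 0, 4]), (96, false, [2, 4, 0, 4, 0, 4, 0, 4, 3, 1, 3, 1, 0, 4]), (127, true, [2, 4, 3, 4, 3, 4, 3, 4, 0, 4, 0, 4, 3, 1, 0]), (190, true, [1, 0, 1, 0, 4, 3, 4, 0, 4, 3, 4, 0, 1, 0, 1, 3]), (224, true, [4, 0, 1, 3, 4, 0, 1, 0, 1, 0, 4]), (68, true, [2, 4, 0, 4, 3, 1, 3, 4, 0, 4, 0, 4, 0, 1, 3, 1, 3]), (68, false, [1, 0,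 2, 4, 3, 4, 3, 1, 0, 1, 0, 1, 0, 4, 3, 4, 3]), (128, true, [1, 3, 1, 0, 4, 0, 4, 3, 4, 3, 4, 0, 1]), (70, true, [1, 0, 1, 2, 0, 1, 0, 1, 3, 1, 3, 1, 0, 4, 3, 4, 3, 1]), (263, true, [1, 2, 0, 4, 3, 4, 0, 4, 0, 1, 3, 1, 0, 4, 3]), (276, false, [2, 0, 4, 0, 4, 0, 4, 3, 4, 3, 1, 0, 1, 3, 4, 0]), (191, false, [3, 4, 0, 4, 0, 1, 3, 1, 0, 1, 0, 1]), (219, true, [0, 1, 2, 0, 1, 3, 1, 0, 4, 0, 4, 3, 4, 0, 1, 0]), (237, false, [2, 0, 4, 0, 1, 0, 1, 3, 1, 0, 1, 0]), (224, true, [0, 4, 0, 4, 0, 1, 3, 4, 3, 4, 0, 4, 0, 1]), (269, true, [0, 1, 0, 1, 2, 0, 4, 0, 4, 3, 1, 0, 4, 0, 4, 0, 4]), (221, false, [0, 2, 4, 0, 1, 3, 1, 3, 1, 0, 1, 3, 1, 0, 4]), (175, false, [3, 4, 0, 1, 0, 1, 3, 1, 0, 4, 3]), (151, true, [0, 1, 3, 1, 3, 4, 0, 4,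 3, 1, 0, 1, 0, 1, 3, 4]), (261, false, [3, 4, 3, 4, 0, 1, 0, 1, 3, 4, 3, 4, 0, 1, 0, 1]), (6, false, [3, 1, 3, 4, 0, 1, 3, 1, 3, 1, 0, 1, 3, 4, 3]), (197, false, [1, 0, 1, 3, 4, 0, 4, 3]), (191, false, [1, 0, 2, 4, 0, 4, 3, 1, 3, 1, 3, 4, 0, 4]), (189, false, [4, 0, 1, 0, 1, 3, 1, 3, 4, 0, 4, 3, 4, 3, 1]), (122, false, [0, 2, 4, 0, 1, 0, 1, 3, 4, 3, 4, 0, 1, 3, 4]), (232, true, [3, 1, 3, 4, 3, 4, 3, 4, 3, 1, 0, 4, 3, 4]), (225, true, [1, 0, 1, 0, 2, 4, 3, 4, 0, 4, 0, 4, 0, 4, 3, 4]), (276, true, [0, 1, 3, 4, 0, 1, 0, 1, 3, 4]), (4, false, [2, 4, 3, 1, 0, 1, 3, 1, 0, 4, 3, 4, 3, 4, 0]), (224, false, [1, 2, 0, 4, 3, 4, 3, 1, 0, 4, 0, 4, 3, 4, 3, 1]), (127, false, [0, 4, 0, 1, 0, 1, 3, 1, 0, 4, 0, 4, 0]), (98, false, [1, 0,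 4, 0, 4, 0, 1, 3, 1, 3, 4, 3, 4, 0]), (260, true, [0, 4, 3, 4, 0, 1, 3, 1, 3, 1, 3, 1, 0, 4, 0, 1]), (195, true, [1, 0, 2, 4, 3, 4, 3, 1, 0, 1, 3, 4, 0, 4, 0]), (10, true, [0, 4, 0, 4, 3, 4, 0, 4, 3, 1, 3, 4, 0, 1, 3]), (64, true, [0, 2, 4, 0, 4, 0, 1, 3, 4, 3, 4, 3, 1, 0, 4]), (165, true, [4, 0, 1, 0, 1, 0, 4, 3, 1, 3, 1, 3]), (221, false, [2, 0, 4, 3, 1, 3, 1, 3, 4, 3, 4, 0, 1, 0, 1, 3]), (68, true, [1, 0, 2, 4, 0, 4, 0, 1, 3, 4, 3, 4, 3, 4, 0, 1]), (255, false, [4, 3, 1, 3, 1, 0, 1, 0, 4, 3, 4, 0]), (119, false, [1, 3, 4, 0, 4, 3, 1, 3, 1, 3, 4, 0, 4, 3, 4]), (70, false, [0, 1, 2, 0, 1, 0, 1, 0, 4, 3, 4, 0, 4, 0, 1, 3, 4]), (79, false, [1, 0, 1, 3, 4, 0, 1, 0, 1, 0, 1, 0, 4, 3]), (72, false, [0, 1, 0, 1, 0, 1, 2, 0, 4,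 3, 1, 0, 1, 3, 1, 3]), (123, true, [2, 0, 1, 0, 1, 0, 4, 0, 4, 3, 4, 0, 4, 0, 1, 0]), (24, true, [3, 1, 3, 4, 0, 1, 0, 1, 0, 1, 3, 4, 0, 4]), (216, true, [2, 4, 0, 1, 0, 1, 3, 4, 3, 4, 3]), (19, true, [2, 0, 1, 0, 1, 3, 1, 3, 1, 0, 1, 0, 4, 3]), (157, false, [4, 3, 1, 0, 1, 3, 4]), (73, false, [3, 1, 3, 4, 0, 4, 0, 4, 0, 1, 3]), (270, true, [2, 4, 3, 4, 3, 4, 0, 4, 0, 4, 3, 4, 3, 1]), (172, true, [1, 2, 0, 1, 0, 1, 3, 1, 3, 1, 3, 4, 0, 4]), (209, true, [1, 0, 4, 3, 4, 0, 4, 0, 4, 3, 4, 0, 4])]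
def r159 : List (ℕ × Bool × List ℕ) := [(173, true, [0, 4, 0, 4, 3, 1, 3, 4]), (15, false, [1, 0, 1, 0, 1, 0, 1, 3, 1, 0, 4]), (144, false, [0, 4, 3, 4, 0, 1, 3, 1, 0, 4, 0]), (31, false, [1, 3, 1, 3, 1, 3, 1, 0, 4, 3, 4, 0, 1, 3]), (238, true, [1, 0, 1, 0, 1, 3, 1, 3, 1, 0, 1, 0, 1]), (31, false, [1, 0, 1, 2, 0, 4, 3, 4]), (31, false, [1, 0, 2, 4, 3, 1, 0, 1, 0]), (31, false, [3, 4, 3, 4, 0, 4, 0, 4, 3, 4]), (271, true, [1, 0, 1, 0, 1, 0, 2, 4, 0, 1, 0]), (271, true, [4, 0, 1, 3, 4, 3, 1, 0, 1, 3, 1, 3]), (144, false, [1, 0, 4, 3, 4, 0, 4, 0, 1, 3, 1, 0]), (238, true, [0, 4, 3, 1, 0, 1, 3, 4, 0, 4, 0, 4, 3, 4]), (173, true, [4, 3, 1, 0, 4, 3, 1]), (238, true, [0, 2, 4, 3, 1, 3, 1, 0]), (206, true, [1, 0, 1, 3, 4, 3, 4,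 0, 4, 0, 1, 3, 4, 3, 4, 3, 1]), (238, true, [1, 0, 1, 3, 4, 3, 1, 0, 1, 0, 1]), (206, true, [1, 3, 1, 0, 1, 0, 1, 0, 4, 3, 4, 0, 1, 0, 1]), (15, false, [0, 4, 3, 4, 0, 1, 0, 1, 0, 1, 3, 4, 0]), (31, false, [0, 1, 0, 1, 2, 0, 4, 0, 4, 0, 1, 3, 1, 0, 4, 3]), (144, false, [3, 4, 0, 1, 3, 4, 3, 1, 0, 1, 0, 4]), (144, false, [1, 3, 4, 0, 1, 3, 4, 3, 1]), (144, false, [3, 4, 3, 1, 3, 1, 3, 4, 3, 4, 0, 1, 0, 1, 3]), (144, false, [0, 1, 3, 1, 3, 1, 3, 4, 3, 4, 3, 4, 0]), (31, false, [0, 2, 4, 3, 1, 3, 1, 3, 4, 3, 4, 3, 1, 3]), (206, true, [1, 3, 4, 3, 4, 3, 1, 0, 4, 3, 4, 3, 1]), (238, true, [0, 4, 0, 4, 0, 1, 3, 1, 3, 4, 3]), (31, false, [1, 0, 4, 0, 4, 0, 4, 0, 1, 3, 4, 3, 1]), (173, true, [2]), (238, true, [0, 2, 4, 0, 1, 3,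 1, 0, 4, 3, 1, 3, 4]), (238, true, [1, 2, 0, 1, 3, 1, 3, 1, 0, 1, 3, 1, 0]), (206, true, [1, 0, 1, 3, 1, 0, 4, 3, 4, 3, 4, 0, 4, 0, 4, 0]), (206, true, [1, 0, 4, 0, 4, 0, 1, 3, 4, 3, 4, 3, 1]), (206, true, [4, 0, 1, 3, 1, 3, 1, 3, 4, 0, 4, 3, 4, 3]), (173, true, [1, 3, 4, 3, 1, 0, 1, 0]), (31, false, [0, 1, 0, 1, 2, 0, 4, 3, 4, 3]), (271, true, [0, 4, 3, 1, 3, 1, 0, 1, 3, 4, 0]), (144, false, [1, 0, 2, 4, 0, 1, 0]), (271, true, [0, 4, 0, 1, 0, 1, 0, 1, 0, 1, 3]), (15, false, [1, 0, 4, 3, 4, 0, 1, 3, 1, 0, 4, 0, 4]), (15, false, [3, 1, 3, 4, 3, 4, 0, 1, 0, 1]), (173, true, [4, 3, 1, 0, 1, 0, 4, 3, 1, 3, 1]), (144, false, [2, 4, 3, 1, 0, 1, 3, 4, 0, 4, 0, 4]), (271, true, [2, 4, 3, 1, 3, 1, 0, 1, 3, 1, 0, 4]), (271, true,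 [1, 2, 0, 1, 0, 1, 3, 1, 3, 4, 0, 1, 0]), (238, true, [3, 1, 3, 4, 0, 1, 0, 1, 3, 4]), (271, true, [1, 0, 4, 3, 1, 0, 1, 0, 4]), (271, true, [0, 1, 3, 1, 0, 4, 3, 4, 0, 1, 0]), (31, false, [2, 4, 3, 4, 3, 1, 0, 4, 0, 4, 3, 1]), (31, false, [0, 1, 0, 1, 3, 1, 3, 4, 0, 4, 3, 1, 0]), (31, false, [1, 0, 1, 3, 1, 3, 1, 0, 1, 0]), (15, false, [4, 0, 1, 3, 1, 3]), (31, false, [3, 4, 3, 1, 3, 1, 3, 1, 0, 1, 3, 4, 3, 1]), (238, true, [2, 0, 1, 0, 4, 3, 1, 0, 1, 0, 1, 0]), (173, true, [0, 1, 3, 1, 0, 4, 0, 4, 0, 4, 3, 1, 0, 4]), (173, true, [4, 3, 1, 0, 1, 0, 1, 3, 1, 3, 1]), (144, false, [1, 0, 1, 3, 1, 3, 4]), (206, true, [4, 3, 1, 0, 1, 0, 1, 0, 1, 3, 4, 3]), (144, false, [1, 2, 0, 4, 0, 1, 3, 1, 3, 1, 3, 4]), (15, false, [1, 3,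 4, 3, 4, 0, 1, 3, 1, 3]), (144, false, [4, 0, 1, 3, 1, 3, 1, 3, 1, 0, 1, 3]), (31, false, [4, 0, 4, 0, 1, 3, 1, 3, 1]), (206, true, [1, 0, 1, 3, 4, 3, 1, 0, 1, 3, 4, 3, 4]), (31, false, [1, 0, 4, 0, 1, 3, 4, 0, 4, 0, 1, 3, 1, 0]), (271, true, [1, 0, 1, 3, 4, 3, 4, 0, 1, 3, 1, 0, 4, 0]), (271, true, [4, 0, 4, 0, 1, 3, 1, 0, 4]), (173, true, [4, 3, 4, 3, 1, 0, 4, 0, 4, 3, 1]), (271, true, [1, 0, 4, 0, 4, 3, 1, 0, 4, 0, 1]), (15, false, [0, 1, 3, 4, 0, 1, 0, 1, 0, 1, 0, 1]), (271, true, [1, 0, 1, 0, 1, 3, 1, 0, 4, 0, 4, 0, 1, 0]), (144, false, [0, 4, 3, 1, 0, 1, 0, 4, 3, 4, 0, 1, 0]), (15, false, [3, 1, 3, 1, 0, 1, 0, 1, 3, 4, 3, 4, 0, 1]), (31, false, [1, 0, 1, 0, 4, 0, 4, 3, 1, 0, 1, 3, 4, 3, 4]), (206, true, [1, 0, 1, 0,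 1, 3, 4, 3, 4]), (206, true, [1, 3, 1, 3, 1, 0, 1, 3, 1, 0, 1, 0]), (144, false, [4, 0, 4, 0, 1, 3, 1, 3, 1, 3, 1, 0]), (31, false, []), (15, false, [1, 3, 1, 3, 4, 0, 1, 0, 1, 0, 1, 3, 4, 0]), (31, false, [2, 4, 3, 1, 0, 1, 0, 4, 3, 1, 3, 1]), (31, false, [0, 1, 0, 1, 3, 4, 0, 1, 0, 1, 3, 4, 0, 1, 3]), (271, true, [1, 0, 1, 0, 1, 0, 1, 3, 1, 3, 4]), (144, false, [3, 1, 3, 1, 0, 1, 0, 4]), (271, true, [0, 1, 0, 1, 0, 1, 3, 1, 0, 4, 0]), (144, false, [0, 4, 0, 4, 3, 1, 0, 1, 3, 4, 3]), (271, true, [0, 2, 4, 0, 1, 3, 4, 0, 4, 3, 1, 3]), (238, true, [2, 4, 0, 4, 0, 1, 3, 1, 0, 1]), (173, true, [1, 3, 1, 0, 4, 3, 4]), (31, false, [2, 4, 3, 1, 0, 4, 3, 1]), (238, true, [1, 0, 4, 0, 4, 0, 4, 3, 4, 3, 4, 0, 4]), (31, false, [2,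 4, 3, 1, 0, 1, 0, 1, 3, 1, 3, 1]), (15, false, [4, 3, 4, 0, 4, 3, 4, 0, 4, 0]), (173, true, [2, 4, 0, 4, 0, 1, 3, 1, 3, 1]), (31, false, [2, 4, 3, 4, 3, 4, 0, 4, 0, 4, 3, 1]), (206, true, [1, 0, 4, 3, 4, 3, 1, 0, 1, 0, 4, 3, 1]), (238, true, [1, 2, 0, 4, 0, 4, 3, 1, 0, 4, 0]), (238, true, [0, 1, 0, 4, 3, 1, 3, 4, 0, 4, 0, 1, 0]), (206, true, [1, 3, 1, 0, 1, 3, 4, 3, 1, 0, 1, 0, 4, 3, 1]), (238, true, [1, 3, 1, 0, 1, 0, 4, 0, 4, 0]), (206, true, [1, 0, 1, 0, 1, 3, 1, 3, 1, 0, 4, 3, 4, 0, 4, 3]), (271, true, [0, 1, 2, 0, 1, 3, 4, 3, 4, 0, 1, 3, 4, 3, 1]), (144, false, [1, 2, 0, 4, 0, 4, 0, 4, 0, 4, 0, 1, 0]), (31, false, [2, 0, 4, 0, 4, 3, 1, 3, 4]), (31, false, [2, 0, 4, 3, 1, 0, 1, 3, 1, 3, 4, 3]), (173, true, [2, 4, 0,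 4, 0, 4, 3, 1, 3, 1]), (173, true, [1, 2, 0, 1, 3, 1, 3, 1, 0, 1, 0]), (206, true, [1, 3, 1, 3, 1, 3, 4, 3, 4]), (238, true, [0, 4, 3, 1, 0, 4, 0]), (15, false, [0, 1, 0, 1, 0, 1, 3, 1, 3]), (31, false, [4, 0, 4, 0, 4, 3, 1, 3, 1]), (206, true, [1, 3, 4, 0, 4, 3, 4, 3, 4, 0, 4, 0, 4, 0]), (206, true, [1, 0, 4, 3, 1, 3, 1, 0, 4, 3, 1, 0, 1, 0, 1]), (238, true, [3, 1, 0, 1, 0, 1, 0, 1, 3, 4, 0, 4]), (15, false, [0, 1, 0, 1, 3, 4, 0, 4, 3, 4, 0, 4, 0])]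
def r160 : List (ℕ × Bool × List ℕ) := [(13, false, [3, 4, 0, 1, 3, 4, 0, 4]), (160, true, []), (265, false, [0, 1, 0, 1, 0, 1, 0, 1, 0, 1, 0]), (37, false, [3, 4, 0, 1, 3, 1, 0, 1, 0, 4, 0]), (265, false, [4, 3, 1, 3, 1, 3, 1, 3, 4, 3, 4, 3, 1]), (37, false, [0, 1, 0, 1, 3, 4, 0, 4, 0]), (37, false, [4, 3, 4, 3, 4, 3, 4, 0, 1, 0, 1, 3, 1]), (37, false, [1, 0, 4, 3, 4, 3, 4, 3, 4, 0, 1, 3]), (131, true, [0, 1, 3, 1, 0, 1, 0]), (131, true, [1, 3, 4, 0, 4, 3, 4, 0, 4, 3, 1, 3]), (265, false, [4, 0, 4, 0, 4, 3, 4, 0, 4, 3, 4, 3]), (265, false, [1, 3, 4, 0, 4, 0, 4, 3, 4, 3, 4]), (13, false, [4, 0, 4, 3, 4, 3, 4, 0, 1]), (265, false, [0, 2, 4, 3, 1, 0, 4, 3, 4, 0, 1]), (100, true, [4, 3, 4, 0, 4, 0, 4, 3, 1, 3]), (265, false,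 [0, 1, 0, 1, 0, 1, 0, 1, 0, 1, 0]), (100, true, [0, 1, 2, 0, 1, 3, 4, 0, 1, 0, 1, 0, 1, 3]), (160, true, []), (37, false, [4, 0, 1, 3, 4, 0, 1]), (265, false, [4, 3, 1, 3, 1, 3, 1, 3, 4, 3, 4, 3, 1]), (265, false, [0, 1, 3, 4, 0, 1, 3, 1, 0, 4, 0, 4, 3]), (265, false, [0, 1, 3, 1, 3, 1, 0, 1, 3, 4]), (265, false, [3, 1, 3, 4, 0, 1, 3, 1, 3, 4, 0]), (37, false, [1, 0, 1, 0, 4, 3, 4, 0, 4, 3, 1, 0, 1]), (100, true, [0, 1, 0, 4, 0, 4, 3, 1, 3, 4, 0]), (265, false, [0, 4, 0, 4, 3, 4, 0, 4, 3, 4, 0, 1]), (37, false, [4, 0, 4, 0, 4, 0, 4, 3, 1, 3, 4, 0, 4, 3, 1]), (13, false, [4, 0, 4, 0, 4, 0, 1, 3, 4, 3, 4]), (265, false, [1, 2, 0, 4, 3, 4, 3, 4, 3, 4, 3, 4]), (265, false, [3, 4, 3, 4, 3, 4, 0, 1, 3, 4, 3]), (100, true, [0,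 1, 0, 1, 0, 1, 2, 0, 4, 3, 4, 0]), (100, true, [0, 1, 0, 4, 3, 4, 3, 4, 3, 1, 0, 4, 3]), (100, true, [0, 1, 3, 1, 3, 4, 0, 1, 0, 1, 0, 1, 3]), (13, false, [1, 0, 4, 3, 4, 0, 1, 3, 1, 0, 4, 0, 1]), (37, false, [3, 1, 0, 4, 3, 4, 0, 1, 3, 4, 0]), (131, true, [3, 4, 3, 4]), (265, false, [2, 0, 1, 0, 1, 0, 4, 0, 4, 3, 4, 0, 4, 0, 4]), (131, true, [4, 0, 4, 3, 1, 0, 1, 3, 4, 3, 4]), (160, true, []), (160, true, []), (13, false, [1, 3, 4, 0, 4, 0, 1, 3, 4, 0, 4]), (265, false, [0, 1, 0, 1, 0, 1, 2, 0, 1, 3, 4]), (131, true, [0, 4, 0, 4, 3, 1, 3, 1, 0, 4, 3, 4, 3]), (131, true, [4, 3, 1, 0, 1, 3, 4, 0, 4, 0, 1, 3, 1, 3]), (265, false, [0, 1, 3, 1, 3, 1, 0, 1, 3, 4]), (131, true, [4, 3, 4, 0, 1, 3, 1, 3, 4, 3, 4]), (131, true, [1,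 0, 4, 3, 4, 3, 1, 0, 1, 3, 4, 0]), (37, false, [0, 1, 0, 4, 3, 1, 3, 1, 3, 1, 3]), (37, false, [0, 1, 3, 4, 0, 1, 3, 1, 3, 1, 0, 4, 3, 4, 3, 4]), (37, false, [3, 1, 3, 1, 0, 1, 0, 1, 3, 1, 0]), (160, true, []), (37, false, [4, 0, 1, 3, 4, 3, 4, 0, 4, 3, 1, 3, 1]), (265, false, [0, 1, 0, 1, 0, 1, 2, 0, 1, 3, 4]), (13, false, [3, 4, 0, 1, 0, 1, 0, 4, 0, 4, 0]), (13, false, [3, 1, 0, 4, 0, 4, 3, 4, 3, 4, 0, 4]), (265, false, [0, 4, 3, 1, 0, 4, 3, 4, 0, 1]), (100, true, [4, 0, 1, 0, 1, 0, 4, 3, 1, 3, 4]), (265, false, [0, 2, 4, 3, 1, 0, 4, 3, 4, 0, 1]), (160, true, []), (265, false, [2, 4, 3, 4, 3, 4, 0, 1, 3, 4, 3]), (37, false, [1, 0, 1, 0, 1, 3, 4, 3, 4, 3]), (100, true, [1, 3, 4, 0, 4, 0, 4, 0, 4, 0, 1]), (37, false, [1,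 3, 1, 3, 1, 3, 4, 3, 4, 3]), (131, true, [2, 0, 4, 0, 1, 3, 1, 0, 4, 3, 1]), (131, true, [0, 4, 0, 4, 0, 4, 0, 4, 3, 1, 3, 4]), (13, false, [0, 1, 0, 1, 3, 4, 0, 4, 3, 4, 3, 4, 3]), (131, true, [0, 1, 0, 1, 3, 1, 3, 1, 3, 4, 0, 4, 3]), (160, true, []), (131, true, [2, 0, 1, 3, 1, 0, 1, 0]), (265, false, [4, 0, 1, 3, 1, 0, 4, 0, 4, 0]), (160, true, []), (37, false, [0, 4, 0, 4, 3, 4, 0, 4, 0, 4, 3, 4, 0, 1, 3, 1]), (100, true, [0, 4, 0, 4, 3, 4, 0, 1, 0, 1, 0, 4, 3, 4]), (100, true, [2, 0, 4, 3, 1, 3, 1, 0, 4, 3]), (265, false, [0, 4, 0, 4, 3, 4, 0, 4, 3, 4, 0, 1]), (37, false, [1, 0, 1, 3, 1, 3, 1, 3, 4, 3, 4, 3, 4, 0, 4, 0]), (160, true, []), (37, false, [0, 1, 3, 1, 3, 1, 0, 4, 3, 1, 3, 4, 0, 4, 0]), (37, false, [1, 0,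 1, 3, 4, 0, 1, 0, 1, 3, 4, 0, 1]), (131, true, [0, 2, 4, 3, 4]), (265, false, [1, 2, 0, 4, 3, 4, 3, 4, 3, 4, 3, 4]), (131, true, [0, 2, 4, 3, 1, 0, 4, 0, 4, 3, 1, 3, 1]), (265, false, [3, 4, 3, 4, 3, 4, 0, 1, 3, 4, 3]), (131, true, [3, 4, 3, 1, 0, 4, 0, 4, 3, 1, 3, 1]), (265, false, [0, 1, 3, 4, 0, 1, 3, 1, 0, 4, 0, 4, 3]), (13, false, [0, 4, 3, 1, 0, 1, 0, 1]), (37, false, [3, 1, 0, 1, 3, 4, 3, 4, 3, 4, 0, 4, 3, 4, 0, 4]), (265, false, [4, 0, 1, 3, 1, 0, 4, 0, 4, 0]), (37, false, [4, 3, 1, 3, 1, 3, 4, 0, 4, 0, 1]), (160, true, []), (13, false, [3, 4, 3, 4, 0, 4, 3, 1, 0, 4, 0]), (37, false, [3, 4, 3, 4, 0, 1, 0, 4]), (100, true, [1, 2, 0, 4, 3, 4, 0, 4, 0, 4, 0, 1]), (265, false, [2, 0, 1, 0, 1, 0, 4, 0, 4, 3, 4, 0, 4,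 0, 4]), (265, false, [2, 4, 3, 4, 3, 4, 0, 1, 3, 4, 3]), (100, true, [0, 4, 3, 1, 0, 4, 3, 4, 0]), (265, false, [4, 0, 4, 0, 4, 3, 4, 0, 4, 3, 4, 3]), (100, true, [3, 4, 3, 4, 0, 1, 3, 4, 3, 4, 0]), (131, true, [3, 4, 0, 1, 3, 4, 3, 1, 0, 1, 3, 1]), (265, false, [1, 3, 4, 0, 4, 0, 4, 3, 4, 3, 4]), (37, false, [4, 3, 1, 3, 4, 0, 4, 3, 4, 3, 4, 3, 1, 3]), (37, false, [1, 0, 1, 0, 1, 0, 1, 3, 4, 0, 4, 3, 1, 0]), (13, false, [0, 1, 0, 1, 3, 1, 0, 4, 3, 1, 0, 1]), (13, false, [0, 4, 3, 1, 3, 4, 0, 1, 0, 1, 3, 1]), (100, true, [0, 2, 4, 3, 4, 0, 4, 3, 1, 0, 4]), (265, false, [3, 1, 3, 4, 0, 1, 3, 1, 3, 4, 0]), (160, true, []), (37, false, [0, 4, 3, 4, 0, 4, 0, 4, 3, 4, 3]), (100, true, [2, 0, 4, 3, 4, 3, 1, 0, 4, 3]), (100, true,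 [2, 4, 3, 1, 3, 4, 0]), (265, false, [0, 4, 3, 1, 0, 4, 3, 4, 0, 1]), (160, true, [])]
def r161 : List (ℕ × Bool × List ℕ) := [(27, true, [1, 0, 1, 0, 1, 2, 0, 1, 3, 1, 0, 1, 3]), (22, true, [2, 4, 0, 4, 0, 4, 0, 4, 3, 1, 3, 1, 0, 1]), (198, false, [4, 0, 4, 3, 4, 0, 1, 3, 1, 3, 4, 3]), (27, true, [1, 0, 1, 0, 1, 3, 1, 0, 1, 3, 1, 0]), (198, false, [4, 0, 1, 0, 4, 3, 1, 3, 1, 0, 1, 0, 1, 3, 4, 3]), (46, true, [1, 0, 1, 2, 0, 1, 0, 4, 0, 4, 0, 1, 3, 4, 3, 1]), (25, true, [2, 4, 0, 1, 0, 1, 3, 4, 0, 4, 0, 1]), (22, true, [4, 3, 4, 3, 4, 3, 4, 0, 1, 0, 1, 3, 1]), (167, false, [3, 4, 3, 4, 3, 1, 0, 1, 3, 4, 0, 4, 3]), (198, false, [2, 4, 3, 4, 0, 4, 3, 1, 0, 1, 0, 4, 0]), (118, true, [4, 0, 1, 3, 1, 3, 1, 0, 1, 0, 1, 3, 1, 0]),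 (198, false, [0, 1, 0, 4, 3, 4, 0, 4, 3, 1, 0, 1, 0, 1, 0, 1]), (46, true, [1, 0, 1, 3, 1, 3, 4, 3, 4, 3, 1, 0, 4, 0, 1]), (233, true, [0, 4, 3, 1, 3, 4, 0, 4, 3, 1, 0, 1, 0, 1]), (9, false, [3, 1, 0, 1, 0, 4, 3, 4, 3, 4, 3, 1, 0]), (273, true, [3, 4, 0, 1, 3, 1, 0, 4, 3, 4, 3, 4, 3, 4, 0, 1]), (198, false, [1, 3, 4, 3, 4, 3, 1, 0, 4, 0, 4, 0, 1]), (25, true, [4, 3, 1, 3, 1, 0, 4, 3, 4, 3, 1]), (46, true, [2, 4, 3, 4, 3, 4, 0, 4, 0, 4, 3, 1]), (167, false, [2, 0, 4, 0, 4, 0, 1, 3, 1, 0, 4, 3, 4, 0]), (198, false, [3, 4, 0, 4, 0, 1, 3, 4, 0, 4, 3, 1, 0, 4]), (16, false, [1, 2, 0, 1, 0, 1, 3, 1, 3, 1, 0, 4, 3]), (16, false, [1, 0, 4, 3, 4, 0, 4, 0, 1]), (32, true, [4, 3, 4, 0]), (233, true, [0, 2, 4, 0, 1, 0, 4, 3, 4, 0, 1,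 3, 1, 3, 1]), (9, false, [3, 1, 3, 1, 3, 4, 0, 4, 0, 4, 0, 1, 3]), (32, true, [3, 1]), (34, false, [0, 1, 0, 1, 0, 1, 0, 1, 0, 1, 0, 1, 0, 1]), (198, false, [0, 4, 3, 4, 3, 4, 3, 4, 0, 1, 0, 1, 3, 1, 3]), (273, true, [0, 1, 3, 1, 3, 4, 0, 4, 0, 4, 0, 1]), (9, false, [3, 4, 3, 4, 0, 1, 0, 1, 3, 4, 3, 1, 0]), (198, false, [1, 2, 0, 4, 0, 4, 0, 1, 3, 4, 3, 4, 3, 1]), (233, true, [4, 0, 1, 0, 1, 0, 4, 3, 1, 3, 1, 0]), (46, true, [4, 0, 4, 0, 4, 3, 4, 3, 4, 0, 1]), (22, true, [1, 3, 1, 0, 1, 0, 1, 3, 1, 3]), (167, false, [3, 4, 0, 4, 3, 1, 3, 4, 0, 4, 0, 1, 3, 4]), (16, false, [1, 3, 1, 3, 1, 0, 1, 0, 1, 3, 4, 0]), (198, false, [1, 3, 4, 3, 4, 0, 4, 3, 4, 0, 4, 3, 4, 3, 1]), (22, true, [2, 4, 3, 1, 0, 4, 0, 4, 3, 4, 0, 1, 0,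 1]), (46, true, [0, 1, 0, 4, 3, 1, 0, 1, 3, 4]), (18, false, [0, 1, 0, 2, 4, 0, 1, 0, 1, 0, 1, 0]), (118, true, [4, 0, 1, 0, 4, 3, 4, 0, 4, 0, 4, 3, 4, 3]), (16, false, [1, 2, 0, 4, 0, 4, 3]), (16, false, [1, 3, 4, 3, 4, 0]), (9, false, [1, 0, 1, 3, 1, 3, 1, 0, 1, 0, 4, 0, 4]), (16, false, [4, 0, 1, 3, 1, 3, 1, 0, 4, 3]), (118, true, [0, 4, 3, 1, 3, 4, 0, 4, 3, 4, 3, 4, 0, 4, 0]), (173, true, [1, 0, 1, 0, 4, 3, 4, 0, 4, 3, 1, 0, 1]), (15, false, [4, 0, 4, 0, 4, 0, 1, 3, 4, 3, 1]), (46, true, [0, 1, 0, 2, 4, 0, 1, 3, 1, 0, 4]), (25, true, [3, 1, 0, 4, 3, 4, 3, 4, 3, 4, 0, 1, 0]), (25, true, [2, 0, 1, 3, 4, 0, 4, 0, 4, 0, 4, 3, 1, 3]), (233, true, [2, 4, 3, 1, 3, 1, 3, 4, 0, 1, 0, 1, 3]), (34, false, [0, 1, 0, 1, 0, 4, 3,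 4, 0, 1, 0, 1, 0, 1, 3, 1, 3]), (22, true, [1, 2, 0, 1, 3, 1, 3, 1, 0, 1, 0]), (167, false, [0, 1, 3, 4, 3, 4, 0, 4, 3, 4, 0, 4, 0, 1]), (198, false, [4, 0, 1, 3, 1, 3, 1, 3, 1, 0, 4, 0]), (118, true, [0, 4, 3, 4, 3, 4, 3, 1, 0, 1, 0]), (18, false, [0, 1, 0, 4, 3, 1, 3, 1, 3, 1, 3]), (118, true, [0, 4, 0, 4, 0, 1, 3, 1, 0, 1, 0, 4, 0, 4]), (22, true, [4, 0, 1, 3, 4, 3, 4, 0, 4, 3, 1, 3, 1]), (273, true, [1, 0, 1, 3, 1, 3, 1, 0]), (173, true, [3, 1, 0, 1, 3, 4, 0, 1, 0, 1, 3, 4, 0, 1, 0]), (118, true, [4, 3, 4, 3, 1, 0, 1, 3, 1, 3, 4, 3, 4]), (118, true, [2, 4, 3, 4, 3, 4, 3, 1, 0, 1, 0]), (18, false, [1, 2, 0, 1, 0, 1, 0, 4, 0, 4, 0]), (118, true, [4, 0, 4, 0, 4, 0, 1, 3, 1, 3]), (18, false, [1, 3, 1, 3, 1, 3, 4, 3, 4, 3]),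 (198, false, [1, 2, 0, 1, 0, 4, 0, 4, 0, 4, 3, 1, 3, 1, 0, 4]), (198, false, [1, 3, 1, 3, 4, 3, 4, 3, 4, 0, 1, 0, 1, 3, 4]), (27, true, [2, 0, 1, 3, 1, 3, 1, 0, 4, 0, 4, 3]), (27, true, [3, 1, 0, 1, 0, 1, 3, 4, 3, 4, 0]), (198, false, [3, 1, 3, 1, 3, 1, 0, 4, 0, 4]), (273, true, [4, 3, 1, 0, 4, 3, 4, 3, 1, 0, 1, 0, 1, 3]), (16, false, [4, 3, 1, 3, 4, 0, 4, 0, 4, 3, 4, 0, 1, 3, 1]), (161, true, []), (34, false, [0, 1, 0, 1, 3, 4, 0, 4, 3, 4, 0, 4, 3, 1, 3, 4]), (15, false, [1, 0, 1, 3, 4, 0, 4, 3, 4, 0, 4, 3, 1, 3]), (161, true, []), (16, false, [3, 4, 3, 1, 0, 4, 3, 4, 0, 4, 0, 4, 0, 4]), (167, false, [0, 1, 2, 0, 4, 0, 4, 3, 4, 3, 4, 0, 4, 0, 1]), (198, false, [2, 4, 0, 4, 3]), (198, false, [4, 3, 4, 0]), (167, false, [0,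 1, 3, 4, 3, 4, 0, 4, 0, 4, 3, 4, 3, 1]), (273, true, [1, 0, 1, 0, 4, 3, 1, 3, 1, 0, 1, 3]), (22, true, [2, 4, 0, 4, 0, 4, 3, 1, 3, 1]), (22, true, [4, 3, 4, 3, 4, 0, 1, 0, 1]), (273, true, [1, 0, 1, 0, 2, 4, 0, 1, 0, 1, 3, 1, 0]), (27, true, [0, 1, 3, 1, 3, 4, 0, 4, 0, 4, 3]), (27, true, [0, 1, 2, 0, 1, 0, 4, 3, 4, 3, 4, 0]), (27, true, [2, 4, 3, 4, 0, 4, 0, 4, 0, 4, 3, 1, 0, 1]), (27, true, [4, 0, 4, 3, 4, 3, 4, 3, 4, 0, 1, 3, 1]), (9, false, [0, 1, 0, 4, 0, 4, 0, 4, 3, 4, 3, 4, 3, 1, 3]), (9, false, [1, 3, 4, 3, 4, 3, 4, 0, 4, 0, 4, 0, 1, 0]), (233, true, [2, 0, 1, 3, 1, 0, 1, 3, 1, 3, 4, 3, 4, 3]), (233, true, [3, 1, 0, 1, 3, 1, 0, 1, 0, 4, 0, 4, 0]), (233, true, [1, 0, 1, 0, 4, 0, 4, 3, 4, 3, 4, 0]), (233, true, [1,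 0, 1, 0, 2, 4, 3, 4, 0, 4, 0, 4, 3]), (167, false, [0, 1, 0, 1, 3, 1, 0, 4, 3]), (167, false, [0, 1, 0, 1, 2, 0, 1, 3, 4, 0]), (25, true, [0, 2, 4, 0, 1, 3, 1, 0, 1, 0, 1, 3, 4, 0, 1, 0, 4]), (25, true, [2, 4, 0, 1, 0, 1, 0, 4, 3, 4, 3, 1]), (25, true, [4, 3, 1, 3, 1, 3, 4, 0, 4, 0, 1]), (25, true, [0, 4, 0, 4, 3, 4, 0, 4, 0, 4, 3, 4, 0, 1, 3, 1]), (9, false, [3, 1, 3, 4, 0, 4, 0, 1, 3]), (9, false, [3, 1, 0, 4, 3, 4, 3, 1, 0]), (46, true, [1, 3, 4, 0, 4, 3, 1, 0, 4, 0]), (46, true, [1, 2, 0, 4, 3, 4, 0, 1, 3, 4, 3]), (273, true, [0, 1, 2, 0, 4, 3, 4, 3, 1, 3]), (273, true, [0, 1, 3, 4, 0, 4, 0, 1, 0]), (198, false, [1, 3, 4, 3, 4, 0, 4, 3, 1]), (34, false, [1, 0, 4, 0, 4, 0, 4, 0, 1, 3, 4, 3, 1])]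
def r162 : List (ℕ × Bool × List ℕ) := [(193, false, [0, 1, 0, 1, 2, 0, 1, 3, 4, 3, 4, 0, 4, 3, 1, 3, 1]), (193, false, [2, 0, 4, 0, 1, 0, 1, 3, 4, 0, 4, 0, 4]), (223, true, [4, 3, 4, 3, 4, 3, 4, 0, 1, 0, 1, 3, 4]), (193, false, [0, 1, 0, 1, 3, 1, 0, 4, 0, 4, 3, 4, 0, 1, 0, 1]), (10, true, [1, 3, 1, 3, 4, 3, 4, 3, 4, 0]), (193, false, [1, 2, 0, 4, 0, 4, 0, 4, 3, 4, 0]), (102, true, [3, 4, 3, 4, 0, 4, 3, 1, 3, 1, 0, 1]), (193, false, [3, 4, 3, 1, 3, 1, 0, 4, 3, 4, 3, 4]), (1, false, [0, 2, 4, 0, 4, 0, 1, 3, 4, 3, 4, 0, 4]), (223, true, [2, 4, 0, 4, 0, 4, 0, 4, 3, 1, 3, 1, 0, 4]), (165, true, [4, 0, 4, 0, 1, 3, 1, 3, 4, 0, 1, 0, 1]), (10, true, [1, 2, 0, 1, 0, 4, 0, 4, 0, 4, 3]), (193, false, [1, 3, 4, 3, 4, 3, 4, 0, 4, 3]),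 (80, false, [1, 0, 4, 3, 4, 3, 1, 0, 1, 0, 4, 3, 4, 3]), (113, false, [0, 2, 4, 3, 1, 0, 1, 3, 4, 0, 4, 0, 1, 3, 1, 3]), (165, true, [4, 0, 1, 3, 1, 3, 4, 0, 4, 0, 1, 3, 1, 3, 4]), (10, true, [1, 3, 1, 3, 4, 3, 4, 3, 4, 0]), (102, true, [2, 0, 4, 0, 4, 3, 4, 0, 1, 0, 1, 3, 1]), (120, true, [1, 0, 4, 3, 4, 0, 1, 0, 1, 0, 4, 3, 4, 0, 1]), (1, true, [0, 4, 0, 1, 3, 1, 3, 4, 0, 1, 3, 4]), (223, false, [1, 3, 1, 3, 4, 3, 4, 0, 1, 3, 1, 0, 4, 0]), (165, false, [0, 1, 3, 4, 3, 1, 0, 4, 0, 4, 0, 4]), (251, true, [0, 1, 3, 4, 3, 1, 0, 4, 0, 4, 3, 1, 3, 4, 0]), (113, true, [0, 4, 0, 1, 3, 1, 3, 4, 3, 4, 0, 4, 0, 4, 0, 4]), (80, false, [1, 0, 2, 4, 0, 4, 0, 1, 3, 1, 3, 4, 0, 4, 0]), (113, false, [0, 4, 0, 1, 3, 1, 0, 4, 3, 4, 3, 1,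 0, 1, 0]), (113, false, [0, 1, 3, 1, 0, 1, 3, 4, 3, 1, 0, 4, 3, 4]), (80, false, [0, 1, 0, 4, 0, 4, 3, 1, 3, 1, 0, 4, 0, 4]), (120, false, [1, 0, 4, 3, 1, 3, 1, 3, 4, 3, 4, 0, 1, 0]), (166, false, [3, 1, 3, 4, 0, 1, 3, 1, 3, 1, 0, 4, 3, 4, 3, 4]), (275, true, [0, 1, 2, 0, 4, 3, 1, 3, 1, 0, 1, 3, 4, 3, 1]), (10, true, [1, 2, 0, 1, 0, 4, 0, 4, 0, 4, 3]), (113, true, [3, 1, 3, 1, 3, 4, 3, 4, 3, 4, 0, 4, 3]), (120, true, [0, 1, 3, 4, 3, 4, 0, 1, 3, 1, 3, 1, 0, 1, 3, 1]), (10, false, [2, 0, 4, 0, 1, 3, 1, 0, 4, 0, 4, 3, 4, 3]), (1, false, [0, 2, 4, 0, 4, 0, 1, 3, 4, 3, 4, 3, 4]), (165, false, [1, 3, 4, 0, 1, 3, 1, 3, 4, 0, 4, 3]), (223, false, [1, 2, 0, 1, 0, 4, 0, 4, 3, 1, 0, 1, 3, 4, 3]), (120, false, [1, 0, 1, 3, 4, 0, 4,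 0, 1, 3, 1, 0, 4, 3]), (166, true, [1, 2, 0, 1, 3, 1, 3, 4, 0, 4, 3, 1, 3]), (81, true, [3, 4, 0, 4, 0, 4, 0, 4, 3, 4, 3, 4, 0, 4, 3, 4]), (223, false, [0, 1, 3, 1, 3, 1, 0, 1, 3, 1, 3, 4]), (223, true, [2, 0, 4, 0, 1, 3, 4, 3, 4, 0, 4, 3]), (223, true, [3, 4, 3, 1, 0, 4, 0, 4, 3, 4, 0]), (275, true, [0, 1, 3, 4, 0, 1, 0, 1, 3, 1, 0, 4, 0, 1]), (279, false, [1, 0, 4, 0, 4, 3, 4, 0]), (251, false, [1, 0, 4, 3, 1, 3, 4, 0, 1]), (81, false, [4, 0, 4, 3, 4, 3, 4, 0, 1, 3, 1, 0, 4, 0]), (146, false, [0, 4, 3, 4, 0, 1, 0, 1, 3, 4, 3, 4, 0, 1, 0, 1]), (166, true, [1, 3, 1, 0, 1, 0, 4, 3, 4, 0, 1, 0]), (193, false, [1, 0, 4, 3, 1, 3, 4, 0, 4, 0, 4]), (193, false, [1, 0, 2, 4, 0, 1, 0, 4, 3, 4, 3, 4]), (113, true, [2, 0, 1, 0, 1,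 0, 4, 0, 4, 0, 4, 3, 4, 0]), (275, true, [1, 3, 1, 0, 1, 3, 4, 3, 1, 0, 1, 3]), (10, false, [3, 4, 3, 1, 0, 1, 3, 4, 3, 4, 0, 4, 0]), (1, true, [0, 4, 0, 1, 3, 1, 3, 4, 0, 1, 0, 4]), (102, true, [0, 4, 0, 1, 0, 1, 0, 4, 0, 4, 0, 4, 3]), (279, true, [3, 1, 3, 1, 3, 1, 0, 4, 0, 1]), (81, true, [2, 0, 4, 3, 4, 3, 4, 3, 4, 0, 4, 0, 4, 3, 4, 0, 4]), (223, false, [0, 1, 2, 0, 1, 0, 1, 3, 1, 0, 1, 0, 4]), (120, false, [4, 3, 1, 0, 1, 3, 1, 0, 4, 3, 1, 3, 4]), (166, true, [1, 3, 1, 0, 4, 0, 4, 3, 4, 0, 4, 3, 1, 3]), (146, true, [1, 0, 1, 0, 4, 3, 4, 0, 1, 0, 1, 0, 1, 3, 1, 3]), (1, false, [0, 1, 0, 1, 0, 1, 0, 4, 3, 4, 0]), (165, true, [0, 1, 0, 1, 3, 1, 3, 4, 0, 1, 3, 4]), (81, false, [0, 4, 0, 4, 3, 4, 0, 4, 3, 4, 0, 1, 0, 4]),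 (165, true, [0, 1, 0, 1, 2, 0, 1, 0, 4, 3, 1, 0, 4]), (81, false, [0, 2, 4, 3, 4, 0, 4, 3, 4, 0, 4, 3, 1, 3, 4]), (251, false, [1, 3, 4, 3, 4, 3, 4, 0, 4, 3, 1, 0, 4]), (251, false, [1, 0, 4, 0, 4, 0, 4, 3, 4, 0, 1, 3, 4]), (165, true, [0, 1, 3, 4, 3, 1, 0, 4, 0, 4, 0, 1, 3, 1]), (165, true, [3, 4, 0, 1, 3, 1, 3, 4, 0, 1, 0, 1, 0]), (120, true, [0, 1, 0, 1, 0, 1, 0, 1, 0, 1, 3, 1, 3, 4, 0]), (165, false, [1, 3, 4, 3, 4, 0, 4, 0, 4, 0, 4, 3, 4, 3, 4, 3, 4]), (1, true, [3, 1, 3, 1, 3, 1, 3, 1, 3, 4, 3, 4, 3, 1]), (80, true, [0, 4, 0, 4, 3, 1, 3, 4, 0, 4, 0, 4, 0, 4, 3]), (80, true, [0, 4, 0, 4, 3, 1, 3, 4, 0, 4, 0, 1, 3, 1, 0, 1]), (81, true, [4, 3, 4, 0, 1, 0, 1, 0, 4, 3, 4, 0, 4, 0, 4, 3]), (80, false, [0, 1, 0, 1, 0, 1,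 0, 1, 3, 4, 3, 4, 0, 1, 0, 1]), (165, false, [1, 3, 1, 0, 4, 0, 4, 3, 1, 3, 1, 0, 4, 3]), (223, true, [2, 0, 4, 0, 1, 0, 1, 0, 4, 3, 4, 0, 4]), (251, true, [1, 3, 1, 3, 1, 0, 1, 0, 1, 0, 1, 3, 1, 0]), (251, true, [1, 0, 1, 0, 1, 3, 1, 3, 1, 3, 1, 0, 1, 3]), (223, true, [3, 4, 3, 1, 3, 1, 3, 4, 0, 4, 3, 4]), (193, true, [0, 1, 0, 1, 3, 4, 3, 1, 0, 1, 0, 1, 3]), (166, false, [4, 0, 1, 0, 4, 3, 4, 3, 4, 0, 4, 0, 1]), (166, false, [2, 4, 3, 1, 3, 4, 0, 4, 0, 4, 3, 4, 3, 1]), (193, true, [0, 1, 0, 1, 2, 0, 4, 0, 1, 3, 1, 3, 1, 0]), (10, true, [0, 1, 3, 4, 0, 4, 3, 4, 0, 1, 0, 1, 3, 1]), (10, true, [0, 1, 2, 0, 4, 3, 4, 0, 4, 3, 1, 3, 1, 0, 1]), (102, true, [1, 2, 0, 1, 0, 4, 0, 4]), (102, true, [1, 3, 1, 3, 4, 3, 4]), (80, true,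 [0, 4, 3, 4, 0, 4, 0, 1, 3]), (80, true, [0, 2, 4, 0, 4, 3, 4, 3, 1, 0]), (80, true, [2, 4, 0, 4, 3, 1, 3, 4, 0, 4, 0, 4, 0, 4, 3]), (80, true, [4, 0, 4, 3, 1, 3, 4, 0, 4, 3, 4, 3, 4, 0]), (275, false, [1, 0, 2, 4, 0, 4, 0, 4, 3, 4, 0, 4]), (275, false, [1, 0, 4, 3, 4, 3, 4, 0, 4, 3, 4]), (223, false, [4, 0, 4, 0, 1, 3, 1, 3, 1, 0, 1, 3, 4, 3]), (223, false, [2, 4, 3, 4, 3, 1, 0, 1, 0, 1, 3, 1, 0, 4, 0]), (165, false, [2, 0, 4, 3, 4, 3, 1, 0, 4, 0, 4, 3, 1, 0]), (10, true, [0, 1, 3, 4, 0, 4, 3, 4, 0, 1, 0, 1, 3, 1]), (10, true, [0, 1, 2, 0, 4, 3, 4, 0, 4, 3, 1, 3, 1, 0, 1]), (165, false, [3, 4, 0, 4, 0, 1, 3, 4, 3, 4, 0, 1, 3]), (80, false, [2, 0, 4, 0, 1, 3, 4, 3, 4, 0, 4, 0, 1, 3]), (80, false, [3, 4, 0, 1, 3, 4, 3, 4,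 0, 4, 0, 1, 3]), (10, false, [3, 4, 3, 1, 0, 1, 3, 4, 3, 4, 0, 4, 0]), (10, false, [2, 0, 4, 0, 1, 3, 1, 0, 4, 0, 4, 3, 4, 3]), (193, true, [3, 4, 0, 1, 0, 1, 0, 1, 3, 4, 3, 1, 0, 1]), (193, true, [2, 0, 4, 3, 1, 3, 1, 0, 1, 3, 4, 3, 1, 0, 1]), (102, true, [4, 0, 4, 3, 4, 3, 1, 0, 1, 3, 1, 0, 1, 3]), (275, false, [0, 4, 3, 4, 0, 4, 0, 4, 0, 4, 3, 4, 3, 1, 0])]
def r163 : List (ℕ × Bool × List ℕ) := [(214, true, [1, 3, 1, 0, 1, 3, 4, 0, 4, 3, 1]), (276, true, [1, 2, 0, 4, 0, 4, 3, 4, 0, 4, 3, 4, 3, 4]), (87, true, [4, 0, 4, 3, 4, 3, 1, 0, 4, 0, 4, 3, 4]), (163, true, [3, 4, 0, 1, 0, 1, 0, 4, 3, 4]), (211, true, [1, 3, 1, 0, 1, 3, 1, 0, 1, 0, 1, 0]), (163, true, [0, 1, 0, 1, 0, 1, 0, 1, 0, 1, 0, 1, 0, 1]), (191, true, [2,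 4, 3, 1, 3, 4, 0, 4, 3, 4, 3, 4, 3, 1, 3]), (155, false, [0, 2, 4, 0, 4, 0, 1, 3, 1, 3, 1, 0, 1, 0, 4]), (67, false, [1, 0, 2, 4, 0, 4, 0, 4, 0, 1, 3, 4]), (109, false, [2]), (109, false, [2, 4, 0, 1, 3, 1, 0, 1, 0, 1, 3, 1, 0, 1]), (163, true, [3, 1, 0, 1, 3, 4, 3, 4, 3, 1, 3]), (155, true, [2, 0, 1, 3, 1, 3, 4, 3, 4, 3, 1, 3]), (276, true, [0, 2, 4, 0, 4, 0, 4, 0, 4, 3, 1, 3, 4, 0, 1, 0]), (191, true, [0, 1, 2, 0, 4, 3, 1, 0, 1, 3, 4, 3, 4, 0, 1, 3, 4]), (41, false, [4, 0, 1]), (87, false, [1, 0, 4, 0, 4, 3, 1, 3, 1, 0, 1, 0, 1, 3, 4, 0]), (163, true, [0, 4, 0, 1, 0, 1, 0, 4, 3, 4, 0]), (86, true, [3, 4, 0, 4, 3, 1, 3, 1, 3, 4, 0, 4, 3, 4, 3, 4]), (41, false, [1, 0, 4, 3, 4, 3, 4, 0, 4, 3, 1]), (215, false, [4, 3, 1, 0,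 1, 0, 1, 3, 1, 3, 1, 0, 4]), (86, false, [1, 0, 4, 0, 1, 3, 1, 3, 4, 0, 1, 3, 1, 3]), (86, false, [0, 1, 3, 1, 3, 4, 3, 4, 0, 4, 3, 4, 0, 1, 3, 1]), (276, true, [1, 0, 1, 2, 0, 1, 3, 4, 3, 4, 3, 1, 0, 1, 3, 1, 3]), (215, false, [0, 4, 3, 4, 3, 1, 0, 1, 3, 4, 3, 4]), (215, true, [1, 3, 1, 0, 4, 0, 4, 3, 4, 3, 4, 3, 4, 3]), (276, true, [0, 1, 0, 1, 2, 0, 1, 0, 1, 0, 4, 3, 4, 0, 1, 3]), (191, false, [2, 0, 1, 3, 1, 0, 1, 0, 4, 3, 1, 0, 1, 0, 1, 3]), (109, true, [0, 2, 4, 3, 4, 3, 1, 0, 4, 0, 4, 3, 1, 3, 4, 0, 4]), (87, true, [1, 3, 1, 3, 1, 3, 1, 0, 1, 3, 4, 3, 1, 0, 1]), (71, true, [4, 0, 1, 0, 4, 3, 1, 3, 1, 3, 1, 0, 4, 3, 4]), (41, true, [0, 1, 0, 1, 0, 4, 0, 4, 3, 1, 0, 1, 0, 1, 3, 4, 3]), (214, false, [1, 3, 4, 3, 1, 0,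 4, 3, 4, 3, 4, 0, 1, 3, 1, 0]), (155, true, [0, 1, 0, 1, 0, 1, 2, 0, 1, 0, 1, 0, 1, 0, 1]), (191, false, [0, 2, 4, 3, 4, 3, 4, 0, 4, 0, 4, 3, 1, 0]), (67, false, [0, 1, 0, 2, 4, 3, 4, 3, 1, 0, 1, 0, 4]), (155, false, [2, 0, 1, 0, 4, 3, 4, 0, 1, 3, 1, 3, 1, 3, 4, 3]), (41, true, [0, 4, 0, 4, 3, 1, 3, 1, 3, 4, 3, 4, 0, 4, 0]), (155, false, [0, 1, 0, 1, 0, 2, 4, 3, 4, 0, 4, 3, 4, 0, 4]), (214, false, [4, 3, 4, 0, 4, 3, 4, 3, 4, 0, 1, 3, 1, 0, 4]), (155, true, [2, 4, 0, 4, 3, 1, 0, 1, 0, 1, 0, 1, 3, 1]), (214, true, [1, 0, 1, 0, 1, 0, 4, 3, 1, 3, 1, 0, 1, 3]), (109, true, [0, 1, 2, 0, 1, 0, 1, 0, 4, 3, 1, 3, 1, 0, 4, 0, 1]), (127, true, [0, 1, 2, 0, 1, 3, 4, 0, 4, 0, 4, 3, 4, 3, 4, 3]), (214, true, [1, 0, 1, 3, 4, 3, 1, 0, 1,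 0, 1]), (214, false, [0, 1, 3, 1, 3, 1, 0, 1, 0, 1, 3, 1]), (155, false, [2, 4, 0, 1, 3, 4, 0, 4, 0, 4, 3, 1, 3]), (41, true, [0, 1, 3, 1, 3, 1, 3, 4, 0, 1, 0, 1, 3]), (41, false, [1, 0, 4, 3, 4, 3, 1, 0, 1, 0, 1, 0, 4]), (276, false, [2, 0, 4, 0, 1, 3, 4, 0, 4, 3, 4, 3, 4, 0]), (67, true, [0, 1, 0, 2, 4, 0, 4, 3, 4, 3, 1, 0, 1, 3, 1, 0]), (71, true, [3, 4, 3, 1, 3, 1, 3, 1, 0, 4, 3, 4, 0, 1, 0, 4]), (276, true, [1, 2, 0, 1, 0, 1, 3, 4, 3, 1, 0, 1]), (71, false, [0, 1, 3, 4, 0, 4, 0, 1, 3, 4, 3]), (67, false, [0, 1, 0, 1, 0, 2, 4, 3, 4, 0, 4, 0, 4, 0, 1, 0]), (109, true, [1, 0, 1, 0, 1, 2, 0, 4, 0, 1, 3, 4, 0, 4, 0, 4, 3, 4]), (215, true, [1, 0, 4, 3, 1, 3, 1, 0, 4, 0, 4, 3, 1, 3]), (127, false, [2, 4, 3, 4, 3, 4, 3, 4,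 3, 1, 0, 4]), (155, true, [2, 0, 1, 3, 1, 3, 1, 0, 4, 3, 1, 0, 1, 0]), (211, false, [0, 4, 0, 4, 3, 4, 0, 1, 3]), (22, false, [0, 4, 3, 4, 0, 1, 3, 1, 3, 1, 0, 1, 0, 1, 0, 1]), (163, true, [3, 1, 0, 1, 3, 4, 3, 4, 3, 1, 3]), (106, false, [1, 2, 0, 4, 3, 4, 0, 1, 0, 1, 0, 1, 0]), (86, true, [4, 0, 1, 3, 1, 3, 4, 3, 4, 3, 4, 0, 1, 0]), (22, true, [0, 1, 3, 1, 0, 1, 3, 1, 3]), (22, false, [3, 1, 3, 1, 0, 1, 0]), (86, true, [3, 1, 0, 4, 3, 1, 3, 1, 0, 1, 3, 4, 3, 1, 0, 1]), (22, true, [0, 1, 3, 4, 0, 1, 3, 1, 0, 4, 0, 4, 3]), (211, false, [3, 4, 0, 1, 0, 1, 0, 1, 3, 1, 0, 4, 0]), (67, true, [2, 4, 0, 4, 3, 4, 3, 1, 0, 1, 0, 4, 3, 1]), (155, false, [2, 4, 3, 4, 0, 1, 0, 1, 3, 1, 0, 1]), (86, false, [4, 3, 4, 0, 4, 3, 4, 3, 4,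 0, 4, 0, 1, 0]), (106, false, [1, 0, 1, 2, 0, 4, 0, 1, 3, 1, 3, 1, 3, 1, 0, 1, 3, 4]), (211, false, [0, 2, 4, 3, 4, 0, 4, 0, 1, 3, 1, 3, 4, 0, 4]), (22, false, [0, 1, 0, 4, 3, 1, 0, 1, 3, 4, 3, 4, 3]), (276, false, [2, 4, 0, 1, 3, 1, 0, 1, 0, 1, 3, 4, 0, 4, 3]), (71, true, [1, 3, 4, 0, 4, 0, 4, 0, 4, 3, 1, 0, 4, 0]), (106, true, [0, 2, 4, 3, 1, 0, 4, 0]), (276, false, [2, 0, 1, 3, 4, 3, 4, 3, 4, 0, 1, 3, 1, 0, 1, 0]), (211, true, [1, 0, 1, 0, 4, 0, 4, 3, 4, 0, 4, 0, 1]), (106, false, [1, 2, 0, 4, 3, 4, 0, 1, 0, 1, 0, 1, 0]), (106, true, [0, 2, 4, 3, 1, 0, 4, 0]), (67, true, [0, 2, 4, 3, 1, 0, 1, 3, 4, 0, 1, 3]), (87, false, [1, 0, 4, 3, 1, 3, 1, 3, 4, 0, 4, 3, 4, 3, 4, 3]), (106, false, [1, 0, 1, 2, 0, 4, 0, 1, 3, 1, 3,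 1, 3, 1, 0, 1, 3, 4]), (163, false, [0, 1, 3, 1, 0, 4, 3, 1, 0, 1, 3, 4]), (71, false, [4, 3, 1, 0, 1, 3, 1, 3, 1, 0, 4, 3, 4, 0]), (215, false, [2, 0, 4, 3, 1, 0, 1, 0, 1, 3, 4, 0, 4, 0, 1]), (163, true, [0, 1, 0, 1, 0, 1, 0, 1, 0, 1, 0, 1, 0, 1]), (155, false, [2, 4, 3, 1, 0, 4, 3, 1]), (127, false, [1, 0, 1, 0, 2, 4, 0, 4, 3, 1, 0, 1, 0, 4]), (276, true, [1, 0, 1, 0, 1, 2, 0, 1, 0, 4, 0, 4, 3]), (276, false, [1, 0, 1, 2, 0, 4, 0, 1, 3, 1, 0, 1, 3, 1, 3, 1, 0]), (87, false, [4, 3, 4, 0, 1, 3, 1, 0, 1, 0]), (71, false, [4, 3, 4, 3, 1, 0, 4, 3, 4, 0]), (87, true, [4, 0, 4, 0, 1, 3, 1, 0, 4, 0, 4, 3]), (191, false, [0, 1, 0, 1, 2, 0, 1, 3, 4, 3]), (127, true, [1, 0, 2, 4, 0, 4, 0, 1, 3, 1, 3, 1, 0]), (215, true, [0, 1, 3,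 4, 3, 4, 0, 1, 0, 1, 3, 4, 3, 4, 0]), (211, true, [3, 4, 0, 4, 3, 1, 3, 1, 3, 4, 3, 4, 0, 1, 0]), (155, true, [1, 0, 1, 2, 0, 4, 3, 1, 0]), (22, true, [3, 1, 0, 1, 0, 4, 0, 4, 3, 1, 3, 4, 0, 4]), (276, false, [1, 0, 2, 4, 0, 4, 0, 4, 3, 4, 3, 4, 0, 1]), (155, true, [2, 4, 3, 4, 3, 4, 3, 4, 3, 4, 3, 1]), (276, false, [2, 0, 4, 0, 4, 3, 1, 3, 1, 0, 4, 0]), (127, false, [0, 1, 2, 0, 4, 3, 4, 3, 4, 3, 1, 0, 1]), (127, true, [1, 0, 1, 0, 1, 0, 1, 2, 0, 4, 3, 4, 0, 4, 3, 4]), (163, true, [1, 0, 1, 3, 4, 3, 4, 3, 1, 0]), (109, false, [2, 4, 3, 4, 0, 4, 3, 4, 3, 4, 0, 4, 3, 1]), (163, true, [0, 4, 0, 1, 0, 1, 0, 4, 3, 4, 0]), (163, false, [0, 1, 3, 1, 0, 4, 3, 1, 0, 1, 3, 4]), (191, true, [0, 2, 4, 0, 1, 0, 1, 3, 1, 3, 1, 3, 1,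 0, 4, 3])]
def r164 : List (ℕ × Bool × List ℕ) := [(241, false, [0, 2, 4, 0, 1, 0, 1, 0, 1, 3]), (152, true, [2, 4, 3, 4, 3, 4, 0, 4, 0, 4, 3, 1, 3, 4, 0]), (262, true, [0, 1, 0, 1, 2, 0, 1, 0, 1, 3, 1, 0, 1, 3, 1, 0]), (241, false, [1, 2, 0, 4, 3, 4, 3, 4, 0, 4, 0, 4, 0, 1, 3]), (223, false, [2, 4, 0, 1, 0, 1, 0, 1, 3, 4, 3, 1, 0, 1, 0]), (258, true, [2, 0, 4, 3, 1, 0, 1]), (152, true, [2, 0, 1, 3, 1, 0, 4, 3, 1, 3, 1, 3, 1, 3, 4, 0]), (112, true, [1, 3, 4, 3, 4]), (262, true, [0, 1, 0, 1, 2, 0, 1, 0, 1, 0, 1, 3, 4, 0, 1, 3, 1, 0]), (204, false, [4, 0, 4, 0, 4, 3, 1, 0, 1, 3]), (62, false, [1, 0, 1, 0, 4, 3, 4, 0, 1, 3, 1, 3, 1, 3]), (165, false, [0, 4, 3, 4, 3, 4, 3, 1, 0, 1, 3, 1, 3, 4, 0, 4]), (224, false, [2, 0, 1,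 3, 1, 3, 1, 3, 1, 3, 4, 3, 4, 3, 4]), (50, true, [1, 0, 1, 0, 1, 0, 1, 3, 1, 3, 4, 3, 4]), (156, true, [1, 0, 1, 0, 1, 2, 0, 1, 3, 4, 0, 4, 3]), (89, false, [1, 3, 1, 0, 4, 3, 4, 0, 1, 0, 1, 0, 4, 3, 4]), (269, true, [0, 1, 0, 2, 4, 0, 4, 3, 1]), (262, true, [2, 0, 1, 3, 1, 3, 1, 0, 1, 3, 4, 0, 1]), (204, false, [1, 0, 1, 0, 1, 0, 1, 3, 4, 0, 4, 3, 1, 3]), (259, false, [0, 4, 3, 1, 0, 1, 3, 1, 3, 4, 0, 4, 3, 4, 0]), (244, true, [0, 1, 0, 4, 3, 1, 0, 1, 3, 1, 3, 1, 0, 1, 3, 1]), (156, true, [3, 4, 0, 4, 3, 1, 0, 1, 0, 1, 0, 4, 3, 1, 3]), (224, false, [1, 0, 1, 0, 2, 4, 0, 1, 0, 4, 3, 4, 0, 1, 3]), (253, true, [0, 1, 2, 0, 1, 3, 1, 0, 4, 3, 4, 0, 4, 3, 4]), (152, true, [1, 0, 1, 2, 0, 1, 0, 1, 0, 4, 3, 4, 0, 1, 0, 1]), (185,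 false, [2, 4, 0, 4, 3, 4, 0, 4, 3, 4, 0, 1, 0, 1]), (189, true, [1, 0, 2, 4, 3, 4, 0, 4, 3, 1, 3, 1, 3, 4, 0, 4, 0]), (80, true, [4, 0, 4, 3, 4, 0, 1, 3, 1, 0, 4, 0]), (241, false, [1, 0, 1, 0, 1, 0, 1, 2, 0, 4, 0, 4]), (281, true, [1, 0, 1, 3, 4, 3, 1, 0, 1, 0, 1, 3, 1, 0, 4]), (89, false, [0, 4, 3, 1, 0, 4, 3, 4, 0, 4, 0, 1]), (79, true, [0, 1, 3, 1, 0, 4, 3, 4, 3, 4, 3, 1]), (164, false, [0, 4, 0, 4, 3, 1, 0, 1, 0, 4, 3, 1]), (152, true, [2, 0, 4, 0, 1, 3, 4, 3, 1, 0, 1, 0, 4]), (259, false, [1, 3, 4, 0, 4, 0, 1, 3, 4, 3, 4, 3, 1]), (80, true, [1, 2, 0, 1, 0, 4, 3, 4, 3, 4, 3, 4]), (185, false, [0, 1, 0, 1, 0, 4, 0, 4, 0, 4, 0, 4, 0, 4]), (281, true, [3, 4, 3, 1, 0, 4, 0, 4, 0, 4, 3, 1, 3, 1]), (70, false, [4, 3, 4, 0,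 4, 0, 4, 3, 4, 0, 1, 0, 1, 0, 1]), (189, false, [1, 0, 2, 4, 0, 1, 3, 4, 3, 4, 0, 4, 3]), (70, true, [0, 1, 2, 0, 1, 3, 4, 3, 4, 0, 1, 3, 1, 0, 4]), (89, false, [1, 3, 1, 3, 1, 3, 1, 0, 1, 0, 1, 0, 1, 3, 1, 0]), (108, false, [1, 0, 1, 0, 1, 0, 4, 3, 1, 3, 1, 0, 1, 0, 4]), (224, true, [0, 1, 2, 0, 1, 3, 4, 3, 4, 3, 4, 0, 1, 3, 1, 0, 4, 0]), (262, true, [2, 4, 3, 4, 3, 4, 0, 1, 0, 1, 3, 4, 3]), (185, false, [1, 3, 1, 3, 1, 0, 1, 3, 1, 0, 1, 3, 1, 0, 1]), (269, true, [0, 1, 2, 0, 1, 0, 1, 3, 1, 0, 1, 3, 1, 0, 1, 0]), (189, false, [2, 4, 3, 4, 0, 4, 0, 4, 3, 4, 3, 4, 0]), (130, true, [0, 1, 2, 0, 4, 0, 4, 0]), (202, false, [2, 0, 1, 0, 4, 0, 4, 0, 1, 3, 1, 0, 4, 3, 4]), (80, true, [1, 0, 1, 0, 1, 2, 0, 1, 0, 1, 3, 4, 3, 4, 0]),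 (108, false, [0, 1, 3, 1, 3, 1, 0, 1, 3, 4, 3, 1, 0, 4]), (62, false, [1, 2, 0, 1, 0, 1, 0, 4, 0, 4, 0, 4]), (263, true, [1, 2, 0, 1, 0, 1, 3, 4, 0, 4, 0, 4, 3, 1, 0, 4, 3]), (253, false, [1, 3, 4, 0, 4, 0, 4, 3, 4, 3, 4, 0, 1, 3, 1, 0, 4]), (196, true, [3, 1, 3, 4, 0, 1, 3, 1, 0, 1, 3, 1]), (258, true, [3, 4, 0, 4, 0, 4, 3, 1, 0]), (259, false, [2, 4, 3, 4, 3, 4, 3, 4, 0, 1, 0, 1, 3, 1, 3]), (70, false, [3, 1, 3, 4, 0, 4, 3, 4, 0, 4, 3]), (259, false, [4, 0, 4, 0, 4, 3, 4, 3, 4, 0, 4, 3, 4]), (152, true, [1, 0, 1, 2, 0, 1, 0, 1, 0, 4, 0, 4, 3, 4, 0, 4]), (165, false, [0, 1, 0, 1, 2, 0, 4, 3, 4, 0, 1, 0, 1]), (164, false, [3, 1, 3, 1, 0, 4, 3, 1, 0, 1, 0]), (244, true, [1, 0, 1, 2, 0, 4, 3, 4, 0, 1, 3, 4]), (259, false,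 [1, 0, 1, 3, 4, 3, 4, 0, 4, 0, 4, 0]), (202, false, [4, 0, 4, 3, 1, 0, 1, 3, 1, 0, 4, 0, 4]), (253, true, [0, 2, 4, 0, 4, 0, 1, 3, 4, 3, 4, 3, 1, 0, 1, 3, 4]), (165, false, [0, 4, 3, 4, 0, 1, 3, 1, 3, 1, 3, 4, 0, 1]), (262, true, [2, 0, 1, 3, 1, 0, 1, 3, 1, 0, 1, 0, 4, 0, 4]), (253, false, [0, 1, 3, 1, 3, 1, 3, 4, 3, 4, 0, 4, 0, 4, 0, 1]), (223, true, [0, 4, 3, 4, 0, 4, 3, 1, 3, 1, 0, 1, 3, 4, 3]), (263, true, [1, 0, 2, 4, 0, 1, 3, 1, 3, 4, 3, 4, 3, 4, 0]), (224, true, [2, 0, 4, 3, 1, 0, 4, 3, 4, 0, 1, 0, 1, 0, 1, 0]), (63, false, [1, 2, 0, 4, 3, 1, 0, 1, 3, 4, 0, 4, 0, 1, 0]), (50, true, [1, 0, 4, 3, 1, 3, 1, 0, 1, 3, 4, 3, 4, 3]), (62, false, [0, 4, 3, 1, 3, 4, 0, 4, 3, 1, 3, 1, 3, 4, 0]), (253, false, [3, 1, 0, 1, 3,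 1, 3, 1, 0, 4, 3, 4, 0]), (112, true, [1, 0, 4, 0, 1, 3, 1, 3, 1, 3, 1, 0, 4, 3, 4]), (156, true, [0, 2, 4, 0, 1, 0, 4, 3, 1, 3, 1, 0, 4, 0, 4, 3]), (189, true, [0, 2, 4, 0, 4, 0, 1, 3, 1, 0, 4, 3, 4, 3, 4]), (258, true, [1, 0, 1, 2, 0, 4, 0, 4, 3, 1, 3, 1, 0, 1, 0]), (108, false, [0, 1, 3, 4, 0, 4, 3, 1, 3, 1, 3, 4, 0, 4]), (196, true, [3, 1, 0, 1, 3, 4, 3, 4, 3, 1, 0, 1, 3, 4]), (224, false, [0, 1, 0, 1, 0, 2, 4, 0, 4, 0, 4, 0, 4, 3, 4, 3, 4]), (262, true, [0, 1, 2, 0, 4, 0, 4, 0, 4, 3, 4, 0, 1, 0, 4]), (79, true, [3, 1, 0, 1, 3, 4, 0, 4, 0]), (223, true, [4, 0, 4, 0, 4, 3, 1, 3, 4, 0, 4, 3, 4, 3, 1]), (50, true, [4, 3, 4, 0, 4, 0, 4, 0, 1, 3, 1, 0, 4, 3, 4, 0]), (281, true, [0, 4, 0, 4, 0, 4, 0, 4, 3, 4, 3, 1, 0]), (244,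 true, [1, 0, 1, 3, 1, 3, 4, 3, 4, 0, 4, 0, 4, 0, 4, 3]), (112, true, [4, 3, 1, 0, 4, 3, 4, 3, 1, 0, 1, 0, 4, 0]), (70, false, [1, 3, 1, 0, 4, 3, 4, 3, 1, 0, 1, 0, 1, 3, 1]), (269, true, [0, 2, 4, 0, 4, 3, 4, 0, 1, 3, 1, 3, 1, 0, 1, 3, 1, 0]), (223, true, [1, 3, 4, 3, 4, 3, 4, 0, 4, 3, 4, 0, 4, 0, 4, 0]), (253, true, [2, 0, 1, 3, 1, 3, 1, 0, 1, 0, 1, 0, 1, 3, 1, 3]), (259, false, [2, 0, 4, 0, 1, 0, 1, 0, 4]), (224, true, [0, 2, 4, 3, 1, 0, 4, 3, 4, 0, 1, 3, 1, 3, 1]), (196, true, [2, 0, 1, 3, 4, 3, 4, 3, 4, 0, 4, 0, 4]), (79, true, [4, 0, 4, 3, 4, 0, 4, 3, 1, 0, 4, 0]), (263, true, [1, 2, 0, 4, 3, 1, 3, 1, 0, 4, 3, 4, 0, 4]), (223, false, [1, 2, 0, 1, 0, 1, 3, 1, 3, 4, 3, 4, 3, 4, 0, 1]), (189, false, [0, 1, 2, 0, 1, 3, 4,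 3, 4, 0, 4, 3, 1, 0, 1]), (223, false, [1, 2, 0, 4, 3, 4, 3, 1, 0, 1, 3, 1, 0, 4]), (202, false, [0, 4, 0, 1, 0, 1, 0, 4, 0]), (189, true, [2, 0, 4, 3, 4, 3, 1, 0, 4, 3, 4, 3, 1, 0, 4, 0]), (175, true, [4, 3, 1, 3, 1, 0, 4, 3, 4, 3]), (63, false, [1, 0, 4, 3, 4, 3, 1, 0, 1, 0, 1, 0, 4, 3]), (63, false, [4, 3, 4, 3, 4, 0, 4, 3, 4, 0, 4, 3]), (152, true, [1, 0, 2, 4, 3, 4, 3, 1, 0, 4, 3, 4, 3, 4, 0]), (70, true, [0, 2, 4, 3, 1, 0, 1, 0, 4, 0, 4, 3, 1, 0, 1, 0]), (70, true, [2, 4, 3, 4, 3, 4, 0, 1, 3, 4, 3, 4, 3]), (204, false, [4, 3, 4, 0, 1, 3, 1, 3, 1, 0, 1, 0, 4])]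
def r165 : List (ℕ × Bool × List ℕ) := [(225, false, [0, 4, 3, 1, 3, 4, 0, 4, 0, 4, 0, 1, 3, 4]), (158, true, [0, 4, 0, 4, 0, 1, 3, 4, 3, 4, 3, 1]), (126, true, [1, 2, 0, 1, 3, 4, 3, 4, 3, 1, 0, 1, 3, 1, 0]), (89, false, [1, 0, 1, 0, 4, 3, 4, 0, 1, 3, 1, 3, 1]), (43, false, [4, 3, 4, 3, 1, 0, 4, 0, 4, 3, 1, 0, 4, 0, 4]), (80, true, [2, 4, 3, 1, 3, 1, 0, 1, 0, 4, 3, 4, 0, 4, 3]), (270, true, [3, 1, 3, 1, 0, 1, 3, 1, 0, 1]), (141, false, [4, 3, 1, 0, 1, 3, 1, 3, 4, 3, 4, 3, 4, 3, 4, 0]), (42, true, [4, 0, 1, 3, 1, 0, 1, 0, 4, 3, 4, 0, 4]), (70, false, [2, 0, 1, 0, 4, 0, 4, 3, 1, 3, 4, 0, 1]), (183, false, [1, 2, 0, 4, 0, 4, 3, 1, 0, 1, 3, 4, 3, 4, 3, 1, 3]), (183, false, [1, 0, 2, 4, 0, 4, 3, 4, 3, 1, 0, 1, 3, 1, 0, 1, 0]),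 (199, false, [3, 1, 3, 4, 0, 4, 0, 1, 3, 1, 3, 1, 3, 1, 0, 1]), (110, false, [0, 2, 4, 0, 4, 0, 4, 0, 1, 3, 4]), (131, false, [0, 2, 4, 0, 1, 0, 1, 0, 1, 3, 4]), (123, false, [1, 2, 0, 4, 0, 4, 0, 1, 3, 4, 3, 4, 0, 1]), (24, false, [3, 1, 0, 4, 0, 4, 3, 4, 3, 4, 0, 4, 3]), (214, true, [0, 1, 0, 2, 4, 3, 4, 3, 4, 0, 4, 3, 4, 0, 1, 0]), (254, true, [0, 1, 3, 1, 0, 1, 3, 4, 0, 4, 0, 1, 3]), (72, false, [2, 0, 4, 0, 1, 3, 1, 0, 4, 3, 4, 3, 4, 3, 1, 0]), (72, false, [3, 4, 0, 4, 0, 1, 3, 1, 3, 4, 3, 4, 3, 1, 3]), (109, false, [1, 0, 2, 4, 3, 1, 0, 1, 0, 4, 3, 4, 0, 4]), (162, false, [0, 1, 3, 1, 0, 4, 0, 4, 3, 1, 0, 4]), (199, true, [3, 1, 3, 1, 0, 1, 0, 4, 3, 1, 3, 1, 0]), (85, true, [4, 3, 1, 3, 1, 0, 4, 3, 4, 0, 1, 0, 1, 0,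 1]), (12, true, [4, 0, 4, 0, 4, 3, 4, 0]), (10, true, [0, 1, 3, 4, 0, 4, 3, 1, 3, 1, 3, 4, 0, 4, 0]), (83, true, [4, 0, 1, 0, 1, 3, 4, 3]), (29, true, [4, 0, 4, 0, 4, 3, 1, 0, 1, 3, 4, 3, 4]), (29, true, [2, 4, 3, 4, 0, 4, 3, 1, 0, 1, 3, 4, 3, 4]), (69, false, [3, 4, 3, 4, 0, 1, 3, 1, 0, 4, 0, 4, 3, 4]), (153, false, [1, 0, 4, 0, 4, 0, 1, 3, 4, 0, 4, 0, 1]), (176, true, [1, 0, 1, 0, 1, 0, 1, 0, 1, 0, 1, 0, 1]), (269, false, [4, 3, 4, 0, 4, 0, 4, 3, 4, 0, 4, 3, 1, 3, 4]), (193, true, [0, 4, 3, 4, 3, 1, 0, 1, 3, 1, 0, 4]), (70, false, [1, 3, 1, 3, 4, 3, 4, 3, 4, 3, 4, 3]), (109, false, [3, 4, 3, 1, 0, 1, 3, 1, 0, 4, 3, 4]), (42, true, [0, 1, 2, 0, 1, 0, 4, 3, 4, 0, 4]), (251, true, [4, 0, 4, 3, 1, 3, 1, 0, 4, 3, 1, 3, 4, 0]),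 (171, true, [4, 3, 4, 3, 4, 0, 1, 3, 1, 0, 1, 3]), (243, false, [0, 1, 3, 4, 3, 1, 0, 4, 3, 4, 0, 4, 3, 4]), (60, false, [1, 0, 1, 0, 4, 3, 4, 0, 4, 0, 1, 0]), (62, false, [1, 3, 4, 0, 1, 3, 4, 3, 4, 3, 1]), (205, true, [0, 1, 0, 4, 3, 4, 3, 4, 0, 4, 0, 1, 3, 4]), (42, true, [1, 2, 0, 1, 0, 4, 3, 4, 3, 4, 3]), (19, true, [4, 3, 4, 3, 1, 3]), (202, false, [3, 1, 3, 4, 0, 4, 3, 1, 3]), (117, false, [0, 1, 0, 1, 3, 4, 3, 1, 0, 1, 0, 4, 3, 4, 3, 1, 3]), (117, true, [1, 0, 2, 4, 0, 4, 0, 1, 3, 4, 3, 4, 0, 4, 3, 1]), (183, false, [1, 0, 2, 4, 0, 4, 3, 4, 3, 1, 0, 1, 3, 1, 0, 1, 0]), (171, true, [1, 0, 2, 4, 0, 4, 0, 4, 3, 1, 0, 1, 3, 4, 3, 1]), (183, false, [3, 1, 0, 1, 0, 1, 0, 4, 3, 1, 3, 4, 0, 4]), (145, false, [1, 0, 1, 0,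 1, 0, 4, 0, 4, 3]), (120, true, [3, 1, 0, 1, 3, 4, 3, 4, 0, 4, 0, 1, 3, 4]), (80, true, [2, 4, 0, 1, 3, 4, 3, 1, 0, 1, 3, 1, 0, 1, 0, 1]), (126, true, [0, 1, 3, 1, 0, 1, 0, 4, 3, 1, 0, 1, 0, 1, 0]), (121, true, [4, 3, 1, 3, 4, 0, 4, 0, 4, 0, 4, 3, 1, 0, 4]), (183, false, [3, 1, 0, 1, 3, 4, 3, 4, 0, 1, 3]), (281, true, [4, 3, 1, 0, 1, 3, 4, 0, 4, 3, 4]), (103, false, [1, 0, 1, 3, 4, 3, 1, 0, 4, 0, 4, 0, 4, 3, 4]), (69, true, [4, 3, 1, 0, 4, 3, 4, 0, 1, 3, 1, 3, 1]), (126, false, [0, 2, 4, 0, 4, 0, 1, 3, 1, 3, 4, 0, 4, 3, 1]), (156, false, [1, 2, 0, 4, 0, 1, 3, 1, 3, 4, 0, 4, 0, 1, 0]), (165, false, [0, 4, 0, 1, 3, 4, 3, 4, 0, 1, 3, 1, 0]), (273, true, [4, 3, 1, 0, 4, 3, 4, 3, 1, 0, 1, 0, 4, 0]), (281, true, [3, 1, 0, 1, 0,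 4, 0, 4, 3, 4, 0, 4, 3, 4]), (273, true, [1, 0, 1, 0, 4, 3, 1, 3, 1, 0, 4, 0]), (156, false, [0, 1, 0, 4, 3, 4, 0, 4, 0, 1, 3, 1, 0]), (68, false, [0, 4, 3, 1, 3, 4, 0, 1, 0]), (164, false, [2, 4, 0, 4, 0, 1, 3, 1, 0, 4, 3, 4, 3]), (158, true, [1, 0, 2, 4, 0, 4, 3, 1, 3, 1, 0, 4, 3, 4, 0, 1, 0]), (141, false, [2, 4, 0, 4, 0, 4, 0, 4, 3, 1, 3, 4, 0, 1, 3]), (126, false, [4, 0, 1, 3, 1, 0, 1, 3, 1, 3, 1, 0, 1]), (121, true, [0, 1, 0, 1, 0, 1, 3, 1, 0]), (107, true, [0, 4, 0, 4, 0, 4, 0, 1, 3, 4]), (199, true, [0, 1, 0, 2, 4, 0, 4, 0, 1, 3, 1, 3, 4, 0, 4, 0, 4]), (114, false, [1, 3, 1, 0, 4, 0, 4, 3, 1, 3, 1, 0, 4, 0]), (243, true, [2, 0, 1, 0, 4, 3, 4, 0, 4, 3, 4, 3, 1, 0, 4]), (10, false, [0, 4, 3, 1, 0, 1, 3, 1, 3, 4, 0]),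 (19, true, [2, 4, 0, 4, 3, 4, 0, 1, 3, 1, 0]), (153, false, [2, 4, 3, 4, 0, 1, 3, 1, 3, 1, 0, 1]), (115, false, [4, 0, 1, 3, 1, 3, 4, 3, 4, 0, 1]), (153, false, [3, 1, 0, 4, 3, 4, 3, 4, 0, 4, 0, 1, 3, 1, 0]), (115, false, [0, 1, 0, 2, 4, 0, 4, 3, 4, 0, 4, 0, 4, 0, 1, 0]), (43, false, [0, 1, 0, 1, 0, 1, 2, 0, 1]), (225, false, [0, 2, 4, 3, 4, 0, 4, 0, 1, 3, 4]), (89, false, [1, 2, 0, 1, 3, 1, 3, 1, 0, 1, 0, 4, 3, 4]), (183, false, [3, 1, 0, 1, 0, 1, 0, 4, 3, 1, 3, 4, 0, 4]), (69, true, [0, 1, 0, 1, 2, 0, 1, 0, 4, 3, 4]), (251, true, [3, 4, 3, 4, 3, 1, 0, 4, 0, 4, 3, 1, 0]), (80, true, [0, 4, 0, 4, 0, 1, 3, 1, 3, 4, 0, 4]), (193, false, [2, 4, 3, 4, 0, 4, 0, 1, 3, 4, 0, 4, 0, 4]), (69, false, [2, 0, 1, 0, 4, 3, 1, 0, 1, 3,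 4, 3, 4, 3, 4]), (42, true, [0, 4, 0, 1, 3, 1, 0, 4, 3, 4, 3, 4, 3, 4, 0]), (78, false, [1, 0, 1, 3, 4, 3, 4, 0, 1, 3, 1]), (165, true, []), (110, false, [4, 0, 4, 0, 4, 0, 1, 3, 4]), (85, true, [2, 0, 1, 3, 1, 0, 1, 0, 4, 3, 1, 3, 4]), (68, false, [2, 0, 1, 0, 1, 0, 1, 0, 4, 0, 4, 3, 1, 3, 1]), (164, false, [0, 4, 3, 4, 3, 1, 0, 1, 3, 4, 0, 1, 3]), (80, true, [4, 3, 1, 3, 1, 0, 1, 0, 4, 3, 4, 0, 4, 3]), (254, true, [2, 0, 1, 0, 1, 3, 1, 0, 1, 0, 1, 3, 4, 0, 4, 3, 4]), (269, false, [2, 0, 4, 0, 4, 0, 4, 3, 4, 0, 1, 0, 1, 0, 4, 3]), (199, false, [2, 4, 0, 1, 3, 4, 0, 4, 3, 4, 3, 1]), (104, false, [4, 0, 1, 3, 1, 3, 4, 3, 4, 0, 4, 0, 4]), (166, false, [0, 1, 0, 1, 0, 1, 0, 1, 0, 1, 0, 1, 0, 1, 2]), (214, true, [4, 3, 1, 3,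 4, 0, 4, 0, 4, 0, 4, 3, 4]), (270, true, [2, 4, 0, 4, 3, 1, 0, 1, 0, 1, 0, 1, 3, 4, 0]), (153, false, [1, 0, 2, 4, 0, 4, 0, 1, 3, 1, 3, 1, 3, 1, 0, 1, 0, 1]), (24, false, [1, 0, 2, 4, 0, 4, 3, 1, 0, 1, 3, 4, 3, 4, 3]), (123, false, [3, 4, 0, 1, 0, 1, 3, 4, 0, 1, 0, 4]), (162, false, [0, 4, 3, 1, 0, 1, 0, 4, 3, 1, 3, 1, 0])]
def r166 : List (ℕ × Bool × List ℕ) := [(277, false, [0, 2, 4, 3, 1, 0, 1, 0, 1, 0, 4, 0, 4, 3, 1]), (260, false, [0, 1, 3, 4, 0, 4, 3, 4, 3, 4, 0, 4, 3, 1, 0, 4]), (53, true, [2, 4, 3, 1, 0, 1, 3, 4, 3, 4, 0, 1]), (80, false, [3, 1, 3, 1, 3, 1, 3, 4, 0, 4, 3]), (105, true, [0, 4, 0, 4, 0, 4, 0, 1, 3, 1, 0, 4, 0, 1]), (260, false, [0, 1, 0, 2, 4, 0, 4, 3, 4, 3, 4, 0, 1, 3, 1, 3]), (110, false, [0, 1,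 0, 4, 3, 4, 3, 1, 0, 1, 0, 1, 3, 1]), (268, true, [0, 4, 3, 1, 0, 1, 3, 4, 3, 1, 0, 4, 0, 4, 0, 1]), (88, false, [2, 4, 0, 1, 0, 4, 3, 1, 3, 1, 0, 4, 0, 4, 3, 4, 3]), (60, false, [4, 3, 1, 3, 4, 0, 4, 3, 4, 3, 4, 0, 4]), (70, true, [1, 3, 4, 3, 4, 0, 4, 0, 4, 3, 4, 0, 1, 0]), (272, true, [4, 0, 4, 0, 4, 0, 4, 0, 4, 0, 1]), (113, false, [0, 4, 0, 4, 3, 4, 0, 1, 0, 1, 0, 4, 3, 4, 3]), (77, true, [1, 0, 2, 4, 3, 1, 0, 4, 3, 4, 0]), (94, true, [1, 0, 1, 3, 4, 3, 4, 3, 4, 0, 1, 3, 4]), (151, false, [2, 0, 1, 3, 4, 0, 4, 0, 4, 3, 4, 3, 4, 0, 4, 3]), (6, true, [1, 3, 4, 0, 4, 3, 4, 0, 1, 0, 1, 3, 1]), (86, false, [0, 2, 4, 0, 1, 3, 1, 3, 4, 3, 4, 0, 4, 0, 4, 3, 4]), (197, true, [0, 4, 0, 4, 3, 1, 0, 1]), (121, false, [0, 4, 3,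 1, 3, 1, 0, 4, 3, 1, 3, 1, 0, 1, 0]), (121, false, [0, 1, 3, 4, 0, 4, 0, 4, 3, 1, 0, 4]), (174, true, [0, 1, 2, 0, 4, 3, 4, 0, 4, 3, 1, 3, 4]), (249, true, [0, 1, 0, 4, 3, 4, 0, 4, 3, 1, 0, 1, 0]), (272, false, [0, 1, 0, 1, 0, 1, 3, 1, 3, 1, 0, 1, 3, 1]), (64, false, [1, 0, 1, 3, 1, 0, 1]), (215, true, [1, 0, 1, 2, 0, 4, 0, 4, 3, 1, 3, 1]), (10, true, [2, 0, 4, 0, 4, 3, 4, 0, 1, 3, 4, 3, 4]), (83, false, [3, 4, 0, 1, 0, 1, 0, 4, 3, 1, 3, 4, 0, 4]), (135, true, [1, 3, 4, 3, 4, 3, 1, 0, 4, 3, 4, 3, 1]), (135, true, [3, 1, 3, 4, 0, 4, 3, 4, 3, 1, 0, 4, 0, 4, 0]), (85, false, [0, 1, 3, 4, 0, 1, 3, 1, 3, 4, 0, 4, 3, 1, 3]), (195, true, [0, 2, 4, 0, 1, 3, 4, 3, 4, 3, 4, 0, 1, 3, 4, 3]), (279, false, [0, 1, 0, 1, 0, 1, 3, 1]),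 (141, true, [3, 4, 0, 4, 0, 1, 3, 4, 3, 4, 0, 1, 0]), (125, true, [1, 0, 1, 3, 4, 3, 1, 0, 1, 3, 1, 3, 4, 0, 1]), (60, false, [0, 1, 3, 1, 0, 4, 0, 4, 0, 4, 0, 1, 3]), (174, true, [1, 3, 4, 0, 4, 0, 4, 0, 4, 3, 4, 3, 1]), (88, false, [0, 4, 3, 4, 3, 1, 0, 1, 3, 4, 3, 4, 3, 4, 3]), (179, true, [4, 3, 4, 0, 4, 3, 4, 3, 4, 0, 1, 3, 1, 0, 4, 0]), (244, false, [4, 0, 4, 3, 4, 0, 4, 3, 4, 0, 4, 3]), (274, false, [3, 4, 0, 1, 0, 1, 0, 1, 3, 1, 0, 4, 3]), (143, true, [0, 4, 0, 4, 0, 4, 3]), (208, false, [0, 4, 3, 4, 0, 4, 3, 4, 0, 1, 0, 1, 3]), (203, true, [3, 1, 0, 1, 3, 1, 0, 1, 0, 4, 0, 4, 3, 1]), (220, true, [1, 0, 4, 0, 1, 3, 1, 3, 1, 0, 4, 3, 1, 3, 4, 0]), (212, true, [2, 4, 0, 4, 0, 4, 3, 4, 3, 1, 0, 4, 0, 4]), (207, true,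 [4, 0, 1, 0, 1, 3, 1, 3, 4, 0, 4, 0, 4, 3]), (231, false, [2, 0, 1, 3, 1, 0, 1, 3, 1, 3, 4, 3, 4, 0, 1]), (231, true, [3, 1, 0, 1, 3, 1, 0, 1, 0, 4, 0, 4, 3, 1]), (214, false, [1, 0, 1, 0, 1, 0, 2, 4, 3, 4, 3, 4, 0, 4, 3]), (244, false, [4, 0, 1, 0, 4, 3, 4, 0, 1, 3, 1, 0, 4, 0, 4, 0]), (214, false, [3, 1, 3, 4, 0, 4, 3, 4, 0, 4, 3, 1, 3, 4]), (165, false, [0, 1, 0, 1, 0, 1, 0, 1, 0, 1, 0, 1, 0, 1, 2]), (102, true, [0, 4, 3, 4, 0, 4, 0, 4, 3, 4, 3, 4, 0, 1]), (124, true, [1, 3, 4, 3, 4, 3, 4, 0, 4, 0, 1, 3]), (53, false, [4, 3, 4, 3, 1, 0, 4, 0, 4, 3, 1, 0, 4]), (235, true, [1, 0, 1, 3, 4, 3, 1, 0, 4, 3, 4, 0, 1]), (70, true, [1, 2, 0, 1, 3, 4, 3, 4, 0, 4, 3, 4, 0]), (204, true, [3, 1, 0, 1, 3, 4, 3, 1, 0, 4, 0, 4, 0, 4]),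 (36, false, [0, 4, 0, 1, 3, 1, 0, 4, 0, 4, 3]), (236, true, [1, 0, 1, 2, 0, 4, 0, 1, 3, 1, 0, 1, 0, 1, 0, 4, 0, 4]), (5, false, [0, 1, 0, 2, 4, 3, 4, 0, 1, 3, 1, 3, 4, 3]), (34, true, [3, 1, 0, 4, 3, 1, 3, 1, 0, 4, 3, 1, 0, 1]), (203, false, [1, 0, 4, 0, 4, 0, 1, 3, 4, 3, 4, 0]), (91, false, [0, 1, 0, 1, 2, 0, 4, 3, 1, 0, 1, 3, 4, 3, 1]), (119, true, [1, 0, 1, 0, 1, 2, 0, 4, 3, 1, 0]), (91, false, [4, 0, 4, 0, 1, 3, 1, 3, 1, 3, 1, 0, 1]), (194, false, [3, 4, 3, 4, 0, 1, 3, 4, 3, 4, 0, 4, 3]), (262, false, [4, 0, 4, 3, 1, 3, 1, 0, 4, 0]), (224, false, [1, 3, 4, 3, 4, 3, 4, 0, 4, 3, 4, 0, 1]), (260, false, [1, 2, 0, 1, 3, 4, 0, 1, 0, 1, 0, 1, 3, 4]), (268, true, [1, 0, 2, 4, 3, 4, 0, 1, 3, 1, 0, 4]), (5, false, [0, 4, 0, 1,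 0, 1, 0, 4, 0, 4, 0, 1, 0]), (235, true, [2, 0, 4, 3, 1, 3, 1, 0, 1, 3, 4, 3, 4, 0]), (95, true, [3, 4, 0, 4, 0, 4, 3, 4, 3, 4, 3, 4, 0, 1, 0, 1]), (272, false, [2, 0, 4, 3, 4, 3, 4, 0, 4, 0, 4, 3, 1, 0, 4]), (83, true, [4, 0, 1, 3, 4, 3, 1, 0, 1, 0, 4, 3]), (187, false, [3, 1, 3, 1, 0, 1, 3, 4, 0, 4, 0, 1, 0]), (10, true, [0, 1, 3, 1, 3, 1, 3, 1, 3, 1, 3, 4, 3, 4, 0, 1]), (212, true, [0, 1, 0, 4, 3, 4, 0, 1]), (181, false, [1, 0, 1, 3, 4, 3, 4, 3, 1, 0, 1, 3]), (96, true, [1, 2, 0, 4, 3, 4, 3, 4, 0, 4, 3, 1, 0]), (181, false, [2, 0, 1, 0, 1, 0, 4, 0, 4, 3, 1, 0, 4, 0, 4, 0]), (96, true, [0, 4, 0, 4, 3, 4, 0, 4, 0]), (105, false, [1, 2, 0, 1, 0, 1, 3, 1, 3, 1, 3, 1, 0, 4]), (277, false, [0, 1, 3, 1, 0, 1, 3, 1, 0, 1, 0,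 4, 3]), (80, false, [3, 1, 0, 1, 0, 1, 0, 4, 0, 4, 3]), (272, false, [1, 2, 0, 1, 0, 4, 3, 4, 0, 4, 0, 4, 3, 4, 0]), (236, true, [0, 1, 3, 4, 0, 4, 0, 4, 3, 4, 3, 4, 3, 4, 0, 4, 3]), (179, true, [1, 2, 0, 4, 3, 4, 0, 1, 3, 1, 3, 1, 0, 1, 3, 1, 3]), (124, true, [0, 2, 4, 3, 1, 3, 1, 0, 4, 3, 4, 0, 1, 3, 1]), (125, true, [0, 2, 4, 3, 4, 3, 1, 0, 1, 0, 4, 0]), (85, false, [1, 0, 2, 4, 3, 4, 0, 4, 3, 4, 0, 4, 3]), (220, true, [1, 2, 0, 1, 0, 4, 0, 4, 3, 1, 0, 4]), (135, true, [0, 1, 3, 1, 3, 1, 0, 1, 3, 4, 0, 4, 3, 1]), (239, false, [2, 0, 4, 3, 4, 3, 1, 0, 4, 3, 4, 3, 1, 3]), (77, false, [1, 0, 1, 3, 1, 3, 1, 0, 1, 0, 1, 3, 1]), (64, false, [1, 0, 1, 0, 1, 2, 0, 1, 0, 1, 3, 1, 3, 4, 3, 4]), (262, false, [2, 4, 0, 1, 0, 1, 0,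 1, 3, 4, 3, 4, 0, 1, 3, 1]), (224, false, [2, 4, 0, 1, 0, 4, 3, 4, 0, 4, 0, 4, 3, 4, 3]), (260, false, [0, 1, 3, 4, 0, 4, 3, 4, 3, 4, 3, 1, 0, 1]), (197, true, [0, 4, 0, 1, 0, 1, 0, 1, 3, 1, 0]), (141, true, [2, 4, 3, 1, 0, 4, 0, 4, 3, 1, 3, 1, 0, 4]), (113, false, [3, 4, 3, 1, 0, 1, 3, 1, 3, 4, 0, 1, 0]), (176, false, [1, 0, 1, 0, 1, 0, 1, 0, 1, 0, 1, 0, 1, 2]), (250, true, [4, 0, 1, 3, 1, 3, 1, 3, 4, 3, 4, 3, 4]), (86, false, [0, 1, 3, 1, 3, 4, 0, 4, 3, 1, 0, 1, 0]), (110, false, [2, 0, 1, 0, 1, 0, 1, 3, 1, 3, 1, 0, 1]), (195, false, [0, 4, 0, 4, 3, 1, 3, 1, 3, 1, 0]), (6, true, [1, 0, 2, 4, 0, 4, 3, 4, 0, 1, 0, 1, 3, 1]), (151, false, [1, 0, 1, 0, 1, 0, 4, 3, 4, 3, 1, 0, 1, 0, 1, 0]), (162, true, [3, 4, 3, 1, 0, 1, 3,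 4, 3, 4, 0, 4])]
def r167 : List (ℕ × Bool × List ℕ) := [(221, true, [0, 1, 2, 0, 4, 0, 4, 0, 4, 3, 1, 3]), (276, true, [1, 3, 1, 0, 4, 0, 4, 3, 1, 3, 4, 0, 4, 0]), (89, true, [3, 4, 0, 4, 0, 4, 0, 4, 0, 4, 0, 1]), (92, true, [0, 1, 0, 1, 0, 1, 2, 0, 1, 0, 1, 3, 4, 0, 1]), (263, false, [1, 2, 0, 4, 0, 4, 3, 4, 0, 4, 0, 1, 3]), (149, false, [4, 0, 4, 3, 1, 0, 1, 0]), (111, false, [2, 4, 0, 4, 3, 1, 0, 1, 3, 1, 3, 1, 0, 4, 0, 1]), (181, false, [0, 1, 0, 1, 0, 2, 4, 3, 4, 0, 1, 0, 1, 0, 4]), (225, false, [4, 0, 1, 3, 4, 0, 4, 0, 4, 3, 4, 0, 1, 0]), (90, true, [1, 2, 0, 1, 3, 4, 3, 4, 3, 4, 0, 1, 0, 4]), (258, true, [0, 1, 0, 4, 0, 4, 3, 1, 3, 4, 0, 4, 3, 1, 0]), (263, false, [0, 1, 3, 4, 0, 4, 0, 4, 0, 4, 3, 1, 3, 1, 0, 1]),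 (73, true, [1, 2, 0, 1, 0, 1, 0, 4, 0, 4, 3, 4, 3, 4]), (276, true, [0, 1, 0, 1, 0, 1, 0, 1, 0, 4]), (254, true, [2, 4, 0, 4, 0, 4, 3, 1, 3]), (89, false, [1, 0, 1, 0, 1, 0, 1, 3, 1, 3, 1, 0, 1, 3, 1, 0, 4, 0]), (167, true, [3, 1, 3, 4, 3, 4, 0, 1, 3, 1, 0, 4, 0]), (97, false, [1, 0, 2, 4, 3, 4, 3, 1, 0, 1, 0, 4, 0]), (136, false, [1, 3, 4, 0, 4, 3, 4, 3, 4, 0, 4, 3, 1, 0, 4, 3]), (127, false, [3, 4, 0, 4, 0, 1, 3, 1, 0, 4, 0, 4, 0, 1, 0]), (108, false, [4, 3, 4, 0, 4, 0, 1, 3, 4, 0, 4, 0, 1]), (223, true, [1, 0, 2, 4, 3, 4, 0, 4, 3, 1, 3, 1, 3, 4, 0]), (258, true, [0, 1, 0, 1, 2, 0, 1, 0, 4, 3, 4, 3, 1, 0, 1]), (228, true, [1, 2, 0, 4, 3, 1, 3, 1, 0, 1, 3, 1, 3]), (254, true, [0, 1, 3, 4, 0, 4, 0, 4, 0, 4, 3, 1, 3, 1]),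 (276, true, [0, 1, 2, 0, 4, 0, 4, 0, 1, 3, 1, 0, 1, 0, 1, 3]), (216, false, [0, 4, 3, 1, 0, 1, 0, 1, 3, 1, 3, 4, 3]), (249, false, [0, 1, 0, 4, 3, 1, 3, 1, 3, 1, 3, 1]), (278, true, [2, 0, 4, 0, 4, 3, 1, 3, 4, 0, 4, 3, 1]), (89, false, [2, 4, 0, 1, 0, 1, 0, 1, 3, 4, 0, 1, 0, 4]), (156, true, [3, 1, 3, 1, 0, 4, 0, 4, 0, 4, 3, 1]), (167, true, []), (156, true, [0, 4, 0, 1, 3, 1, 3, 1, 3, 4, 3, 4]), (23, false, [0, 1, 3, 4, 3, 4, 3, 4, 3, 4, 3, 1]), (136, false, [1, 2, 0, 1, 0, 1, 0, 4, 3, 1, 3]), (135, true, [2, 4, 3, 4, 3, 4, 3, 1, 0, 4, 0]), (277, false, [0, 2, 4, 3, 4, 3, 1, 0, 4, 3, 4, 0, 1, 0]), (198, true, [0, 4, 3, 1, 0, 1, 3, 1, 3, 1, 0, 1, 0, 1]), (268, true, [4, 3, 1, 0, 4, 0, 4, 3, 4, 3]), (268, true, [0, 2, 4,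 0, 4, 0, 4, 0, 4, 3, 1, 3, 1, 0, 4, 0]), (197, false, [4, 3, 4, 0, 1, 3, 1, 3, 4, 0, 1, 0, 1]), (223, true, [4, 3, 4, 3, 4, 3, 1, 0, 4, 3, 4, 3, 4, 3]), (98, false, [3, 4, 0, 4, 3, 4, 0, 4, 0, 4, 3, 4, 3]), (219, true, [1, 3, 4, 0, 1, 0, 1, 3, 4, 3, 4, 0, 1]), (232, true, [1, 3, 4, 0, 4, 0, 4, 0, 4, 3, 4, 3, 4, 0, 1, 0]), (262, false, [1, 2, 0, 4, 3, 1, 0, 1, 3, 1, 3, 1, 0, 4, 3, 4, 0]), (262, false, [0, 1, 0, 1, 0, 1, 3, 4, 0, 1, 3, 1, 0, 1, 0, 4, 3]), (105, true, [1, 0, 1, 0, 4, 3, 4, 0, 1, 0, 1, 0, 1, 3, 1]), (105, true, [1, 2, 0, 1, 0, 4, 3, 4, 0, 1, 0, 1, 0, 1, 3, 1]), (79, false, [3, 1, 0, 4, 3, 4, 3, 1, 0, 4, 0, 1]), (66, false, [2, 0, 1, 0, 4, 3, 1, 0, 1, 0, 4, 3, 4]), (229, false, [0, 1, 0, 1, 2, 0, 1, 0, 4, 3,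 1, 3, 1, 0, 1]), (232, true, [0, 1, 2, 0, 1, 3, 4, 0, 4, 0, 4, 0, 1, 3, 4]), (9, true, [1, 0, 1, 0, 1, 3, 1, 3, 1, 0, 1, 0, 4, 0]), (23, false, [0, 1, 0, 1, 2, 0, 1, 0, 1, 3, 1, 3, 4, 0, 1, 0]), (259, false, [4, 0, 4, 0, 1, 3, 4, 3, 4, 0, 1, 0, 4]), (72, false, [1, 2, 0, 4, 0, 4, 3, 4, 3, 1, 0, 1, 0, 1, 0, 4, 0]), (220, true, [2, 4, 0, 4, 0, 1, 3, 1, 0, 4, 3, 4, 0]), (3, true, [0, 2, 4, 0, 1, 0, 1, 0, 4, 3, 4, 3, 4]), (277, false, [4, 3, 4, 0, 4, 0, 4, 3, 4, 3, 4, 3, 1]), (79, false, [4, 0, 1, 0, 4, 3, 1, 3, 1, 3, 4, 0, 4, 3, 1]), (205, false, [2, 0, 4, 0, 1, 0, 1, 3, 1, 0, 4, 0]), (20, true, [1, 2, 0, 1, 0, 1, 3, 1]), (124, true, [0, 1, 0, 1, 0, 2, 4, 0, 4, 3, 4, 3, 1, 0, 1, 0, 1]), (98, false, [0, 2, 4, 3, 4, 3, 4, 3,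 4, 0, 1, 3]), (119, false, [0, 4, 3, 1, 3, 1, 3, 4, 3, 4, 0, 1, 0, 1]), (219, true, [1, 2, 0, 1, 3, 4, 0, 4, 0, 1, 3, 1, 3]), (75, true, [2, 4, 0, 1, 0, 1, 3, 4, 0, 1, 0, 1, 3, 1, 3]), (241, false, [3, 1, 3, 4, 3, 4, 0, 4, 3, 1, 0, 4]), (83, true, [1, 3, 4, 0, 1, 3, 1, 3, 4, 3, 4, 3, 1]), (66, false, [1, 3, 4, 3, 1, 0, 4, 0, 4, 0, 4, 3]), (229, false, [3, 4, 3, 1, 0, 4, 0, 4, 3, 4, 3, 1]), (72, false, [3, 4, 0, 1, 3, 1, 0, 4, 0, 4, 3, 1, 0, 1, 0, 1]), (62, false, [0, 1, 3, 1, 3, 1, 3, 1, 0, 1, 0, 4, 0]), (220, true, [4, 0, 1, 0, 1, 3, 1, 0, 1, 3, 4, 0]), (34, true, [3, 4, 3, 1, 0, 1, 0, 4, 3, 4, 0, 1, 3, 4, 3]), (97, false, [0, 1, 0, 4, 3, 1, 0, 1, 0, 4, 3]), (20, true, [1, 0, 4, 0, 1, 3, 1, 0, 1, 3]), (119, true, [3, 1,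 0, 1, 0, 1, 3, 4, 0, 4, 3, 1, 3, 1, 0, 4]), (124, true, [0, 1, 0, 4, 3, 1, 0, 4, 0, 4, 3]), (161, false, [0, 1, 3, 4, 0, 4, 3, 4, 3]), (90, true, [1, 3, 4, 0, 4, 3, 4, 3, 4, 3, 4, 0, 1, 0, 4]), (89, true, [2, 4, 0, 4, 0, 4, 0, 4, 3, 1, 3, 4, 0, 4, 3, 4, 0]), (243, true, [0, 1, 0, 1, 3, 1, 0, 4, 0, 4, 3]), (8, false, [1, 0, 1, 0, 1, 3, 4, 0, 1, 0, 1]), (73, true, [3, 4, 0, 4, 3, 1, 0, 1, 0, 1, 3, 1, 3, 4, 3, 4]), (149, false, [2, 4, 0, 1, 0, 1, 3, 1, 3, 1, 0, 4, 0, 4, 3, 1]), (205, false, [2, 0, 4, 3, 1, 0, 1, 0, 4, 3, 4]), (111, false, [4, 0, 4, 3, 1, 0, 1, 3, 1, 3, 1, 0, 4, 0, 1]), (97, false, [1, 3, 1, 3, 1, 3, 1, 3, 4, 3, 4, 0, 4, 3, 4, 0]), (92, true, [1, 0, 1, 3, 4, 0, 4, 0, 4, 0, 4, 0]), (21, false, [0, 2, 4, 3, 1,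 0, 4, 3, 4, 0, 1, 0, 4]), (80, true, [4, 0, 1, 3, 4, 3, 1, 0, 1, 3, 1, 3, 4, 0]), (269, false, [3, 4, 3, 4, 0, 4, 0, 4, 3, 1, 0, 4, 0, 1]), (269, false, [2, 4, 0, 1, 0, 1, 0, 4, 3, 4, 0, 4, 0, 4, 0, 1, 3]), (80, true, [3, 1, 3, 4, 3, 4, 0, 4, 3, 4, 0, 4, 0, 1]), (141, false, [1, 2, 0, 1, 3, 1, 0, 1, 0, 1, 3, 4, 0, 1, 0, 1, 0]), (123, false, [0, 1, 3, 4, 0, 1, 0, 1, 0, 4, 3, 1]), (225, false, [0, 2, 4, 0, 1, 3, 1, 0, 1, 3, 1, 3, 4, 3, 4, 3, 4, 0]), (127, false, [1, 0, 1, 2, 0, 1, 0, 1, 3, 4, 0, 4, 0, 1]), (21, false, [1, 0, 4, 3, 4, 0, 1, 0, 1, 3, 4]), (92, true, [3, 1, 0, 1, 0, 4, 0, 4, 0, 4, 0, 1, 3]), (221, true, [0, 4, 3, 4, 0, 4, 0, 4, 0, 4, 3, 1, 3, 1]), (92, true, [0, 2, 4, 0, 4, 3, 4, 0, 4, 0, 4, 3, 4, 3, 4]), (123,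 false, [2, 4, 3, 4, 0, 4, 0, 1, 3, 4, 0, 4]), (141, false, [0, 1, 3, 4, 0, 1, 3, 1, 0, 1, 0, 4, 3]), (276, true, [1, 0, 2, 4, 3, 4, 3, 4, 0, 4, 3, 4, 0, 4, 0, 4, 3]), (181, false, [0, 1, 0, 4, 0, 4, 0, 4, 3, 4, 3, 4, 0, 4, 3, 1]), (141, false, [0, 1, 0, 4, 3, 1, 0, 1, 3, 4, 3, 1, 0, 4, 0, 4, 0, 1]), (141, false, [0, 2, 4, 3, 1, 0, 4, 3, 4, 0, 1, 3, 1, 3, 1, 3, 1, 0, 1]), (167, true, [3, 1, 3, 4, 0, 4, 3, 1, 0, 1, 0, 4, 0]), (207, true, [1, 0, 1, 3, 1, 3, 1, 0, 4, 0, 4, 3, 4, 3, 4])]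

theorem q156 : closeb 18 ps18 base7 rgR om xs x156 orb r156 = true := by decide +kernel
theorem q157 : closeb 18 ps18 base7 rgR om xs x157 orb r157 = true := by decide +kernel
theorem q158 : closeb 18 ps18 base7 rgR om xs x158 orb r158 = true := by decide +kernel
theorem q159 : closeb 18 ps18 base7 rgR om xs x159 orb r159 = true := by decide +kernel
theorem q160 : closeb 18 ps18 base7 rgR om xs x160 orb r160 = true := by decide +kernel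
theorem q161 : closeb 18 ps18 base7 rgR om xs x161 orb r161 = true := by decide +kernel
theorem q162 : closeb 18 ps18 base7 rgR om xs x162 orb r162 = true := by decide +kernel
theorem q163 : closeb 18 ps18 base7 rgR om xs x163 orb r163 = true := by decide +kernel
theorem q164 : closeb 18 ps18 base7 rgR om xs x164 orb r164 = true := by decide +kernel
theorem q165 : closeb 18 ps18 base7 rgR om xs x165 orb r165 = true := by decide +kernel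
theorem q166 : closeb 18 ps18 base7 rgR om xs x166 orb r166 = true := by decide +kernel
theorem q167 : closeb 18 ps18 base7 rgR om xs x167 orb r167 = true := by decide +kernel

theorem c13 : Rows xc13 :=
  Rows.cons q156 (Rows.cons q157 (Rows.cons q158 (Rows.cons q159 (Rows.cons q160 (Rows.cons q161 (Rows.cons q162 (Rows.cons q163 (Rows.cons q164 (Rows.cons q165 (Rows.cons q166 (Rows.cons q167 Rows.nil)))))))))))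

end Cfsg.Agent.H698.U33.Clo
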