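import Cfsg.Agent.H698.U33.Clo.Rows

/-!
# S5525: the closure certificate, rows 168 to 179 (helper698; data of helper819, helper763)
-/

set_option autoImplicit false
set_option maxRecDepth 100000
set_option Elab.async false

namespace Cfsg.Agent.H698.U33.Clo

def r168 : List (ℕ × Bool × List ℕ) := [(85, false, [1, 2, 0, 1, 0, 4, 0, 4, 0, 1, 3, 4, 3, 1]), (254, false, [1, 3, 1, 3, 1, 0, 1, 0, 1, 0, 1, 3, 4, 3]), (100, false, [0, 4, 0, 1, 3, 1, 3, 1, 3, 4, 0]), (248, true, [2, 0, 4, 0, 4, 3, 4, 0, 1, 0, 1, 3, 1, 0]), (140, true, [2, 4, 3, 1, 3, 1, 3, 1, 3]), (168, true, []), (7, false, [2, 0, 1, 0, 4, 3, 1, 3, 4, 0, 4, 0, 1, 3]), (10, true, [0, 4, 3, 1, 3, 4, 0, 4, 3, 4, 3, 4, 0, 1, 0, 1]), (3, false, [0, 2, 4, 3, 4, 0,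 4, 0, 1, 3, 4, 0]), (259, true, [0, 1, 0, 1, 2, 0, 1, 3, 1, 3, 1, 0, 1, 3, 4, 0, 4]), (278, true, [0, 4, 0, 4, 3, 4, 0, 4, 0, 4, 0]), (113, false, [4, 0, 4, 0, 4, 3, 4, 3, 4, 3]), (170, false, [4, 0, 1, 0, 1, 3, 4, 0, 4, 0, 4, 3, 4, 3, 1, 0]), (255, false, [1, 0, 1, 2, 0, 1, 0, 1, 3, 4, 3, 4, 0, 1, 0, 1, 0]), (178, true, [3, 1, 3, 1, 3, 4, 3, 4, 0, 1, 3, 1, 0, 1, 3, 4]), (265, false, [1, 0, 2, 4, 3, 4, 3, 1, 0, 4, 0, 1]), (168, false, [0, 1, 0, 2, 4, 0, 4, 3, 1, 0, 1, 3, 4, 3]), (25, true, [0, 2, 4, 0, 1, 3, 4, 3, 1]), (182, false, [1, 3, 1, 3, 1, 3, 4, 0, 1, 3, 1, 0, 4, 0, 1]), (168, true, []), (178, false, [0, 1, 0, 1, 3, 1, 0, 1, 3, 1]), (73, true, [1, 2, 0, 1, 3, 4, 0, 4, 3, 4, 0, 4, 3, 1, 3, 4, 0]), (28, false, [0,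 4, 3, 1, 0, 1, 0, 1, 3, 1, 0, 1]), (177, true, [0, 1, 0, 1, 2, 0, 1, 3, 1, 0, 1, 3, 1, 0, 1]), (141, false, [0, 4, 0, 4, 3, 1, 0, 1, 0, 4, 3, 4, 0, 1, 0, 4]), (176, true, [1, 0, 1, 0, 1, 0, 4, 3, 1, 3, 1, 0, 4, 0, 1]), (233, true, [1, 0, 2, 4, 0, 1, 3, 1, 0, 1, 3, 1, 3]), (239, false, [0, 1, 3, 1, 0, 4, 0, 4, 0, 4, 3, 1, 0]), (15, false, [1, 3, 4, 3, 4, 0, 1, 3, 1, 0, 1, 0, 4]), (135, false, [3, 1, 3, 1, 3, 1, 3, 4, 3, 4, 0, 1, 3, 1]), (260, true, [1, 0, 1, 2, 0, 4, 3, 1, 3, 1, 0, 4]), (168, false, [2, 0, 1, 3, 4, 0]), (31, false, [4, 0, 1, 3, 4, 3, 4, 0, 1, 3, 4, 3, 4]), (171, true, [1, 0, 1, 3, 1, 0, 1, 3, 1, 0, 1, 0]), (168, true, []), (25, true, [0, 1, 2, 0, 4, 0, 1, 3, 1, 0, 4, 0, 4, 0, 1, 0]), (122, false, [2, 0,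 1, 3, 4, 0, 1, 3, 1, 0, 1, 0, 1, 3, 1]), (85, false, [2, 0, 4, 3, 4, 0, 4, 0, 4, 3, 4, 0, 4, 3]), (59, false, [0, 1, 3, 4, 3, 4, 3, 1, 0, 1, 3, 4, 3, 4, 0, 4]), (254, false, [0, 2, 4, 3, 4, 3, 1, 0, 1, 0, 1, 0, 4, 3]), (26, false, [3, 1, 3, 1, 3, 1, 0, 4, 3, 1, 0, 1]), (122, false, [3, 4, 0, 1, 3, 1, 3, 1, 3, 1]), (7, true, [0, 2, 4, 0, 4, 0, 4, 0, 4, 3, 1, 3, 1, 0, 4, 0, 4]), (265, true, [3, 4, 0, 4, 0, 1, 3, 1, 3, 4, 3]), (187, true, [1, 0, 4, 3, 1, 0, 1, 0, 1, 0]), (69, true, [1, 2, 0, 4, 0, 4, 0, 1, 3, 1, 0, 4, 0, 4]), (7, false, [1, 2, 0, 1, 0, 4, 0, 4, 3, 1, 3, 4, 0, 1, 3]), (77, false, [0, 1, 0, 1, 2, 0, 1, 3, 1, 0, 1, 0, 1, 3]), (77, true, [1, 3, 1, 0, 1, 3, 4, 0, 4, 3, 4, 0, 4, 0]), (10, false, [0, 1, 0, 1, 3,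 1, 3, 1, 3, 4, 0, 4, 0, 1]), (81, false, [4, 0, 1, 0, 4, 3, 4, 3, 1, 0, 1, 0, 1]), (12, true, [4, 3, 1, 3, 4, 0, 4, 0, 4, 3, 4, 0, 1, 3, 1, 3]), (94, false, [1, 0, 1, 0, 1, 3, 4, 0, 1, 0, 1, 0, 4]), (100, false, [1, 3, 4, 3, 1, 0, 1, 3, 1, 0, 1, 0, 1, 3]), (170, false, [0, 2, 4, 3, 4, 0, 1, 3, 1, 3, 1, 0, 4, 3, 1, 0]), (275, true, [0, 4, 0, 1, 3, 1, 0, 1, 3, 1, 3, 1, 3, 4, 0, 4]), (217, false, [3, 1, 3, 1, 0, 4, 3, 1, 0, 1]), (28, false, [0, 2, 4, 0, 4, 3, 4, 0, 4, 0, 4, 3, 4, 0, 4]), (250, true, [1, 3, 1, 3, 4, 0, 4, 3, 4, 0, 1, 3, 1]), (73, true, [4, 0, 4, 3, 4, 0, 4, 0, 1, 3, 1, 0, 1]), (73, false, [1, 0, 1, 0, 1, 0, 1, 2, 0, 1, 0, 4, 0, 4]), (218, true, [3, 1, 3, 4, 0, 4, 3, 1, 0, 4, 0, 4, 3]), (110, true, [1, 0,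 1, 3, 4, 0, 4, 0, 4, 0, 4, 3, 1, 3]), (69, true, [1, 3, 4, 0, 1, 3, 1, 0, 1, 3, 1, 3]), (265, true, [1, 3, 1, 0, 1, 3, 4, 0, 1, 0, 1]), (20, true, [0, 1, 0, 2, 4, 3, 4, 0, 4, 0, 4, 3]), (7, true, [3, 1, 0, 1, 3, 4, 0, 4, 3, 1, 3, 4, 0, 4, 0, 1]), (168, true, []), (85, false, [0, 4, 3, 4, 0, 4, 0, 1, 3, 4, 0]), (178, false, [1, 2, 0, 1, 0, 1, 3, 1, 0, 1, 3, 1, 3, 1, 3, 4, 3]), (25, true, [0, 1, 3, 1, 0, 1, 3, 1, 0, 1, 3, 1, 3, 1]), (7, false, [4, 3, 4, 0, 4, 0, 1, 3, 4, 3, 4, 0, 4, 3, 1, 0]), (82, true, [0, 1, 0, 2, 4, 3, 4, 3, 1, 0, 4, 0, 1]), (218, true, [2, 4, 0, 1, 3, 4, 3, 4, 0, 4, 3, 1, 3, 4, 0, 4]), (278, true, [2, 4, 0, 1, 0, 1, 0, 4, 3, 4, 3]), (250, false, [0, 1, 0, 1, 3, 1, 3, 1, 0, 4, 3, 4, 0, 4]), (177, false,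 [1, 0, 1, 3, 1, 0, 1, 3, 4, 3, 4]), (110, true, [0, 1, 2, 0, 1, 3, 4, 3, 4, 3, 4, 0, 4, 3, 4, 0, 1]), (38, false, [1, 2, 0, 1, 3, 4, 0, 4, 3, 4, 3, 4, 3]), (7, false, [0, 1, 0, 4, 3, 1, 0, 1, 0, 1, 3, 1, 3, 1]), (275, true, [4, 0, 1, 0, 1, 0, 4, 0, 4, 0, 4, 3, 4]), (11, true, [1, 0, 4, 3, 1, 0, 1, 3, 4, 3, 4, 0, 4]), (100, true, [0, 2, 4, 0, 4, 3, 1, 0, 1, 3, 4, 3]), (25, true, [4, 3, 1, 0, 1, 0, 1, 3, 1, 0]), (2, false, [3, 1, 0, 1, 3, 1, 0, 4, 0, 4, 0, 1]), (171, true, [2, 4, 0, 4, 0, 1, 3, 1, 3, 4, 3, 4]), (182, false, [2, 4, 3, 4, 3, 1, 0, 1, 0, 1, 0, 1]), (2, true, [1, 0, 2, 4, 3, 4, 0, 1, 3, 1, 0, 1, 3]), (12, true, [0, 1, 0, 1, 2, 0, 4, 0, 1, 3]), (81, false, [4, 3, 4, 3, 1, 0, 1, 3, 1, 0, 1, 0, 4]), (170, false,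 [3, 1, 3, 1, 3, 4, 3, 4, 0, 4, 3, 4, 0, 1, 3, 4]), (168, false, [3, 1, 0, 1, 3, 4, 0, 4, 3, 4, 3, 4, 0, 1]), (31, false, [0, 1, 3, 4, 0, 1, 0, 1, 3, 4, 3]), (94, false, [1, 0, 1, 3, 4, 0, 4, 3, 1, 3, 4, 0, 4, 0, 4]), (187, true, [1, 0, 4, 3, 4, 3, 1, 0, 1, 3, 4, 3]), (260, true, [3, 4, 0, 4, 0, 4, 0, 4, 3, 1, 0, 4, 3]), (176, true, [0, 1, 3, 4, 0, 4, 3, 4, 3, 4, 3, 1]), (178, true, [1, 0, 1, 2, 0, 1, 0, 4]), (59, true, [0, 1, 3, 1, 3, 1, 0, 4, 0, 4, 3, 1, 3, 4]), (51, true, [1, 2, 0, 4, 3, 1, 3, 1, 0, 1, 3, 1, 0, 1]), (248, true, [3, 1, 3, 4, 3, 4, 0, 1, 3, 1, 3]), (168, false, [2, 4, 3, 4, 3, 4, 0, 1, 3, 1, 3, 1]), (170, false, [1, 0, 1, 0, 1, 2, 0, 1, 0, 1, 3, 4, 0]), (85, false, [3, 1, 3, 4, 0, 4, 3, 4, 0, 4, 0, 4,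 0]), (141, false, [2, 4, 3, 1, 3, 1, 0, 1, 3, 4, 3, 4, 0, 4]), (255, false, [1, 0, 1, 0, 4, 0, 4, 3, 1, 3, 4, 0, 4, 3, 1]), (59, false, [1, 0, 4, 0, 4, 3, 4, 3, 4, 0]), (73, false, [3, 1, 0, 1, 0, 1, 0, 4, 0, 4, 0, 4, 3, 4, 0, 4]), (230, false, [0, 1, 0, 1, 0, 1, 3, 1, 0, 4, 3, 1, 0, 1, 0]), (100, true, [0, 2, 4, 0, 4, 3, 1, 0, 1, 3, 4, 3]), (15, false, [1, 3, 4, 0, 1, 0, 1, 3, 4]), (80, false, [0, 4, 0, 1, 0, 1, 3, 1, 0, 1, 0, 4])]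
def r169 : List (ℕ × Bool × List ℕ) := [(226, true, [1, 3, 4, 0, 1, 0, 1, 3, 4, 3, 4, 0, 1]), (6, true, [3, 4, 0, 1, 3, 1, 3, 1, 3, 4, 0]), (140, false, [0, 4, 3, 1, 0, 1, 0, 1, 0, 4, 0, 4, 0]), (141, true, [1, 0, 4, 3, 4, 3, 1, 0, 1, 0, 1, 0, 1, 3, 4, 0, 1]), (251, true, [0, 1, 0, 1, 3, 1, 3, 4, 0, 1, 0, 1, 0, 1, 3, 4]), (208, false, [0, 1, 3, 4, 0, 4, 3]), (92, true, [4, 0, 1, 0, 1, 3, 4, 0, 1, 0, 1, 3, 1, 3]), (236, true, [1, 2, 0, 4, 3, 4, 3, 1, 0, 1, 0, 1, 0, 4, 3]), (107, true, [0, 4, 0, 1, 3, 1, 3, 4, 0, 4, 3, 4]), (242, false, [0, 2, 4, 0, 1, 3, 1, 3, 4, 3, 4, 3, 1, 0, 4]), (83, false, [0, 4, 0, 1, 3, 1, 3, 1, 0, 1, 3, 4, 3, 1]), (144, true, [0, 4, 0, 1, 0, 1, 0, 1, 0]), (124, true, [1, 0, 2, 4, 3, 1, 0, 1, 0,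 1, 0, 1, 3, 4, 0, 1, 3]), (236, false, [1, 2, 0, 1, 0, 1, 0, 1, 3, 4, 3, 1, 0, 4, 0, 4]), (206, true, [4, 3, 1, 0, 1, 0, 1, 3, 1, 3, 4, 0, 4, 3]), (196, false, [1, 2, 0, 4, 3, 1, 0, 1, 3, 4, 3]), (70, false, [2, 0, 1, 0, 1, 0, 1, 3, 4, 3, 4, 0, 1, 0, 1, 3]), (140, false, [2, 0, 1, 0, 4, 0, 4, 3, 1, 3, 4, 0, 4]), (96, true, [1, 3, 1, 3, 1, 3, 1, 3, 4, 3, 4, 3, 4, 0, 4, 3, 1]), (108, false, [3, 1, 0, 4, 0, 4, 3, 4, 3, 4, 0, 4, 0, 4, 0, 4, 0]), (0, true, [3, 4, 3, 1, 0, 1, 0, 1, 0, 4, 0]), (124, true, [0, 2, 4, 3, 1, 0, 1, 0, 1, 0, 1, 3, 1, 3, 4, 3]), (247, false, [0, 1, 3, 1, 0, 4, 3, 1, 3, 1, 0, 4, 3]), (206, true, [4, 0, 1, 3, 4, 3, 4, 0, 4, 3, 4, 0]), (246, false, [1, 3, 1, 3, 1, 3, 4, 3, 4, 0, 1, 3]), (188, false, [0,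 1, 0, 1, 0, 2, 4, 0, 4, 3, 1, 0, 1]), (108, true, [0, 4, 3, 1, 0, 1, 0, 1, 3, 1, 0, 1, 3, 1, 0, 4]), (121, false, [4, 3, 1, 3, 4, 0, 1, 3, 1, 0, 4, 0]), (269, false, [0, 4, 0, 1, 3, 1, 3, 4, 0, 1, 0, 1, 3, 1, 0]), (251, false, [4, 0, 4, 3, 1, 3, 1, 3, 4, 3, 4, 0, 4, 3, 4]), (206, false, [4, 3, 4, 3, 1, 0, 4, 0, 4, 0, 1, 3]), (70, false, [4, 3, 4, 3, 4, 3, 4, 0, 4, 0, 4, 0, 4, 3, 4]), (40, true, [0, 1, 0, 1, 2, 0, 4, 3, 4, 3, 1, 0, 1, 3, 4]), (91, false, [3, 1, 3, 1, 3, 1, 0, 1, 0, 1, 0, 1, 3]), (208, false, [2, 4, 0, 1, 0, 1, 3, 4, 0, 4, 3]), (236, true, [2, 4, 3, 1, 0, 1, 0, 1, 0, 1, 3, 4, 3, 1, 0, 4]), (79, false, [0, 1, 3, 1, 3, 4, 0, 4, 3, 4, 3, 1, 0, 1, 0]), (236, false, [1, 2, 0, 4, 0, 4, 0, 4, 3, 1, 0, 1, 3]),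 (262, true, [0, 4, 3, 4, 0, 1, 0, 1, 3, 4, 3, 4, 0, 1, 0]), (6, true, [0, 1, 2, 0, 1, 0, 1, 0, 1, 3, 1, 3, 1, 3, 1, 0, 4, 0]), (197, false, [1, 3, 4, 0, 1, 0, 1, 3, 4, 0, 1, 0, 4]), (79, false, [4, 3, 1, 3, 1, 3, 4, 3, 4, 3, 4, 3, 4, 3]), (221, true, [4, 0, 4, 0, 4, 3, 4, 0, 4]), (263, true, [0, 1, 3, 4, 0, 1, 3, 1, 3, 1, 3, 1, 0, 4, 0, 1]), (128, true, [0, 2, 4, 0, 1, 3, 4, 0, 4, 0, 4, 3, 1, 0, 1, 3]), (226, false, [0, 4, 0, 1, 0, 1, 0, 1, 3, 1, 0, 1]), (224, false, [1, 0, 2, 4, 3, 4, 0, 1, 3, 1, 3, 1, 0, 1, 3, 1, 0]), (112, true, [1, 3, 1, 0, 1, 3, 4, 0, 4, 3, 4, 0, 4, 0]), (112, true, [1, 2, 0, 1, 0, 4, 3, 4, 0, 1, 0, 1, 0, 1, 3, 1]), (236, true, [0, 4, 0, 1, 3, 1, 0, 1, 0, 4, 3, 1, 3, 1, 0, 4]), (157, false, [1, 0,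 4, 3, 4, 3, 1, 0, 4, 0, 4, 3, 4, 0]), (235, true, [3, 1, 3, 1, 3, 4, 3, 4, 0, 4, 0, 4]), (224, true, [0, 1, 0, 2, 4]), (207, false, [1, 3, 1, 3, 1, 0, 1, 3, 4, 0, 4, 3, 1]), (124, true, [0, 4, 0, 1, 3, 1, 3, 1, 0, 1, 3, 4, 0, 1, 0]), (191, true, [1, 3, 1, 0, 4, 3, 1, 0, 1, 3, 1, 0]), (247, false, [1, 3, 1, 3, 1, 0, 1, 0, 1, 3, 1, 0, 1]), (247, false, [4, 0, 4, 3, 1, 0, 4, 0, 4, 0, 4, 0]), (1, false, [3, 4, 3, 4, 3, 1, 0, 1, 3, 1, 3, 4, 0, 4]), (124, true, [0, 4, 3, 1, 3, 1, 0, 4, 3, 4, 0, 4, 3]), (191, true, [1, 0, 2, 4, 0, 4, 0, 4, 3, 1]), (157, true, [0, 1, 0, 2, 4, 0, 1, 0, 4, 3, 4, 3]), (151, false, [0, 1, 0, 1, 0, 2, 4, 0, 1, 0, 4, 3, 4, 0, 4, 0, 1]), (226, false, [1, 0, 2, 4, 0, 4, 0, 4, 0, 1, 3, 1, 0]), (263, true,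 [1, 0, 1, 0, 1, 2, 0, 4, 0, 4, 3, 1, 0, 4]), (184, true, [0, 1, 0, 1, 0, 1, 3, 4, 3, 4, 0, 4, 0, 1, 3, 4]), (221, true, [0, 2, 4, 0, 4, 0, 4, 3, 4, 0, 4]), (53, true, [0, 4, 3, 1, 0, 4, 3, 4, 0, 4, 3, 4]), (236, false, [0, 1, 0, 1, 3, 1, 3, 1, 3, 1, 0, 4, 3, 1, 0, 1, 3]), (0, false, [3, 1, 3, 1, 0, 1, 3, 4, 3, 4, 0, 1]), (140, false, [4, 0, 1, 0, 1, 0, 1, 3, 1, 3, 1, 0, 1, 3, 4]), (92, true, [2, 0, 4, 0, 4, 0, 1, 3, 4, 3, 4, 0, 4, 3, 1]), (208, true, [0, 4, 3, 1, 0, 1, 3, 1, 3, 4, 0, 1, 0, 1, 0]), (157, true, [0, 1, 3, 4, 3, 4, 0, 1, 0, 1, 3, 4, 0, 4, 3]), (83, false, [3, 1, 3, 4, 3, 4, 3, 4, 0, 4, 3, 4, 0, 4, 0]), (197, true, [2, 0, 4, 0, 4, 3, 4, 0, 4, 0, 4, 3, 1]), (228, true, [1, 0, 2, 4, 3, 4, 0]), (151, false, [0,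 4, 3, 4, 0, 4, 0, 1, 3, 1, 0, 1, 0, 1]), (50, true, [3, 1, 0, 1, 3, 4, 3, 4, 3, 4]), (224, false, [3, 4, 3, 1, 3, 1, 0, 4, 3, 4]), (191, true, [0, 2, 4, 3, 1, 3, 1, 3, 4, 3, 4, 0, 1, 0, 4]), (242, true, [0, 2, 4, 3, 4, 0, 4, 3, 1, 0, 1, 3]), (177, false, [0, 1, 0, 1, 3, 1, 0, 4, 3, 1, 3, 4]), (236, true, [1, 3, 1, 3, 1, 3, 1, 0, 4, 3, 4]), (83, false, [1, 3, 1, 3, 4, 0, 4, 3, 4, 3, 4, 0, 1, 0, 1]), (91, false, [1, 2, 0, 1, 0, 1, 3, 4, 0, 1, 3, 1, 0, 1]), (96, true, [2, 4, 0, 4, 0, 4, 3, 1, 0, 1, 0, 4, 0, 4, 0, 4]), (83, false, [0, 1, 0, 1, 2, 0, 1, 0, 1, 0, 4, 0, 4, 3, 4, 0]), (235, true, [2, 4, 3, 1, 3, 4, 0, 4, 0, 4, 0, 1, 3, 1]), (157, false, [0, 2, 4, 3, 4, 3, 4, 3, 4, 3, 1, 0]), (247, false, [0, 1, 3, 1, 3, 4, 0,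 1, 3, 1, 0, 4, 3, 4]), (6, false, [1, 0, 1, 0, 1, 0, 1, 2, 0, 1, 0, 1, 0, 1, 3, 4, 0]), (40, true, [3, 4, 0, 4, 0, 4, 3, 1, 0, 4]), (224, true, [0, 4, 3, 4, 0, 4, 3, 1, 0, 1, 0, 1, 3, 1, 0, 1, 0]), (128, true, [4, 3, 4, 0, 4, 0, 1, 3, 1, 3, 1, 3]), (206, false, [4, 0, 1, 0, 4, 3, 4, 0, 4, 0, 4, 3, 1, 0]), (188, false, [1, 3, 1, 0, 4, 3, 1, 0, 1, 3, 4, 3, 1, 0, 1, 0]), (206, true, [4, 0, 1, 0, 4, 3, 4, 0, 1, 3, 1, 3, 1, 0, 1]), (117, true, [1, 0, 2, 4, 0, 1, 3, 1, 3, 4, 0, 4, 3, 1]), (120, false, [0, 2, 4, 3, 1, 3, 1, 0, 1, 0, 1, 0, 4, 0, 4]), (141, true, [2, 0, 1, 3, 1, 3, 4]), (6, false, [0, 1, 0, 4, 0, 4, 3, 1, 3, 4, 0, 4, 3, 1, 0]), (247, false, [4, 3, 1, 0, 1, 0, 1, 0, 4, 0, 4, 0, 4, 3, 1, 0]), (226, true, [0, 1,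 2, 0, 4, 3, 4, 3, 4, 0, 4, 0, 4, 0]), (246, false, [3, 1, 3, 1, 0, 1, 0, 4, 0]), (236, false, [1, 3, 1, 0, 1, 0, 1, 3, 4, 0, 1, 0, 1, 3, 1]), (262, true, [1, 2, 0, 1, 3, 4, 3, 4, 3, 4, 0, 1, 3]), (191, true, [4, 0, 4, 0, 1, 3, 1, 0, 4, 3, 4, 3, 4, 3]), (44, true, [0, 1, 0, 1, 3, 1, 0, 1, 0, 1, 3]), (240, false, [3, 1, 3, 4, 0, 4, 3, 4, 0, 4, 3]), (269, false, [2, 0, 4, 3, 4, 0, 4, 0, 4, 3, 1, 0, 4, 0, 4, 3]), (185, true, [0, 4, 3, 4, 3, 4, 0, 4, 0, 1, 3, 1, 0])]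
def r170 : List (ℕ × Bool × List ℕ) := [(220, true, [4, 3, 1, 0, 1, 3, 1, 0, 1]), (16, false, [1, 3, 1, 3, 1, 0, 4, 3, 4, 0, 1, 0, 1, 3]), (173, true, [1, 0, 1, 0, 4, 3, 1, 3, 1, 0, 1]), (19, false, [3, 4, 3, 1, 3, 1, 0, 1, 3, 4, 3, 4, 0]), (3, false, [3, 1, 3, 1, 3, 4, 3, 4, 0, 4, 0, 4, 0, 4]), (255, true, [4, 0, 4, 3, 1, 3, 4, 0, 4, 0, 4, 0, 1, 3]), (241, false, [0, 2, 4, 0, 1, 3, 1, 0, 1, 3, 4, 0]), (122, false, [1, 3, 1, 0, 4, 3, 1, 0, 1, 3, 1, 3, 1, 3]), (186, false, [0, 4, 3, 4, 3, 1, 0, 1, 0, 4, 3]), (254, true, [2, 4, 3, 4, 0, 4, 0, 1, 3, 1, 3, 4, 0, 4, 0]), (234, false, [4, 0, 4, 0, 4, 3, 4, 3, 4, 0, 4, 3, 4]), (64, false, [2, 0, 1, 3, 1, 3, 1, 0, 1, 3, 4, 3, 1, 0, 4, 0]), (267, false, [1, 3, 1, 0, 1, 0, 1, 3,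 1, 3, 1, 0, 4, 3, 1, 0]), (60, false, [0, 4, 0, 4, 0, 4, 3, 1, 0]), (127, false, [0, 4, 3, 1, 0, 4, 3, 4, 3, 4, 0, 1, 3, 1, 3]), (87, true, [0, 2, 4, 0, 4, 0, 4, 3, 1, 0, 1, 0, 1, 3, 4, 0]), (280, false, [0, 4, 0, 4, 3, 4, 0, 4, 3, 1, 3, 1]), (69, true, [1, 3, 1, 3, 4, 3, 4, 3, 4, 0, 4, 3, 4]), (56, false, [0, 1, 0, 4, 3, 4, 0, 1, 3, 4, 3]), (64, true, [1, 0, 2, 4, 3, 1, 0, 4, 0, 4, 3, 1, 3, 4]), (261, false, [3, 4, 0, 4, 3, 1, 3, 1, 0, 1, 0, 4, 3, 1]), (261, true, [0, 4, 0, 1, 3, 4, 0, 4, 0, 4, 3, 4, 0, 1, 3, 4]), (246, true, [3, 1, 0, 4, 3, 4, 3, 4, 3, 4, 0, 4, 0, 1]), (237, true, [4, 3, 4, 3, 4, 0, 4, 0, 1, 3, 4]), (177, true, [2, 0, 1, 0, 1, 0, 4, 3, 4, 3, 4]), (172, false, [0, 1, 0, 2, 4, 0, 4, 0, 1, 3, 4, 3, 4,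 3, 4]), (189, false, [3, 1, 0, 1, 3, 4, 0, 1, 0, 1, 3, 4, 3]), (178, false, [0, 1, 3, 1, 3, 1, 0, 1, 0, 1, 0, 1, 3, 4, 0, 4]), (75, false, [1, 0, 1, 3, 1, 3, 4, 0, 1, 3, 1, 0, 1, 3, 1]), (168, false, [2, 0, 4, 3, 1, 0, 4, 3, 4, 3, 4, 0, 1, 3, 1, 3]), (212, true, [0, 2, 4, 0, 1, 3, 1, 3, 4, 3, 4, 0, 4, 0, 4, 3, 4]), (7, false, [0, 4, 3, 4, 0, 4, 3, 4, 0, 4, 3, 1]), (258, false, [3, 4, 3, 4, 0, 4, 0, 4, 0]), (274, true, [1, 0, 4, 0, 4, 0, 1, 3, 1, 0, 1, 3, 1]), (151, false, [0, 1, 0, 1, 0, 2, 4, 3, 4, 0, 4, 3, 1, 3]), (92, false, [4, 3, 4, 3, 4, 0, 1, 3, 4, 3, 4, 0]), (215, true, [1, 0, 2, 4, 3, 4, 3, 4, 0, 4, 0, 4, 0, 1, 3]), (280, false, [3, 1, 0, 1, 3, 1, 0, 4, 3, 1, 3, 4, 0]), (87, true, [2, 4, 3, 4, 3, 1, 0, 1, 0,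 4, 3, 4, 3, 4]), (95, false, [1, 0, 1, 2, 0, 1, 0, 4, 3, 4, 3, 1, 0, 1]), (65, true, [2, 4, 3, 4, 3, 4, 0, 4, 0, 4, 0, 4, 3, 4, 3, 1, 3]), (185, true, [1, 0, 4, 0, 1, 3, 1]), (188, false, [1, 0, 1, 2, 0, 4, 0, 1, 3, 1, 0, 4, 0, 4]), (245, true, [4, 3, 4, 0, 4, 3, 4, 0, 4, 3, 4]), (198, false, [2, 0, 4, 0, 1, 0, 1, 0, 4, 0, 4, 3, 1, 3]), (218, true, [2, 4, 3, 1, 3, 1, 0, 4, 3, 4, 3, 4, 0]), (196, false, [3, 1, 3, 1, 0, 1, 0, 1, 3, 4, 0, 4]), (26, false, [4, 3, 1, 3, 1, 0, 4, 3, 1, 3, 4]), (170, false, [0, 4, 3, 4, 0, 4, 3, 4, 0, 1, 3, 4]), (218, true, [0, 2, 4, 0, 4, 3, 4, 0, 4, 3, 1, 3, 1, 0, 4, 0]), (275, false, [1, 2, 0, 4, 0, 1, 3, 4, 0, 4]), (170, false, [1, 0, 1, 3, 4, 3, 4, 0, 1, 3, 1, 3, 1, 3]), (170, false, [0,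 1, 0, 1, 3, 4, 3, 4, 0, 1, 3, 1, 3, 1]), (176, true, [0, 1, 2, 0, 4, 3, 4, 0, 4, 3, 1, 3, 4]), (126, false, [0, 1, 3, 1, 0, 4, 3, 1, 3, 1, 3, 1, 3, 4, 3, 4]), (98, false, [0, 1, 3, 4, 0, 1, 3, 1, 3, 4, 0, 4, 0, 4, 3, 4, 0]), (81, true, [3, 1, 3, 1, 0, 4, 0, 4, 0, 4, 3]), (246, true, [4, 0, 1, 3, 4, 0, 4, 3, 1, 3, 1, 0, 4, 3]), (65, false, [0, 4, 3, 4, 3, 1, 0, 1, 3, 1, 3, 4, 3]), (191, false, [1, 0, 1, 2, 0, 4, 3, 1, 0, 1, 0, 1, 3, 1, 3, 4]), (112, false, [0, 1, 3, 1, 0, 1, 0, 4, 3, 1, 3, 1, 0, 1, 3, 4]), (88, false, [0, 2, 4, 0, 1, 3, 1, 0, 1, 3, 1, 3, 1]), (77, true, [4, 0, 1, 0, 1, 0, 4, 3, 4, 3, 1]), (123, false, [2, 4, 0, 1, 0, 1, 3, 4, 0, 4, 3, 1, 3, 1, 3]), (72, false, [0, 2, 4, 0, 4, 3, 1, 3, 1, 3, 1, 3, 4, 3,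 4]), (199, true, [4, 0, 4, 3, 1, 0, 1, 3, 1, 0, 4, 0, 4]), (257, true, [4, 0, 1, 0, 4, 3, 1, 0, 1, 3, 1, 0]), (183, false, [1, 2, 0, 1, 0, 4, 3, 4, 0, 4, 3, 1, 0, 1]), (255, true, [4, 0, 4, 3, 1, 3, 4, 0, 4, 0, 4, 0, 1, 3]), (248, true, [3, 1, 0, 1, 0, 4, 3, 1, 3, 4, 0, 4]), (132, true, [2, 0, 1, 0, 1, 0, 4, 0, 4, 3, 1, 0, 1]), (213, false, [4, 3, 4, 3, 4, 0, 4, 0, 4, 0, 4, 3, 4, 3, 1]), (235, false, [3, 4, 0, 4, 3, 4, 0, 1, 3, 1, 3, 4, 0, 4]), (5, true, [4, 0, 1, 3, 4, 0, 4, 3, 4, 3, 4, 3]), (236, false, [0, 2, 4, 3, 1, 0, 1, 0, 4, 3, 4, 3, 4, 3, 1, 3]), (91, false, [0, 1, 3, 4, 3, 1, 0, 1, 0, 4, 3, 1, 3, 1, 0, 1]), (222, false, [1, 0, 1, 0, 1, 0, 1, 0, 1, 2, 0, 4, 0, 4, 3, 4, 0, 1]), (170, true, []), (156, false, [1,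 0, 1, 3, 1, 3, 4, 3, 4, 3, 1, 0]), (220, true, [1, 0, 4, 0, 4, 0, 1, 3, 1, 0, 1, 3, 1, 3, 4]), (6, false, [1, 0, 1, 0, 1, 0, 1, 0, 1, 0, 2, 4, 3]), (200, true, [1, 0, 4, 0, 4, 3, 1, 0, 4, 0, 4, 3, 4, 0]), (235, true, [2, 0, 1, 3, 4, 0, 4, 3, 4, 3, 4, 0, 1, 3, 4, 3]), (124, true, [0, 4, 3, 4, 3, 4, 3, 1, 0, 4, 3, 4, 3, 1, 0, 1, 0]), (57, true, [0, 1, 3, 1, 0, 1, 0, 1, 3]), (133, true, [1, 0, 4, 3, 4, 0, 1, 0, 1, 0]), (209, false, [2, 0, 1, 3, 1, 0, 4, 3, 1, 3, 1, 3]), (98, true, [4, 0, 4, 0, 4, 3, 4, 3, 4, 3, 4, 0, 1, 3, 1]), (6, true, [0, 2, 4, 0, 1, 3, 1, 3, 1, 3, 1, 3, 1]), (127, true, [0, 2, 4, 3, 4, 0, 4, 3, 4, 0, 4, 0, 1, 0]), (137, true, [0, 1, 0, 4, 3, 1, 0, 1, 0, 1, 0, 1, 3, 1]), (97, false, [0, 2, 4, 0, 4, 3,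 1, 3, 4, 0, 4, 3, 4, 3, 4, 0]), (223, false, [1, 0, 2, 4, 0, 1, 3, 1, 0, 4, 3, 4, 3, 4]), (152, true, [0, 1, 0, 2, 4, 3, 4, 0, 1, 0, 1, 3, 4, 3, 1]), (69, true, [0, 2, 4, 0, 1, 0, 4, 3, 4, 0, 1, 0, 1, 3, 1]), (222, false, [0, 1, 0, 1, 2, 0, 1, 0, 1, 0, 4, 3, 4, 0]), (121, false, [0, 4, 3, 1, 3, 4, 0, 1, 0, 1, 0, 1, 0]), (109, false, [1, 2, 0, 1, 0, 4, 3, 4, 3, 4, 3, 4, 0, 1, 3, 1, 0]), (78, false, [0, 4, 0, 4, 0, 1, 3, 4, 0, 4, 3, 4]), (168, false, [2, 0, 1, 3, 4, 0, 4, 0, 4, 3, 4, 3, 4]), (217, false, [1, 0, 2, 4, 3, 1, 0, 1, 3, 4, 0, 4, 3, 1, 3, 4]), (104, false, [1, 0, 1, 3, 1, 3, 1, 0, 1, 3, 1, 0, 4, 0, 4]), (182, true, [2, 4, 3, 4, 3, 1, 0, 1, 0, 1, 3, 1, 0, 4, 3, 1]), (81, true, [1, 3, 4, 0, 4, 0, 1, 3, 1, 3, 1,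 0]), (151, true, [2, 0, 1, 0, 1, 3, 1, 0, 4, 0, 4, 3, 1, 0]), (152, true, [0, 2, 4, 3, 1, 3, 1, 0, 4, 3, 4, 3, 1, 3]), (239, false, [3, 4, 0, 4, 0, 4, 3]), (75, false, [2, 0, 4, 3, 4, 3, 4, 0, 4, 3, 4, 0, 4, 3, 4]), (182, true, [3, 4, 3, 1, 0, 4, 3, 4, 3, 4, 0, 1, 0]), (59, true, [0, 4, 3, 1, 0, 4, 3, 4, 3, 4]), (172, true, [0, 2, 4, 3, 1, 3, 1, 3, 1, 0, 1, 0, 1, 3, 1]), (171, true, [0, 1, 2, 0, 1, 0, 1, 0, 4, 3, 1, 3, 1, 0])]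
def r171 : List (ℕ × Bool × List ℕ) := [(12, true, [1, 0, 1, 0, 1, 2, 0, 1, 3, 1, 0]), (87, false, [2, 4, 3, 1, 3, 1, 3, 1, 0, 1, 0, 4, 0, 4, 3, 4]), (77, true, [1, 0, 2, 4, 0, 1, 3, 1, 3, 1, 3, 1, 0, 4]), (28, true, [0, 1, 0, 4, 0, 4, 0, 4, 3, 4, 0, 1, 3, 4]), (234, false, [3, 4, 0, 1, 3, 4, 3, 1, 0, 1, 0]), (180, false, [1, 0, 1, 0, 2, 4, 0, 4, 0, 4, 0, 4, 3, 1, 3, 4]), (120, false, [2, 0, 4, 3, 1, 0, 1, 0, 1, 3, 4, 0, 1, 0]), (57, false, [0, 2, 4, 3, 4, 0, 4, 0, 4, 0, 4, 3, 1]), (176, true, [0, 2, 4, 3, 4, 3, 4, 0, 1, 0, 1, 0, 4, 0]), (7, false, [0, 1, 3, 4, 0, 4, 3, 1, 0, 4, 0, 1]), (199, true, [1, 3, 1, 3, 4, 3, 4, 3, 1, 0, 1, 3, 4, 3]), (87, true, [0, 2, 4, 3, 4, 0, 4, 3, 4, 3, 4, 0, 1, 3]), (5, false, [1, 0, 1,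 0, 1, 3, 1, 3, 4, 3, 4, 0]), (256, false, [1, 0, 1, 2, 0, 1, 0, 1, 3, 1, 0, 1]), (200, false, [1, 0, 4, 0, 1, 3, 4, 3, 4, 3, 4, 0, 1, 3, 1, 3]), (55, false, [3, 1, 0, 4, 3, 4, 0, 1, 0, 1, 3, 4, 3]), (261, true, [3, 1, 0, 1, 3, 4, 0, 4, 0, 4, 0, 1, 3, 4]), (180, true, [0, 1, 2, 0, 1, 0, 4, 3, 1, 0, 1, 0, 1, 3, 1, 3, 1]), (254, false, [0, 1, 0, 1, 3, 1, 3, 4, 3, 4, 0, 4, 0, 4, 0]), (171, true, []), (275, true, [0, 1, 3, 1]), (59, true, [0, 1, 3, 4, 3, 1, 0, 1, 3, 4, 0, 1, 3]), (88, true, [1, 0, 1, 2, 0, 1, 0, 1, 0, 4, 0, 4, 0]), (80, true, [1, 0, 2, 4, 3, 4, 3, 4, 3, 4, 0, 1, 3, 4]), (199, false, [0, 1, 2, 0, 4, 0, 4, 0, 4, 0, 1, 3, 4]), (200, false, [0, 1, 0, 1, 0, 1, 0, 4, 0, 4, 3, 4, 0, 4, 3, 1]), (10, true, [0, 2, 4,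 3, 4, 0, 1, 0, 1, 0, 4, 0, 4]), (241, true, [0, 1, 3, 4, 3, 1, 0, 1, 0, 1, 3]), (154, true, [2, 4, 0, 1, 0, 1, 0, 4, 0, 4, 0, 4, 3, 1, 3]), (150, false, [2, 4, 3, 1, 0, 4, 3, 4, 0, 4, 3]), (119, false, [0, 2, 4, 0, 4, 0, 1, 3, 4, 0, 4, 0, 4, 3]), (222, true, [0, 1, 0, 1, 0, 1, 0, 1, 0, 4, 0, 4, 3]), (243, true, [1, 3, 1, 0, 1, 3, 4, 3, 4, 3, 4, 0]), (241, true, [3, 1, 0, 1, 3, 4, 3, 4, 3, 4, 0, 1, 0]), (81, false, [0, 4, 0, 4, 3, 4, 0, 4, 3, 1, 0, 1, 0]), (25, true, [0, 4, 3, 1, 3, 4, 0, 1, 0, 1, 3]), (36, false, [1, 0, 4, 0, 4, 3, 4, 3, 4, 3, 1]), (6, false, [0, 1, 0, 1, 0, 1, 0, 4, 0, 4, 3, 4, 0]), (47, false, [1, 3, 1, 0, 1, 3, 1, 0, 1, 0, 4]), (49, false, [2, 0, 1, 3, 4, 0, 4, 3, 1, 0, 4, 0, 1]), (3, true, [0, 2,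 4, 3, 4, 0, 4, 3, 1, 3, 1, 0, 4, 3]), (73, false, [1, 0, 1, 3, 1, 3, 4, 3, 4, 3, 4, 0, 4, 0, 4]), (85, false, [1, 2, 0, 4, 0, 1, 3, 1, 3, 4, 3, 4, 3, 1, 0]), (154, false, [0, 1, 3, 4, 0, 1, 3, 1, 0, 1, 0, 1, 3, 4, 0]), (225, false, [1, 2, 0, 1, 3, 1, 0, 1, 0, 1, 3, 1, 0, 1, 0]), (81, false, [0, 4, 0, 4, 3, 4, 0, 4, 3, 1, 0, 1, 0]), (125, false, [0, 1, 0, 1, 3, 1, 3, 4, 0, 4, 3, 4, 0, 4]), (148, false, [1, 3, 4, 3, 1, 0, 1, 3, 4, 0]), (95, true, [0, 1, 0, 1, 2, 0, 1, 0, 4, 3, 1, 3]), (67, false, [1, 0, 4, 0, 1, 3, 1, 3, 4, 3, 4, 3, 1, 0]), (38, true, [1, 0, 4, 0, 4, 0, 1, 3, 1, 0, 4, 3, 4, 3]), (24, false, [4, 3, 4, 3, 4, 0, 4, 3, 1, 3, 4, 0, 4, 0, 4]), (234, false, [3, 4, 0, 1, 3, 4, 3, 1, 0, 1, 0]), (175, false, [3,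 4, 0, 1, 3, 1, 0, 1, 0, 1, 0]), (113, true, [1, 0, 4, 0, 4, 3, 1, 0, 1, 3, 4, 0, 1]), (67, false, [1, 0, 1, 3, 1, 0, 4, 0, 4, 0, 1, 3, 1, 0, 4]), (127, true, [0, 1, 3, 1, 3, 4, 3, 4, 3, 1, 0, 1, 0, 1]), (41, false, [2, 0, 4, 3, 4, 3, 1, 0, 1, 3, 1, 0, 1, 3]), (171, true, []), (110, true, [0, 4, 0, 1, 0, 1, 0, 4, 0, 4, 0, 4, 0, 4, 3]), (220, false, [2, 4, 3, 4, 3, 4, 0, 4, 3, 1, 3, 4, 0, 4, 0]), (3, false, [1, 0, 2, 4, 0, 4, 0, 1, 3]), (192, false, [0, 2, 4, 3, 1, 3, 1, 3, 4, 3, 4, 3, 1, 3]), (222, true, [1, 3, 4, 3, 1, 0, 1, 0, 4, 3, 4, 3, 1, 0, 1, 0]), (218, false, [2, 0, 1, 3, 1, 0, 1, 3, 1, 3]), (26, true, [1, 3, 1, 3, 1, 3, 4, 0, 1, 3, 1, 3, 1, 3, 4]), (7, false, [3, 1, 3, 4, 3, 4, 3, 1]), (153, true, [3, 1, 3, 1,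 0, 4, 3, 1, 3, 1, 0, 4, 3, 1, 0]), (21, false, [2, 4, 0, 4, 0, 4, 0, 4, 3, 1, 3, 4, 0, 4, 3, 4]), (168, true, [1, 0, 1, 0, 2, 4, 3, 4, 0, 1, 0, 1]), (66, true, [0, 4, 3, 4, 3, 1, 0, 1, 0, 1, 3, 1, 0, 4, 0, 4]), (83, false, [0, 1, 2, 0, 1, 0, 4, 3, 1, 3, 4, 0, 4, 3]), (171, false, [0, 1, 2, 0, 1, 3, 1, 3, 1, 3, 4, 3, 4, 3, 4, 0, 4, 3]), (182, false, [0, 4, 0, 4, 3, 4, 0, 4, 3, 1, 0, 1, 3]), (176, true, [4, 0, 1, 0, 4, 3, 4, 3, 1, 0, 1, 3, 4]), (171, false, [2, 0, 4, 3, 1, 0, 1, 0, 4, 0, 4, 3, 1, 0]), (154, true, [1, 3, 4, 3, 1, 0, 1, 0]), (116, false, [3, 1, 3, 1, 3, 4, 0, 4, 0, 4]), (165, true, [0, 4, 3, 4, 0, 4, 3, 1, 0, 1, 0, 1]), (113, false, [1, 3, 4, 3, 4, 0, 1, 0, 1, 3, 4, 3, 4, 0, 1, 3]), (125, false, [0, 1, 0,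 2, 4, 0, 4, 0, 4, 0, 4, 3, 4, 3, 4, 0, 1, 0]), (12, false, [1, 3, 1, 0, 1, 0, 1]), (170, true, [0, 1, 2, 0, 1, 0, 1, 0, 4, 3, 1, 3, 1, 0]), (22, false, [1, 0, 1, 2, 0, 4, 0, 4, 0, 4]), (56, true, [1, 0, 1, 3, 4, 0, 1, 3, 1, 0, 4, 0, 1]), (192, false, [3, 1, 0, 1, 0, 1, 3, 1, 0, 1, 3]), (154, false, [4, 0, 1, 0, 1, 0, 4, 0, 4, 0, 1]), (155, false, [4, 3, 1, 3, 4, 0, 1, 3, 1, 3, 4, 0, 4, 3]), (213, true, [1, 0, 1, 0, 1, 0, 4, 3, 1, 3, 1, 0, 1, 0, 1, 3, 1]), (64, false, [1, 2, 0, 1, 3, 1, 0, 1, 3, 4, 0, 4, 0, 4]), (120, false, [2, 0, 1, 3, 1, 0, 1, 3, 1, 3]), (116, true, [0, 4, 3, 1, 0, 1, 3, 4, 0, 4, 0, 1]), (224, false, [4, 0, 4, 3, 1, 0, 1, 0, 1, 3, 1, 3, 1, 0, 1, 3]), (80, false, [2, 0, 4, 3, 4, 3, 1, 0, 4, 3, 4, 0,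 1, 3, 4]), (7, true, [1, 0, 4, 0, 4, 3, 4, 3, 1, 0, 1, 0, 1, 0, 4, 0]), (218, false, [3, 1, 0, 4, 3, 1, 0, 1, 0, 1, 0, 1, 0]), (200, false, [0, 1, 0, 1, 0, 2, 4, 0, 4, 3, 4, 0, 4, 3, 1, 3, 1]), (255, false, [2, 4, 3, 4, 0, 4, 3, 4, 3, 4, 0, 4, 3]), (65, true, [1, 3, 1, 3, 1, 0, 1, 3, 1, 0, 4, 0]), (180, true, [2, 0, 1, 3, 4, 0, 4, 3, 4, 3, 4, 3]), (92, true, [0, 4, 0, 4, 3, 1, 0, 1, 0, 1, 3]), (82, true, [0, 1, 0, 4, 3, 1, 0, 1, 0, 4, 0, 4, 3, 1, 0, 1]), (4, false, [4, 3, 1, 3, 4, 0, 4, 0, 4, 3, 4, 0, 1, 3, 1]), (85, false, [3, 4, 3, 1, 3, 1, 0, 4, 3, 1, 3]), (41, true, [1, 0, 2, 4, 0, 1, 0, 1, 0, 4, 0, 4, 3, 1, 3, 1]), (213, false, [4, 3, 4, 3, 4, 3, 4, 0, 4, 0, 4, 3, 1, 3, 1]), (171, true, []), (78, true, [1, 3, 4,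 3, 1, 0, 1, 0, 4, 3, 4, 0]), (193, true, [1, 3, 4, 3, 1, 0, 4, 3, 4, 3]), (122, false, [4, 3, 4, 0, 4, 3, 4, 3, 4, 0, 1, 3, 4, 3, 4]), (199, true, [4, 3, 4, 0, 1, 0, 1, 0]), (171, false, [0, 4, 3, 4, 0, 4, 3, 1, 0, 1, 3, 1, 0])]
def r172 : List (ℕ × Bool × List ℕ) := [(76, true, [2, 4, 3, 1, 3, 4, 0, 4, 3, 4, 3, 4, 3]), (276, true, [0, 1, 0, 4, 3, 4, 0, 4, 0, 4, 3, 1, 3, 4]), (124, true, [1, 0, 1, 2, 0, 1, 3, 4, 0, 1, 0, 4]), (178, false, [2, 0, 1, 0, 4, 3, 4, 0, 4, 0, 1, 3, 1, 0, 1, 0]), (5, false, [0, 2, 4, 3, 1, 0, 1, 3, 4, 0, 1]), (6, true, [0, 1, 0, 1, 0, 4, 3, 4, 3, 1, 0, 1, 0, 1, 0, 4]), (154, true, [2, 0, 4, 0, 4, 0, 1, 3, 1, 0, 1, 0, 1, 3, 4, 3]), (170, false, [1, 0, 1, 0, 1, 0, 2, 4, 0, 1, 0, 1, 3, 4, 3]), (217,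 true, [0, 1, 3, 1, 3, 4, 0, 1, 0, 1, 0]), (214, false, [2, 0, 4, 0, 4, 3, 4, 3, 4, 3, 4, 0]), (7, true, [1, 0, 1, 0, 2, 4, 3, 4, 0, 1, 3, 4, 3, 4, 0, 1]), (149, false, [1, 2, 0, 1, 0, 4, 0, 4, 0, 4, 3, 1, 3, 1, 3]), (175, true, [0, 1, 0, 1, 2, 0, 1, 3, 4, 0, 1, 0, 4]), (231, true, [1, 3, 4, 0, 4, 3, 1, 3, 4, 0, 4, 3, 1]), (244, false, [0, 1, 3, 4, 0, 4, 0, 4, 0, 4, 3, 4, 3]), (36, false, [4, 3, 4, 3, 4, 0, 1, 3, 1, 0, 1, 0]), (245, false, [4, 0, 1, 3, 1, 3, 1, 0, 1, 3, 4, 3, 1, 0]), (254, true, [1, 2, 0, 4, 0, 4, 0, 1, 3, 1, 0, 4, 0, 4, 0, 1]), (276, true, [0, 2, 4, 0, 4, 0, 1, 3, 1, 3, 4, 3, 4, 0, 1, 3, 1]), (68, true, [0, 1, 3, 1, 3, 1, 0, 1, 3, 4, 0, 4, 3, 1]), (186, true, [1, 3, 4, 3, 4, 3, 4, 3, 1, 0]), (69, true,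 [0, 1, 3, 1, 3, 1, 0, 1, 3, 4, 0, 4, 3, 1]), (177, true, [2, 0, 1, 0, 1, 0, 1, 0, 4, 0, 4, 3, 4, 3, 4]), (122, false, [3, 1, 0, 1, 0, 1, 0, 4, 0, 4, 3, 1, 0, 1, 3]), (126, true, [2, 4, 3, 1, 0, 1, 3, 1, 3, 1, 3, 4, 3, 4, 3, 4, 3]), (255, true, [2, 0, 4, 0, 1, 3, 4, 0, 4, 3, 1, 3, 1, 0, 1, 0]), (179, false, [0, 4, 3, 4, 0, 4, 3, 1, 3, 1, 0, 1, 3, 1]), (267, true, [0, 4, 0, 1, 3, 1, 0, 4, 0, 4, 0, 1, 3, 4, 3, 4]), (198, true, [2, 4, 3, 4, 3, 1, 0, 1, 0, 1, 3]), (78, true, [1, 0, 4, 3, 4, 3, 4, 3, 4, 0, 4, 0, 4, 0, 4]), (119, true, [1, 3, 4, 3, 4, 3, 1, 0, 1, 3, 4, 0, 4, 0, 1]), (233, false, [0, 2, 4, 3, 4, 3, 1, 0, 1, 3, 4, 3, 1]), (4, false, [0, 1, 3, 1, 0, 1, 0, 1, 3, 4, 3, 1]), (87, false, [1, 3, 4, 3, 4, 0, 4, 3, 4,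 3, 1, 0]), (244, false, [4, 3, 4, 0, 1, 3, 1, 0, 1, 3, 1, 3]), (152, false, [4, 0, 1, 3, 1, 0, 4, 0, 4, 0, 1, 3, 1, 0, 1]), (123, false, [2, 0, 4, 0, 1, 3, 1, 0, 1, 0, 1, 3, 1, 0, 4, 3, 1]), (172, true, []), (123, true, [0, 2, 4, 0, 4, 3, 4, 0, 4, 0, 4, 3, 1, 0, 1, 0, 4]), (225, false, [1, 0, 2, 4, 0, 4, 0, 4, 3, 4, 3, 1, 0, 1, 3, 4]), (28, true, [1, 0, 1, 0, 1, 0, 2, 4, 3, 4, 3, 1]), (66, true, [0, 1, 0, 4, 3, 4, 0, 1, 0, 1, 3, 1, 3, 1, 3]), (25, false, [0, 4, 3, 1, 3, 1, 0, 1, 0, 1, 0]), (148, true, [1, 0, 1, 0, 1, 0, 1, 0, 4, 0, 4, 0]), (108, false, [0, 1, 0, 1, 3, 1, 3, 4, 3, 4, 0, 4, 0, 4, 0]), (36, false, [1, 0, 1, 3, 4, 0, 1, 0, 1, 3, 4, 0, 1, 0]), (88, false, [2, 4, 3, 1, 3, 1, 3, 1, 0, 4, 3, 4, 3]), (158, true,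 [1, 2, 0, 1, 3, 4, 3, 4, 3, 4, 0, 4, 0, 4]), (123, false, [1, 2, 0, 1, 0, 4, 3, 1, 3, 1, 0, 4, 3]), (187, true, [0, 4, 3, 4, 3, 4, 0, 4, 3, 4, 3, 1]), (6, true, [0, 1, 0, 1, 2, 0, 1, 0, 1, 3, 4, 3, 4, 0, 4, 3, 1]), (262, true, [0, 4, 0, 4, 3, 4, 0, 1, 3, 1, 3, 1]), (224, false, [1, 0, 1, 0, 2, 4, 0, 4, 3, 4, 3, 1, 0, 4, 0, 4, 0]), (276, true, [1, 2, 0, 1, 3, 1, 3, 1, 3, 1, 0, 1, 0, 4, 3, 4]), (218, true, [1, 0, 1, 0, 1, 3, 1, 0, 1, 3, 4, 3]), (141, false, [1, 2, 0, 4, 0, 1, 3, 1, 3, 1, 3, 1, 0, 1, 3, 4]), (31, true, [2, 4, 3, 1, 3, 1, 3, 4, 0, 1]), (100, true, [0, 1, 3, 4, 0, 4, 0, 1, 3, 1, 0]), (19, false, [2, 0, 1, 0, 1, 3, 1, 0, 1, 3, 4, 0, 4, 3]), (105, false, [2, 0, 1, 3, 1, 0, 1, 0, 1, 3, 1, 3, 4, 0]), (222, false,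 [0, 4, 0, 1, 3, 1, 0, 4, 3, 4, 3, 4, 0, 4, 0, 4]), (170, true, [2, 4, 3, 4, 0, 4, 0, 4, 3, 4, 3, 4, 3, 1, 3]), (182, false, [1, 2, 0, 4, 0, 4, 3, 1, 0, 1, 0, 4, 3]), (182, false, [0, 1, 0, 2, 4, 0, 4, 3, 4, 0, 4, 0, 4]), (119, true, [1, 2, 0, 1, 0, 1, 0, 4, 3, 4, 3, 1, 3]), (70, true, [0, 2, 4, 3, 4, 3, 4, 0, 4, 3, 4, 0, 4, 3, 4, 0]), (67, true, [1, 3, 4, 0, 1, 3, 1, 3, 1, 0, 1, 0, 1, 3]), (64, true, [0, 4, 3, 1, 3, 1, 0, 4, 3, 4, 3, 4, 0]), (64, false, [1, 0, 4, 3, 4, 3, 4, 3, 4, 0, 1, 0, 1, 3]), (2, true, [3, 4, 0, 1, 3, 1, 0, 1, 0, 4, 3, 1, 3]), (191, false, [0, 4, 0, 1, 3, 1, 0, 4, 0, 4, 3, 1, 3]), (212, false, [1, 0, 4, 3, 4, 0, 1, 3, 1, 3, 4, 0, 4, 3, 1, 0]), (58, true, [1, 2, 0, 1, 0, 4, 3, 1, 3, 4, 0, 4, 0, 4]),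 (202, false, [0, 2, 4, 0, 1, 0, 4, 3, 4, 3, 1, 0, 1, 0, 4]), (77, false, [1, 0, 1, 3, 1, 3, 4, 3, 4, 3, 4, 0]), (134, false, [1, 3, 1, 3, 1, 3, 1, 3, 1, 3, 1, 3]), (200, true, [1, 0, 1, 2, 0, 1, 3, 1, 3, 1, 0, 1, 3, 4, 0, 1, 0]), (127, true, [1, 3, 4, 3, 1, 0, 1, 0, 4, 3, 1, 3]), (109, false, [0, 1, 0, 4, 3, 4, 0, 1, 3, 1, 3, 1, 0]), (239, false, [1, 3, 4, 0, 1, 3, 1, 0, 1, 3, 4, 0]), (12, false, [1, 3, 1, 0, 1, 0, 1, 3, 1, 3, 1, 0, 1, 3]), (214, true, [1, 2, 0, 4, 3, 4, 3, 4, 0, 4, 0, 1, 0]), (56, false, [0, 4, 3, 1, 3, 1, 0, 1, 3, 1]), (124, true, [0, 2, 4, 0, 4, 0, 1, 3, 1, 0, 4, 0, 4]), (65, false, [0, 4, 3, 4, 3, 4, 0, 4, 3, 1, 0]), (119, true, [1, 2, 0, 1, 0, 1, 0, 4, 3, 1, 0, 1, 0, 1, 0, 4]), (90, false, [3, 4,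 0, 1, 3, 1, 3, 1, 0, 1, 3, 1, 0, 1, 0]), (108, false, [1, 0, 4, 3, 4, 3, 1, 0, 1, 3, 4, 0, 1, 0, 4]), (179, false, [1, 3, 1, 3, 1, 0, 1, 0, 1, 0, 4, 0, 4]), (186, true, [1, 2, 0, 4, 3, 4, 0, 1, 3, 4, 3, 4, 0, 4]), (180, true, [2, 4, 0, 1, 3, 1, 0, 1, 0, 4, 3, 4, 0]), (272, true, [1, 3, 1, 0, 1, 3, 4, 3]), (177, true, [0, 1, 0, 1, 0, 1, 0, 1, 2, 0, 4, 0, 4, 3, 4]), (215, true, [0, 1, 3, 4, 0, 4, 0, 4, 3, 4, 3, 4, 0, 4, 0]), (226, false, [0, 1, 0, 1, 3, 1, 0, 1, 3, 1, 3]), (246, false, [2, 4, 3, 4, 3, 4, 0, 4, 3, 1, 0, 1, 3]), (176, false, [1, 0, 1, 3, 1, 0, 1, 3, 1, 0, 1, 3, 1, 3]), (236, true, [0, 1, 0, 1, 3, 1, 3, 1, 3, 4, 3, 4, 0, 1, 0]), (218, true, [1, 0, 1, 0, 1, 3, 1, 0, 1, 3, 4, 3]), (122, true, [2, 0, 1, 0, 1,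 3, 4, 0, 4, 3, 4, 3, 4, 0, 1, 0, 4]), (256, true, [3, 4, 3, 4, 0, 4, 0, 4, 3, 4, 0, 4, 3]), (222, true, [1, 3, 1, 3, 1, 3, 1, 0, 1, 0, 1, 0, 1, 3]), (223, true, [2, 0, 1, 3, 4, 0, 4, 0, 4, 0, 4, 3, 1, 3, 1]), (179, false, [1, 0, 4, 3, 4, 0, 4, 0, 4, 3, 1, 3]), (188, false, [1, 0, 2, 4, 3, 1, 0, 1, 0, 4, 0, 4, 0, 1, 3]), (56, false, [1, 0, 4, 3, 1, 3, 4, 0, 4, 0, 1, 3, 4, 3, 4, 3]), (4, false, [0, 1, 0, 1, 0, 4, 3, 1, 0, 1, 0, 4, 3, 4, 0]), (5, false, [1, 2, 0, 1, 0, 1, 3, 4, 0, 1]), (184, false, [1, 0, 4, 3, 4, 0, 4, 3, 1, 0, 4, 0]), (50, true, [1, 0, 1, 0, 1, 0, 2, 4, 0, 1, 0, 1, 3]), (88, false, [3, 4, 3, 1, 3, 1, 3, 4, 0, 4, 3, 4, 3, 1]), (243, true, [2, 4, 0, 1, 3, 1, 3, 4, 3, 4, 0, 1, 0, 4])]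
def r173 : List (ℕ × Bool × List ℕ) := [(78, false, [0, 1, 2, 0, 1, 3, 1, 3, 1, 0, 4, 3, 4, 0, 1]), (170, true, [0, 1, 0, 1, 0, 2, 4, 0, 4, 3, 1]), (118, false, [1, 2, 0, 1, 3, 1, 3, 4, 3, 4, 0, 1, 3, 4]), (104, true, [3, 1, 3, 1, 0, 1, 3, 4, 0, 1]), (135, false, [4, 0, 4, 3, 4, 3, 1, 0, 4, 3, 4]), (104, true, [1, 2, 0, 4, 0, 4, 3, 4, 3, 4, 3, 4, 0, 1, 0]), (234, true, [1, 2, 0, 1, 0, 1, 0, 4, 0, 4, 0, 1, 3, 1, 0, 4]), (234, true, [2, 4, 3, 4, 3, 4, 0, 4, 0, 4, 3, 1, 0, 1, 3, 4]), (135, true, [3, 1, 0, 4, 3, 1, 0, 1, 0, 1, 3, 1, 0]), (231, false, [1, 0, 4, 3, 1, 3, 1, 0, 4, 3, 1, 3, 4]), (97, true, [1, 2, 0, 1, 3, 1, 3, 4, 0, 4, 0, 4, 3]), (135, false, [0, 1, 2, 0, 4, 3, 1, 3, 1, 3, 4, 0, 1]), (78, false, [0, 4, 3, 4,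 3, 1, 0, 1, 0, 1, 3, 1, 0, 4, 3]), (52, false, [2, 0, 1, 0, 4, 3, 4, 0, 1, 3, 1, 3, 4, 0]), (246, false, [4, 3, 4, 3, 4, 0, 4, 0, 4, 0, 1]), (259, true, [4, 0, 1, 0, 1, 3, 1, 3, 4, 0, 1, 0, 1, 0]), (29, true, [0, 1, 3, 1, 0, 1, 0, 4, 0, 4, 3, 1, 0]), (170, true, [1, 2, 0, 1, 3, 4, 0, 4, 0, 1, 3, 4, 3, 4]), (104, true, [1, 0, 1, 2, 0, 1, 3, 4, 0, 4, 0, 1, 3]), (140, false, [2, 4, 3, 4, 0, 4, 3, 1, 3, 1, 3, 4, 0, 4]), (140, false, [2, 0, 1, 0, 4, 3, 4, 3, 4, 3, 4, 3, 1]), (50, true, [0, 4, 3, 4, 3, 4, 3, 4, 3, 4, 3, 1]), (97, true, [1, 3, 4, 3, 4, 0, 4, 0, 4, 3, 4]), (9, true, [0, 1, 0, 1, 3, 4, 3, 1, 0, 1, 0, 1, 0, 1]), (246, false, [0, 4, 0, 4, 0, 1, 3, 1, 0, 4, 0, 4, 0]), (52, true, [0, 2, 4, 0, 1, 3, 4, 0, 4, 0, 1,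 3, 4, 3]), (16, true, [0, 1, 2, 0, 4, 0, 4, 3, 1, 0, 1, 0, 4]), (159, true, [2]), (259, true, [1, 3, 1, 3, 1, 3, 1, 3, 1, 0, 1, 0, 1]), (259, true, [1, 2, 0, 1, 0, 4, 3, 1, 0, 1, 0, 1]), (173, false, [1, 0, 1, 3, 4, 0, 4, 3, 4, 0, 4, 3]), (29, true, [1, 2, 0, 4, 0, 4, 0, 1, 3, 4, 3]), (173, false, [0, 1, 3, 1, 0, 1, 3, 1, 0, 4, 3, 4]), (78, false, [0, 1, 2, 0, 4, 0, 1, 3, 4, 0, 4, 3, 4]), (104, true, [3, 1, 0, 1, 3, 4, 3, 1, 0, 4, 3, 4, 0, 1]), (231, false, [3, 4, 3, 4, 3, 1, 0, 4, 3, 4, 3, 1, 0]), (50, true, [3, 4, 0, 4, 0, 4, 0, 4, 3, 1, 0, 4, 0]), (135, true, [2, 4, 3, 1, 0, 4, 3, 4, 3, 4, 0, 4, 0, 4]), (170, true, [2, 4, 3, 1, 3, 4, 0, 4, 0, 4, 0, 1, 3, 4, 3, 4]), (170, true, [0, 4, 3, 4, 0, 4, 0, 4, 3, 4, 0, 1, 0,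 1]), (173, true, []), (50, true, [1, 0, 1, 3, 1, 3, 4, 0, 1, 0, 1, 3, 4, 3, 1, 0, 1]), (62, true, [1, 0, 2, 4, 3, 4, 3, 4, 0, 4, 0, 4, 3, 1, 0]), (62, true, [3, 4, 3, 4, 3, 4, 3, 4, 0, 4, 0, 4, 0]), (107, false, [3, 1, 0, 1, 0, 4, 0, 4, 3, 1, 0, 1, 3, 1, 0]), (81, false, [1, 0, 2, 4, 3, 4, 3, 4, 0, 1, 0, 1, 3]), (81, false, [0, 4, 3, 4, 0, 4, 0, 4, 0, 4, 0]), (17, true, [0, 1, 0, 1, 3, 4, 3, 4, 3, 4, 0, 1, 3]), (17, true, [1, 0, 1, 3, 4, 0, 4, 0, 4, 3, 1, 0, 4, 3]), (234, true, [3, 4, 3, 1, 3, 1, 3, 1, 0, 1, 3, 4]), (170, true, [2, 0, 1, 0, 4, 3, 1, 0, 1, 0, 4, 3, 4, 0]), (234, true, [1, 0, 2, 4, 3, 1, 0, 1, 0, 1, 0, 1, 3, 4, 0, 1, 0]), (107, false, [0, 1, 3, 1, 0, 1, 0, 1]), (173, true, []), (78, false, [0, 1, 3, 4,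 3, 4, 0, 4, 3, 4, 0, 4, 3]), (118, false, [2, 0, 1, 0, 4, 0, 4, 0, 1, 3, 4, 3, 1]), (230, false, [0, 2, 4, 3, 1, 0, 1, 3, 4, 0, 4, 0, 4, 0, 1]), (97, true, [1, 0, 4, 3, 1, 0, 1, 3, 4, 0, 4, 0, 4, 0, 4]), (15, false, [1, 3, 1, 3, 4, 0, 1, 0, 1, 0, 1, 3, 4, 0]), (50, true, [1, 3, 1, 3, 1, 0, 1, 0, 1, 3, 4, 0, 4, 3, 1, 3]), (234, true, [2, 0, 4, 0, 1, 3, 1, 3, 1, 0, 1, 3, 4]), (230, false, [2, 4, 3, 4, 0, 4, 0, 4, 3]), (14, true, [0, 4, 0, 4, 0, 4, 0, 1, 3, 4, 3, 1]), (81, false, [0, 4, 3, 4, 3, 4, 3, 1, 0, 4, 3, 4, 3, 4, 3]), (62, true, [0, 1, 3, 4, 3, 1, 0, 1, 0, 4, 0, 4, 0, 1]), (161, true, [4, 3, 4, 0, 1, 3, 1, 0, 1, 3, 4, 3, 4]), (62, true, [0, 1, 0, 1, 3, 4, 3, 4, 3, 1]), (39, false, [1, 0, 1, 0, 1, 0, 4, 0, 4, 0,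 4]), (135, true, [3, 4, 3, 4, 3, 4, 0, 4, 0, 4, 3, 1, 3, 4, 0, 1]), (140, false, [0, 1, 0, 2, 4, 0, 4, 0, 4, 0, 4, 0, 1]), (170, true, [4, 3, 4, 0, 4, 0, 1, 3, 4, 3, 4]), (234, true, [0, 1, 3, 1, 0, 4, 3, 4, 3, 4, 0, 4, 0, 1, 3]), (230, false, [4, 0, 1, 0, 4, 3, 1, 0, 1, 0, 4, 0, 4, 3]), (230, false, [0, 4, 3, 4, 3, 1, 0, 1, 0, 4, 0, 4, 0, 1, 3]), (97, true, [0, 1, 0, 2, 4, 0, 1, 0, 1, 0, 4, 0, 4, 3, 4]), (9, true, [1, 0, 1, 3, 4, 0, 1, 3, 1, 0, 1, 0, 1]), (15, false, [0, 1, 3, 4, 0, 4, 3, 4, 0, 1, 3, 1]), (14, true, [4, 0, 4, 0, 4, 0, 1, 3, 4, 3, 4]), (16, true, [4, 0, 1, 0, 1, 0, 4, 0, 4, 0, 1]), (81, false, [1, 3, 1, 0, 4, 0, 4, 3, 4, 0, 1, 0]), (118, false, [2, 4, 0, 1, 3, 4, 3, 4, 0, 4, 0, 4, 3, 1]), (231, false,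 [1, 0, 1, 0, 1, 3, 1, 0, 1, 3, 4, 3, 1, 0]), (118, false, [3, 1, 0, 1, 3, 1, 3, 1, 3, 4, 0, 4, 3]), (231, false, [4, 3, 1, 0, 1, 3, 1, 3, 4, 0, 4, 3, 1, 0]), (135, false, [2, 0, 4, 0, 4, 3, 1, 3, 4, 0, 4, 3, 1]), (78, false, [1, 0, 1, 0, 1, 2, 0, 1, 3, 1, 3, 4, 0]), (104, true, [1, 3, 1, 3, 4, 3, 4, 3, 4, 0, 1, 0, 1]), (135, false, [0, 1, 0, 1, 3, 4, 3, 4, 0, 1, 0, 1, 0]), (234, true, [1, 3, 4, 0, 4, 0, 4, 0, 1, 3, 1, 0, 4]), (170, true, [3, 4, 3, 1, 0, 1, 3, 1, 3, 4, 0, 4, 3, 1]), (78, false, [3, 4, 3, 4, 3, 4, 3, 1, 0, 1, 3, 4, 3, 1]), (104, true, [1, 0, 1, 0, 1, 3, 4, 3, 4, 0, 4, 0]), (173, false, [0, 4, 3, 1, 0, 1, 0, 4, 3, 1, 0, 4]), (107, false, [4, 3, 4, 0, 1, 3, 1, 0, 4, 0, 1]), (107, false, [0, 1, 0, 1, 3, 1,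 3, 1, 0, 1, 0, 4, 0, 4, 3, 1]), (173, false, [0, 4, 3, 1, 0, 4, 0, 4, 3, 1, 0, 1]), (52, false, [0, 2, 4, 3, 1, 0, 1, 0, 4, 3]), (246, false, [0, 1, 2, 0, 1, 3, 1, 0, 4, 0, 4, 0]), (135, true, [1, 0, 1, 0, 1, 2, 0, 1, 0, 4, 3, 1, 3, 1]), (140, false, [2, 4, 0, 4, 3, 4, 0, 1, 0, 1, 0, 4, 3, 4]), (104, true, [0, 1, 0, 1, 2, 0, 4, 0, 1, 3, 1, 0, 4, 3, 4, 0]), (104, true, [2, 0, 4, 0, 4, 3, 1, 0, 1, 3, 4, 0, 1]), (78, false, [2, 4, 3, 1, 0, 1, 3, 1, 0, 4, 0]), (78, false, [2, 4, 3, 4, 3, 4, 3, 1, 0, 1, 3, 4, 3]), (246, false, [1, 3, 1, 0, 1, 0, 4, 0, 4, 0, 1, 3]), (52, false, [4, 0, 1, 3, 4, 3, 1, 0, 1, 0, 4, 3, 4]), (170, true, [0, 1, 0, 4, 0, 4, 3, 4, 0, 4, 3, 1]), (234, true, [1, 0, 4, 0, 4, 3, 1, 0, 1, 3, 4, 3, 1, 0,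 1]), (29, true, [4, 3, 4, 0, 4, 0, 4, 0, 1, 3, 4, 3]), (29, true, [3, 4, 0, 1, 3, 1, 3, 1, 0, 1, 3, 4, 3, 4, 3]), (259, true, [0, 1, 3, 4, 3, 4, 0, 1, 3, 4, 3, 4, 3, 1]), (13, false, [1, 3, 4, 0, 4, 0, 1, 3, 4, 0, 4])]
def r174 : List (ℕ × Bool × List ℕ) := [(139, true, [2, 4, 0, 4, 3, 4, 0, 1, 0, 1, 0, 1, 3, 4]), (166, true, [3, 1, 3, 1, 0, 1, 0, 1, 3, 1, 3, 1, 0, 4, 3]), (238, false, [4, 3, 1, 0, 1, 3, 1, 3, 4, 0]), (60, false, [3, 1, 0, 1, 0, 4, 0, 4, 3, 1, 0, 1, 0]), (272, false, [0, 1, 0, 1, 3, 1, 0, 1, 3, 4, 3, 4, 0, 4, 3]), (185, true, [3, 4, 0, 1, 0, 1, 3, 4, 0, 1, 0, 1, 3]), (91, false, [2, 4, 0, 1, 0, 1, 3, 4, 3, 4, 0, 1, 0, 4]), (84, false, [2, 4, 3, 4, 0, 4, 0, 4, 0, 1, 3, 1, 3]), (244, true, [0, 4, 0, 1,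 3, 1, 0, 4, 0, 4, 0, 1, 3, 1]), (17, true, [1, 0, 4, 0, 4, 3, 4, 3, 4, 0, 4, 3, 1, 0]), (70, true, [2, 0, 4, 3, 1, 3, 1, 3, 4, 3, 4, 0, 1, 3, 1, 0, 1, 3]), (245, true, [1, 0, 1, 3, 4, 3, 1, 0, 1, 0, 4, 3, 1, 0, 1, 0]), (249, false, [0, 1, 0, 4, 0, 4, 3, 1, 0, 1, 3, 4, 0, 4]), (129, true, [0, 4, 3, 1, 0, 1, 0, 4, 3, 1, 3, 1, 0]), (76, true, [2, 0, 1, 3, 4, 0, 1, 0, 1, 0, 1, 3]), (184, false, [0, 4, 3, 4, 0, 1, 3, 4, 3, 1, 0]), (203, false, [4, 0, 1, 3, 4, 3, 1, 0, 1, 0]), (280, false, [0, 1, 0, 1, 0, 1, 2, 0, 1, 3, 1, 0, 1]), (133, true, [1, 2, 0, 1, 3, 1, 3, 1, 0, 1, 3, 1]), (117, true, [0, 1, 2, 0, 4, 3, 4, 0, 4, 0, 4, 0, 1, 3, 4]), (238, false, [0, 4, 0, 1, 0, 1, 3, 1, 0, 4, 3]), (117, true, [2, 0, 1, 3, 4, 0, 1, 3,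 1, 3, 1]), (62, false, [2, 0, 1, 3, 1, 0, 1, 3, 1, 0, 4, 3, 4, 3]), (60, false, [0, 1, 2, 0, 1, 3, 4, 0, 4, 0, 4, 3, 4, 0, 4]), (68, false, [0, 2, 4, 0, 1, 3, 1, 3, 1, 3, 4, 0, 4, 3, 4, 3, 4, 3]), (203, false, [3, 1, 0, 1, 0, 1, 0, 4, 0, 4, 0, 4, 3, 4]), (76, false, [0, 4, 0, 1, 3, 1, 0, 4, 0, 4, 3, 4, 3, 4, 3, 4]), (166, true, [0, 1, 3, 4, 3, 1, 0, 1, 3, 1, 0, 4, 3]), (272, true, [0, 1, 0, 2, 4, 0, 4, 0, 4, 0, 4, 3, 4, 0, 1, 0]), (68, false, [1, 0, 1, 3, 4, 0, 4, 3, 1, 3, 4, 0, 4, 0, 1]), (76, true, [0, 4, 3, 1, 3, 1, 0, 1, 3, 1, 0, 4, 0, 1]), (272, false, [3, 1, 0, 4, 3, 4, 0, 1, 3, 1, 3, 1, 3, 4, 0]), (184, false, [2, 4, 3, 1, 0, 4, 3, 4, 0, 1, 0, 1, 0]), (194, true, [0, 1, 3, 1, 3, 4, 3, 4, 0, 4, 0]), (91, false,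 [4, 0, 1, 3, 4, 0, 4, 0, 4, 3, 4, 3, 4, 0, 4, 3]), (129, true, [0, 4, 3, 1, 0, 1, 0, 4, 3, 1, 3, 1, 0]), (158, true, [2, 0, 4, 3, 4, 0, 4, 0, 4, 0, 1, 3, 4]), (70, true, [0, 2, 4, 0, 1, 3, 1, 0, 4, 0, 4, 0, 1, 3, 4]), (91, false, [2, 0, 1, 3, 4, 0, 1, 3, 1, 3, 1]), (133, true, [2, 0, 1, 3, 1, 3, 1, 3, 1, 0, 1, 3]), (273, true, [3, 1, 0, 4, 3, 4, 0, 1, 3, 1, 3, 4, 3]), (70, true, [0, 4, 3, 4, 0, 1, 3, 1, 3, 4, 3, 4, 0, 1]), (62, false, [0, 4, 0, 1, 3, 4, 3, 1, 0, 1, 0, 4, 3, 4]), (158, true, [2, 4, 3, 1, 3, 4, 0, 1, 3, 1, 3, 1]), (272, true, [1, 0, 1, 0, 2, 4, 0, 1, 3, 1, 3, 1, 0, 4, 0]), (117, true, [2, 4, 0, 1, 0, 1, 3, 4, 3, 4, 0, 1, 0, 4]), (70, true, [2, 0, 4, 0, 1, 3, 4, 3, 4, 3, 1]), (139, true, [3, 1, 3, 1, 3,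 1, 3, 1, 3, 1, 0]), (133, true, [3, 1, 3, 1, 3, 1, 0, 1, 0, 4]), (249, false, [1, 0, 1, 0, 4, 3, 4, 3, 4, 0, 4, 3, 4]), (114, false, [1, 3, 1, 3, 4, 0, 4, 0, 1, 3, 1, 3, 4, 0]), (166, true, [4, 0, 1, 0, 1, 0, 4, 0, 4, 3, 4, 0, 1]), (121, false, [3, 4, 0, 4, 0, 4, 0, 4, 0]), (91, false, [0, 1, 2, 0, 4, 3, 4, 0, 4, 0, 4, 0, 1, 3, 4]), (84, false, [1, 0, 4, 0, 4, 0, 1, 3, 1, 3]), (158, true, [1, 0, 1, 0, 2, 4, 3, 4, 3, 4, 3, 4, 0, 1, 0, 4]), (272, true, [2, 0, 4, 0, 4, 3, 4, 0, 1, 3, 4]), (135, true, [3, 1, 3, 4, 3, 4, 0, 1, 0, 1, 3, 4, 3, 1, 0]), (114, false, [2, 0, 1, 0, 1, 0, 4, 3, 1, 3, 1, 3, 1]), (17, true, [3, 1, 3, 1, 0, 1, 3, 1, 0, 1, 0, 4, 3, 1]), (273, true, [0, 2, 4, 3, 1, 3, 1, 3, 4, 0, 4, 0]), (257, true, [1,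 3, 4, 0, 1, 3, 1, 0, 1, 3, 4, 3, 1]), (30, true, [0, 1, 2, 0, 1, 0, 4, 0, 4]), (17, true, [0, 4, 3, 1, 3, 4, 0, 4, 0, 4, 3, 4, 0]), (70, true, [1, 0, 1, 0, 1, 0, 1, 3, 4, 0, 1, 0, 1, 0, 4]), (84, false, [2, 0, 4, 3, 1, 0, 1, 0, 4, 3, 1]), (135, true, [0, 2, 4, 3, 1, 0, 1, 3, 4, 0, 4, 3, 1, 3, 1, 3]), (280, false, [4, 3, 4, 3, 1, 0, 4, 0, 4, 3, 1]), (70, true, [0, 4, 0, 1, 3, 1, 3, 1, 3, 1, 0, 4, 0, 4, 3, 1]), (100, true, [3, 1, 0, 4, 3, 4, 0, 4, 0, 4, 3, 1, 3, 4]), (60, false, [0, 1, 3, 1, 0, 4, 3, 4, 3, 1, 0, 4]), (30, true, [1, 0, 1, 0, 2, 4, 0, 1, 3, 1, 0, 4, 0, 4, 0]), (245, true, [0, 1, 0, 1, 0, 1, 0, 4, 0, 4, 3, 1, 0, 4]), (68, false, [3, 4, 0, 1, 3, 4, 0, 4, 3, 4, 3, 1]), (158, true, [3, 4, 0, 1, 3, 1, 0, 1, 3,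 1, 3, 4, 3, 4, 0, 1]), (249, false, [0, 1, 0, 2, 4, 3, 4, 0]), (91, false, [3, 4, 0, 4, 0, 1, 3, 1, 0, 1, 0, 1, 3, 4, 0]), (185, true, [1, 3, 1, 3, 1, 3, 4, 0, 1, 3, 1]), (194, true, [3, 1, 0, 1, 3, 1, 3, 1, 0, 4]), (158, true, [1, 3, 4, 0, 4, 3, 1, 3, 1, 3, 1, 0, 4, 0, 4]), (158, true, [4, 0, 1, 0, 4, 3, 4, 3, 4, 3, 1, 0, 4, 0, 4]), (135, true, [0, 1, 3, 4, 0, 1, 3, 1, 3, 1, 0, 4, 3, 4, 0]), (238, false, [3, 1, 3, 1, 0, 1, 3, 1, 3, 1, 0, 4, 3, 4, 0]), (244, true, [1, 3, 1, 0, 4, 0, 4, 3, 4, 3, 4, 0]), (68, false, [1, 2, 0, 1, 3, 4, 0, 4, 3, 1, 3, 4, 0, 4, 0, 1]), (273, true, [0, 1, 3, 4, 0, 4, 3, 1, 0, 4, 0, 1]), (166, true, [1, 0, 2, 4, 3, 1, 0, 1, 3, 1, 0, 4, 3]), (257, true, [4, 3, 1, 0, 1, 3, 4, 3, 1, 0, 1, 0, 1,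 0, 4]), (139, true, [4, 0, 4, 3, 4, 3, 4, 3, 4, 0, 4, 0, 4, 3, 1]), (76, false, [2, 4, 3, 4, 0, 1, 0, 1, 3, 1, 3, 1, 0, 1, 0, 4]), (30, true, [0, 1, 3, 1, 0, 4, 0, 4]), (76, false, [1, 2, 0, 4, 0, 4, 0, 1, 3, 1, 3, 1, 3]), (147, true, [1, 3, 1, 3, 1, 3, 4, 0, 4, 3, 1, 0, 1, 0]), (272, false, [0, 1, 3, 1, 3, 4, 3, 4, 0, 1, 3, 1]), (121, false, [0, 1, 3, 1, 0, 4, 3, 4, 0, 4, 0, 4, 3, 1]), (257, true, [0, 1, 0, 1, 0, 4, 0, 4, 0, 1, 3, 1, 0, 4, 3]), (121, false, [3, 1, 0, 1, 3, 1, 3, 4, 3, 4]), (68, false, [0, 1, 0, 4, 3, 1, 0, 1, 0, 1, 0, 1, 3, 4, 3, 1, 0]), (244, true, [4, 3, 4, 3, 1, 0, 1, 3, 1, 3, 1, 0, 1, 3]), (62, false, [0, 2, 4, 3, 1, 0, 4, 0, 4, 0, 4, 3, 4]), (280, false, [1, 0, 1, 0, 1, 3, 4, 3, 4, 3]), (114, false,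 [2, 0, 1, 3, 4, 0, 4, 0, 4, 0, 1, 3, 4]), (91, false, [3, 1, 0, 4, 3, 4, 3, 4, 3, 1, 0, 4, 0, 4]), (166, true, [1, 0, 1, 0, 1, 3, 4, 0, 1, 3, 1, 3, 1, 3]), (76, true, [2, 4, 3, 4, 3, 4, 0, 4, 0, 1, 3, 1, 3, 4]), (245, true, [4, 0, 4, 0, 4, 3, 4, 0, 1, 0, 1, 0, 4, 3, 4]), (185, true, [1, 2, 0, 4, 0, 4, 0, 1, 3, 4, 3, 4]), (194, true, [2, 4, 0, 4, 3, 1, 3, 1, 3, 4, 3]), (68, false, [0, 2, 4, 0, 1, 3, 4, 0, 4, 3, 4, 3, 1]), (184, false, [1, 3, 4, 0, 4, 3, 4]), (203, false, [2, 4, 0, 1, 3, 1, 0, 1, 0, 1, 3, 1, 0]), (166, true, [0, 1, 3, 1, 0, 1, 0, 1, 3, 4, 3, 1, 0, 1, 3, 1])]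
def r175 : List (ℕ × Bool × List ℕ) := [(269, true, [3, 4, 3, 1, 0, 1, 0, 4, 3, 1, 0]), (252, false, [0, 1, 3, 1, 0, 1, 0, 1, 3, 4, 3, 4, 0, 4]), (186, false, [1, 0, 1, 2, 0, 1, 0, 1, 0, 4, 0, 4, 0, 4, 0]), (270, false, [2, 4, 0, 1, 0, 4, 3, 4, 0, 4, 3, 4]), (178, false, [0, 4, 0, 4, 3, 1, 0, 4]), (72, true, [0, 1, 0, 2, 4, 0, 4, 0, 1, 3, 4, 3, 4, 0, 1]), (269, false, [4, 3, 1, 0, 1, 3, 1, 0, 4, 3, 1]), (186, true, [0, 4, 3, 1, 0, 4, 3, 4, 3, 1, 0, 1, 0, 1, 3]), (178, false, [1, 0, 1, 3, 4, 3, 4, 3, 1, 0, 4, 0, 1]), (186, false, [1, 2, 0, 1, 3, 1, 0, 1, 0, 1, 3, 1, 3]), (17, false, [1, 3, 4, 3, 4, 0, 4, 0, 4, 3, 1, 0, 1, 3]), (158, true, [1, 0, 4, 0, 1, 3, 1, 3, 4, 0, 1, 3, 1, 3, 4]), (68, false, [2, 0, 4, 0, 4, 3, 1,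 3, 4, 0, 4, 0, 4, 0, 4]), (188, false, [2, 0, 1, 0, 4, 0, 4, 3, 1, 3, 1, 0, 4, 0]), (158, false, [1, 0, 1, 3, 4, 0, 1, 3, 1, 0, 4, 0, 4, 3]), (164, true, [0, 1, 0, 1, 3, 4, 0, 4, 0, 1]), (68, true, [0, 2, 4, 3]), (208, true, [4, 3, 1, 0, 4, 0, 4, 0, 4, 3, 1, 3, 4, 0, 4]), (269, true, [1, 0, 1, 3, 1, 3, 1, 0, 4, 0, 4, 3, 1, 3, 1, 3]), (91, true, [4, 0, 1, 0, 1, 3, 4, 0, 1, 0, 1, 3, 1, 0]), (87, false, [1, 0, 2, 4, 0, 4, 0, 4, 0, 4]), (68, true, [0, 2, 4, 0, 4, 0, 4, 0, 4, 3, 4, 3, 4, 3]), (252, true, [1, 0, 1, 3, 4, 0, 4, 0, 1, 3, 1]), (87, true, [0, 2, 4, 0, 1, 3, 1, 3, 1, 0, 4, 3]), (208, false, [4, 0, 4, 0, 4, 0, 1, 3, 1, 0, 4, 3, 4, 0]), (188, true, [0, 2, 4, 3, 1, 3, 1, 0, 1, 3, 1, 0, 1, 0, 1]), (172, true, [2, 0,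 4, 0, 1, 0, 1, 3, 4, 0, 4, 3, 4]), (208, false, [4, 0, 1, 3, 1, 0, 1, 3, 4, 3, 1, 0, 4]), (270, true, [1, 0, 1, 2, 0, 1, 3, 1, 3, 4, 0, 1, 0, 1, 3, 4]), (87, false, [0, 2, 4, 3, 1, 0, 1, 3, 4, 0, 4, 0, 4, 0, 4]), (117, true, [2, 4, 3, 1, 0, 1, 0, 4, 3, 1]), (270, false, [0, 1, 0, 1, 0, 2, 4, 0, 1, 0, 1, 3, 1, 3, 4]), (188, true, [0, 2, 4, 0, 4, 3, 1, 3, 4, 0, 4, 3, 1]), (91, true, [4, 0, 4, 0, 4, 3, 1, 0, 4, 0, 4, 3, 4, 3]), (171, false, [0, 1, 0, 1, 3, 1, 3, 4, 0, 4, 0, 4, 0, 1, 0]), (171, true, [3, 1, 3, 1, 3, 1, 0, 1, 3, 4, 0, 1, 3]), (158, true, [4, 0, 1, 3, 1, 3, 1, 3, 4, 3, 4, 3, 4, 0, 1]), (183, true, [3, 1, 3, 1, 0, 1, 0, 4, 3, 4, 3, 4, 3, 1, 0]), (17, true, [1, 0, 1, 0, 1, 0, 4, 3, 4, 0, 4, 0, 4, 0, 1]), (148,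 true, [0, 1, 0, 4, 3, 1, 3, 1, 0, 1, 3, 4, 3, 4]), (178, false, [4, 3, 4, 0, 4, 0, 4, 3, 4, 0, 1, 0, 1]), (72, false, [0, 2, 4, 0, 4, 3, 1, 0, 1, 3]), (269, false, [4, 3, 4, 0, 1, 3, 1, 3, 4, 0, 4, 3, 1, 0, 4, 3]), (87, false, [0, 1, 0, 2, 4, 3, 4, 3, 4, 0, 1, 3, 1, 3]), (87, true, [2, 0, 1, 3, 1, 0, 4, 3]), (252, false, [0, 1, 3, 1, 0, 1, 0, 1, 3, 4, 3, 4, 0, 4]), (68, false, [1, 0, 1, 2, 0, 1, 3, 1, 0, 1, 0, 1, 0, 4, 3, 1]), (17, false, [4, 3, 4, 0, 1, 3, 1, 3, 4, 0, 4]), (20, false, [2, 0, 1, 0, 1, 0, 4, 0, 4, 0, 4]), (172, false, [1, 0, 1, 2, 0, 4, 0, 1, 3, 1, 0, 1, 0, 1, 3, 1, 3]), (269, true, [3, 4, 0, 4, 0, 4, 3, 4, 3, 4, 3, 4, 0]), (171, true, [1, 3, 1, 3, 1, 0, 1, 3, 1, 0, 1, 3]), (91, false, [0, 4, 3, 1, 3,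 4, 0, 1, 3, 1, 3, 1, 0, 1, 3, 4, 3]), (172, true, [1, 2, 0, 4, 0, 1, 3, 4, 0, 4, 3, 4, 3]), (20, true, [0, 1, 0, 1, 3, 1, 0, 1, 3, 1, 0]), (68, true, [1, 2, 0, 1, 3, 1, 3, 1, 0]), (72, false, [2, 0, 4, 3, 4, 3, 4, 0, 4, 0, 4, 3, 4, 3, 1, 0]), (252, false, [4, 0, 4, 0, 4, 3, 4, 0, 4, 3]), (171, true, [4, 0, 1, 3, 1, 3, 1, 3, 1, 0, 4, 0, 4, 0]), (20, false, [0, 2, 4, 0, 1, 3, 1, 3, 1, 3, 4, 3, 4, 3, 1]), (188, true, [1, 0, 1, 0, 1, 2, 0, 4, 3, 4, 0, 4]), (188, false, [1, 0, 1, 2, 0, 1, 0, 1, 3, 1, 3, 1, 3, 4, 3, 4]), (269, false, [0, 1, 3, 1, 0, 4, 0, 4, 3, 1, 3, 4, 0, 4, 3, 1, 3]), (252, false, [4, 0, 4, 0, 4, 3, 4, 0, 4, 3]), (158, false, [3, 1, 3, 1, 3, 1, 3, 1, 3, 4, 3, 4, 0, 4, 3]), (171, false, [3, 4, 3, 4, 3, 4,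 0, 4, 3, 1, 0]), (117, false, [0, 4, 3, 1, 3, 4, 0, 4, 3, 1, 0, 1, 0, 4, 0]), (178, true, [3, 1, 0, 1, 0, 1, 0, 4, 0, 4, 3, 1, 0, 1, 0, 4]), (117, false, [2, 4, 0, 4, 0, 4, 3, 4, 0, 4, 3, 4, 3]), (171, false, [0, 4, 0, 4, 3, 4, 3, 4, 3, 4, 0, 4, 0]), (91, false, [0, 1, 0, 1, 0, 4, 0, 4, 3, 1, 0, 1]), (20, true, [0, 1, 0, 1, 3, 1, 3, 4, 3, 4, 3, 4, 3]), (164, false, [4, 0, 1, 0, 1, 3, 4, 3, 1, 0, 1, 0]), (17, false, [0, 4, 3, 4, 3, 4, 0, 4, 0, 1, 3]), (117, true, [0, 4, 3, 1, 3, 1, 0, 1, 0, 1, 3, 1, 0, 4]), (186, true, [3, 4, 0, 4, 3, 1, 3, 1, 3, 1, 0, 1, 0]), (208, true, [0, 1, 0, 2, 4, 3, 4, 0, 1, 3, 1, 3, 4, 3]), (270, true, [0, 2, 4, 0, 1, 3, 4, 3, 1, 0, 1, 3, 1, 3, 1]), (72, true, [1, 0, 1, 0, 2, 4, 3, 4, 3, 4, 3,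 1, 0, 1]), (270, true, [0, 2, 4, 0, 1, 0, 4, 3, 1, 3, 1, 3, 4, 3, 4, 0]), (188, false, [2, 0, 1, 3, 1, 3, 1, 3, 4, 3, 4, 3, 1, 3]), (91, false, [1, 3, 1, 0, 1, 0, 4, 0, 4, 3, 1, 0, 1, 3, 4, 3]), (178, true, [4, 3, 1, 0, 1, 3, 1, 3, 1, 3, 4, 3, 4, 3]), (72, false, [0, 2, 4, 0, 4, 0, 1, 3, 1, 0, 1, 0, 4, 0, 4, 0]), (17, true, [3, 4, 0, 1, 0, 1, 0, 4, 0, 4, 3, 1, 0, 1, 0]), (208, false, [1, 2, 0, 1, 0, 1, 3, 4, 3, 4, 3, 1]), (20, false, [3, 4, 3, 1, 3, 1, 0, 1, 0, 1, 3, 4]), (117, false, [0, 1, 0, 4, 3, 1, 0, 1, 3, 1, 3, 1, 0, 1, 0]), (87, true, [0, 2, 4, 3, 1, 3, 1, 3, 1, 0, 4, 3]), (117, true, [3, 1, 3, 1, 0, 1, 3, 1, 3, 4, 3, 4]), (148, false, [0, 1, 0, 1, 0, 4, 3, 1, 3, 1, 3, 1]), (186, false, [0, 4, 3, 4, 0, 4, 3, 4,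 3, 4, 0, 4, 3, 1]), (183, true, [1, 3, 1, 0, 4, 3, 1, 0, 1, 0, 4, 3, 1, 3]), (208, true, [0, 1, 0, 1, 0, 1, 2, 0, 4, 3, 4, 3, 1, 0]), (158, true, [4, 0, 1, 3, 1, 3, 1, 0, 4, 3, 4, 3, 4, 0, 1, 0]), (183, false, [3, 4, 3, 4, 0, 1, 3, 1, 0, 1, 0, 4]), (68, false, [1, 2, 0, 4, 3, 4, 3, 4, 0, 4, 0, 4, 3, 4, 3, 4, 0]), (72, true, [0, 1, 0, 2, 4, 0, 4, 0, 4, 3, 4, 3, 4, 3, 4, 0, 1, 0]), (172, false, [1, 2, 0, 4, 0, 4, 3, 1, 0, 1, 0, 1, 0, 4, 3, 1]), (172, false, [2, 4, 3, 4, 0, 1, 3, 1, 3, 1, 3, 1, 0, 4, 0]), (183, false, [4, 0, 1, 3, 4, 3, 4, 0, 4, 3, 1, 0, 1, 0]), (172, true, [0, 2, 4, 0, 1, 3, 1, 3, 4, 0, 1, 3, 4]), (252, true, [1, 0, 1, 3, 4, 0, 4, 0, 1, 3, 1]), (270, false, [2, 0, 1, 3, 1, 3, 1, 3, 4, 0, 4, 3, 1, 0, 1]),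 (91, true, [0, 1, 3, 4, 3, 4, 3, 4, 0, 1, 0, 1, 3, 1, 3]), (183, false, [0, 1, 0, 1, 0, 4, 0, 4, 3, 1, 0, 1, 0, 1, 3, 4]), (20, true, [1, 0, 2, 4, 3, 4, 0, 4, 0, 4, 3, 1, 0, 4, 3]), (17, true, [3, 1, 3, 4, 3, 4, 0, 4, 3, 1, 0, 1]), (178, true, [4, 3, 1, 0, 4, 0, 4, 0, 4, 0]), (158, false, [0, 1, 3, 4, 0, 4, 3, 4, 3, 1, 0]), (183, true, [1, 3, 4, 0, 1, 3, 1, 3, 1, 3, 1, 3, 4]), (186, true, [1, 0, 1, 3, 1, 3, 1, 0, 4, 3, 4, 0, 1, 0, 1])]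
def r176 : List (ℕ × Bool × List ℕ) := [(180, true, [2, 4, 3, 1, 0, 4, 3, 4, 0, 1, 0, 1, 0, 4, 0, 4, 3]), (125, false, [3, 1, 3, 1, 3, 4, 0, 4, 0, 4, 0, 1, 3, 4, 3]), (75, false, [0, 1, 0, 1, 0, 4, 3, 4, 3, 4, 3, 4, 0, 4, 0]), (168, true, [4, 0, 1, 0, 1, 0, 1, 3, 1, 0, 4, 3]), (9, true, [0, 1, 3, 4, 3, 1, 0, 1, 0, 1, 0, 4]), (171, true, [1, 0, 1, 2, 0, 4, 0, 1, 3, 1, 3, 1, 0, 4]), (260, true, [1, 3, 1, 3, 1, 0, 1, 0, 1, 3, 1, 3, 1, 3, 4, 3]), (57, false, [0, 4, 0, 4, 0, 4, 3, 4, 0, 1, 0, 1, 0, 4, 3]), (73, false, [4, 0, 1, 3, 1, 3, 1, 0, 1, 0, 1, 3, 1, 0]), (172, false, [2, 0, 1, 0, 4, 3, 1, 3, 1, 3, 1, 0, 4, 3, 4, 0, 4]), (50, false, [4, 3, 4, 3, 4]), (92, true, [0, 4, 3, 1, 3, 1, 0, 4, 3, 1, 0, 1, 0, 4, 0]), (275, true,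 [0, 4, 3, 4, 0, 4, 0, 4, 3, 4, 0, 1, 0, 1]), (210, false, [0, 1, 3, 4, 0, 1, 3, 1, 0, 4, 0, 4, 3, 4, 0]), (18, false, [3, 1, 3, 4, 0, 1, 0, 1, 0, 4]), (201, true, [4, 0, 1, 3, 4, 3, 1, 0, 1, 0, 4]), (92, false, [1, 0, 1, 3, 1, 3, 4, 3, 4, 0, 1, 3, 1, 3, 4]), (57, true, [0, 2, 4, 3, 4, 3, 4, 0, 4, 0, 4, 0, 4, 3, 1, 3, 1, 0]), (220, true, [0, 1, 2, 0, 4, 0, 4, 3, 1, 0, 1, 3, 4, 3, 4]), (64, false, [2, 4, 3, 1, 0, 4, 0, 4, 0, 4, 0, 1]), (64, false, [3, 1, 0, 1, 0, 1, 3, 4, 3, 4, 0, 1, 3, 4, 3]), (65, false, [4, 3, 1, 0, 1, 3, 1, 3, 4, 3, 4, 3, 4, 3]), (247, true, [2, 0, 1, 0, 1, 3, 1, 0, 4, 3, 4, 0, 1]), (77, true, [1, 0, 1, 0, 1, 2, 0, 1, 0, 4, 3, 4, 3, 4]), (180, false, [1, 0, 1, 0, 2, 4, 0, 4, 3, 1, 3, 4, 0]), (176, false,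 [1, 0, 1, 0, 1, 0, 2, 4, 3, 4, 3, 4]), (42, true, [3, 4, 3, 1, 0, 1, 0, 1, 3, 1, 3, 1, 3]), (176, true, []), (43, false, [1, 0, 1, 3, 4, 3, 4, 3, 1, 0, 1, 3, 4, 0]), (43, false, [2, 4, 3, 1, 3, 1, 3, 1, 0, 4, 0, 4, 3, 4, 3, 1]), (199, false, [1, 3, 4, 3, 1, 0, 1, 3, 1, 0, 1, 3, 1]), (27, true, [0, 4, 0, 1, 3, 4, 3, 4, 0, 4, 0, 1, 3]), (56, true, [0, 4, 3, 1, 3, 1, 0, 1, 0, 4, 3, 4, 3, 4, 3]), (171, true, [1, 2, 0, 4, 3, 1, 0, 1, 3, 1, 3, 1, 0, 4, 0, 4]), (225, false, [2, 0, 4, 3, 4, 3, 4, 0, 4, 0, 4, 3, 4]), (172, false, [0, 1, 0, 1, 3, 1, 0, 1, 3, 1, 0, 1, 3, 1]), (65, false, [0, 1, 0, 2, 4, 3, 4, 0, 4, 3, 1, 3, 1, 0, 4, 3]), (73, false, [0, 2, 4, 0, 4, 0, 1, 3, 1, 3, 1, 0, 1, 0]), (110, true, [1, 0, 4, 3, 4, 3, 1, 0,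 1, 3, 1, 0, 1, 3, 4, 3, 4]), (280, false, [2, 0, 4, 3, 4, 0, 1, 0, 1, 0, 4, 3]), (279, true, [1, 3, 4, 3, 4, 3, 4, 0, 4, 0]), (104, true, [0, 4, 0, 4, 3, 4, 3, 1, 0, 4, 0, 4, 0, 1, 0]), (95, true, [0, 1, 2, 0, 1, 3, 4, 0, 4, 3, 4, 0]), (136, false, [3, 4, 0, 4, 3, 1, 0, 1, 0, 1, 3, 1, 0, 1, 0]), (46, false, [0, 1, 0, 1, 0, 1, 0, 1, 0, 2, 4]), (181, true, [0, 1, 0, 1, 2, 0, 1, 3, 1, 3]), (251, true, [3, 4, 0, 1, 3, 1, 0, 4, 0, 4]), (78, true, [0, 1, 0, 1, 3, 1, 0, 4, 0, 4, 0, 1, 3, 1, 3, 1]), (78, false, [0, 1, 0, 1, 2, 0, 1, 3, 4, 3, 4, 3, 1, 0, 1, 0, 1]), (110, true, [1, 0, 1, 3, 4, 3, 4, 0, 4, 0, 4, 3, 4, 3, 1, 0]), (280, false, [2, 4, 0, 1, 0, 4, 3, 4, 3, 4, 3, 4, 0, 4]), (110, true, [0, 2, 4, 0, 4, 0, 1, 3, 4, 0,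 4, 3, 4, 0]), (120, false, [1, 3, 1, 0, 1, 3, 4, 0, 1, 0, 1, 3, 1]), (166, false, [1, 0, 1, 0, 1, 0, 1, 0, 1, 0, 1, 0, 1, 2]), (125, false, [4, 3, 4, 0, 1, 3, 1, 3, 4, 3, 4, 0, 1, 0, 1]), (75, false, [1, 2, 0, 1, 3, 1, 3, 4, 0, 4, 3, 4, 3, 4, 0]), (210, true, [1, 0, 4, 0, 4, 3, 1, 3, 4, 0, 4, 3, 4, 3]), (50, false, [1, 0, 2, 4, 0, 1, 3, 1, 3, 4, 3, 4]), (103, true, [4, 0, 4, 3, 1, 0, 1, 0, 4, 3, 1, 3]), (248, true, [3, 4, 0, 4, 0, 1, 3, 4, 0, 4, 0, 1, 3]), (170, true, [1, 0, 2, 4, 3, 1, 0, 1, 3, 1, 0, 4, 3]), (176, true, []), (29, false, [0, 4, 3, 4, 0, 4, 3, 1, 3, 1, 0, 1, 3, 4, 3]), (60, true, [0, 1, 3, 1, 3, 4, 0, 4, 3, 4, 3, 1]), (95, true, [2, 4, 0, 4, 3, 1, 3, 1, 0, 1, 0, 4, 3, 1]), (119, false, [0, 4, 3, 1, 0,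 1, 0, 1, 3, 4, 0, 1, 0]), (95, true, [0, 1, 0, 2, 4, 0, 1, 3, 4, 3, 1]), (194, true, [1, 0, 1, 0, 4, 3, 4, 3, 4, 3, 4, 3, 1]), (226, false, [0, 1, 3, 1, 3, 4, 0, 4, 3, 1, 3, 1, 0, 1]), (119, false, [0, 1, 0, 4, 3, 4, 0, 4, 0, 1]), (125, false, [2, 0, 1, 3, 4, 0, 4, 0, 1, 3, 4, 3]), (57, false, [2, 4, 3, 4, 0, 4, 0, 4, 3, 4, 0, 4, 3, 1, 3, 4]), (176, true, []), (210, false, [0, 1, 2, 0, 1, 3, 1, 3, 4, 3, 4, 3, 4, 0]), (146, true, [1, 0, 4, 3, 1, 0, 1, 3, 4, 3, 4]), (77, false, [1, 3, 4, 0, 4, 0, 4, 0, 4, 3, 4, 3, 4, 3]), (35, true, [1, 0, 4, 3, 4, 0, 4, 0, 1, 3, 1, 0, 1]), (118, false, [4, 0, 1, 3, 4, 0, 4, 3, 1, 3, 4, 0, 1, 0]), (42, true, [0, 1, 2, 0, 1, 3, 1, 3, 1, 0, 1, 0]), (181, true, [1, 3, 1, 0, 1, 0, 1, 0, 4,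 0, 4, 3, 1, 0, 1]), (135, false, [4, 3, 1, 3, 1, 3, 1, 0, 4, 0]), (20, true, [0, 1, 0, 1, 3, 1, 3, 1, 0, 1, 0, 1, 3, 1, 3]), (135, false, [3, 1, 0, 1, 3, 1, 0, 1, 0, 1, 3, 1, 0, 4, 0]), (20, true, [0, 4, 0, 4, 3, 4, 3, 1, 0, 1, 0, 1, 3, 1, 0]), (9, true, [0, 4, 3, 4, 3, 4, 3, 4, 0, 4, 0, 4, 3]), (180, true, [0, 1, 0, 1, 0, 4, 0, 4, 3, 4, 3, 4, 0, 1, 3, 4]), (168, true, [4, 3, 1, 3, 4, 0, 4, 0, 1, 3, 4, 3, 4, 3, 4]), (92, true, [1, 2, 0, 1, 0, 4, 0, 4, 3, 4, 0, 1, 0, 1, 3]), (170, true, [3, 4, 0, 1, 3, 1, 0, 1, 3, 1, 3, 1, 0]), (110, true, [1, 2, 0, 1, 0, 4, 0, 4, 0, 4, 3, 4, 3, 4, 0, 4, 3]), (125, false, [0, 2, 4, 0, 1, 3, 4, 3, 4, 3, 1, 0, 1]), (225, false, [1, 0, 1, 0, 4, 3, 4, 3, 4, 3, 4, 3, 4, 0, 1, 0]), (199, false,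 [2, 4, 0, 4, 3, 4, 3, 4, 0, 1, 3, 1, 0, 1]), (46, false, [4, 0, 4, 3, 4, 3, 4, 0, 1, 3, 4, 3, 4]), (100, false, [1, 0, 4, 0, 4, 3, 1, 0, 1, 0, 4]), (48, true, [4, 3, 4, 3, 4]), (210, false, [2, 4, 3, 1, 0, 1, 3, 4, 3, 4, 3, 4, 0]), (180, false, [0, 1, 3, 4, 0, 1, 3, 1, 0, 1, 0, 1, 3, 4, 0, 4]), (226, false, [0, 2, 4, 3, 4, 0, 4, 3, 4, 0, 1, 3, 1, 3, 4, 0]), (119, false, [0, 4, 3, 1, 0, 1, 3, 1, 3, 1]), (171, true, [1, 0, 4, 0, 1, 3, 1, 0, 1, 3, 1, 3, 1, 3]), (220, true, [4, 0, 1, 3, 1, 0, 4, 3, 4, 0, 1, 0, 4]), (171, true, [1, 0, 4, 3, 4, 0, 1, 0, 1, 3, 4, 3, 1]), (275, true, [2, 0, 1, 0, 4, 3, 1, 0, 1, 0, 4, 3, 4, 0]), (99, true, [4, 3, 1, 0, 1, 0, 1, 3, 1, 3, 1, 0, 4]), (138, true, [1, 0, 2, 4, 3, 1, 0, 4]), (57, true,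 [1, 3, 1, 3, 4, 0, 1, 0, 1, 3, 1, 0, 4, 0, 1]), (260, true, [2, 4, 3, 4, 0, 1, 3, 1, 0, 1, 0, 4, 3]), (27, true, [2, 0, 1, 0, 1, 3, 4, 3, 1, 0, 1, 3, 4, 3]), (92, false, [2, 4, 0, 4, 0, 4, 3, 4, 3, 4, 3, 1]), (201, true, [0, 1, 2, 0, 1, 3, 1, 0, 1, 3, 4, 3]), (165, true, [1, 3, 1, 3, 1, 3, 1, 3, 1, 3, 1, 3, 1])]
def r177 : List (ℕ × Bool × List ℕ) := [(152, true, [0, 1, 0, 1, 2, 0, 1, 0, 4, 3, 4, 3, 1, 0, 1, 3, 4]), (178, true, [0, 1, 0, 4, 0, 4, 0, 1, 3, 4, 3, 4, 3, 1, 0]), (184, true, [0, 4, 3, 1, 3, 1, 3, 4, 3, 4, 0]), (203, true, [3, 1, 0, 1, 3, 1, 0, 1, 3, 1, 3, 1, 3, 4, 0]), (30, false, [2, 4, 3, 4, 3, 4, 0, 4, 0, 4, 0, 1, 0]), (7, false, [1, 0, 1, 2, 0, 1, 3, 1, 3, 4, 3, 4, 0, 1, 3, 1, 0]), (128, true, [2, 0, 1,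 3, 1, 0, 1, 0, 1, 3, 4, 0, 4, 0, 1, 3]), (270, true, [0, 1, 2, 0, 4, 0, 1, 3, 1, 3, 1, 3, 1, 0]), (182, false, [1, 2, 0, 4, 0, 4, 3, 1, 0, 1, 3, 1, 3]), (128, true, [0, 4, 3, 1, 3, 4, 0, 4, 0, 4, 0, 4, 3, 4, 3, 4]), (76, true, [2, 0, 1, 0, 4, 3, 4, 3, 1, 0, 1, 0, 1, 0, 1]), (17, false, [4, 0, 4, 0, 4, 3, 4, 0, 1, 0, 1, 0]), (129, true, [0, 1, 3, 1, 0, 1, 3, 1, 0, 1, 0, 1, 3, 1, 0]), (238, true, [1, 2, 0, 4, 0, 4, 3, 1, 3, 1, 0, 4, 0, 4]), (256, false, [0, 4, 3, 4, 3, 4, 0, 1, 0, 1, 3, 1, 0]), (203, true, [0, 4, 0, 4, 3, 4, 3, 4, 3, 4, 0, 1, 3, 1, 0, 1]), (169, false, [1, 0, 4, 0, 1, 3, 4, 0, 4, 3, 4, 3]), (238, true, [0, 1, 0, 1, 0, 1, 3, 4, 3, 1, 0, 4]), (241, true, [2, 0, 1, 0, 4, 0, 4, 3, 1, 0]), (182, false, [0, 1,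 0, 1, 0, 1, 2, 0, 1, 0, 1, 0, 1, 3, 4, 0, 1, 3, 1]), (153, false, [3, 1, 3, 4, 0, 4, 0, 4, 0, 1]), (247, false, [0, 1, 0, 4, 0, 4, 3, 4, 0, 4, 3]), (7, false, [3, 1, 0, 1, 3, 1, 3, 1, 0, 1, 0, 1, 3, 4, 0, 4]), (183, false, [2, 0, 4, 3, 1, 0, 1, 0, 4, 0, 4, 0, 4, 3, 4]), (184, true, [1, 0, 4, 0, 1, 3, 4, 3, 4, 0, 1, 0, 1, 3]), (78, true, [4, 3, 4, 3, 1, 0, 4, 0, 4, 0, 1, 3, 4]), (239, true, [1, 2, 0, 4, 0, 1, 3, 4, 3]), (246, true, [1, 3, 4, 3, 1, 0, 1, 0, 4, 0]), (152, true, [0, 1, 3, 1, 3, 1, 3, 4, 0, 4, 3, 4, 3]), (153, false, [2, 0, 1, 0, 4, 3, 4, 3]), (182, false, [0, 1, 3, 4, 0, 4, 0, 4, 0, 1, 3, 4, 0, 4, 0, 4]), (105, false, [1, 0, 1, 3, 4, 3, 1, 0, 4, 3, 4, 0, 4, 0, 4]), (76, true, [3, 1, 3, 4, 0, 4, 0, 1, 3, 1,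 3, 4]), (269, false, [0, 1, 0, 1, 0, 1, 0, 4, 0, 4]), (268, true, [2, 0, 4, 3, 4, 3, 1, 0, 4, 3, 4, 0, 1, 0, 4]), (38, false, [3, 1, 0, 4, 3, 1, 0, 1, 0, 1, 3, 4, 0]), (135, false, [0, 1, 3, 1, 3, 4, 3, 4, 0, 4, 0, 4]), (121, false, [0, 2, 4, 0, 1, 0, 1, 0, 1, 0, 4, 0, 4, 0, 4, 3]), (270, true, [0, 1, 3, 4, 3, 1, 0, 1, 0, 1, 0, 1, 3, 4, 0, 1]), (2, true, [1, 3, 1, 3, 4, 0, 4, 3, 1, 3, 1, 0, 4]), (231, true, [4, 3, 4, 0, 4, 3, 4, 0, 4]), (76, true, [3, 1, 3, 1, 0, 1, 3, 4, 0, 1, 3]), (246, true, [1, 2, 0, 4, 0, 1, 3, 1, 3, 4, 3, 4, 0, 1]), (246, true, [1, 0, 1, 0, 1, 3, 1, 3, 1, 0, 1, 0, 4, 0, 4]), (268, true, [3, 4, 0, 4, 0, 1, 3, 4, 0, 4, 3, 1, 3, 1, 0, 1]), (256, false, [0, 1, 0, 1, 2, 0, 1, 3, 1, 0, 1, 3, 1, 3, 4,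 3, 4]), (52, false, [1, 0, 2, 4, 0, 4, 0, 1, 3, 4, 3, 4]), (30, false, [1, 0, 1, 3, 4, 3, 4, 0, 1, 3, 1, 3]), (15, false, [0, 4, 0, 1, 3, 4, 3, 4, 0, 1, 3, 4]), (128, true, [1, 0, 1, 0, 2, 4, 0, 4, 0, 1, 3, 1, 0, 4, 0, 4]), (172, true, [1, 0, 1, 0, 1, 2, 0, 1, 0, 4, 0, 4, 0, 4, 0]), (105, true, [1, 2, 0, 4, 0, 1, 3, 1, 0, 1, 0, 4, 3, 1, 3]), (147, true, [4, 3, 4, 3, 1, 0, 4, 3, 4, 3, 4, 0, 4]), (105, false, [2, 4, 3, 1, 0, 1, 0, 1, 0, 1, 3, 4, 0, 1, 0]), (182, false, [1, 0, 1, 3, 4, 3, 4, 0, 4, 3, 1, 0, 4]), (91, true, [1, 0, 1, 3, 4, 3, 4, 0, 4, 3, 4, 0, 4]), (230, true, [1, 2, 0, 1, 3, 1, 3, 4, 0]), (58, false, [0, 2, 4, 3, 4, 0, 4, 0, 1, 3, 1, 0, 1, 3, 1]), (178, true, [0, 1, 2, 0, 1, 0, 1, 3, 4, 0, 1, 3, 1, 3, 1,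 0, 4]), (58, false, [0, 1, 0, 1, 2, 0, 1, 0, 1, 3, 4, 0, 4, 0, 1, 3, 1]), (231, true, [2, 4, 0, 4, 3, 4, 0, 4, 3, 1, 0, 1]), (128, true, [3, 4, 3, 1, 0, 1, 0, 4, 3, 4, 0, 1, 0]), (107, true, [3, 4, 0, 1, 0, 1, 3, 1, 3]), (57, true, [0, 4, 3, 1, 3, 1, 0, 4, 0, 4, 3, 1, 3, 1, 0, 4]), (183, false, [0, 1, 0, 4, 3, 4, 3, 1, 0, 1, 0, 4, 0, 4, 3, 1]), (73, false, [0, 4, 3, 4, 0, 4]), (75, true, [3, 1, 0, 1, 0, 4, 3, 1, 0, 4]), (172, true, [1, 0, 1, 0, 4, 3, 4, 3, 4, 3, 4, 3, 4, 0, 4]), (203, true, [0, 2, 4, 3, 4, 0, 4, 0, 4, 0, 4, 3, 1, 0, 4]), (168, true, [1, 2, 0, 1, 3, 1, 0, 1, 3, 1, 0, 1, 3, 1, 3]), (52, false, [1, 0, 4, 3, 4, 0, 1, 3, 4, 3, 4]), (95, false, [4, 3, 4, 3, 4, 3, 1, 0, 1, 3, 4, 0, 1, 0]), (91, true, [0, 2,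 4, 0, 1, 3, 1, 0, 1, 3, 1, 3, 4, 0]), (170, true, [1, 0, 1, 0, 1, 2, 0, 4, 0, 4, 0]), (269, false, [0, 1, 0, 2, 4, 0, 4, 0, 1, 3, 1]), (168, false, [1, 0, 1, 0, 4, 3, 4, 0, 4, 3, 4]), (58, false, [0, 1, 0, 1, 3, 1, 3, 1, 0, 1, 0, 1, 0, 4, 0, 4]), (70, false, [1, 0, 1, 2, 0, 4, 3, 4, 3, 4, 0, 4, 3, 4, 0]), (135, false, [0, 2, 4, 3, 4, 3, 4, 0, 4, 0, 1, 3, 1]), (256, false, [2, 0, 1, 3, 1, 0, 4, 0, 4, 0, 4]), (238, true, [1, 0, 4, 3, 4, 3, 4, 3, 1, 0, 4]), (179, true, [0, 1, 0, 2, 4, 0, 4, 3, 1, 0, 1, 0, 1, 3, 1, 0, 1]), (172, true, [1, 0, 4, 0, 4, 3, 1, 0, 1, 0, 4, 0, 4, 0, 4, 0]), (230, true, [1, 3, 1, 0, 1, 0, 4, 3, 4, 0, 1]), (244, true, [1, 0, 2, 4, 0, 1, 3, 4, 3, 4, 0, 1, 0]), (188, true, [2, 4, 0, 1, 0, 4, 3, 4,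 0, 1, 3, 1, 3, 1, 3, 1]), (188, false, [2, 4, 3, 1, 3, 4, 0, 1, 3, 1, 3, 4, 3, 4]), (107, false, [1, 0, 1, 3, 4, 3, 1, 0, 1, 0, 4, 3, 1, 3]), (57, true, [0, 2, 4, 0, 1, 3, 1, 3, 1, 0, 1, 3, 4, 3, 4, 3]), (208, true, [3, 1, 0, 1, 0, 4, 3, 4, 0, 1, 3, 4, 3]), (280, false, [0, 1, 0, 4, 0, 4, 0, 4, 0, 4, 3, 1, 3]), (91, true, [3, 1, 3, 1, 3, 4, 0, 1, 0, 1, 0, 4, 0]), (188, true, [4, 3, 1, 3, 4, 0, 4, 3, 1, 0, 1, 0, 1, 3, 1]), (135, true, [3, 1, 3, 4, 0, 4, 3, 1, 3, 4]), (58, false, [0, 4, 0, 4, 3, 4, 3, 1, 0, 1, 3, 1, 3, 1]), (186, false, [4, 3, 1, 0, 1, 0, 4, 0, 4, 3, 4, 3]), (179, true, [0, 1, 0, 4, 3, 4, 0, 1, 3, 1, 3, 1, 0, 4]), (105, true, [1, 0, 1, 0, 4, 3, 1, 0, 1, 3, 4, 0, 4, 0]), (135, true, [2, 0, 1, 0, 4, 3, 4,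 0, 1, 0, 1, 0, 1]), (188, false, [4, 0, 1, 0, 4, 3, 4, 3, 4, 3, 4]), (172, true, [1, 0, 1, 2, 0, 1, 0, 4, 3, 4, 3, 4, 3, 4, 3]), (3, false, [1, 3, 4, 0, 1, 0, 1, 3, 4, 0, 1, 0]), (73, false, [0, 2, 4, 0, 4, 3, 1, 0, 1]), (3, false, [1, 2, 0, 4, 3, 4, 0, 4, 3, 1, 3, 4, 0, 1, 3]), (242, true, [3, 1, 0, 4, 0, 4, 3, 4, 3, 4, 0, 4, 0, 4, 3, 4]), (256, false, [3, 1, 0, 1, 3, 4, 3, 4, 3, 1, 0, 1]), (170, true, [0, 1, 0, 1, 0, 1, 0, 1, 3, 1, 3, 1]), (117, true, [0, 2, 4, 0, 1, 3, 1, 0, 4, 3]), (70, false, [0, 4, 0, 1, 3, 1, 0, 4, 3, 4, 3, 4, 0, 4, 0, 4, 3]), (281, false, [2, 4, 3, 1, 0, 1, 3, 4, 3, 4, 0]), (91, true, [2, 4, 0, 1, 0, 1, 3, 4, 0, 1, 3, 1, 3, 1, 0, 4]), (244, true, [0, 1, 3, 4, 0, 1, 3, 1, 0, 1, 0, 4, 3, 1])]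
def r178 : List (ℕ × Bool × List ℕ) := [(64, true, [4, 0, 1, 0, 1, 3, 4, 3, 1, 0, 1, 3, 1, 3]), (211, false, [0, 1, 0, 1, 0, 1, 0, 1, 3, 1, 3, 1, 0, 4, 3, 4, 3]), (50, true, [2, 4, 0, 4, 3, 4, 3, 4, 3, 4, 0, 1]), (56, false, [4, 3, 1, 3, 1, 3, 4, 0, 1, 3, 1, 3, 1]), (178, true, []), (219, true, [1, 3, 1, 3, 1, 0, 4, 0, 4, 3, 1, 3]), (25, false, [3, 4, 0, 1, 3, 1, 3, 4, 0, 1, 3, 1, 0, 4]), (38, true, [0, 2, 4, 0, 1, 3, 4, 0, 4, 3, 4, 3]), (180, true, [3, 1, 3, 1, 0, 1, 0, 1, 3, 1, 0, 4, 0]), (92, true, [4, 0, 1, 3, 1, 3, 4, 0, 4, 0, 1, 3, 1, 0, 4]), (126, false, [3, 4, 0, 1, 0, 1, 0, 4, 3, 1, 3, 4, 0, 4]), (51, true, [1, 3, 4, 3, 4, 0, 4, 3, 1, 3, 1, 3, 4, 3]), (254, false, [4, 0, 4, 3, 1, 3, 1]), (256, true, [0, 1, 2,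 0, 4, 0, 4, 3, 1, 3, 4, 0, 1, 0]), (175, false, [1, 3, 4, 0, 1, 3, 1, 3]), (222, true, [3, 1, 3, 1, 0, 4, 3, 4, 3, 1]), (187, true, [0, 4, 3, 4, 0, 4, 0, 4, 3, 4, 3, 4, 3, 4, 0]), (0, false, [2, 0, 1, 0, 4, 3, 4, 3, 1, 0, 1, 0, 1, 0]), (36, false, [3, 4, 0, 4, 0, 1, 3, 1, 3, 4, 3]), (213, true, [0, 1, 0, 1, 0, 1, 3, 1, 0, 4, 0, 4, 0, 1, 0]), (7, true, [0, 1, 3, 4, 0, 4, 0, 4, 3, 4, 0, 4, 3, 4, 0, 1, 0]), (11, false, [0, 1, 0, 4, 3, 1, 3, 1, 3]), (25, false, [0, 1, 0, 4, 3, 4, 3, 4, 0, 1, 3, 4, 3, 1, 0]), (225, true, [1, 0, 2, 4, 0, 4, 3, 1, 3, 1, 3, 4, 0, 1, 0, 1]), (267, true, [0, 4, 3, 1, 0, 1, 0, 1, 3, 1, 0]), (94, true, [0, 1, 2, 0, 4, 3, 4, 3, 4, 0, 1, 3, 1, 0]), (177, true, [3, 1, 3, 4, 3, 4, 3, 1, 0, 4, 0, 4, 0,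 1, 3]), (178, true, [1, 3, 1, 0, 4, 0, 4, 3, 1, 0, 1, 0, 1]), (64, false, [3, 1, 0, 4, 3, 4, 3, 4, 3, 4, 0, 4, 0, 4, 3, 1]), (179, false, [0, 1, 0, 1, 0, 1, 2, 0, 1, 0, 1, 3, 1, 0, 1]), (102, false, [2, 0, 1, 0, 4, 0, 4, 3]), (213, true, [4, 3, 1, 0, 1, 3, 4, 3, 1, 0, 4, 0, 4, 0, 4]), (234, true, [0, 4, 0, 1, 3, 1, 3, 4, 0, 4, 0]), (255, false, [0, 4, 0, 4, 3, 1, 0, 1, 0, 1, 0, 4, 3, 1, 3]), (79, true, [0, 4, 3, 1, 0, 1, 0, 1, 0, 1, 3, 4, 0, 1, 3]), (81, false, [1, 3, 4, 0, 1, 0, 1, 0, 4, 0, 4, 3, 4, 0]), (4, false, [0, 2, 4, 3, 1, 0, 1, 0, 4, 3, 1, 3]), (24, false, [0, 1, 0, 4, 3, 4, 3, 1, 0, 1, 3, 4]), (64, false, [1, 0, 2, 4, 3, 4, 3, 4, 0, 1, 3, 1, 0, 1, 3, 1]), (5, false, [1, 3, 1, 0, 1, 3, 4, 0, 4, 0, 4]), (20,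 false, [2, 4, 0, 4, 3, 4, 0, 1, 3, 1, 3, 1, 3, 1]), (170, false, [0, 1, 3, 1, 3, 4, 0, 1, 0, 1, 3, 1, 0, 4, 3, 1]), (180, true, [1, 2, 0, 4, 3, 4, 3, 4, 0, 4, 3, 4, 0, 4, 0]), (222, true, [0, 1, 2, 0, 1, 3, 4, 0, 4, 3, 4, 0, 1]), (80, false, [1, 0, 2, 4, 3, 4, 0, 1, 0, 1, 3, 4, 3, 1, 0]), (18, true, [1, 0, 1, 3, 1, 0, 4, 3, 4, 0, 4, 3]), (56, false, [4, 3, 1, 0, 1, 3, 1, 3, 1, 0, 1, 0, 4, 0]), (178, false, [0, 1, 0, 2, 4, 3, 4, 0, 1, 3, 1, 3, 4, 3]), (20, false, [2, 0, 1, 0, 4, 3, 4, 0, 4, 3, 4, 0, 1, 0, 1, 3]), (135, true, [4, 0, 1, 3, 1, 3, 1, 0, 1, 3, 4, 0]), (85, true, [4, 0, 1, 3, 1, 3, 1]), (98, false, [3, 1, 3, 4, 3, 4, 0, 4, 3, 4, 0]), (226, false, [1, 3, 1, 0, 4, 3, 4, 0, 1, 3, 1, 3, 4, 0]), (6, true, [2, 4,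 3, 4, 3, 4, 3, 1, 0, 1, 3, 4, 0, 4]), (113, false, [2, 4, 0, 1, 3, 4, 3, 4, 0, 1, 3, 4, 3, 4]), (7, false, [2, 0, 1, 3, 4, 3, 4, 0, 4, 3, 1, 3, 1, 3, 4]), (7, true, [4, 0, 1, 0, 1, 3, 1, 3, 1, 0, 4, 3, 4, 0, 4, 3, 4]), (254, true, [1, 0, 1, 0, 1, 2, 0, 4, 3, 1, 3, 1, 3, 1, 3]), (7, false, [2, 0, 1, 3, 4, 3, 4, 0, 4, 3, 1, 3, 1, 3, 4]), (77, true, [0, 1, 0, 1, 0, 1, 3, 1, 3, 4, 3, 4, 3, 4, 3]), (67, true, [2, 4, 3, 1, 0, 1, 0, 4, 3, 4, 3, 1, 0]), (89, false, [2, 4, 0, 1, 0, 1, 3, 4, 3, 1, 0, 1, 3, 4, 0]), (124, false, [1, 0, 2, 4, 3, 4, 3, 4, 3, 4, 3, 4, 0, 4]), (168, false, [4, 0, 4, 3, 4, 0, 4, 3, 4, 3]), (179, false, [2, 0, 4, 0, 1, 0, 1, 3, 4, 0, 4]), (110, true, [0, 1, 3, 1, 0, 1, 3, 1, 0, 1, 3, 1, 3]), (178, true,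 []), (154, true, [0, 2, 4, 0, 4, 0, 4, 0, 1, 3, 1, 3, 4, 3]), (125, false, [0, 1, 0, 1, 0, 4, 3, 4, 0, 1, 3, 1, 3, 4, 3]), (218, true, [2, 0, 4, 3, 1, 3, 1, 0, 1, 3, 4]), (215, false, [1, 3, 1, 0, 1, 0, 4, 3, 4, 3, 4, 3, 4, 0, 1, 3]), (92, true, [1, 0, 2, 4, 0, 4, 0, 4, 0, 4, 3, 4, 3, 1, 0]), (87, false, [2, 0, 1, 0, 1, 3, 1, 3, 4, 3, 4, 0, 1, 0, 1, 0]), (123, false, [2, 4, 0, 4, 3, 4, 3, 4, 3, 1, 0, 4, 0, 4, 3, 4, 0]), (6, true, [2, 0, 1, 0, 1, 0, 1, 0, 1, 0, 4, 3]), (73, false, [1, 0, 2, 4, 3, 1, 0, 4, 0, 4, 3, 4, 3, 4, 0, 1]), (40, true, [0, 1, 3, 1, 3, 4, 3, 4, 3, 4, 3, 4]), (1, false, [1, 0, 1, 3, 1, 0, 1, 0, 1, 3, 1, 3, 4, 0]), (193, true, [2, 0, 1, 0, 4, 3, 4, 0, 4, 3, 1, 0, 1]), (14, true, [4, 0, 1, 0, 1, 3, 4,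 0, 4, 3, 1, 3, 4]), (225, true, [1, 0, 2, 4, 0, 4, 3, 1, 3, 1, 3, 4, 0, 1, 0, 1]), (261, false, [4, 3, 4, 0, 1, 3, 1, 3, 1, 3, 4, 0, 1, 0, 1]), (6, false, [0, 1, 2, 0, 1, 3, 4, 0, 4, 3, 1, 3, 1, 3, 4, 0]), (119, true, [3, 1, 3, 1, 0, 1, 0, 1, 3, 1, 3, 1, 3, 4, 3]), (141, false, [2, 0, 4, 3, 4, 0, 1, 0, 1, 0, 1, 3, 4, 3, 1, 0, 4]), (188, true, [4, 0, 1, 0, 1, 3, 4, 3, 1, 0, 4, 3, 4, 3, 1]), (184, false, [3, 1, 3, 1, 3, 4, 0, 1, 3, 1]), (168, true, [1, 2, 0, 4, 0, 4, 3, 4]), (127, false, [1, 0, 1, 0, 2, 4, 0, 4, 0, 4, 3, 4, 3, 4]), (28, true, [0, 2, 4, 0, 4, 0, 4, 3, 1, 0, 1, 3, 4, 0]), (172, false, [2, 0, 4, 0, 4, 3, 4, 0, 1, 0, 1, 3, 1, 0, 4, 0]), (113, false, [0, 1, 0, 1, 3, 4, 3, 1, 0, 4, 3, 4, 0, 4]), (80, true, [1,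 0, 1, 0, 1, 3, 4, 0, 4, 0, 1, 3, 1]), (195, true, [0, 1, 2, 0, 4, 3, 1, 3, 1, 3, 4, 0, 1, 0]), (178, false, [0, 4, 0, 4, 3, 1, 0, 1, 0, 1, 3, 1, 3, 4, 3, 4]), (214, false, [0, 1, 0, 1, 2, 0, 4, 0, 1, 3, 1, 0, 4, 3, 1, 0, 1]), (178, false, [2, 0, 1, 0, 1, 0, 4, 0, 4, 0]), (151, true, [0, 4, 3, 1, 0, 1, 0, 4, 0, 4, 3, 1, 3, 1, 0, 4]), (263, true, [2, 0, 1, 0, 4, 3, 4, 0, 4, 3, 1, 0, 1]), (248, false, [3, 4, 0, 4, 3, 1, 3, 4, 0, 4, 3, 1, 0, 1]), (275, false, [3, 4, 0, 1, 3, 4, 0, 4, 0, 1, 3, 4, 3, 4]), (7, true, [4, 0, 4, 0, 1, 3, 1, 3, 1, 3, 1, 3, 1, 0, 4, 0, 1]), (65, true, [3, 4, 0, 1, 0, 1, 0, 1, 3, 1, 0, 4, 3]), (124, false, [4, 0, 4, 0, 1, 3, 1, 3, 1, 0, 1, 3]), (280, true, [0, 2, 4, 0, 1, 0, 1, 3, 1, 0, 1, 3, 1, 0,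 1, 3]), (269, true, [1, 0, 2, 4, 3, 4, 0, 4, 0, 1, 3, 1, 3, 1, 3, 1]), (82, false, [0, 1, 0, 1, 3, 1, 3, 4, 0, 1, 0, 1, 3, 4, 3]), (6, false, [2, 4, 0, 1, 3, 4, 0, 4, 0, 1, 3, 1, 3, 4]), (12, false, [0, 2, 4, 3, 4, 0, 1, 3, 1, 3, 1, 0, 1, 3]), (256, true, [0, 1, 0, 2, 4, 3, 4, 0, 4, 0, 4, 0, 4, 3, 4, 3, 4, 3, 4]), (222, true, [2, 4, 0, 4, 0, 1, 3, 4]), (204, false, [1, 0, 1, 2, 0, 1, 0, 1, 3, 1, 0, 4, 3, 1])]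
def r179 : List (ℕ × Bool × List ℕ) := [(64, true, [1, 2, 0, 1, 0, 1, 0, 4, 3, 4, 0, 1, 3, 1, 0, 4]), (261, false, [1, 2, 0, 4, 0, 1, 3, 1, 3, 4, 3, 4, 3]), (141, false, [1, 0, 2, 4, 3, 4, 0, 1, 3, 1, 0, 4, 3, 4]), (7, false, [2, 4, 3, 1, 3, 1, 3, 4, 0, 4, 3, 1, 0, 1]), (11, false, [0, 1, 3, 4, 3, 1, 0]), (156, true, [1, 0, 4, 0, 1, 3, 1, 0, 4, 3, 4, 0, 1, 0]), (120, false, [0, 2, 4, 3, 4, 0, 4, 0, 4, 0, 1, 3, 1, 3]), (195, true, [3, 1, 3, 1, 3, 4, 0, 1, 3, 1, 0, 4]), (25, false, [2, 4, 3, 4, 0, 1, 0, 1, 0, 4, 3, 4, 0, 4, 0]), (214, false, [2, 4, 3, 4, 0, 1, 3, 1, 3, 1, 3, 4, 0, 1, 0]), (260, true, [2, 0, 4, 3, 4, 3, 4, 3, 1, 0, 1]), (68, true, [1, 3, 1, 3, 4, 3, 4, 0, 1, 3, 4, 3, 4, 0, 1, 3]), (7, true, [0, 2, 4, 3,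 1, 3, 1, 3, 4, 0, 4, 3, 1, 0]), (178, false, [1, 2, 0, 1, 3, 4, 0, 4, 0, 1, 0]), (275, false, [1, 0, 4, 0, 4, 0, 1, 3, 1, 0, 1, 3, 1, 0]), (20, true, [3, 4, 0, 4, 0, 4, 3, 1, 3, 1, 0, 4, 0]), (179, false, [2, 4, 0, 1, 3, 1, 3, 1, 3, 4, 3, 4, 3, 4, 0, 1]), (188, true, [1, 0, 2, 4, 3, 1, 0, 1, 0, 4, 3, 4, 0, 1, 0, 1, 0]), (225, false, [0, 4, 0, 1, 3, 4, 3, 1, 0]), (62, false, [0, 4, 3, 4, 0, 4, 0, 1, 3, 4, 3, 1]), (51, false, [0, 1, 2, 0, 4, 0, 4, 3, 4, 0, 4, 3, 4, 0, 4, 0]), (182, false, [3, 1, 0, 1, 0, 1, 3, 1, 3, 1, 0, 1]), (67, true, [3, 1, 3, 1, 3, 1, 0, 1, 3, 4, 3, 1, 0, 1, 0]), (122, false, [2, 4, 3, 4, 0, 1, 3, 1, 0, 1]), (191, false, [4, 0, 1, 3, 4, 0, 4, 3, 1]), (226, false, [2, 0, 4, 3, 4, 3, 4, 0, 4, 3, 1, 3,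 1, 3, 4, 0, 4]), (172, false, [0, 4, 3, 4, 0, 4, 3, 1, 3, 1, 0, 1, 3, 1]), (224, false, [2, 0, 1, 0, 4, 3, 1, 3, 1]), (157, false, [0, 1, 0, 4, 3, 4, 0, 4, 0, 4, 3, 4, 0]), (225, false, [2, 4, 0, 4, 3, 4, 0, 4, 3, 4, 0]), (119, true, [1, 0, 1, 2, 0, 4, 3, 1, 3, 1, 3, 1, 3, 4]), (80, false, [1, 0, 4, 3, 1, 0, 1, 3, 1, 0, 1, 0]), (21, false, [4, 0, 1, 3, 4, 3, 4, 0, 4, 3, 1, 3, 4]), (237, true, [3, 1, 3, 1, 3, 4, 3, 4, 0, 1, 3, 1, 3]), (4, false, [1, 0, 4, 3, 4, 3, 4, 0, 1, 3, 1, 0, 1]), (102, false, [0, 1, 2, 0, 4, 3, 4, 0, 4, 3, 1, 0, 1]), (190, false, [3, 4, 3, 1, 0, 4, 0, 4, 3, 1, 3, 4, 0, 4, 0]), (278, true, [4, 0, 4, 3, 4, 3, 1, 0, 4, 3, 4]), (6, false, [3, 4, 3, 1, 0, 4, 0, 4, 0, 4, 3, 1, 3, 4, 0, 1]), (125, false,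 [1, 0, 4, 3, 4, 0, 1, 0, 1, 3, 4, 0, 4, 3]), (27, false, [1, 3, 1, 3, 4, 0, 4, 3, 4, 0, 1, 3, 4]), (198, true, [2, 4, 0, 4, 3, 4, 3, 1, 0, 4, 3, 4]), (218, true, [0, 1, 3, 1, 3, 1, 0, 4, 0, 4, 3, 4, 3, 4]), (151, false, [3, 4, 0, 4, 3, 1, 0, 4, 0, 4, 3, 4]), (33, false, [2, 4, 0, 4, 3, 4, 3, 1, 0, 1, 0, 1, 0]), (166, true, [3, 1, 3, 4, 0, 4, 3, 1, 0, 1, 0, 1, 3, 1, 0, 1]), (123, false, [1, 2, 0, 4, 0, 1, 3, 1, 3, 1, 3, 1, 0, 1, 0, 1, 0, 1]), (10, false, [1, 2, 0, 1, 3, 4, 0, 4, 3, 4, 0, 1, 3]), (252, true, [2, 4, 0, 4, 3, 1, 3, 1, 0, 1, 0, 1, 3, 4, 3]), (140, false, [1, 2, 0, 4, 0, 4, 3, 4, 3, 4, 0, 4, 0, 4, 3]), (193, true, [3, 1, 3, 4, 3, 4, 0, 4, 0, 4, 3, 1, 3]), (257, false, [0, 4, 3, 4, 0, 1, 0, 1, 0, 1, 0, 4, 3,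 4]), (232, false, [0, 1, 3, 1, 0, 1, 3, 1, 0, 1, 0, 1, 3, 1]), (234, true, [2, 0, 1, 3, 1, 0, 1, 3, 1, 3, 1, 0, 1, 3, 4, 0, 1]), (80, false, [1, 0, 4, 3, 1, 0, 1, 3, 1, 0, 1, 0]), (112, true, [2, 4, 3, 4, 0, 4, 0, 1, 3, 4, 3, 4, 0]), (219, true, [1, 0, 1, 3, 4, 3, 1, 0, 4, 3, 4, 0, 4, 3]), (113, false, [1, 3, 1, 3, 1, 0, 4, 3, 4, 0, 1, 3]), (24, true, [3, 1, 3, 1, 3, 4, 3, 4, 3]), (220, false, [2, 4, 0, 1, 0, 1, 0, 1, 3, 4, 3, 4, 0, 4]), (127, true, [2, 0, 4, 3, 1, 0, 1, 0, 1, 3, 1, 3, 4]), (261, true, [0, 1, 3, 1, 3, 4, 3, 4, 0, 1]), (51, false, [0, 1, 0, 2, 4, 0, 4, 0, 4, 3, 1, 0, 4, 0]), (200, false, [2, 0, 1, 0, 1, 3, 1, 3, 4, 0, 1, 3]), (150, true, [1, 2, 0, 1, 3, 4, 0, 4, 0, 1]), (51, false, [0, 1, 0, 2, 4, 0, 4,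 0, 4, 3, 1, 0, 4, 0]), (177, true, [1, 3, 4, 0, 4, 0, 4, 3, 1, 0, 1, 3, 4, 3]), (87, true, [3, 1, 3, 4, 3, 4, 0, 4, 3, 4, 3, 4]), (216, true, [0, 1, 0, 1, 0, 4, 0, 4, 3, 4, 3, 4, 0, 1, 0]), (179, false, [1, 0, 1, 0, 1, 2, 0, 4, 3, 4, 3, 4]), (237, true, [3, 4, 0, 4, 0, 1, 3, 1, 3, 4, 3, 4, 3, 1, 0, 4]), (219, true, [2, 0, 1, 3, 4, 3, 4, 0, 1, 3, 4, 3, 4, 0]), (237, false, [1, 2, 0, 1, 0, 4, 3, 1, 3, 4, 0, 4, 0, 4, 0, 4]), (216, true, [1, 0, 4, 0, 4, 3, 1, 3, 1, 0, 1, 0, 4, 3]), (172, false, [0, 4, 0, 1, 3, 1, 3, 1, 0, 1, 3, 4]), (134, true, [0, 1, 0, 4, 3, 4, 0, 4, 0, 1, 3, 1, 0, 1, 3]), (190, true, [3, 1, 0, 4, 0, 4, 3, 4, 3, 4, 0, 4, 0, 4, 0, 4]), (179, false, [0, 1, 0, 2, 4, 3, 4, 0, 1, 3, 1, 3, 4, 3]), (127, true,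 [0, 1, 3, 4, 0, 1, 3]), (83, false, [2, 0, 1, 3, 4, 0]), (21, false, [2, 0, 4, 3, 1, 0, 4, 0, 4, 3, 4, 3, 1]), (196, false, [2, 4, 3, 4, 3, 1, 0, 1, 0, 4, 0, 4, 3, 1]), (141, true, [0, 1, 0, 1, 2, 0, 4, 0, 1, 3, 4, 3, 4, 0]), (98, false, [4, 3, 4, 3, 4, 3, 4, 3, 1, 3]), (24, false, [4, 0, 4, 3, 4, 3, 4, 3, 1, 0, 1, 0, 4, 0]), (130, true, [1, 0, 1, 3, 4, 0, 4, 0, 1]), (234, false, [0, 4, 3, 1, 3, 1, 3, 4, 0, 1, 3]), (0, false, [4, 0, 1, 3, 1, 0, 1, 3, 1, 0]), (33, true, [3, 4, 3, 1, 0, 1, 0, 4, 0, 4, 0]), (263, true, [3, 1, 0, 1, 0, 1, 0, 4, 0, 4, 3, 1]), (10, true, [1, 3, 1, 0, 4, 3, 4, 0, 4, 3, 1]), (49, true, [1, 0, 1, 0, 1, 3, 4, 0, 1, 3, 1]), (4, true, [3, 1, 3, 1, 3, 1, 0, 1, 3, 1, 0, 1, 3, 4]), (72, true, [3, 1,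 3, 4, 0, 1, 3, 1, 3, 4, 0, 1]), (94, true, [4, 0, 4, 3, 1, 0, 4, 0, 4, 3, 1, 0]), (217, true, [0, 1, 2, 0, 4, 0, 4, 3, 4, 3, 4, 3]), (195, true, [0, 4, 3, 4, 3, 1, 0, 1, 3, 1, 3]), (179, true, [0, 4, 3, 1, 0, 1, 0, 1, 3, 4, 0, 4, 3, 1, 3, 1, 0]), (189, false, [4, 0, 1, 3, 1, 3, 4, 3, 4, 0, 4, 0, 4, 3, 4, 3]), (21, false, [3, 1, 0, 4, 3, 1, 3, 1, 0, 4, 3, 1, 3, 4]), (109, false, [1, 0, 4, 3, 1, 3, 4, 0, 4, 3, 4, 3, 4, 3, 4]), (186, true, [1, 0, 4, 3, 4, 0, 1, 0, 1, 0, 1, 0, 4, 3]), (212, false, [0, 4, 0, 4, 3, 1, 0, 1, 0, 1, 3, 1, 0, 4]), (172, false, [1, 3, 1, 3, 4, 3, 4, 3, 4, 0, 4, 0, 4]), (221, true, [1, 3, 1, 0, 1, 3, 1, 0, 1, 0, 1, 3, 4]), (80, false, [2, 0, 4, 0, 1, 0, 1, 0, 4, 0, 4, 3]), (246, false, [2, 0, 4,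 3, 1, 0, 1, 3, 1, 0, 1, 0, 1, 3, 4]), (178, false, [2, 4, 0, 4, 3, 4, 0, 4, 0, 4, 3, 4, 3, 4, 3]), (179, true, []), (127, false, [4, 0, 4, 3, 4, 0, 1, 3, 4, 0]), (109, false, [0, 2, 4, 3, 1, 0, 1, 3, 4, 0, 1, 0, 1, 3, 1, 3]), (94, true, [4, 3, 4, 0, 1, 0, 1, 3, 4, 0, 4])]

theorem q168 : closeb 18 ps18 base7 rgR om xs x168 orb r168 = true := by decide +kernel
theorem q169 : closeb 18 ps18 base7 rgR om xs x169 orb r169 = true := by decide +kernel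
theorem q170 : closeb 18 ps18 base7 rgR om xs x170 orb r170 = true := by decide +kernel
theorem q171 : closeb 18 ps18 base7 rgR om xs x171 orb r171 = true := by decide +kernel
theorem q172 : closeb 18 ps18 base7 rgR om xs x172 orb r172 = true := by decide +kernel
theorem q173 : closeb 18 ps18 base7 rgR om xs x173 orb r173 = true := by decide +kernel
theorem q174 : closeb 18 ps18 base7 rgR om xs x174 orb r174 = true := by decide +kernel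
theorem q175 : closeb 18 ps18 base7 rgR om xs x175 orb r175 = true := by decide +kernel
theorem q176 : closeb 18 ps18 base7 rgR om xs x176 orb r176 = true := by decide +kernel
theorem q177 : closeb 18 ps18 base7 rgR om xs x177 orb r177 = true := by decide +kernel
theorem q178 : closeb 18 ps18 base7 rgR om xs x178 orb r178 = true := by decide +kernel
theorem q179 : closeb 18 ps18 base7 rgR om xs x179 orb r179 = true := by decide +kernel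

theorem c14 : Rows xc14 :=
  Rows.cons q168 (Rows.cons q169 (Rows.cons q170 (Rows.cons q171 (Rows.cons q172 (Rows.cons q173 (Rows.cons q174 (Rows.cons q175 (Rows.cons q176 (Rows.cons q177 (Rows.cons q178 (Rows.cons q179 Rows.nil)))))))))))

end Cfsg.Agent.H698.U33.Clo
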