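import Cfsg.Agent.H698.U33.Clo.Rows

/-!
# S5525: the closure certificate, rows 192 to 203 (helper698; data of helper819, helper763)
-/

set_option autoImplicit false
set_option maxRecDepth 100000
set_option Elab.async false

namespace Cfsg.Agent.H698.U33.Clo

def r192 : List (ℕ × Bool × List ℕ) := [(64, false, [0, 1, 3, 1, 3, 1, 0, 1, 0, 4, 3, 4, 3, 1]), (67, true, [1, 0, 1, 0, 1, 3, 1, 3, 1, 3, 4, 0]), (154, true, [3, 1, 3, 1, 0, 1, 0, 1, 3, 1, 0, 4]), (81, false, [1, 2, 0, 1, 0, 4, 3, 4, 0, 1, 0, 1, 0, 1, 0]), (266, true, [4, 3, 1, 3, 1, 0, 1, 3, 1, 0, 1, 3, 1, 3]), (67, false, [0, 4, 3, 4, 0, 1, 0, 1, 0, 4, 3, 4, 0, 4, 3]), (126, false, [1, 2, 0, 4, 0, 4, 3, 1, 3, 4, 0, 4, 3, 1, 0, 4, 0]), (95, true, [1, 3, 4, 0,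 4, 3, 1, 3, 1, 3, 4, 0, 4, 3, 1]), (19, false, [2, 0, 1, 0, 1, 0, 4, 0, 4, 0]), (199, true, [4, 3, 1, 0, 1, 3, 1, 3, 1, 0, 1, 0]), (154, true, [2, 4, 3, 1, 3, 1, 0, 4, 3, 4, 3]), (111, false, [0, 1, 2, 0, 4, 3, 4, 3, 4, 0, 1]), (151, false, [0, 4, 0, 4, 0, 4, 0, 4, 3, 1, 3, 4, 0, 1, 3]), (223, true, [1, 0, 1, 0, 1, 3, 1, 3, 4, 0, 1, 3]), (274, true, [3, 1, 3, 1, 0, 1, 0, 4, 0, 4, 0, 4, 0]), (69, true, [0, 1, 3, 4, 3, 4, 0, 4, 3, 1, 3, 1, 0, 4, 3]), (270, false, [4, 3, 1, 3, 1, 0, 1, 3, 4, 3, 4, 0, 1]), (64, false, [0, 1, 2, 0, 1, 0, 1, 3, 4, 0, 4, 3, 4, 0, 4, 3, 1]), (218, false, [0, 4, 0, 1, 3, 1, 0, 4, 0, 4, 0, 1]), (81, true, [2, 4, 0, 1, 0, 1, 0, 1, 0, 4, 0, 4, 3, 4, 0]), (250, false, [2, 0, 1, 0, 1, 3, 4, 3, 4,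 3]), (180, false, [2, 4, 0, 1, 0, 4, 3, 1, 3, 1, 0, 1, 3, 4, 3]), (180, false, [1, 2, 0, 1, 3, 1, 0, 4, 3, 4, 3]), (250, true, [1, 0, 1, 0, 4, 0, 4, 3, 1, 0, 1, 0, 4, 0]), (266, false, [3, 4, 0, 4, 3, 4, 0, 1, 3, 4, 3, 1, 0]), (223, false, [4, 0, 4, 0, 4]), (19, true, [0, 2, 4, 0, 1, 3, 1, 3, 4, 3, 4, 0, 1, 3, 1]), (241, false, [0, 1, 0, 1, 0, 1, 3, 1, 0, 4, 0, 4, 0, 4]), (43, false, [0, 2, 4, 3, 1, 0, 4, 0, 4, 0, 4, 3, 1]), (194, false, [1, 3, 4, 0, 4, 3, 4, 0, 4, 3, 1, 0, 1, 3]), (222, false, [0, 1, 2, 0, 1, 3, 1, 0, 1, 3, 4, 3, 4, 3]), (43, true, [2, 0, 1, 3, 1, 3]), (255, false, [1, 0, 4, 3, 4, 0, 4, 0, 1, 3, 1, 3, 1, 3, 4]), (57, true, [0, 2, 4, 0, 1, 3, 1, 3, 1, 0, 1, 0, 4, 0, 4, 0]), (59, true, [0, 2, 4, 3, 4,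 0, 4, 0, 4, 3, 4, 0, 1]), (35, false, [3, 1, 0, 1, 3, 1, 3, 1, 0, 4, 0, 4, 3]), (81, true, [1, 0, 1, 0, 1, 0, 4, 0, 4, 0, 4, 3, 1, 3, 4]), (73, true, [0, 1, 2, 0, 4, 0, 1, 3, 4, 0, 4, 3, 1, 3, 4, 0, 1]), (61, false, [1, 0, 1, 0, 1, 0, 2, 4, 0, 4, 3, 1, 3, 4]), (180, true, [1, 0, 2, 4, 3, 4, 3, 4, 0, 1, 3, 1, 3, 4, 0]), (154, false, [0, 1, 3, 1, 0, 1, 0, 1, 0, 4, 0, 4, 0, 4, 3, 4, 0]), (192, false, [1, 3, 1, 3, 4, 3, 4, 0, 4, 3, 1, 0]), (154, true, [2, 0, 4, 0, 1, 3, 1, 3, 1, 3, 1, 0, 4, 3, 4]), (193, false, [1, 2, 0, 1, 3, 1, 0, 4, 0, 4, 0, 4, 3, 1, 0]), (277, false, [2, 4, 3, 1, 0, 4, 3, 4, 0, 1, 3, 1, 3, 4, 3, 4, 3]), (192, false, [1, 3, 1, 3, 4, 3, 4, 0, 4, 3, 1, 0]), (38, true, [0, 2, 4, 3, 4, 0, 1, 3]), (57, false,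 [0, 2, 4, 3, 4, 3, 1, 0, 4, 0, 4, 0, 1, 3, 4]), (95, false, [2, 4, 0, 1, 3, 1, 0, 1, 3, 4, 3, 1]), (125, true, [1, 2, 0, 1, 3, 4, 0, 1, 0, 1, 0, 1, 3, 4, 3, 4, 3]), (78, true, [0, 1, 0, 1, 2, 0, 4, 3, 1, 3, 1, 0, 4, 3, 1]), (81, false, [4, 0, 1, 3, 4, 3, 1, 0, 1, 3, 1, 3, 1, 3, 1]), (69, false, [1, 0, 4, 0, 1, 3, 1, 0, 4, 0, 4, 3, 1, 3]), (269, false, [0, 1, 2, 0, 1, 3, 1, 0, 1, 0, 4, 0, 4, 0, 4, 0]), (199, false, [4, 0, 4, 3, 4, 0, 1, 0, 1, 0, 1, 3, 4, 0]), (92, true, [1, 0, 1, 0, 1, 2, 0, 4, 0, 1, 3, 1, 0, 1, 0, 1, 0]), (194, true, [0, 1, 0, 1, 0, 4, 3, 1, 3, 1, 3, 4, 3]), (193, false, [1, 0, 1, 0, 1, 0, 2, 4, 3, 4, 3]), (192, true, []), (154, false, [1, 2, 0, 4, 0, 4, 3, 1, 0, 1, 0, 4, 3]), (269, true, [2, 4, 3,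 1, 3, 1, 0, 4, 3, 4, 0, 1, 0, 4]), (222, true, [2, 4, 0, 1, 0, 1, 3, 1, 3, 1]), (171, false, [0, 2, 4, 3, 1, 3, 1, 3, 4, 3, 4, 3, 1, 3]), (171, false, [0, 4, 3, 4, 0, 4, 3, 4, 3, 4, 0]), (59, false, [2, 0, 4, 3, 1, 0, 1, 3, 1, 3, 1, 0, 4, 0]), (35, true, [1, 0, 1, 0, 1, 3, 4, 0, 1, 3, 1, 3, 4, 3]), (126, true, [2, 4, 0, 1, 3, 1, 3, 1, 0, 4, 3, 4, 3, 4, 0, 4, 0]), (251, false, [0, 1, 3, 1, 0, 1, 3, 4, 0, 4, 3, 4, 0, 4]), (64, true, [0, 2, 4, 0, 4, 3, 1, 0, 1, 3, 4, 3, 1, 0, 1, 3]), (192, true, []), (110, true, [2, 0, 4, 3, 1, 0, 1, 3, 1, 0, 4, 0, 4]), (218, true, [1, 0, 1, 0, 4, 3, 1, 3, 4, 0, 4, 0, 4, 0, 4, 3]), (220, true, [0, 1, 0, 1, 2, 0, 1, 0, 1, 0, 1, 3, 4, 0, 1, 3, 1, 0]), (220, false, [2, 0, 4, 3, 4, 0, 4, 0,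 4, 0, 4, 3, 4, 3, 1, 0]), (64, true, [0, 4, 3, 4, 0, 4, 0, 1, 3, 4, 0, 4, 0]), (187, false, [1, 2, 0, 4, 3, 4, 3, 4, 0, 4, 3, 1, 3, 1, 3, 1]), (151, true, [0, 4, 0, 1, 0, 1, 3, 4, 3, 1, 0, 4, 3, 4]), (110, false, [2, 0, 4, 0, 1, 3, 4, 3, 1, 0, 1, 3, 4, 0, 1, 3]), (42, true, [3, 4, 0, 4, 3, 4, 3, 4, 0, 4, 3, 1, 3, 4, 0]), (154, false, [0, 1, 2, 0, 4, 0, 4, 3, 1, 0, 1, 0, 4]), (125, false, [1, 2, 0, 1, 0, 4, 3, 4, 0, 1, 3, 1, 3, 4, 3, 4]), (92, true, [2, 0, 4, 3, 1, 0, 4, 3, 4, 3, 4, 0, 1, 3, 1]), (187, true, [2, 0, 4, 3, 1, 3, 1, 3, 1, 0, 1, 0, 1, 0, 4]), (42, false, [3, 4, 3, 1, 0, 4, 0, 4, 3, 4]), (220, true, [1, 2, 0, 1, 3, 1, 0, 4, 3, 4, 3, 1, 0, 4]), (92, false, [1, 2, 0, 4, 0, 4, 3, 4, 3, 4, 0, 1, 3, 4]), (180,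 true, [2, 0, 1, 3, 4, 0, 1, 0, 4]), (255, true, [1, 3, 1, 0, 4, 3, 4, 0, 1, 0, 1, 0, 1, 3, 1]), (86, false, [2, 0, 4, 0, 1, 3, 4, 3, 4, 0, 1, 3, 4, 3]), (241, true, [1, 2, 0, 1, 3, 1, 0, 1, 3, 1, 3, 4]), (171, true, [0, 1, 0, 1, 3, 1, 0, 1, 0, 1, 3, 1, 0, 1, 0]), (73, false, [0, 2, 4, 3, 4, 3, 4, 0, 1, 0, 1, 3, 1, 3, 1, 0, 4, 0]), (185, true, [1, 2, 0, 1, 3]), (141, false, [2, 0, 1, 0, 1, 3, 4, 0, 4, 3, 1, 3, 1, 3, 4, 3]), (274, false, [0, 2, 4, 3, 1, 3, 1, 0, 1, 3, 1, 0, 1, 0, 1]), (185, false, [2, 4, 0, 4, 0, 4, 3, 4, 3, 1, 0, 4, 0, 4]), (236, false, [2, 4, 3, 4, 3, 4, 0, 1, 0, 1, 3, 1]), (277, true, [2, 4, 0, 1, 0, 1, 0, 4, 0, 4, 0, 4, 0, 4, 0]), (251, true, [0, 1, 0, 4, 0, 4, 0, 1, 3, 4, 3, 4, 3, 1, 0, 4]), (78,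 false, [0, 2, 4, 0, 4, 0, 4, 3, 1, 3]), (73, true, [2, 0, 1, 0, 1, 0, 1, 3, 4, 0, 4, 3, 1, 3]), (171, true, [1, 2, 0, 1, 0, 4, 3, 1, 3, 4, 0, 4, 0, 1, 3, 4, 3, 1]), (86, true, [2, 0, 1, 0, 4, 3, 4, 3, 1, 0, 4, 3, 4, 0, 4]), (61, true, [1, 3, 4, 3, 4, 0, 4, 3, 4, 3, 1, 3]), (220, false, [2, 4, 3, 1, 0, 1, 0, 1, 0, 4, 0, 4, 3, 4, 3]), (270, true, [4, 0, 1, 0, 4, 3, 4, 0, 1, 0, 1, 3, 4, 0, 4]), (38, false, [0, 1, 2, 0, 4, 3, 4, 3, 1, 0, 4, 0, 4]), (92, false, [1, 2, 0, 1, 3, 1, 3, 1, 3, 1, 0, 4, 0, 4]), (141, true, [1, 0, 2, 4, 0, 4, 0, 1, 3, 1, 0, 1, 0, 4]), (111, true, [2, 4, 3, 1, 0, 1, 0, 1, 0, 4, 3, 4]), (236, true, [0, 2, 4, 0, 1, 3, 1, 0, 4, 0, 4, 3, 1, 0, 4, 0, 1]), (73, false, [0, 2, 4, 3, 1, 0, 4, 3, 4, 3, 4,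 0, 4, 3])]
def r193 : List (ℕ × Bool × List ℕ) := [(88, false, [1, 2, 0, 4, 3, 1, 3, 1, 3, 4, 0, 4, 0]), (38, false, [0, 4, 3, 4, 3, 4, 0, 4, 3, 4, 0, 1, 0, 1]), (29, false, [3, 1, 0, 4, 0, 4, 3, 4, 3, 4, 0, 4]), (181, true, [1, 3, 4, 3, 1, 0, 1, 0, 1, 0, 1, 3, 1]), (77, false, [0, 1, 3, 1, 3, 4, 3, 4, 3, 4, 3, 1, 0, 4]), (67, true, [0, 1, 2, 0, 1, 3, 4, 0, 1, 3]), (88, true, [2, 0, 4, 0, 4, 0, 1, 3, 4, 3, 4, 0, 4, 0]), (120, false, [0, 1, 2, 0, 4, 3, 4, 3, 4, 3, 4, 0, 1, 3, 1]), (113, false, [3, 1, 0, 1, 0, 1, 0, 1, 3, 1, 3, 4]), (120, true, [1, 3, 1, 0, 4, 3, 4, 3, 4, 0, 1, 3]), (64, true, [0, 4, 3, 1, 3, 1, 3, 4, 0, 4, 3, 4]), (91, true, [1, 0, 2, 4, 0, 1, 0, 4, 3, 4, 3, 1, 0, 4, 0, 1]), (85, true, [1, 2, 0, 1, 3,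 1, 0, 1, 3, 1, 0, 4, 0, 4, 0]), (102, true, [1, 3, 4, 0, 1, 3, 1, 0, 4, 3, 4, 3]), (91, false, [2, 0, 1, 0, 1, 3, 4, 0, 4, 3, 4, 3, 4, 0, 1, 0]), (84, true, [2, 4, 0, 1, 0, 1, 3, 1, 3, 1, 0, 4, 0]), (80, false, [3, 1, 0, 1, 3, 4, 3, 4, 0, 1, 0, 1, 3]), (270, true, [0, 2, 4, 0, 1, 3, 1, 3, 1, 3, 4, 0, 1, 0, 1, 3, 1]), (59, true, [0, 1, 0, 1, 3, 1, 0, 1, 0, 4, 0, 4]), (183, true, [3, 1, 3, 1, 3, 4, 3, 4, 3, 4, 0, 4, 0, 4, 0]), (162, false, [1, 0, 1, 0, 1, 3, 4, 0, 4, 0, 1, 0]), (154, true, [0, 1, 0, 1, 0, 1, 0, 1, 0, 1, 0, 1, 0, 1]), (193, true, [0, 1, 0, 1, 0, 1, 0, 1, 0, 1, 0, 1, 0, 1]), (162, false, [0, 1, 3, 1, 0, 1, 0, 1, 0, 4]), (276, true, [1, 0, 4, 0, 4, 3, 1, 0, 4, 0, 4]), (102, true, [3, 1, 0, 1, 0, 4, 3, 1,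 3, 1, 3]), (122, true, [2, 0, 4, 0, 4, 0, 1, 3, 4, 0, 4, 0, 4, 0]), (270, false, [2, 4, 0, 1, 3, 1, 3, 1, 3, 1, 0, 4, 3, 1]), (274, false, [0, 2, 4, 0, 4, 0, 1, 3, 1, 0, 4, 0, 4, 0, 1, 3]), (234, false, [1, 0, 4, 0, 4, 0, 1, 3, 1, 0, 1, 0, 4, 3]), (179, false, [0, 4, 3, 1, 3, 1, 0, 1, 3, 4, 3, 4, 3, 1]), (274, true, [3, 1, 3, 1, 3, 1, 3, 4, 3, 4, 3, 4]), (268, true, [3, 1, 3, 1, 0, 1, 3, 4, 3, 1, 0]), (165, true, [1, 3, 4, 0, 4, 3, 4, 0, 1, 0, 1, 3]), (109, false, [2, 0, 1, 0, 4, 3, 4, 0, 1, 3, 4, 3, 4]), (1, true, [0, 2, 4, 0, 4, 3, 1, 3, 1]), (192, false, [2, 0, 4, 3, 1, 0, 1, 0, 1, 0, 4, 3, 4, 0, 4]), (180, false, [0, 1, 3, 1, 3, 4, 0, 1, 3, 1, 3, 4, 0, 1, 3]), (64, false, [0, 1, 3, 4, 3, 1, 0, 1, 0, 4, 3, 4, 3,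 4, 3, 1, 3]), (211, true, [1, 0, 4, 0, 1, 3, 1, 3, 4, 0, 4, 3, 4]), (110, true, [0, 1, 0, 1, 2, 0, 1, 0, 1, 0, 4, 3, 4, 3, 1, 3]), (67, false, [2, 4, 0, 1, 3, 4, 3, 4, 0, 4, 3, 1, 0]), (59, false, [0, 4, 3, 4, 3, 1, 0, 4, 3, 4, 0, 4, 3, 4]), (126, true, [0, 2, 4, 3, 4, 3, 1, 0, 1, 3, 4, 0, 4, 3, 1]), (234, true, [3, 4, 3, 4, 3, 1, 0, 1, 3, 1, 0, 1, 0, 4]), (38, true, [2, 4, 3, 1, 3, 1, 3, 1, 0, 1, 3, 4, 0, 4]), (154, false, [1, 0, 1, 3, 1, 3, 1, 3, 4, 3, 4, 0, 4, 0, 4, 0]), (3, false, [4, 3, 1, 0, 1, 0, 1, 3, 1, 0, 4, 3, 1, 3]), (7, true, [0, 1, 3, 1, 0, 4, 3, 1, 3, 1, 0, 1, 0, 4, 3, 1]), (225, false, [1, 3, 1, 0, 1, 0, 1, 0, 4, 0, 4, 3, 4]), (20, true, [2, 4, 0, 4, 3, 4, 3, 4, 0, 4, 0, 4, 0]), (109, true, [2, 4, 3,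 4, 3, 4, 0, 1, 3, 1, 3, 4, 3, 4, 0]), (205, true, [0, 1, 0, 4, 3, 1, 3, 4, 0, 4, 3, 1, 0, 4, 3]), (225, true, [0, 1, 3, 1, 3, 4, 0, 1, 3, 1, 3, 4, 3, 4, 0, 4]), (7, false, [1, 0, 1, 3, 4, 3, 4, 3, 4, 3, 1, 0, 1, 3]), (85, false, [0, 1, 0, 2, 4, 3, 4, 3, 4, 3, 1, 0, 1, 3, 4, 0, 4, 3]), (171, true, [0, 1, 0, 1, 3, 4, 0, 1, 0, 4]), (180, false, [2, 0, 1, 0, 4, 3, 1, 0, 1, 3, 4, 3, 1, 0, 4, 0]), (115, false, [2, 4, 3, 4, 3, 1, 0, 1, 0, 1]), (59, false, [2, 0, 1, 0, 4, 0, 4, 0, 1]), (38, false, [3, 1, 3, 1, 3, 4, 0, 4, 0, 1]), (268, false, [0, 1, 0, 1, 0, 4, 0, 4, 0, 4, 3, 4, 0, 1, 3, 4]), (20, false, [0, 1, 2, 0, 4, 0, 4, 0, 4, 0, 1]), (193, true, [0, 1, 0, 1, 0, 1, 0, 1, 0, 1, 0, 1, 0, 1]), (192, false, [0, 1, 0, 1, 0,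 2, 4, 3, 4, 3, 4]), (1, false, [0, 1, 0, 2, 4, 0, 4, 0, 1, 3, 4, 0]), (154, true, [0, 4, 3, 4, 0, 4, 3, 1, 3, 1, 0, 1, 3, 1]), (113, true, [4, 0, 1, 3, 1, 3, 4, 0, 4, 0, 4, 3, 4, 0]), (85, false, [2, 4, 3, 1, 3, 1, 0, 4, 0, 4, 3, 1, 0, 1]), (115, false, [0, 1, 0, 1, 2, 0, 4, 0, 4, 3, 1, 3, 4, 0, 1]), (183, false, [3, 4, 0, 4, 0, 4, 3, 1, 3, 1, 0, 4]), (59, true, [3, 4, 0, 1, 3, 4, 3, 4, 0, 1, 3]), (84, false, [3, 1, 3, 1, 3, 4, 0, 1, 0, 1, 3, 1, 3]), (61, false, [2, 0, 1, 0, 1, 0, 4, 3, 4, 0, 1, 0, 1]), (154, false, [3, 4, 0, 4, 3, 4, 3, 1, 0, 1, 0, 1, 0, 1, 0, 1]), (29, true, [1, 0, 1, 0, 1, 0, 1, 0, 1, 0, 1, 0, 2]), (148, true, [3, 4, 0, 1, 3, 1, 0, 4, 0, 4, 3, 4, 3, 1]), (181, false, [0, 1, 0, 4, 0, 4, 3, 4, 3, 4,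 3, 4, 0, 4, 3]), (10, true, [1, 3, 1, 3, 1, 3, 1, 0, 4, 3, 4, 0, 4, 3, 4, 3]), (69, false, [0, 1, 0, 4, 3, 4, 3, 4, 0, 4, 0, 1, 3]), (38, true, [4, 3, 1, 0, 1, 3, 4, 0, 4, 0, 4, 3, 4, 3]), (165, false, [3, 1, 3, 4, 3, 4, 3, 4, 0, 1, 3, 1, 0]), (110, false, [2, 0, 1, 3, 4, 0, 4, 3, 1, 3, 1, 3, 4, 3, 4, 0]), (10, false, [0, 4, 0, 4, 3, 1, 3, 4, 0, 4, 3, 4, 3, 4, 0]), (61, true, [2, 4, 0, 4, 0, 1, 3, 1, 3, 4, 0, 4, 0, 4, 0, 1]), (148, false, [3, 4, 0, 1, 0, 1, 0, 1, 3, 4]), (229, true, [1, 2, 0, 1, 3, 1, 3, 1, 3, 1, 3, 1]), (179, true, [0, 4, 0, 1, 3, 1, 3, 1, 0, 1, 0, 4, 0]), (126, false, [1, 0, 1, 2, 0, 4, 3, 1, 0, 1, 3, 1, 3, 4, 0, 4, 3]), (85, true, [0, 1, 2, 0, 1, 3, 4, 0, 4, 3, 4, 3, 4, 0, 1, 3, 4]), (211, false,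 [1, 3, 1, 3, 4, 0, 1, 0, 1, 3, 4, 3, 1, 0, 1]), (178, false, [1, 0, 1, 0, 1, 0, 1, 2, 0, 4, 3, 4, 0, 1, 3]), (272, false, [0, 4, 0, 4, 0, 4, 3, 1, 0, 1, 3, 4, 3, 4, 3]), (276, false, [0, 4, 0, 4, 3, 4, 3, 4, 0, 4, 3, 4, 0, 4]), (223, true, [1, 3, 1, 0, 1, 0, 1, 3, 1, 3, 1, 3, 4, 3, 4, 3]), (272, true, [1, 3, 1, 0, 1, 0, 1, 0, 1, 0, 1, 3]), (80, true, [4, 0, 4, 3, 1, 3, 1, 3, 4, 3, 4, 0, 4, 0, 4]), (171, false, [0, 4, 3, 1, 3, 1, 0, 4, 3, 1, 3, 1, 0, 1, 0, 4]), (122, false, [1, 2, 0, 4]), (199, true, [3, 1, 0, 1, 3, 1, 3, 4, 0, 4, 3, 1, 0, 4, 0, 1]), (180, true, [1, 0, 1, 3, 1, 3, 1, 0, 4, 0]), (199, false, [0, 4, 3, 1, 0, 4, 0, 4, 0, 4, 3, 1, 3, 4, 0]), (180, true, [0, 1, 2, 0, 4, 3, 1, 0, 1]), (69, true, [1, 3, 1,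 3, 4, 3, 4, 0, 1, 3, 4, 3, 4, 0]), (205, false, [3, 1, 0, 4, 3, 4, 3, 4, 0, 4, 0, 4, 0, 4]), (114, true, [1, 3, 1, 0, 4, 3, 4, 3, 1, 0, 4, 0]), (229, false, [1, 2, 0, 1, 0, 1, 0, 4, 0, 4, 0, 4, 3, 4]), (3, true, [0, 1, 3, 1, 0, 4, 3, 4, 3, 4, 3, 4, 0, 4, 0]), (77, false, []), (223, false, [0, 4, 3, 1, 3, 1, 3, 1, 3, 4, 3, 4, 3, 4]), (114, false, [1, 3, 4, 3, 4, 0, 1, 3, 1]), (178, true, [2, 4, 0, 4, 3, 1, 0, 1, 3, 1, 0, 4, 0])]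
def r194 : List (ℕ × Bool × List ℕ) := [(207, true, [1, 3, 4, 0, 4, 0, 4, 3, 4, 0, 4, 3, 4, 0, 4]), (87, true, [0, 1, 0, 4, 0, 4, 0, 1, 3, 1, 3, 4, 3, 4]), (218, false, [4, 0, 4, 0, 1, 3, 1, 0, 1, 3, 1, 3, 1, 0, 1]), (251, true, [0, 1, 0, 1, 3, 1, 0, 4, 3, 4, 0, 1, 0, 1, 0, 1, 0]), (123, true, [2, 0, 4, 3, 1, 3, 1, 0, 1, 3, 4, 3, 4, 0, 4]), (226, false, [4, 0, 1, 3, 1, 3, 1, 3, 1, 0, 4, 3, 1, 0]), (66, false, [2, 0, 4, 3, 4, 3, 1, 0, 1, 3, 4, 0, 1, 0, 1]), (64, true, [0, 1, 0, 2, 4, 3, 4, 3, 1, 0, 1, 0, 4, 0, 4]), (174, true, [1, 3, 4, 0, 4, 0, 4, 3, 4, 0]), (73, false, [0, 2, 4, 3, 1, 0, 1, 0, 1, 0, 4, 3]), (98, true, [1, 0, 2, 4, 0, 1, 3, 1, 3, 1, 3, 1, 3, 4]), (114, false, [1, 3, 1, 3, 1, 0, 1, 0, 1, 3, 4, 3, 4,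 0, 1]), (235, true, [0, 1, 3, 4, 0, 4, 3, 1, 0, 4]), (274, true, [0, 1, 0, 1, 3, 1, 3, 4, 3, 4, 3, 1, 0]), (86, true, [0, 4, 0, 4, 3, 1, 0, 1, 0, 4, 0, 4, 3, 1, 0, 4, 3]), (184, true, [0, 1, 0, 2, 4, 0, 4, 0, 4, 0, 4, 0, 4, 3, 1]), (5, true, [1, 0, 4, 0, 1, 3, 4, 0, 4, 3, 4, 0, 1]), (213, false, [0, 1, 0, 1, 2, 0, 4, 3, 4, 3, 4, 0, 1, 3, 1, 0, 4]), (258, true, [4, 3, 1, 3, 1, 0, 1, 0, 1, 3, 4, 0, 1, 3, 1]), (143, true, [3, 1, 3, 4, 0, 4, 0, 1]), (250, true, [0, 1, 0, 1, 0, 2, 4, 0, 1, 0, 1, 0, 1]), (226, false, [0, 1, 2, 0, 1, 0, 4, 3, 1, 0, 1, 3, 4, 3, 1, 0]), (211, false, [0, 2, 4, 3, 4, 0, 4, 3, 4, 0, 4, 3, 1, 3, 1, 0]), (102, false, [0, 1, 0, 2, 4, 0, 4, 0, 4, 3, 4, 0, 1]), (279, true, [3, 4, 3, 4, 0, 4, 0, 4, 3,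 1, 0, 4]), (220, true, [0, 1, 0, 1, 0, 4, 3, 4, 0, 4, 0, 1, 3, 4, 3, 4, 3]), (96, false, [1, 0, 1, 3, 4, 3, 4, 0, 1, 3, 4, 0]), (6, false, [2, 0, 1, 0, 4, 0, 4, 0, 1, 3, 1, 0, 1]), (69, false, [1, 0, 1, 2, 0, 4, 3, 4, 3, 1, 0, 1, 3, 4, 0, 1, 3]), (194, true, []), (277, false, [2, 0, 1, 0, 1, 0, 4, 0, 4, 3, 1]), (36, true, [1, 0, 4, 0, 4, 3, 1, 3, 1, 3, 1, 0, 1, 3]), (66, false, [1, 0, 1, 3, 1, 0, 4, 0, 4, 0, 1, 3, 1, 0, 1, 0]), (279, false, [4, 0, 1, 3, 4, 0, 4, 0, 4, 0, 4, 0]), (194, false, [0, 1, 3, 4, 0, 1, 3, 1, 0, 4, 3, 1]), (229, false, [1, 0, 1, 0, 2, 4, 0, 1, 0, 1, 0, 4, 3]), (235, true, [2, 0, 4, 0, 1, 3, 1, 3, 4, 0, 4, 3, 1, 0, 4]), (261, true, [3, 4, 0, 1, 3, 1, 3, 1, 3, 4, 0]), (249, true, [1, 0, 2, 4, 3,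 4, 0, 4, 3, 4, 0, 1, 0]), (85, false, [1, 0, 1, 0, 2, 4, 3, 4, 3, 1, 0, 1, 3, 1, 0, 1, 0]), (25, true, [1, 0, 1, 2, 0, 4, 3, 4, 3, 4, 0, 4, 0, 4, 0, 4]), (148, false, [2, 0, 4, 0, 1, 0, 1, 0, 4, 3, 4, 0, 4]), (82, true, [4, 0, 4, 3, 1, 3, 4, 0, 4, 0, 4, 3, 4, 3, 1]), (277, false, [3, 1, 3, 4, 3, 4, 3, 4, 0, 4, 0, 4, 3, 4, 3, 4, 0]), (82, true, [0, 1, 3, 4, 0, 4, 0, 1, 3, 4, 3, 4, 3]), (250, true, [4, 3, 1, 3, 1, 0, 1, 0, 4, 3, 4, 3]), (96, false, [2, 0, 1, 0, 1, 0, 4, 3, 1, 3, 4, 0, 4]), (104, true, [0, 4, 0, 1, 0, 1, 0, 1, 3, 1, 0, 4, 0, 1]), (77, true, [1, 3, 1, 0, 4, 0, 1]), (199, true, [3, 1, 0, 4, 0, 4, 3, 4, 0, 4, 3, 1]), (111, false, [0, 1, 2, 0, 1, 3, 1, 3, 1, 0, 1, 0, 1, 3, 4, 0, 1]), (192, false, [0, 1, 0,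 2, 4, 0, 4, 3, 4, 0, 4, 3, 1, 0, 1]), (213, false, [4, 0, 1, 0, 1, 3, 1, 0, 1, 3, 1, 3, 4, 3, 4]), (268, true, [1, 0, 1, 0, 2, 4, 0, 4, 0, 4, 0, 1, 3, 4, 0]), (229, false, [0, 1, 3, 1, 3, 4, 0, 1, 3, 1, 3, 1, 0]), (194, false, [0, 2, 4, 3, 1, 3, 1, 0, 1, 0, 1, 3, 4, 3, 4]), (12, true, [1, 3, 1, 3, 4, 0, 4, 0, 4]), (82, true, [4, 0, 4, 0, 1, 3, 1, 0, 4, 3, 4, 3, 4, 3, 1, 0]), (113, true, [1, 0, 1, 2, 0, 4, 3, 1, 3, 1, 0, 1, 3]), (226, true, [2, 0, 1, 0, 1, 3, 1, 3, 1, 0, 1, 0, 1, 3]), (249, true, [1, 0, 4, 0, 1, 3, 4, 0, 4, 3, 4, 0, 4, 0]), (140, true, [1, 3, 4, 3, 1, 0, 4]), (69, false, [1, 3, 1, 3, 1, 3, 1, 3, 1, 3, 4, 3, 4]), (274, false, [0, 4, 3, 4, 3, 4, 3, 4, 0, 4, 0, 4, 3, 4, 0]), (118, true, [1, 0, 4, 3, 4,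 0, 1, 3, 1, 3, 4, 3, 4, 3, 1, 0]), (64, true, [0, 1, 3, 1, 0, 1, 0, 1, 0, 4, 0, 4, 0, 4, 3, 4, 0]), (82, true, [0, 1, 3, 4, 3, 4, 0, 4, 0, 4, 0, 4, 3, 4, 3, 1]), (87, true, [0, 1, 2, 0, 1, 3, 1, 3, 1, 3, 4, 3, 4, 3, 4, 0, 4, 3]), (192, true, [0, 1, 0, 4, 0, 4, 0, 1, 3, 4, 3, 4, 3]), (111, false, [0, 1, 0, 1, 0, 4, 0, 4, 3, 1, 3, 1, 3]), (56, true, [1, 3, 4, 0, 1, 0, 1, 0, 4, 3, 1, 3, 4]), (97, false, [3, 4, 0, 4, 3, 4, 0, 1, 3, 1, 3, 1]), (6, false, [4, 3, 1, 0, 1, 0, 4, 3, 1, 3, 1]), (77, true, [2, 0, 4, 3, 4, 0, 4, 0, 1, 3, 1, 3, 1, 3, 4, 3]), (40, false, [1, 0, 2, 4, 0, 1, 0, 4, 3, 1, 0]), (40, false, [0, 1, 3, 1, 3, 1, 3, 4, 0, 4, 3, 1, 0]), (184, true, [3, 1, 3, 4, 3, 4, 3, 4, 0, 1, 0, 1]), (82, true, [4, 3, 4,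 3, 4, 3, 4, 3, 4, 3, 1]), (194, false, [2]), (268, true, [4, 0, 1, 3, 4, 3, 4, 3, 4, 0, 1, 0, 1, 3]), (86, true, [2, 4, 0, 1, 0, 1, 0, 1, 0, 1, 0, 4, 0, 4, 3, 1]), (247, false, [4, 3, 1, 0, 1, 0, 1, 3, 1, 3, 4, 0, 4, 0]), (60, false, [3, 1, 3, 4, 0, 4, 3, 1, 3, 1, 3, 1, 0]), (220, true, [0, 2, 4, 3, 4, 3, 4, 0, 1, 0, 1, 3, 4, 0, 4, 3, 1]), (73, false, [4, 3, 1, 0, 1, 0, 1, 3, 1, 3, 4, 3]), (260, false, [0, 1, 0, 2, 4, 0, 1, 0, 1, 0, 1, 3, 4, 0, 4]), (234, false, [2, 4, 3, 4, 3, 4, 3, 4, 0, 4, 0, 4, 3, 1, 0, 1, 0]), (218, false, [0, 2, 4, 3, 4, 3, 4, 0, 4, 3, 1, 3, 4, 0, 4, 0, 1]), (82, true, [4, 0, 4, 0, 1, 3, 1, 0, 4, 3, 1, 3, 1, 3]), (118, true, [2, 0, 1, 3, 1, 0, 4, 3, 4, 0, 1]), (123, true, [4, 0, 4, 3, 4, 3, 1,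 0, 1, 0, 1]), (114, false, [0, 1, 2, 0, 4, 3, 4, 3, 4, 3, 4, 0, 4, 0, 4]), (166, false, [0, 1, 3, 1, 0, 1, 0, 4, 3, 1, 0, 1, 0]), (176, true, [0, 1, 0, 1, 3, 4, 3, 1, 0, 1, 0, 4, 0]), (261, true, [0, 2, 4, 0, 1, 3, 1, 3, 1, 0, 1, 0, 4, 0]), (250, true, [2, 4, 0, 1, 3, 1, 0, 4, 0, 4, 3, 1, 3]), (148, false, [1, 0, 4, 3, 4, 0, 4, 3, 4, 3, 1, 0]), (226, true, [3, 4, 3, 4, 3, 4, 3, 1, 0, 4, 3, 4, 3, 4, 0, 4]), (5, false, [1, 0, 1, 0, 1, 0, 1, 2, 0, 4, 0, 1, 3, 4]), (36, true, [3, 4, 0, 1, 3, 1, 3, 1, 0, 1, 0, 1, 0, 4, 3]), (213, false, [4, 0, 4, 3, 4, 3, 4, 0, 4, 3, 1, 0, 1]), (113, true, [1, 2, 0, 1, 3, 1, 0, 4, 0, 4, 3, 4, 3, 1]), (25, true, [0, 4, 0, 1, 3, 1, 3, 4, 0, 4, 0, 1, 3, 1]), (213, false, [2, 0, 4, 3, 1, 0,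 1, 3, 1, 0, 1, 0, 4]), (260, false, [1, 3, 1, 0, 4, 3, 1, 0, 1, 3, 4, 3, 4, 0, 1]), (234, false, [4, 0, 4, 0, 1, 3, 1, 3, 4, 3, 4, 3, 4, 3]), (211, true, [1, 3, 4, 0, 4, 0, 1, 3, 4, 3, 4, 3]), (207, true, [1, 0, 1, 3, 4, 0, 1, 0, 1, 0, 4, 3, 1, 0]), (85, false, [4, 3, 4, 0, 1, 0, 1, 3, 4, 0, 1, 0]), (199, true, [0, 1, 2, 0, 1, 0, 1, 3, 1, 3, 4, 3, 4, 3, 4, 0, 4, 3]), (258, true, [4, 3, 1, 3, 1, 0, 1, 0, 1, 3, 4, 0, 1, 3, 1]), (98, true, [1, 3, 1, 3, 1, 0, 1, 3, 4, 3, 4, 3, 1, 0])]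
def r195 : List (ℕ × Bool × List ℕ) := [(58, false, [2, 0, 1, 3, 1, 3, 4, 3, 4, 3, 1, 0, 1, 0]), (179, false, [3, 1, 0, 1, 0, 4, 3, 4, 0, 1, 3, 1]), (121, false, [4, 0, 1, 0]), (110, false, [2, 0, 1, 3, 1, 3, 4, 3, 4, 0, 4, 0, 4, 3, 1, 0, 1]), (188, false, [1, 0, 1, 3, 4, 3, 1, 0, 1, 0, 1, 0]), (188, true, [2, 4, 0, 1, 0, 4, 3, 4, 3, 4, 3]), (49, false, [1, 0, 1, 0, 1, 2, 0, 4, 0, 4, 0, 1]), (71, true, [1, 3, 4, 3, 4, 3, 4, 0, 4, 3, 4, 0, 4, 3]), (188, false, [2, 0, 4, 0, 4, 0, 1, 3]), (64, false, [0, 4, 0, 4, 3, 1, 0, 1, 3, 4, 3, 4, 3, 4, 0, 4]), (104, false, [3, 1, 3, 1, 3, 1, 0, 4, 0, 4, 3, 1, 3, 1, 3]), (126, true, [1, 0, 2, 4, 3, 1, 0, 1, 3, 1, 0, 1, 0, 1]), (24, false, [2, 0, 4, 3, 4, 0, 4, 0, 4, 3, 1, 0, 4, 0,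 4]), (183, true, [0, 1, 0, 1, 0, 4, 0, 4, 0, 4, 0, 4, 3]), (255, true, [0, 1, 0, 2, 4, 0, 4, 3, 1, 3, 1, 3, 4]), (236, false, [2, 0, 4, 3, 4, 0, 4, 0, 4, 3, 4, 3, 4, 3, 1, 3]), (76, false, [0, 1, 0, 2, 4, 0, 4, 0, 4, 3, 1, 0, 1, 0, 4]), (110, true, [2, 0, 1, 3, 4, 0, 4, 3, 4, 3, 1, 0, 1, 0, 1]), (68, true, [2, 4, 0, 1, 3, 1, 3, 1, 3, 4, 0, 4, 3, 4, 3, 4]), (69, true, [0, 4, 0, 4, 0, 4, 3, 4, 3, 4, 3, 4, 0]), (179, true, [1, 3, 4, 0, 4, 3, 1, 0, 4, 0, 4, 0]), (117, false, [1, 0, 4, 0, 4, 0, 4, 3, 4, 3, 4, 0, 4, 0, 1]), (68, false, [4, 0, 1, 3, 1, 0, 4, 3, 4, 0, 1, 0, 1]), (267, false, [1, 2, 0, 4, 0, 4, 3, 1, 3, 4, 0, 1, 0]), (70, false, [1, 2, 0, 4, 3, 1, 0, 1, 0, 4, 3, 1, 0, 1, 3, 4]), (267, true, [0, 1, 2, 0, 4, 3,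 1, 3, 1, 0, 4, 3, 1, 0]), (87, false, [1, 0, 4, 0, 4, 3, 4, 0, 1, 0, 1, 3, 4]), (259, true, [2, 0, 1, 0, 1, 0, 1, 0, 1, 3, 4, 3, 1, 0]), (60, true, [1, 3, 4, 3, 1, 0, 1, 0, 4, 3, 4, 3, 1]), (70, false, [0, 1, 3, 4, 3, 4, 0, 4, 3]), (230, false, [4, 0, 1, 3, 1, 3, 4, 0, 4, 3, 1]), (89, false, [0, 1, 2, 0, 1, 3, 4, 3, 4, 0, 1, 3, 4, 3, 4, 0]), (52, false, [0, 1, 0, 2, 4, 0, 4, 3, 4, 0, 4, 0, 4, 3, 1]), (104, true, [1, 0, 1, 0, 2, 4, 3, 4, 0, 1, 3, 4, 3, 1, 0]), (166, false, [3, 4, 0, 4, 0, 4, 0, 1, 3, 1, 3]), (91, true, [2, 0, 1, 0, 4, 3, 4, 3, 4, 0, 1, 3, 1, 3, 1, 0, 1, 3]), (158, false, [2, 0, 1, 3, 1, 0, 1, 0, 4, 0, 4, 3, 1, 0, 4, 3]), (119, false, [1, 3, 1, 3, 1, 0, 1, 3, 4, 3, 4, 3, 1]), (183, true, [0, 4, 0, 1,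 3, 1, 0, 4, 3, 4, 0, 1, 0, 1, 0, 1]), (70, false, [4, 3, 4, 0, 4, 0, 4, 3, 1, 0, 1, 3, 1]), (179, true, [0, 4, 0, 4, 3, 4, 0, 1, 0, 1, 3]), (58, true, [0, 1, 2, 0, 4, 3, 4, 3, 1, 0, 1, 3, 4, 3]), (127, false, [0, 2, 4, 0, 1, 3, 1, 0, 4, 3, 4, 3, 4, 3, 4]), (263, true, [1, 3, 1, 3, 1, 3, 4, 0, 4, 3, 1, 0, 4, 0, 4, 0]), (71, false, [0, 4, 3, 4, 3, 4, 0, 4, 0, 4, 3, 1, 0, 4, 0]), (24, true, [0, 2, 4, 3, 1, 3, 1, 0, 4, 3, 1, 0, 1]), (158, true, [2, 0, 1, 0, 1, 3, 4, 0, 4, 3, 1, 3, 1, 3, 4]), (49, true, [3, 1, 3, 1, 3, 4, 3, 4, 3, 4]), (51, true, [1, 3, 1, 3, 1, 3, 4, 3, 4, 3]), (151, true, [4, 3, 1, 0, 1, 3, 1, 3, 1, 3, 4, 3, 4, 0]), (181, true, [2, 4, 3, 1, 3, 4, 0, 1, 0, 1]), (105, false, [1, 0, 1, 0, 1, 0, 1, 0, 1, 0,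 4, 0]), (272, true, [0, 4, 0, 1, 3, 1, 0, 4, 3, 1, 3, 1, 3]), (105, true, [0, 4, 0, 1, 3, 1, 0, 1, 3, 4, 0]), (181, false, [1, 0, 1, 0, 1, 0, 1, 2, 0, 1, 0, 1, 3, 1, 0, 1]), (267, true, [1, 3, 1, 3, 4, 0, 1, 3]), (188, true, [0, 1, 0, 1, 3, 4, 0, 4, 3, 4, 3, 4, 0, 1, 0, 1]), (158, true, [2, 0, 1, 0, 1, 3, 4, 0, 4, 3, 1, 3, 1, 3, 4]), (87, false, [1, 0, 4, 0, 4, 0, 4, 0, 1, 3, 4, 0, 4, 3]), (71, false, [4, 0, 4, 3, 1, 0, 1, 3, 4, 3, 4, 0, 1, 3]), (263, false, [1, 3, 1, 0, 1, 0, 1, 0, 4, 3, 4, 0, 1, 3, 1]), (71, true, [1, 0, 1, 3, 1, 0, 1, 0, 1, 3]), (70, true, [0, 4, 3, 4, 3, 1, 0, 1, 0, 4, 3, 4, 3, 4, 3, 4]), (68, true, [0, 4, 0, 1, 3, 1, 0, 4, 3, 4, 3, 4, 3, 1]), (252, true, [2, 4, 0, 4, 3, 1, 3, 1, 0, 4, 3, 4, 0,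 1]), (64, true, [4, 3, 1, 3, 1, 3, 4, 3, 4, 0, 4, 3]), (117, true, [2, 0, 4, 3, 4, 3, 4, 0, 1, 0, 1, 3, 4]), (119, true, [0, 4, 3, 4, 0, 1, 0, 1, 3, 1, 3, 1, 0, 4]), (178, true, [2, 0, 4, 0, 1, 3, 4, 3, 4, 3, 1, 0, 4, 3]), (68, false, [1, 0, 1, 0, 1, 2, 0, 1, 0, 1, 3, 1, 0, 1, 3, 4, 3, 1]), (255, true, [0, 1, 0, 2, 4, 3, 4, 0, 4, 0, 4, 0, 4, 3, 4, 3, 4]), (91, false, [2, 4, 3, 4, 0, 1, 3, 1, 3, 4, 0, 4, 3, 4]), (52, true, [3, 4, 3, 4, 0, 4, 3, 1, 0, 1, 3, 1]), (70, true, [1, 0, 1, 0, 2, 4, 0, 4, 3, 4, 0, 4, 3, 1, 3, 4]), (252, false, [2, 0, 4, 0, 1, 0, 1, 3, 1, 0, 1, 3, 4]), (69, false, [0, 4, 3, 1, 0, 4, 0, 4, 0, 4, 0, 1, 3]), (58, true, [2, 4, 3, 4, 3, 4, 0, 4, 3, 1, 3, 4]), (107, false, [3, 1, 3, 1, 3]), (178, false,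 [2, 0, 1, 0, 1, 0, 1, 0, 1, 3, 1, 3, 1, 0, 4, 3]), (255, false, [2, 0, 1, 0, 1, 3, 1, 0, 4, 3]), (179, false, [1, 0, 4, 3, 4, 3, 1, 0, 1, 3, 1, 3, 1]), (87, true, [0, 4, 3, 4, 0, 4, 3, 1, 0, 1, 0, 1, 3, 1, 3]), (91, false, [0, 1, 0, 4, 3, 4, 0, 4, 3, 4]), (186, true, [0, 1, 0, 1, 0, 1, 3, 4, 3, 1, 0, 1, 3, 4, 0]), (89, true, [2, 4, 3, 4, 3, 1, 0, 1, 3, 4, 0, 1, 0, 1, 3, 1]), (225, false, [2, 0, 1, 0, 1, 3, 1, 3, 4, 3, 4, 0, 1, 3, 1]), (107, true, [0, 1, 3, 1, 3, 4, 0, 4, 0, 4, 0, 4, 3, 1, 0, 4]), (255, false, [1, 2, 0, 1, 0, 4, 0, 4, 3, 1, 0, 4, 3]), (91, true, [1, 0, 1, 0, 1, 0, 4, 0, 4, 3, 1, 0, 1]), (158, false, [2, 0, 1, 3, 1, 0, 1, 0, 4, 0, 4, 3, 1, 0, 4, 3]), (51, false, [0, 1, 3, 4, 3, 4, 3, 1, 0, 1, 3, 1, 3,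 4, 3, 4]), (151, false, [0, 4, 0, 1, 0, 1, 0, 1, 0, 4, 3, 1]), (126, false, [0, 2, 4, 3, 4, 0, 1, 0, 1, 3, 1, 0, 4]), (60, false, [4, 0, 1, 3, 1, 0, 1, 0, 4, 3, 4]), (76, true, [2, 4, 0, 1, 3, 1, 3, 1, 0, 1, 3, 1, 3]), (230, true, [4, 3, 1, 3, 1, 0, 4, 0]), (267, false, [4, 3, 1, 3, 4, 0, 1, 0, 1, 0, 1, 3, 4, 3]), (71, true, [1, 0, 1, 3, 4, 0, 4, 0, 1, 3, 1, 3, 4]), (183, false, [0, 4, 3, 1, 0, 1, 0, 1, 0, 1, 3, 1, 3]), (87, true, [0, 4, 0, 4, 0, 1, 3, 4, 3, 4, 0, 1, 3, 4]), (58, false, [1, 2, 0, 4, 0, 1, 3, 1, 3, 4, 0, 1, 3, 1]), (127, true, [2, 4, 0, 4, 0, 4, 0, 4, 3, 4, 3, 4, 0, 1, 3, 4]), (186, false, [1, 0, 1, 0, 4, 3, 1, 3, 4, 0, 4, 3, 1, 0, 4]), (121, true, [3, 1, 3, 1, 3, 1, 3, 1, 0, 1, 0, 1, 3, 4, 0, 1]), (272,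 true, [1, 0, 1, 3, 1, 0, 1, 3, 1, 3, 4, 0]), (236, true, [1, 2, 0, 1, 3, 4, 0, 4, 0, 4, 0, 1, 3, 4, 3, 1, 0]), (259, false, [2, 4, 3, 4, 3, 1, 0, 1, 3, 1, 0, 1, 3, 4, 0]), (225, true, [0, 1, 2, 0, 4, 3, 1, 3, 4]), (70, true, [1, 0, 4, 0, 4, 0, 4, 3, 4, 0, 1, 0, 1, 0, 1, 3]), (183, false, [1, 0, 1, 0, 1, 3, 4, 0, 4, 3, 4, 0, 4, 0]), (71, false, [1, 0, 4, 0, 4, 3, 1, 3, 1, 3, 4, 3]), (166, true, [3, 1, 0, 4, 0, 4, 0, 4, 3, 1, 0, 4])]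
def r196 : List (ℕ × Bool × List ℕ) := [(126, false, [1, 0, 2, 4, 0, 4, 0, 4, 0, 4, 3, 1, 0, 1, 3, 4, 0, 1]), (158, false, [2, 4, 0, 1, 0, 4, 3, 1, 3, 1, 0, 1]), (236, true, [4, 3, 1, 0, 1, 3, 4, 0, 4, 0, 4, 3, 1]), (270, true, [0, 1, 0, 1, 2, 0, 1, 0, 4, 0, 4, 0, 4, 0, 1, 3]), (197, false, [0, 2, 4, 3, 1, 3, 1, 3, 4, 3, 4, 3, 1, 3]), (224, true, [1, 3, 4, 0, 4, 0, 4, 0, 4, 3, 4, 3, 1, 3]), (224, false, [4, 3, 4, 3, 4, 0, 1, 3, 1, 3, 4, 3, 4]), (236, true, [0, 1, 0, 1, 0, 1, 3, 4, 3, 4, 0, 1, 3, 4, 3, 4]), (91, false, [2, 0, 4, 0, 4, 0, 1, 3, 1, 3, 4, 0, 4, 0]), (259, true, [3, 4, 0, 4, 0, 4, 0, 1, 3, 1, 0, 4, 0, 4, 0, 1]), (164, true, [1, 2, 0, 1, 0, 1, 3, 1, 3, 1, 3, 4, 0]), (62, false, [4, 3, 1, 0, 4, 3, 4, 0, 1,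 3, 1]), (203, false, [0, 1, 0, 1, 2, 0, 4, 3, 4, 0, 1, 3]), (62, true, [2, 4, 0, 1, 3, 4, 0, 4, 3, 4, 3, 4, 3, 1]), (186, false, [0, 4, 3, 1, 0, 1, 3, 4, 0, 4, 0, 1, 3, 1]), (112, true, [0, 4, 0, 1, 3, 4, 3, 1, 0, 1, 3, 4]), (208, false, [3, 4, 3, 4, 0, 1, 3, 1, 3, 4, 3, 4, 3]), (221, true, [2, 4, 0, 1, 3, 4, 3, 4, 3, 4, 0, 1, 3, 1, 0, 4]), (203, false, [2, 4, 0, 4, 3, 1, 0, 1, 0, 4, 3, 4, 3, 4, 0]), (208, false, [3, 4, 3, 1, 0, 1, 3, 1, 3, 1, 3, 4, 3, 4, 3]), (188, false, [1, 3, 1, 0, 4, 3, 1, 0, 1, 0, 1, 3, 1, 3]), (233, true, [3, 4, 3, 1, 3, 1, 3, 1, 0, 1, 0]), (236, false, [2, 0, 4, 3, 4, 3, 1, 0, 4, 0, 4, 0]), (61, false, [0, 4, 3, 4, 0, 4, 0, 4, 0, 4, 3, 4, 3]), (89, false, [1, 0, 1, 0, 1, 3, 1, 3, 1, 0, 1, 0,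 1, 0, 4, 3]), (214, true, [0, 1, 3, 1, 3, 4, 3, 4, 3, 1, 0, 4, 0, 4]), (196, false, [2, 4, 3, 1]), (62, false, [4, 3, 1, 0, 4, 3, 4, 0, 1, 3, 1]), (57, true, [2, 0, 4, 3, 1, 0, 1, 3, 1, 3, 1, 3, 4, 0]), (112, true, [0, 2, 4, 0, 1, 3, 1, 0, 1, 0, 1, 3, 1, 3, 4]), (70, false, [1, 0, 1, 2, 0, 1, 3, 4, 0, 4, 0, 4, 0, 4]), (238, false, [4, 3, 1, 3, 1, 0, 4, 3, 4, 0]), (150, true, [1, 0, 4, 0, 4, 3, 4, 3, 1, 0]), (224, true, [2, 4, 0, 4, 3, 4, 3, 4, 3, 4, 0, 4, 0, 1, 3]), (70, false, [3, 1, 3, 4, 0, 1, 3, 1, 3, 4, 3, 4, 0, 1, 3]), (62, true, [4, 0, 4, 3, 4, 3, 4, 0, 1, 3, 4, 3, 4, 3]), (267, false, [0, 2, 4, 0, 4]), (242, true, [2, 0, 4, 0, 1, 0, 1, 3, 1, 0, 1, 0, 1]), (236, true, [1, 0, 2, 4, 0, 1, 0, 1, 0, 4, 3, 1, 0, 1,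 0, 4, 3]), (109, true, [0, 1, 3, 4, 0, 4, 0, 4, 3, 4, 3, 4]), (273, true, [1, 0, 1, 3, 1, 0, 1, 0, 4, 3, 1]), (60, true, [0, 2, 4, 0, 1, 0, 1, 3, 4, 0, 4, 0, 4, 3, 1, 3]), (185, true, [1, 0, 1, 0, 4, 0, 4, 3, 4, 0, 1, 0, 4]), (215, true, [1, 0, 2, 4, 3, 4, 3, 1, 0, 4, 0, 1]), (179, false, [2, 4, 3, 1, 0, 1, 0, 4, 0, 4, 3, 1, 3, 1]), (262, true, [0, 1, 0, 1, 2, 0, 1, 3, 1, 3, 1, 0, 4, 3, 4, 0, 4, 3, 1]), (70, false, [3, 1, 0, 1, 0, 4, 0, 4, 3, 1, 0, 1, 0, 4]), (142, false, [3, 4, 3, 1, 0, 4, 3, 1]), (31, true, [1, 0, 2, 4, 3, 4, 0, 4, 3, 1]), (124, true, [0, 4, 0, 1, 0, 1, 3, 1, 0, 4, 0]), (224, false, [0, 2, 4, 3, 1, 3, 1, 3, 1, 0, 1, 0, 4, 0, 4, 0, 4]), (221, true, [0, 4, 0, 4, 0, 4, 3, 4, 0, 4, 3, 4, 0, 4, 3]), (58,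 true, [0, 4, 0, 4, 0, 1, 3, 4, 0, 4, 0, 4, 3, 4, 0]), (129, true, [0, 4, 0, 1, 0, 1, 0, 1, 3, 1, 3]), (107, false, [0, 4, 0, 4, 0, 4, 3, 4, 3, 4, 3, 4, 0, 4, 3]), (157, false, [2, 4, 0, 4, 3, 1, 0, 4, 3]), (63, true, [4, 3, 1, 0, 4, 3, 4, 0, 1, 3, 1]), (164, true, [4, 0, 4, 3, 4, 0, 4, 3, 1, 0, 4, 0]), (273, true, [4, 0, 4, 3, 4, 0, 4, 0, 4, 3, 1, 0]), (104, true, [0, 1, 2, 0, 1, 0, 4, 3, 1, 3, 4, 0, 4, 0, 1]), (158, false, [0, 1, 3, 4, 0, 1, 3, 1, 3, 1, 0, 1, 0, 1, 0]), (71, true, [0, 4, 0, 1, 3, 4, 0, 4, 0, 1, 3, 4, 3, 1, 0]), (238, true, [0, 4, 3, 4, 0, 4, 0, 1, 3, 4, 3, 4, 3, 4]), (70, false, [2, 0, 4, 0, 4, 0, 4, 3, 1, 0, 1, 0, 4]), (74, true, [4, 0, 4, 3, 1, 0, 1, 3, 4, 3]), (19, false, [0, 1, 2, 0, 1, 3, 1, 3,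 4, 0, 1, 3, 1, 3, 4, 0]), (107, true, [1, 0, 1, 3, 1, 3, 4, 0, 1, 0, 1, 3, 4]), (19, false, [3, 1, 0, 1, 3, 4, 0, 4, 0]), (188, false, [2, 0, 1, 3, 1, 3, 1, 0, 1, 0, 4, 0, 4, 3, 1, 0, 4]), (242, true, [1, 3, 1, 3, 1, 3, 4, 3, 4, 0, 1, 3, 4]), (186, true, [0, 4, 0, 1, 0, 1, 3, 1, 0, 1, 0, 4, 0, 4, 3]), (269, false, [0, 2, 4, 3, 1, 0, 4, 0, 4, 0, 1, 3]), (63, true, [0, 1, 0, 1, 2, 0, 1, 3, 1, 0, 4, 0, 4, 0, 1, 3]), (71, true, [1, 2, 0, 1, 3, 4, 0, 1, 0, 1, 0, 1]), (236, false, [1, 0, 4, 3, 4, 3, 1, 0, 4, 3, 4, 3, 1, 3]), (53, false, [3, 1, 3, 1, 0, 1, 3, 1, 0, 4, 3, 4, 0]), (156, true, [3, 1, 3, 4, 3, 4, 3, 4, 3, 4]), (281, true, [0, 4, 0, 1, 3, 1, 0, 1, 0, 1, 3, 4, 0, 4, 0]), (205, false, [2, 0, 1, 3, 1, 0, 1, 0, 4,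 0, 4, 3, 1, 0]), (262, true, [3, 1, 0, 1, 3, 1, 0, 4, 3, 4, 3, 4]), (62, true, [1, 2, 0, 1, 0, 4, 3, 1, 3, 1, 0, 1, 0, 4, 3]), (236, true, [0, 2, 4, 0, 4, 0, 1, 3, 1, 0, 4, 3, 4, 3, 4, 0]), (259, true, [0, 2, 4, 0, 4, 3, 1, 3, 1, 0, 1, 3, 4]), (157, true, [1, 0, 4, 3, 1, 0, 1, 0, 1, 0, 4, 3, 1, 3, 1]), (50, false, [1, 0, 4, 3, 1, 0, 1, 0, 1, 0]), (70, false, [1, 2, 0, 4, 3, 1, 0, 1, 3, 1, 3, 4, 0, 1, 0]), (107, false, [3, 4, 3, 4, 3, 1, 0, 4, 0, 4, 3, 4, 0, 4]), (169, false, [0, 1, 0, 2, 4, 0, 4, 3, 1, 0, 4]), (186, true, [1, 3, 4, 3, 4, 0, 1, 0, 1, 3, 4, 0, 1, 3, 1]), (269, false, [1, 3, 1, 3, 4, 0, 4, 0, 4, 3, 4, 3]), (270, true, [3, 1, 0, 4, 0, 4, 3, 1, 3, 1, 0, 4, 3]), (126, false, [0, 4, 3, 4, 0, 4, 3, 1, 0, 1,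 0, 4, 0, 4, 0, 1, 0]), (179, false, [0, 1, 0, 4, 3, 4, 0, 4, 3, 4, 3, 4, 3, 1, 0, 1]), (70, false, [1, 3, 4, 3, 1, 0, 1, 0, 4, 0, 4, 0, 1, 3, 1]), (150, false, [0, 1, 2, 0, 1, 3, 4, 0, 1, 3, 1, 3, 4]), (58, true, [0, 1, 2, 0, 1, 0, 1, 3, 4, 0, 4, 3, 4]), (89, false, [0, 1, 2, 0, 4, 3, 4, 0, 1, 0, 1, 3, 4, 0, 4, 0]), (62, true, [0, 4, 0, 1, 3, 1, 0, 4, 0, 4, 0, 1, 3]), (208, false, [3, 4, 0, 1, 0, 1, 0, 4, 3, 4, 0, 4, 0, 1]), (91, false, [0, 4, 0, 1, 3, 1, 0, 1, 0, 4, 3, 1, 3, 1, 0, 1]), (263, false, [0, 2, 4, 3, 1, 3, 1, 0, 1, 3, 1, 0, 1, 0, 4, 0]), (170, false, [0, 2, 4, 0, 1, 3, 4, 0, 4, 0, 1, 3, 1, 0, 1]), (263, false, [0, 4, 0, 1, 0, 1, 0, 4, 3, 1, 3, 4]), (170, false, [1, 3, 1, 0, 4, 3, 4, 3, 4, 0, 4, 0]), (214,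 true, [2, 0, 4, 0, 4, 3, 1, 3, 4, 0, 4, 0, 1, 3, 1, 3]), (186, false, [1, 3, 1, 3, 1, 3, 1, 0, 1, 0, 1, 3, 4, 0]), (124, true, [0, 2, 4, 3, 4, 0, 4, 0, 1, 3, 1, 0, 4, 0]), (109, true, [0, 2, 4, 0, 4, 0, 1, 3, 4, 3, 4, 0, 4, 3, 1, 3]), (76, false, [0, 2, 4, 0, 1, 3, 1, 3, 1, 3, 4, 0]), (266, true, [4, 0, 1, 3, 4, 0, 4, 3, 4, 0, 1]), (57, true, [1, 0, 1, 3, 1, 3, 1, 0, 1, 0, 1, 3, 4, 0, 1, 0]), (240, true, [3, 1, 3, 4, 0, 4, 3, 1, 3, 1, 0, 1])]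
def r197 : List (ℕ × Bool × List ℕ) := [(245, true, [1, 0, 1, 0, 1, 0, 1, 2, 0, 4, 3, 1, 3]), (254, false, [0, 4, 0, 4, 0, 1, 3, 4, 3, 4, 3]), (189, true, [3, 1, 0, 4, 3, 4, 3, 4, 0, 4, 3, 1, 3, 4, 0, 4]), (98, true, [1, 0, 1, 2, 0, 1, 3, 1, 3, 1, 0, 4, 0, 1]), (53, false, [4, 3, 1, 3, 1, 0, 4, 3, 4, 0, 1, 0]), (154, true, [3, 4, 0, 4, 0, 4, 3, 1, 3, 4, 0, 4, 3, 4, 3, 4]), (73, false, [1, 2, 0, 1, 3, 4, 0, 4, 3, 1, 3, 4, 0, 1]), (262, false, [1, 3, 1, 3, 4, 0, 4, 0, 4, 0, 1, 3, 4, 3]), (30, false, [3, 4, 3, 4, 0, 4, 3, 4, 3, 4, 0, 4, 3, 1]), (109, true, [1, 2, 0, 1, 0, 4, 3, 4, 3, 1, 0, 4, 0, 4, 0, 4]), (158, false, [1, 2, 0, 1, 3, 4, 3, 4, 3, 1, 0, 1, 3, 4, 0]), (49, true, [4, 3, 1, 3, 1, 0, 4, 0, 4, 3, 1, 3]), (263,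 false, [0, 2, 4, 0, 1, 3, 1, 3, 4, 0, 1, 3, 1, 0, 1]), (188, false, [0, 1, 3, 4, 3, 4, 3, 1, 0, 4]), (154, false, [0, 1, 0, 1, 0, 1, 0, 1, 2, 0, 1, 0, 1, 3, 1, 3, 4, 3]), (92, true, [1, 3, 1, 0, 1, 0, 1, 3, 1, 3, 4, 0, 4, 0, 4]), (76, true, [4, 3, 1]), (166, true, [4, 3, 4, 0, 1, 3, 1, 3]), (263, false, [1, 0, 1, 0, 4, 3, 1, 3, 1, 0, 1, 0, 1, 3]), (203, true, [0, 1, 2, 0, 4, 3, 1, 3, 1, 3, 1, 3, 4, 0]), (256, true, [0, 1, 0, 4, 3, 1, 0, 1, 0, 4, 3, 4, 3, 4, 3]), (251, true, [1, 0, 4, 3, 1, 0, 4, 0, 4, 0, 4, 0]), (262, true, [1, 0, 4, 0, 1, 3, 1, 3, 1, 3, 1, 3, 1, 0, 4, 0, 1]), (3, false, [0, 1, 0, 1, 2, 0, 4, 3, 4, 0, 1, 3, 4, 3, 1]), (153, false, [2, 4, 3, 4, 0, 1, 3, 1, 0, 4, 0, 4, 3, 1, 0]), (253, true, [4, 3, 1,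 0, 4, 0, 4, 3, 4, 0]), (217, false, [0, 1, 0, 4, 3, 4, 3, 4, 3, 4, 3, 4]), (251, false, [1, 3, 1, 0, 4, 0, 4, 3, 4, 3, 4, 0, 1, 3, 1, 3, 4]), (89, true, [1, 2, 0, 1, 3, 1, 0, 4, 0, 4, 0, 4, 0]), (92, true, [0, 2, 4, 3, 1, 0, 4, 3, 4, 3, 4, 0]), (72, false, [0, 1, 2, 0, 1, 0, 4, 3, 4, 0, 1, 0, 1, 0, 1, 3, 1, 3]), (75, false, [0, 1, 2, 0, 1, 0, 4, 3, 4, 0, 1, 0, 1, 0, 1]), (115, false, [4, 3, 1, 3, 4, 0, 4, 3, 4, 3, 4, 3, 4]), (154, true, [2, 4, 3, 1, 0, 1, 0, 4, 3, 4, 0, 1, 3, 4, 3]), (268, true, [3, 1, 0, 4, 0, 4, 3, 1, 3, 1, 3, 1]), (125, true, [3, 4, 0, 4, 0, 4, 3, 4, 3, 1, 0, 1, 0, 1, 0, 1]), (248, true, [1, 2, 0, 1, 0, 1, 3, 4, 0, 4, 3, 1, 3]), (153, true, [2, 4, 0, 4, 3, 1, 0, 1, 3, 4, 3, 4, 0, 1]), (262, false,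 [2, 4, 3, 4, 3, 1, 0, 1, 3, 1, 3, 4, 0, 4, 3, 4]), (125, true, [1, 2, 0, 4, 3, 4, 3, 4, 0, 4, 3, 1, 0, 1]), (277, false, [1, 0, 1, 0, 1, 3, 4, 0, 4, 0, 4, 3, 1, 0, 1, 3]), (131, true, [2, 0, 1, 0, 4, 0, 4, 0, 4, 3, 1, 0]), (108, true, [4, 3, 1, 0, 1, 3, 4, 3]), (187, false, [3, 1, 0, 4, 0, 4, 3, 1, 0, 1, 3, 4, 0]), (83, false, [0, 2, 4, 3, 4, 0, 1, 0, 1, 3, 1, 0, 4, 0]), (262, true, [4, 3, 4, 0, 4, 3, 4, 0, 1, 3, 1, 3, 4, 3]), (88, true, [0, 1, 2, 0, 4, 0, 4, 3, 4, 0, 4]), (9, false, [0, 1, 0, 1, 3, 1, 3, 4]), (36, false, [0, 4, 3, 4, 3, 1, 0, 4, 0, 4, 0, 1]), (237, true, [1, 3, 4, 0, 4, 3, 4, 0, 4, 3, 1, 3, 4, 0]), (73, false, [0, 1, 3, 4, 0, 4, 3, 1, 3, 1, 0, 4, 3, 1, 3, 4]), (166, true, [3, 4, 0, 4, 3, 4, 3, 4, 3,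 1, 3]), (203, true, [4, 3, 4, 0, 1, 0, 1, 0, 1, 3, 4, 0, 4, 3, 1]), (208, true, [4, 3, 1, 3, 4, 0, 4, 0, 4, 3, 4, 0, 1, 3, 1, 3]), (69, false, [2, 4, 0, 4, 0, 4, 3, 4, 3, 1, 0, 1, 3, 4, 3]), (240, true, [1, 2, 0, 1, 0, 1, 3, 1, 0, 1, 0, 4, 0]), (183, false, [2, 4, 3, 1, 3, 1, 0, 4, 3, 1, 3, 1, 0, 1]), (158, false, [0, 1, 3, 1, 0, 4, 3, 4]), (277, false, [2, 0, 4, 0, 1, 0, 1, 3, 1, 3, 1, 0, 1, 0, 1, 3]), (169, true, [0, 1, 0, 1, 0, 1, 3, 4, 0, 4, 3, 4, 0]), (254, false, [2, 0, 1, 3, 4, 0, 4, 0, 1, 3, 4, 0, 4, 0, 1, 0]), (181, false, [1, 2, 0, 1, 3, 1, 3, 1, 3, 4, 0, 4, 3, 1, 3, 1]), (281, false, [3, 1, 0, 1, 0, 1, 3, 4, 0, 4, 3, 4, 0, 4, 3]), (88, true, [0, 4, 3, 4, 3, 4, 3, 4, 0, 4, 3]), (145, true, [1, 0, 1, 0, 4,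 0, 4, 0, 1, 3, 1, 3, 4]), (5, true, [1, 0, 1, 0, 1, 3, 1, 0, 1, 3, 1, 0]), (197, false, [1, 0, 4, 0, 1, 3, 1, 3, 1, 3, 1, 0, 1, 0, 1, 3]), (5, false, [2, 4, 0, 4, 3, 4, 3, 4, 3, 1, 0, 1, 0]), (256, true, [2, 0, 1, 3, 1, 3, 4, 0, 4, 0, 1, 3, 1, 3]), (153, true, [4, 0, 4, 3, 1, 0, 1, 3, 4, 3, 4, 0, 1]), (10, true, [1, 0, 1, 0, 2, 4, 3, 4, 0, 1, 3, 1, 0]), (149, true, [1, 0, 1, 2, 0]), (183, false, [1, 3, 1, 0, 4, 0, 4, 0, 1, 3, 4, 3, 1, 0]), (181, false, [1, 0, 4, 0, 4, 0, 1, 3, 4, 3, 4, 3, 1]), (262, true, [2, 4, 0, 1, 3, 1, 0, 4, 3, 4, 3, 1, 0, 1, 3]), (146, true, [4, 3, 1, 3, 1, 3, 4, 3]), (197, false, [0, 4, 3, 4, 3, 4, 0, 4, 0, 4, 0, 4, 3, 1, 3, 4]), (107, true, [4, 0, 1, 0, 4, 3, 4, 3, 4, 3, 4, 0, 1]), (80, true,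 [3, 1, 0, 4, 0, 4, 3, 4, 3, 4, 0, 4, 0, 1]), (262, true, [2, 4, 0, 4, 0, 4, 3]), (125, true, [0, 2, 4, 0, 1, 3, 1, 3, 1, 0, 1, 0, 4, 0, 4, 0, 4]), (189, true, [0, 1, 0, 1, 0, 1, 2, 0, 4, 0, 1, 3, 4, 3, 4, 3]), (109, true, [3, 1, 0, 1, 3, 1, 3, 1, 0, 4, 3, 1, 3, 1, 3]), (240, true, [1, 3, 1, 0, 4, 3, 1, 3, 4]), (167, false, [4, 3, 4, 3, 1, 0, 4, 0, 4, 3, 1, 0, 1]), (268, true, [0, 2, 4, 0, 1, 0, 1, 0, 4, 3, 4]), (69, false, [1, 0, 1, 0, 4, 0, 4, 0, 1, 3, 4, 3]), (196, false, [0, 2, 4, 3, 1, 3, 1, 3, 4, 3, 4, 3, 1, 3]), (10, false, [2, 0, 4, 0, 4, 3, 4, 0, 1, 0]), (149, true, [1, 0, 4, 0, 4, 0, 4, 3, 1, 0, 1, 0, 4, 0]), (98, true, [3, 1, 3, 4, 3, 4, 3, 1, 0, 1, 3, 1, 3, 4]), (245, true, [1, 0, 2, 4, 0, 1, 3, 1, 0, 1,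 3, 1, 3]), (83, false, [1, 0, 4, 0, 1, 3, 4, 0, 4, 3, 1, 0, 1]), (72, false, [1, 0, 1, 0, 4, 3, 4, 0, 1, 0, 1, 0, 1, 3, 1, 3]), (115, true, [2, 0, 1, 3, 4, 3, 4, 0, 1, 3, 1, 0, 1, 0]), (203, true, [3, 4, 3, 1, 0, 1, 0, 4, 0, 4, 0, 1, 0]), (153, false, [1, 0, 4, 3, 1, 3, 4, 0, 1, 3]), (188, false, [2, 0, 4, 3, 1, 3, 1, 3, 4, 3, 4, 0, 1, 3, 1, 3, 1]), (203, true, [0, 2, 4, 0, 1, 0, 4, 3, 1, 3, 1, 3, 1, 0]), (30, false, [0, 1, 3, 1, 3, 4, 3, 4, 0, 4, 0, 4, 3, 1, 3]), (65, false, [0, 1, 2, 0, 4, 0, 4, 3, 4, 3, 4, 0, 4, 0, 4, 3, 4]), (64, true, [2, 0, 4, 0, 1, 3, 1, 0, 4, 3, 4, 3, 4, 3]), (65, false, [0, 1, 0, 4, 3, 4, 3, 4, 0, 4, 0, 4, 3, 4, 3, 4]), (64, true, [1, 0, 1, 0, 4, 3, 4, 3, 4, 0, 1]), (253, true, [2, 4, 0, 4,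 0, 4, 3, 4, 3, 4, 0, 4, 3, 4]), (154, false, [0, 1, 0, 1, 0, 1, 3, 1, 0, 4]), (237, true, [2, 4, 0, 4, 3, 1, 0, 1, 0, 4, 3, 1, 3, 4]), (125, true, [0, 4, 0, 4, 3, 4, 0, 4, 0, 1]), (169, false, [1, 3, 4, 3, 1, 0, 4, 3, 4, 3, 1, 0, 4]), (273, true, [2, 0, 1, 0, 1, 0, 1, 3, 1, 3, 4, 0, 4]), (89, true, [4, 0, 1, 0, 1, 0, 4, 3, 1, 3, 1]), (245, false, [3, 1, 3, 4, 3, 4, 0, 4, 3, 1, 3, 4, 0, 4, 3])]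
def r198 : List (ℕ × Bool × List ℕ) := [(70, false, [1, 3, 4, 0, 4, 3, 4, 3, 4, 0, 4, 0, 4, 0, 4, 0]), (181, false, [2, 4, 0, 4, 0, 4, 0, 4, 3, 4, 0, 1, 3]), (89, true, [1, 2, 0, 4, 3, 4, 3, 4, 3, 4, 0, 4, 0, 4, 3, 4]), (63, true, [4, 0, 4, 0, 4, 3, 4, 3, 1, 0, 4]), (280, true, [0, 4, 3, 1, 3, 4, 0, 4, 0, 4, 3, 4, 3]), (218, false, [3, 4, 3, 1, 3, 1, 3, 4, 3, 4, 3]), (123, true, [0, 2, 4, 0, 4, 3, 1, 3, 1, 0, 1, 0, 4, 3, 1]), (172, true, [0, 2, 4, 0, 4, 0, 4, 3, 1, 3, 1]), (255, true, [3, 1, 0, 1, 0, 1, 0, 4, 3, 1, 3]), (156, true, [3, 4, 0, 4, 0, 4, 3, 4, 3, 4, 0, 4]), (219, true, [0, 1, 0, 1, 0, 1, 0, 4, 3, 1, 3, 4, 0, 4]), (51, false, [1, 0, 1, 3, 4, 0, 1, 0, 1, 3, 4, 0, 1, 0, 1]), (86, true, [2, 4, 3, 1, 3, 4, 0,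 4, 3, 1, 0, 4, 0, 4, 3, 1]), (21, false, [1, 3, 4, 0, 1, 3, 1, 0, 1, 0, 4, 3, 4]), (253, true, [2, 4, 0, 4, 0, 1, 3, 1, 3, 4, 0, 1, 0, 1, 0, 1, 3]), (90, true, [1, 2, 0, 1, 3, 1, 3, 1, 0, 1, 0, 1, 3, 1, 3, 4, 0, 1]), (257, true, [0, 2, 4, 0, 4, 3, 1, 3, 1, 0, 1, 3, 1, 0, 1]), (57, true, [0, 4, 3, 1, 3, 4, 0, 4, 3, 1, 3, 1, 0, 4, 3, 1]), (86, true, [3, 1, 3, 1, 3, 1, 3, 4, 0, 4, 3, 1, 0, 4, 0, 4]), (237, true, [2, 4, 0, 1, 3, 4, 0, 4, 3, 4, 3, 4, 3, 1, 3]), (109, true, [0, 2, 4, 0, 1, 3, 4, 3, 4, 3, 1, 3]), (266, false, [2, 0, 1, 3, 4, 0, 4, 3, 1, 3, 1, 0, 4, 0, 4]), (214, true, [1, 3, 1, 3, 4, 0, 4, 0, 4, 3, 4, 0, 1, 3, 1]), (20, true, [2, 4, 0, 4, 3, 4, 0, 4, 0, 1, 3, 1, 0]), (219, true, [0, 2, 4, 3, 4, 0, 1, 3, 1,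 3, 4, 0, 4, 3]), (179, true, [1, 0, 1, 2, 0, 4, 3, 1, 3, 1, 0, 1]), (242, true, [3, 1, 0, 4, 3, 4, 0, 1, 3, 1, 3, 1, 0, 1, 0]), (161, false, [3, 1, 0, 1]), (221, true, [4, 0, 1, 0, 1, 3, 4, 0, 1, 0, 1, 3, 1, 0]), (90, true, [1, 0, 1, 3, 1, 3, 1, 0, 1, 0, 1, 3, 4, 0, 4, 0]), (71, false, [2, 0, 1, 3, 1, 0, 4, 3, 4, 0, 1, 0, 1, 0, 4]), (274, true, [0, 1, 0, 1, 2, 0, 1, 3, 4, 0, 4]), (157, false, [2, 4, 3, 4, 0, 4, 3, 4, 3, 1, 0, 1, 3, 1]), (218, false, [1, 2, 0, 4, 0, 4, 3, 1, 0, 1, 0, 1]), (88, true, [4, 3, 4, 3, 4, 0, 1, 3, 1, 3, 4, 3, 4, 3]), (212, true, [2, 4, 3, 1, 3, 4, 0, 4, 0, 1, 3, 4, 3, 4, 0, 4]), (239, true, [1, 0, 4, 0, 1, 3, 4, 3, 4, 0, 1]), (112, false, [0, 1, 2, 0, 4, 0, 4, 3, 4, 0, 4, 3, 4, 0, 1]), (172,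 true, [1, 0, 1, 3, 1, 3, 1, 3, 4, 0, 4, 3, 1, 3, 1, 3]), (221, true, [2, 0, 4, 3, 4, 0, 4, 0, 4, 0, 4, 3, 1, 3, 4]), (281, false, [3, 4, 0, 1, 3, 1, 3, 4, 0, 1, 3, 1, 0]), (121, false, [3, 4, 0, 4, 0, 1, 3, 4, 0, 4, 3, 1, 3, 1]), (62, false, [3, 1, 3, 4, 0, 1, 3, 1, 0, 4, 0, 4, 0, 4, 3]), (243, true, [0, 4, 3, 4, 3, 1, 0, 1, 3, 1, 0, 4]), (63, true, [4, 3, 4, 0, 4, 0, 4, 0, 1]), (71, false, [1, 0, 4, 3, 4, 3, 4, 0, 1, 3, 1, 3, 4, 3, 4]), (72, false, [4, 0, 4, 3, 4, 0, 4, 0, 1]), (161, false, [4, 0, 1, 3, 1, 0, 1, 0, 4]), (31, false, [1, 0, 4, 3, 1, 3, 1, 0, 1, 0, 4, 3, 1]), (150, true, [0, 1, 0, 1, 3, 1, 0, 1, 3, 4, 3, 1, 0, 1]), (123, true, [1, 3, 4, 3, 4, 3, 4, 0, 4, 0, 1, 0]), (57, true, [2, 0, 1, 0, 4, 3, 1, 0,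 1, 0, 4, 3, 1, 3, 1]), (151, false, [4, 3, 1, 3, 1, 0, 4, 3, 1, 0, 1, 0, 1, 3, 4]), (75, true, [1, 2, 0, 4, 3, 4, 0, 1, 3, 1, 0, 1, 0, 1]), (183, false, [1, 0, 2, 4, 3, 1, 0, 4, 0, 4, 3, 4, 3, 4, 0, 1]), (170, false, [0, 2, 4, 3, 1, 0, 1, 0, 4, 0, 4, 0, 1, 0]), (270, true, [0, 4, 3, 1, 0, 1, 0, 4, 3, 4, 3, 1, 3]), (219, true, [1, 0, 1, 0, 2, 4, 3, 4, 3, 4, 3]), (281, false, [1, 2, 0, 1, 3, 1, 3, 1, 3, 1, 0, 4]), (61, true, [1, 0, 4, 3, 1, 3, 4, 0, 4, 3, 4, 0, 1]), (181, false, [0, 4, 3, 1, 0, 1, 0, 4, 0, 4, 3, 4, 3]), (281, false, [0, 4, 3, 4, 3, 1, 0, 1, 0, 1, 3, 1, 0, 4]), (145, false, [0, 4, 3, 1, 0, 4, 3, 4, 3, 4, 0, 4, 0, 1]), (72, false, [2, 0, 1, 0, 4, 3, 4, 3, 4, 0, 4, 3, 1, 0, 1]), (31, false, [0, 1, 3, 1,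 3, 1, 3, 4, 0, 1, 0]), (19, true, [4, 0, 1, 3, 1, 0, 1, 0, 4, 0]), (232, true, [3, 1, 3, 4, 0, 4, 0, 4, 0, 1, 3, 1, 0, 4]), (19, true, [2, 4, 0, 4, 3, 1, 3, 4]), (109, true, [3, 1, 0, 1, 3, 4, 3, 4, 3, 4, 0, 4, 3, 4, 0]), (112, false, [0, 4, 0, 4, 3, 4, 3, 4, 3, 1, 0, 1, 3, 1, 3]), (276, true, [1, 0, 4, 0, 4, 3, 1, 0, 1, 3, 4, 3, 4, 3, 1, 3]), (86, true, [2, 4, 3, 4, 0, 4, 3, 4, 0, 1]), (270, true, [2, 0, 1, 3, 1, 0, 1, 0, 1, 3, 1, 3, 1, 0, 4, 3, 4]), (281, false, [1, 0, 4, 3, 1, 3, 1, 3, 1, 0, 4, 0, 4]), (214, true, [0, 2, 4, 0, 4, 3, 4, 3, 1]), (119, true, [0, 1, 3, 4, 0, 4, 0, 4, 3, 4, 0, 1, 3, 4]), (167, true, [3, 1, 0, 1, 0, 4, 3, 4, 0, 4, 0, 1, 3, 4]), (273, false, [4, 3, 4, 0, 4, 3, 4, 0, 1, 3, 4]), (121, true,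 [2, 0, 4, 0, 4, 3, 1, 3, 1, 3, 1, 0, 4, 0]), (71, false, [2, 0, 1, 0, 1, 0, 1, 3, 1, 3, 4, 3, 4, 0, 4]), (212, true, [0, 4, 0, 4, 3, 1, 3, 1, 0, 4, 3, 1]), (89, true, [0, 1, 0, 1, 3, 4, 0, 4, 0, 4, 3, 4, 3, 4]), (156, true, [0, 4, 0, 4, 3, 1, 0, 1, 3, 4, 0, 4, 0, 4, 3]), (170, false, [0, 1, 0, 1, 0, 1, 0, 1, 3, 1, 3, 4, 3, 4, 3]), (244, true, [2, 4, 3, 4, 0, 4, 0, 1, 3, 4, 0, 4, 0, 4]), (88, true, [1, 0, 1, 2, 0, 1, 0, 1, 0, 4, 0, 4, 0, 1, 0]), (183, false, [1, 3, 1, 0, 4, 0, 4, 0, 1, 3, 4, 3, 1]), (29, false, [0, 1, 3, 4, 3, 4, 0, 1, 3, 1, 3]), (276, true, [2, 0, 1, 3, 1, 3, 4, 3, 4, 3, 4, 3, 4]), (86, true, [3, 1, 3, 4, 0, 4, 0, 4, 3, 4, 0, 1, 0, 1]), (63, true, [3, 1, 0, 1, 0, 1, 3, 4, 0, 4, 3, 1]), (70, false, [2,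 4, 3, 1, 3, 1, 0, 4, 3, 1, 3, 1, 0]), (63, true, [3, 4, 0, 1, 3, 1, 3, 1, 3, 4, 0, 1, 3]), (71, false, [1, 0, 4, 3, 1, 3, 1, 0, 1, 3, 1, 0]), (157, true, [1, 0, 1, 3, 1, 3, 1, 0, 4, 3, 4, 3, 1]), (151, false, [2, 0, 4, 3, 4, 3, 4, 0, 4, 0, 4, 3, 1]), (219, true, [1, 0, 4, 3, 4, 0, 4, 3, 1, 3, 1, 0, 1]), (21, false, [1, 0, 1, 2, 0, 4, 0, 4, 3, 4, 0, 1, 3, 4]), (237, true, [1, 0, 1, 0, 1, 0, 4, 0, 4, 3, 1, 3, 1, 3]), (255, true, [1, 2, 0, 1, 3, 4, 3, 4, 0, 1, 3, 4, 3, 1]), (268, true, [3, 4, 3, 4, 0, 1, 3, 1, 0, 4, 0, 4, 0, 4, 3, 1]), (202, false, [1, 2, 0, 1, 0, 4, 0, 4, 0, 1, 3, 4, 3, 1]), (268, true, [0, 2, 4, 3, 1, 0, 1, 3, 4, 3, 4, 0, 4, 3, 1]), (202, false, [3, 1, 0, 4, 0, 4, 3, 4, 3, 4, 0, 1]), (179, true, [1,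 0, 1, 0, 1, 3, 1, 0, 1, 0, 4, 0, 4, 0, 1]), (253, true, [0, 4, 3, 4, 0, 4, 0, 4, 3, 4, 3, 4, 3, 4, 0]), (150, false, [0, 1, 2, 0, 1, 3, 1, 3]), (221, true, [3, 1, 3, 1, 0, 1, 0, 1, 3, 4, 0, 4, 3, 1, 0]), (60, false, [1, 0, 1, 0, 1, 3, 4, 0, 4, 0, 4, 3, 1, 3]), (257, false, [0, 4, 3, 4, 0, 1, 0, 1, 3, 1, 0, 4]), (221, true, [1, 0, 2, 4, 3, 1, 0, 4, 0, 4, 3, 4, 3, 4, 0, 1, 0]), (216, false, [1, 3, 4, 3, 4, 3, 1, 0, 1, 0, 4])]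
def r199 : List (ℕ × Bool × List ℕ) := [(154, true, [1, 0, 4, 3, 4, 3, 4, 0, 4, 3, 1, 3, 4, 0]), (103, true, [0, 1, 3, 1, 3, 4, 3, 4, 3, 4, 3, 1, 0]), (258, true, [1, 2, 0, 4, 3, 1, 0, 1, 0, 4, 3, 4, 3, 4, 0]), (213, true, [3, 1, 3, 1, 3, 4, 3, 4, 0, 1, 3, 4, 3, 4]), (90, true, [1, 0, 4, 0, 1, 3, 4, 3, 4, 3, 4, 3]), (120, true, [2, 0, 4, 3, 1, 0, 1, 0, 1, 3, 1, 3, 1, 0, 1]), (88, false, [1, 3, 1, 0, 1, 0, 4, 0, 4, 3, 1, 3, 1, 3]), (171, true, [0, 1, 0, 4, 3, 4, 0, 1, 0, 1, 0, 4, 0, 4]), (96, false, [4, 0, 4, 3, 4, 0, 4, 3, 4, 0, 4, 0, 4, 3]), (217, true, [2, 0, 4, 0, 4, 3, 4, 3, 1, 0, 1, 3, 4]), (5, false, [4, 3, 4, 3, 4, 0, 1, 0, 1, 3, 4, 0, 1, 0]), (199, false, [0, 1, 0, 4, 3, 4, 0, 4, 0, 1, 3, 1, 0, 1, 3, 1, 3]),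 (67, false, [4, 0, 1, 3, 4, 0, 4, 0, 4, 0, 4, 3, 1, 3, 1]), (182, false, [2, 4, 0, 4, 0, 1, 3, 1, 3, 4, 3, 4, 3, 4]), (248, true, [3, 4, 0, 4, 0, 1, 3, 1, 3, 1, 3, 1]), (171, true, [3, 4, 3, 4, 3, 1, 0, 1]), (5, false, [3, 1, 0, 4, 3, 1, 0, 1]), (110, false, [3, 1, 0, 1, 3, 1, 3, 4, 0, 4, 0, 4, 0]), (69, false, [1, 2, 0, 4, 0, 4, 0, 4, 3, 4, 3, 4, 0, 4]), (235, false, [3, 1, 3, 1, 0, 1, 0, 4, 3, 1, 0, 1, 0]), (248, true, [3, 1, 3, 4, 0, 4, 0, 4, 0, 1, 3, 1, 0, 4]), (81, true, [3, 1, 3, 1, 0, 4, 3, 4, 0, 1, 0, 1, 0, 4, 3]), (28, false, [0, 4, 0, 1, 0, 1, 0, 1, 3]), (12, false, [0, 1, 0, 1, 0, 1, 3, 4, 3]), (103, false, [1, 3, 1, 3, 1, 3, 4, 0, 4, 3, 1, 0, 4, 0]), (180, false, [1, 2, 0, 4, 0, 4, 3, 4, 3, 4, 0, 1, 3, 1,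 0]), (165, true, [3, 4, 0, 4, 0, 1, 3, 4, 3, 4, 0, 4, 0]), (80, true, [1, 2, 0, 1, 3, 4, 0, 1, 0, 1, 0, 1, 0, 4]), (254, true, [0, 1, 3, 1, 3, 4, 0, 4, 3, 4, 0, 4, 0, 4, 3, 1]), (199, true, []), (61, false, [1, 3, 1, 3, 4, 0, 4, 0, 4, 3, 4, 0, 1, 0, 4]), (54, false, [0, 1, 0, 4, 3, 1, 0, 1, 3, 4]), (254, false, [4, 3, 1, 0, 4, 0]), (78, false, [1, 0, 4, 3, 1, 0, 4]), (34, false, [1, 0, 1, 3, 1, 0, 4, 3, 4, 3, 4, 0]), (9, true, [0, 1, 0, 4, 3, 4, 3, 4, 3, 1, 0, 4, 0]), (92, true, [2, 4, 3, 1, 3, 1, 3, 1, 3, 4, 3, 4, 0, 1]), (67, false, [1, 3, 1, 3, 4, 0, 4, 0, 4, 0, 1, 3, 4, 0, 4]), (165, false, [2, 4, 3, 1, 3, 1, 0, 1, 3, 4, 0, 1]), (100, true, [0, 1, 0, 1, 0, 1, 3, 4, 0, 1, 0, 4]), (110, false, [0, 1, 3, 4, 0, 1, 0,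 1, 3, 4, 3, 1, 0, 1, 3, 1]), (248, false, [3, 1, 3, 1, 0, 4, 0, 4, 3, 1, 3, 1]), (66, false, [2, 0, 4, 3, 4, 3, 1, 0, 1, 0, 1, 0, 1, 3]), (116, false, [4, 3, 1, 3, 1, 3, 1, 0, 1, 0]), (176, false, [4, 0, 4, 3, 4, 0, 4, 3, 4, 0, 1, 0, 4]), (180, true, [2, 4, 3, 4, 3, 1, 0, 1, 3, 4, 3, 1]), (72, true, [0, 2, 4, 3, 4, 0, 1, 3, 4, 3, 4, 0, 4]), (122, false, [0, 2, 4, 3, 4, 0, 1, 3, 1, 0, 1, 3, 1]), (170, true, [1, 3, 1, 3, 4, 0, 4, 3, 4, 0, 1, 3, 1]), (199, false, [1, 0, 1, 0, 1, 3, 4, 0, 4, 3, 4, 3, 1, 0, 4]), (85, true, [4, 0, 1, 0, 1, 0, 1, 3, 4, 0, 4]), (56, false, [1, 0, 4, 0, 4, 0, 1, 3, 4, 3, 4, 0, 4, 0, 4]), (90, true, [1, 0, 1, 2, 0, 4, 0, 4, 0, 4, 3, 1, 3, 1, 0]), (254, false, [2, 0, 4, 0, 1, 0, 1, 3, 4, 3, 4,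 0, 1, 3, 4]), (114, false, [3, 4, 0, 1, 3, 4, 3, 4, 3, 4, 0, 1, 0, 4]), (114, false, [2, 0, 4, 3, 4, 0, 4, 0, 4, 0, 4, 3, 1, 3]), (12, true, [0, 1, 3, 4, 3, 4, 0, 1, 3, 1, 3]), (25, true, [1, 2, 0, 4, 3, 1, 3, 1, 0, 1, 3, 1, 0, 1, 0]), (116, false, [3, 4, 3, 4, 3, 4, 3, 1, 0, 4, 0]), (66, true, [2, 4, 0, 1, 3, 1, 0, 1, 0, 1, 3, 1, 3, 4, 3]), (120, true, [2, 0, 4, 3, 1, 0, 1, 0, 1, 3, 1, 3, 1, 0, 1]), (4, true, [1, 3, 4, 0, 4, 0, 4, 3, 1, 0, 4, 0, 4, 0, 4]), (65, false, [4, 0, 1, 3, 1, 3, 4, 3, 4, 0, 1, 3, 4, 3]), (59, false, [1, 2, 0, 4, 3, 1, 0, 1, 0, 1, 3, 1, 3, 1, 0, 1]), (27, true, [3, 1, 0, 4, 3, 4, 3, 4, 3, 1, 0, 1, 3, 1, 3]), (59, true, [0, 1, 3, 1, 0, 1, 3, 4, 0, 4, 3, 4, 0, 4]), (250, true, [2, 4, 0, 4, 3,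 4, 0, 1, 0, 1, 0, 4, 3, 1, 3]), (81, false, [0, 2, 4, 3, 1, 3, 1, 0, 4, 3, 4, 0, 4, 3, 4, 3]), (194, true, [4, 0, 1, 3, 1, 0, 1, 3, 1, 3, 4, 0]), (92, false, [4, 0, 4, 3, 4, 0, 4, 3, 1, 0, 1, 0, 1, 3, 1, 3, 4]), (192, true, [3, 4, 3, 4, 0, 4, 0, 4, 3, 4, 0, 1]), (154, true, [1, 0, 2, 4, 3, 4, 3, 4, 0, 1, 0, 1, 3, 1, 3, 1]), (3, false, [2, 0, 4, 0, 1, 3, 1, 3, 4, 0, 1, 0, 1]), (85, true, [4, 3, 1, 0, 1, 0, 1, 3, 4, 0, 4, 3, 1, 3, 1]), (1, true, [0, 2, 4, 0, 4, 0, 4, 3, 4, 0]), (10, false, [4, 0, 4, 0, 1, 3, 1, 0, 1, 0, 1, 3, 1]), (171, false, [1, 0, 2, 4, 0, 1, 0, 1, 0, 1, 0, 4, 3]), (126, false, [0, 1, 0, 1, 0, 2, 4, 0, 4, 3, 1, 3, 1, 3, 1, 0, 1, 0]), (199, true, []), (135, false, [3, 4, 3, 4, 3, 4, 3, 4, 0, 1, 0, 1,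 3, 4, 0]), (65, true, [0, 1, 3, 1, 0, 1, 3, 4, 3, 4, 3, 1, 0, 1, 3, 1]), (151, true, [0, 2, 4, 0, 1, 3, 4, 0, 4, 3, 1, 3, 1, 0, 1, 3]), (224, false, [4, 3, 1, 3, 1, 0, 1, 3, 4, 3, 4, 0, 1]), (22, false, [2, 0, 1, 0, 1, 3, 1, 0, 4, 0, 4, 3, 4, 0]), (119, true, [0, 2, 4, 0, 4, 3, 4, 3, 4, 3, 1, 0, 4]), (275, true, [2, 0, 4, 0, 4, 3, 1, 3, 1, 0, 1, 3]), (65, false, [2, 4, 0, 4, 0, 1, 3, 1, 0, 1, 0, 1, 3, 4, 3, 4]), (92, true, [1, 0, 1, 3, 1, 3, 1, 0, 4, 3, 4, 3, 1, 0]), (41, true, [2, 0, 1, 3, 1, 3, 4, 3, 4, 0, 1, 0, 4]), (250, true, [0, 4, 3, 1, 3, 1, 0, 1, 0, 1, 0, 1, 3, 1, 3, 4]), (25, true, [1, 3, 1, 3, 1, 3, 1, 0, 4, 3, 4, 0, 4, 0]), (137, false, [2, 0, 4, 3, 4, 0, 1, 3, 1, 3, 1, 0, 4, 3, 4, 3]), (5, false, [0, 1,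 0, 1, 3, 4, 3, 1, 0, 1, 0, 4, 0]), (7, true, [3, 1, 0, 1, 3, 1, 3, 4, 0, 1, 3, 1, 3]), (28, true, [1, 0, 1, 3, 1, 0, 1, 0, 4, 3, 4, 0]), (275, false, [3, 4, 3, 4, 0, 1, 0, 1, 3, 4, 3, 4, 3]), (277, true, [1, 2, 0, 1, 3, 4, 0, 4, 0, 4, 3, 4, 0, 1, 3, 4, 3]), (210, true, [2, 4, 0, 1, 0, 1, 0, 1, 3, 1, 3, 4]), (88, false, [2, 0, 4, 3, 1, 0, 4, 3, 4, 0, 4, 0, 4, 3, 1]), (66, false, [1, 0, 1, 0, 1, 0, 4, 3, 1, 3, 1, 0, 1, 0, 1, 3]), (193, false, [0, 1, 3, 4, 3, 1, 0, 1, 3, 1, 3, 4, 0, 1, 3]), (113, false, [4, 0, 4, 3, 4, 0, 4, 3, 4, 0, 4]), (34, true, [4, 3, 4, 3, 1, 0, 4, 0, 4, 3, 4, 0]), (251, false, [3, 1, 0, 4, 3, 4, 3, 1, 0, 1, 3, 4, 0]), (254, false, [2, 0, 1, 0, 4, 3, 4, 0, 4, 3, 4, 3, 1]), (47, false, [4, 3, 1, 0,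 1, 3, 1, 3, 4, 0, 4, 3, 4]), (234, true, [4, 3, 1, 0, 4, 3, 1, 3, 1]), (136, false, [0, 2, 4, 3, 1, 3, 1, 0, 4, 0, 4, 3, 4]), (77, false, [0, 2, 4, 3, 1, 0, 1, 0, 4, 0, 4, 3, 1, 0]), (210, true, [0, 1, 2, 0, 4, 0, 4, 0, 4, 3, 1, 3, 1]), (67, false, [4, 0, 1, 0, 1, 0, 4, 0, 4, 0, 4, 0, 4, 3]), (141, false, [0, 2, 4, 0, 1, 3, 1, 3, 1, 3, 4, 0, 4, 3, 4])]
def r200 : List (ℕ × Bool × List ℕ) := [(234, false, [3, 1, 0, 1, 0, 1, 3, 1, 0, 1, 3, 1, 0, 1, 0, 1, 3]), (125, false, [1, 0, 1, 0, 1, 0, 2, 4, 3, 4, 0, 1, 3, 4, 3]), (105, false, [1, 0, 1, 0, 2, 4, 3, 4, 3, 4, 3, 1, 0, 1, 3]), (7, true, [4, 3, 1, 0, 1, 3, 4, 3, 1, 0, 4, 0, 4, 3]), (281, true, [0, 1, 3, 1, 0, 1, 3, 1, 3, 4, 3, 4, 3, 4, 3]), (106, false, [4, 0, 1, 3,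 1, 3, 1, 0, 1, 3, 4]), (57, true, [0, 1, 3, 1, 0, 4, 3, 1, 3, 1, 0, 4, 0, 1]), (41, true, [0, 1, 0, 2, 4, 0, 4, 0, 4, 3, 1, 0, 4, 0]), (280, true, [0, 1, 0, 4, 3, 1, 3, 1, 0, 1]), (17, false, [0, 1, 0, 1, 3, 4, 0, 4, 0, 4, 0, 1, 3, 4, 3]), (236, false, [1, 0, 1, 0, 1, 3, 4, 3, 1]), (276, false, [3, 4, 0, 4, 0, 1, 3, 4, 0, 4, 3, 1, 3, 4, 0, 4]), (67, false, [2, 4, 3, 4, 0, 4, 3, 1, 0, 4, 0, 4, 3, 4]), (171, false, [2, 4, 3, 4, 3, 1, 0, 1, 3, 1, 0, 1, 3, 4, 3, 4, 3]), (2, false, [1, 3, 4, 3, 4, 0, 4, 0, 4, 3, 4, 3, 1, 0]), (219, true, [2, 4, 0, 1, 0, 1, 3]), (68, false, [0, 2, 4, 0, 1, 0, 4, 3, 1, 0, 1, 0, 1, 3, 1, 0, 1]), (106, false, [3, 1, 3, 1, 0, 1, 3, 1, 3, 1]), (29, false, [3, 4, 3, 4, 0, 4, 0, 4, 0, 4, 3, 4, 3,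 1]), (267, true, [2, 0, 4, 0, 1, 0, 1, 3, 4, 0, 4, 3, 4, 3]), (204, false, [0, 2, 4, 0, 1, 0, 4, 3, 4, 0, 1, 3, 1, 3, 4, 0]), (52, false, [4, 3, 1, 0, 1, 3, 4, 3, 4, 0, 1]), (121, true, [2, 4, 3, 4, 0, 4, 0, 4, 3, 4, 0, 1, 3, 4]), (69, true, [2, 0, 1, 3, 1, 0, 1, 0, 1, 3, 4, 0, 4]), (122, false, [1, 3, 1, 3, 1, 0, 4, 3, 4, 3, 4, 0, 1, 3, 4, 0]), (72, true, [0, 1, 2, 0, 4, 0, 1, 3, 1, 0, 4, 3, 1, 0, 1]), (252, false, [3, 1, 0, 1, 3, 1, 0, 1, 0, 4, 0, 4, 3, 1, 0]), (200, true, []), (218, false, [2, 0, 4, 3, 4, 0, 1, 0, 1, 3, 1, 0, 4, 0, 4, 3]), (151, true, [2, 0, 1, 0, 4, 0, 4, 0, 4, 3, 4, 3, 1]), (188, true, [0, 2, 4, 0, 4, 0, 1, 3, 1, 3, 1, 0, 1, 0, 1]), (4, false, [1, 0, 1, 3, 4, 3, 4, 3, 4, 0, 1, 3, 1]), (274, true,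 [2, 4, 0, 1, 3, 1, 0, 4, 0, 4, 3, 1]), (104, false, [0, 2, 4, 3, 4, 3, 1, 0, 4, 3, 4, 3, 4, 0]), (51, false, [1, 0, 4, 3, 1, 3, 4, 0, 4, 0, 4, 0, 1, 3, 4]), (270, false, [0, 1, 0, 1, 3, 1, 3, 1, 0, 4, 3, 4, 3, 1, 0]), (170, true, [3, 1, 0, 1, 3, 1, 3, 4, 0, 1, 3, 1, 3, 4]), (248, false, [3, 1, 0, 1, 3, 1, 3, 4, 0, 4, 0, 4, 3, 4, 3, 4]), (23, false, [1, 0, 1, 3, 1, 3, 4, 0, 1, 0, 1, 3, 1, 0, 1]), (277, true, [2, 0, 1, 0, 4, 0, 4, 3, 1, 3, 4, 0]), (109, false, [3, 1, 0, 1, 3, 4, 0, 4, 0, 4, 3, 4, 0, 4, 0]), (153, false, [2, 4, 0, 1, 3, 1, 3, 4, 0, 1, 0, 1, 0, 1]), (183, false, [2, 4, 3, 4, 3, 4, 3, 1, 0, 4, 3, 4, 3, 1, 0, 1]), (182, true, [0, 4, 3, 4, 3, 4, 0, 4, 3, 1, 3, 1, 3, 4, 0, 4, 0]), (252, true, [0, 4, 0, 4, 0,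 4, 3, 1, 3, 1, 3, 4, 0]), (58, false, [1, 0, 2, 4, 0, 4, 0, 4, 3, 4, 0, 4, 3, 4]), (237, true, [2, 0, 4, 3, 1, 3, 1, 3, 4, 0, 4, 3, 4, 3]), (103, false, [2, 0, 1, 0, 1, 0, 1, 3, 4, 0, 4, 3, 1, 3]), (183, true, [0, 1, 2, 0, 1, 3, 1, 3, 4, 0, 1, 0, 1, 3, 4, 0]), (57, false, [1, 0, 1, 2, 0, 1, 0, 4, 3, 4, 0, 4]), (266, true, [1, 3, 4, 0, 4, 3, 4, 0, 1, 0, 1, 3, 4, 3]), (71, true, [1, 0, 4, 3, 1, 0, 1, 3, 1, 3, 1, 0]), (276, true, [2, 4, 0, 1, 0, 1, 3, 1, 3, 1, 3, 1, 0, 1]), (218, true, [1, 0, 4, 3, 1, 0, 1, 3, 1, 0, 4, 0]), (67, true, [0, 1, 0, 4, 0, 4, 0, 4, 3, 1, 3, 1, 0, 1, 3]), (58, true, [1, 3, 4, 3, 4, 3, 1, 0, 1, 0, 4, 0, 4, 0]), (67, true, [0, 1, 3, 1, 0, 4, 0, 4, 3, 4, 0, 1, 0, 1, 3]), (235, false, [1, 3, 4, 0,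 1, 3, 1, 3, 4, 3, 4, 3, 4, 0, 4, 0]), (71, false, [0, 4, 0, 1, 3, 4]), (256, true, [0, 4, 0, 4, 3, 4, 0, 1, 0, 1, 3, 1, 0, 4]), (23, true, [0, 2, 4, 0, 4, 0, 1, 3, 1, 3, 4, 0, 4, 0, 1]), (171, false, [0, 4, 0, 4, 3, 1, 0, 1, 0, 1, 0, 4, 3, 1, 3, 4]), (7, true, [2, 0, 1, 0, 1, 0, 1, 0, 1, 3, 4, 3]), (68, false, [0, 1, 2, 0, 1, 0, 4, 3, 4, 3, 4, 3, 4, 0, 4, 3]), (64, true, [0, 1, 2, 0, 1, 0, 1, 3, 1, 3, 4, 3, 4, 0, 1, 3, 1, 0]), (269, false, [1, 2, 0, 1, 3, 4, 0, 4, 3, 4, 0, 4, 0, 4, 3]), (200, false, [0, 1, 0, 2, 4, 3, 4, 0, 1, 3, 1, 3, 4, 3]), (151, false, [1, 0, 1, 0, 1, 2, 0, 1, 0, 4, 3, 4, 3, 4, 0]), (255, false, [0, 1, 0, 1, 0, 4, 3, 1, 0, 1, 0, 4, 3, 4, 3, 4]), (49, false, [1, 3, 1, 0, 1, 0, 1, 3, 1, 3, 1, 3, 1]),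 (263, true, [0, 2, 4, 3, 1, 0, 1, 0, 1, 0, 4, 3, 4, 0]), (71, false, [2, 0, 1, 0, 1, 3, 4, 0, 1, 0, 1, 3, 4, 0, 1, 3]), (126, false, [4, 0, 1, 3, 1, 3, 4, 0, 4, 3, 1, 0, 4]), (267, true, [3, 1, 0, 1, 3, 1, 3, 1, 3, 4, 3, 4, 3, 4, 0]), (117, false, [3, 1, 3, 1, 3, 4, 0, 4, 3, 4, 0, 4, 3, 4]), (87, true, [0, 1, 2, 0, 1, 0, 1, 3, 1, 3, 4, 3, 4, 0, 1, 3, 1, 0]), (35, true, [1, 2, 0, 1, 3, 1, 3, 4, 0, 4, 3]), (154, false, [4, 0, 1, 3, 4, 0, 4, 0, 4, 3, 4, 0, 4]), (157, false, [4, 3, 4, 3, 4, 0, 1, 3, 1, 0, 1, 3, 4]), (149, true, [0, 2, 4, 0, 4, 3, 4, 0, 4, 0, 1, 3, 4]), (3, false, [1, 3, 4, 3, 4, 3, 1, 0, 1, 0, 4]), (172, true, [2, 0, 4, 0, 1, 3, 4, 0, 4, 3, 4, 3, 4, 0, 4, 3, 4]), (105, true, [3, 4, 0, 1, 0, 1, 0, 1, 0,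 1]), (105, true, [1, 0, 1, 0, 1, 2, 0, 1, 0, 4, 3, 1, 0]), (71, false, [0, 1, 0, 1, 0, 1, 2, 0, 4, 0, 4, 0, 1, 3, 1, 0, 1, 0, 1, 3, 1]), (215, true, [3, 1, 0, 4, 0, 4, 3, 4, 3, 4, 0, 4, 0, 4, 3]), (273, false, [2, 4, 3, 1, 0, 1, 3, 4, 0, 1, 0, 1, 0]), (70, false, [3, 1, 0, 1, 0, 4, 0, 4, 0, 4, 3, 4, 0, 4, 3]), (235, true, [0, 4, 0, 4, 0, 4, 3, 1, 3, 1, 0, 4, 3]), (179, false, [0, 2, 4, 0, 1, 3, 4, 3, 4, 0, 4, 0]), (116, true, [0, 4, 0, 4, 3, 1, 0, 1, 3, 1, 0, 1, 0]), (135, true, [1, 0, 4, 3, 1, 3, 1, 0, 1, 3, 4, 0, 4, 0, 4]), (119, true, [0, 1, 2, 0, 4, 3, 1, 3, 1, 0, 1, 3, 4, 3, 4]), (71, false, [2, 4, 0, 1, 0, 1, 0, 1, 3, 1, 3, 4]), (268, false, [0, 1, 0, 4, 0, 4, 0, 1, 3, 4, 3]), (101, false, [0, 2, 4, 0, 1, 3, 1,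 0, 4, 3, 4, 0]), (127, false, [0, 1, 0, 1, 2, 0, 4, 3, 4, 3, 4, 0, 4]), (72, true, [0, 1, 2, 0, 4, 0, 1, 3, 1, 0, 4, 3, 1, 0, 1]), (261, true, [1, 3, 4, 0, 4, 0, 4, 3, 4, 3, 4, 3, 4, 0, 1]), (122, false, [2, 0, 1, 0, 1, 0, 1, 0, 1, 0, 4, 3]), (114, true, [1, 0, 1, 3, 4, 3, 1, 0, 4, 3, 4, 0, 1, 0, 1]), (87, true, [0, 1, 2, 0, 1, 0, 1, 3, 1, 3, 4, 3, 4, 0, 1, 3, 1, 0]), (182, false, [0, 2, 4, 3, 1, 0, 1, 0, 4, 3, 4, 3, 1, 0, 4]), (243, true, [0, 1, 3, 4, 0, 4, 3, 1, 0, 1, 0, 1, 3, 1, 3, 1]), (183, true, [0, 1, 0, 4, 3, 4, 0, 1, 3, 4, 3, 4]), (22, false, [2, 0, 1, 3, 1, 0, 4, 0, 4, 0, 4, 3, 4, 0, 4, 3]), (158, true, [0, 1, 0, 1, 0, 4, 0, 4, 3, 4, 0, 1]), (209, true, [1, 0, 2, 4, 3, 1, 0, 1, 0, 4, 3, 4, 3, 4, 3]), (24,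 true, [2, 4, 0, 1, 3, 4, 0, 4]), (1, true, [0, 4, 3, 1, 3, 1, 0, 1, 3, 4, 0, 4, 0]), (7, false, [1, 0, 1, 3, 1, 3, 1, 3, 1, 0, 1]), (171, false, [4, 0, 1, 3, 1, 0, 1, 3, 1, 3, 4, 3, 4, 3, 4, 3])]
def r201 : List (ℕ × Bool × List ℕ) := [(220, true, [2, 0, 4, 3, 4, 0, 1, 3, 1, 0, 4, 0, 4, 3]), (65, false, [0, 2, 4, 3, 4, 3, 1, 0, 1, 0, 4, 0, 4, 0]), (116, true, [2, 4, 3, 4, 3, 4, 0, 1, 0, 1, 3, 1, 3, 4]), (176, true, [1, 3, 4, 0, 4, 3, 1, 3, 4, 0, 1]), (248, true, [4, 0, 1, 0, 4, 3, 4, 0, 4, 3, 4, 0]), (106, false, [1, 0, 1, 2, 0, 4, 3, 4, 3, 4, 3, 4, 3]), (176, true, [1, 3, 4, 0, 4, 0, 1, 3, 4, 0, 4, 3, 1, 3, 4]), (82, true, [2, 0, 1, 3, 4, 0, 4, 0, 4, 0, 4, 3, 1, 0, 4, 3]), (210, false, [0, 4, 3, 1, 0, 1, 0, 1, 3, 1,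 3, 1, 3, 4, 0]), (27, true, [0, 4, 3, 4, 0, 1, 0, 1, 3, 4, 0, 1]), (210, true, [0, 1, 0, 4, 0, 4, 3, 4, 3, 4, 3, 4, 3, 4, 0]), (106, false, [1, 0, 1, 0, 1, 0, 2, 4, 0, 1, 0, 1, 3, 1, 0]), (65, false, [1, 2, 0, 4, 3, 1, 3, 1, 0, 1, 0, 1, 3, 1, 3, 1, 3]), (176, true, [1, 0, 4, 3, 4, 0, 1, 0, 1, 3, 4, 3, 1]), (155, true, [0, 2, 4, 0, 1, 3, 1, 3, 4, 0, 1, 3, 1, 0, 1]), (220, true, [0, 2, 4, 0, 4, 3, 4, 0, 4, 3, 4, 3, 4, 0, 4]), (66, false, [0, 4, 0, 1, 3, 1, 0, 1, 0, 1, 0, 1]), (250, true, [0, 4, 3, 4, 0, 4, 0, 1]), (248, true, [0, 1, 3, 1, 3, 1, 3, 1, 3, 1, 3]), (106, true, [2, 0, 4, 0, 4, 0, 1, 3, 1, 3, 4, 0, 4, 0, 1]), (106, false, [0, 2, 4, 0, 4, 3, 1, 3, 1, 0, 4, 3, 1, 3]), (82, true, [2, 0, 4, 0, 1, 0, 1, 3, 1, 0,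 1, 3, 1]), (22, true, [3, 1, 0, 4, 0, 4, 3, 1, 0, 1]), (277, false, [4, 0, 4, 0, 4, 0, 1, 3, 1, 3, 4, 3]), (220, true, [2, 0, 1, 0, 4, 3, 4, 0, 4, 3, 4, 3, 4, 3, 1, 0, 4]), (46, true, [0, 1, 0, 1, 0, 1, 2, 0, 1, 0, 1, 3, 4, 3, 1, 0, 4]), (176, true, [3, 4, 3, 1, 3, 1, 0, 1, 3, 1, 0, 1, 3]), (277, false, [0, 1, 3, 1, 0, 1, 3, 4, 3, 4, 0, 4, 3, 1, 3, 4]), (248, true, [4, 3, 1, 0, 4, 0, 4, 3, 4, 3, 4, 0, 1, 0]), (82, true, [4, 3, 4, 3, 4, 3, 1, 0, 1, 3, 4, 0, 4]), (277, false, [0, 1, 0, 4, 0, 4, 3, 4, 3, 4, 0, 1, 0]), (210, false, [4, 0, 1, 3, 4, 0, 1, 0, 1, 0, 4]), (25, true, [0, 2, 4, 0, 1, 3, 1, 3, 1, 3, 4, 0, 4, 0]), (65, false, [1, 2, 0, 1, 3, 1, 0, 4, 0, 4, 0, 1]), (155, false, [2, 4, 0, 4, 3, 4, 3, 1, 0, 4, 3, 4,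 0, 4]), (46, true, [2, 0, 4, 0, 4, 0, 1, 3, 1, 0, 4, 3, 4, 3, 1]), (116, true, [2, 4, 3, 1, 0, 1, 3, 4, 3, 1]), (116, false, [1, 0, 1, 2, 0, 1, 0, 4, 3, 1]), (155, true, [1, 0, 1, 0, 1, 2, 0, 4, 3, 4, 0, 4, 3]), (210, false, [3, 1, 0, 1, 3, 4, 0, 4, 3, 1, 3, 4, 0, 4]), (27, true, [3, 1, 0, 4, 0, 4, 3, 1, 0, 1]), (250, true, [2, 4, 0, 4, 3, 4, 0, 1, 3, 4, 3]), (25, true, [0, 1, 0, 1, 2, 0, 1, 0, 1, 0, 4, 0, 4, 0, 4, 0]), (250, true, [1, 0, 1, 0, 1, 0, 1, 3, 4, 0, 4, 3, 1, 0, 1]), (220, true, [0, 1, 0, 2, 4, 0, 4, 0, 4, 3, 4, 3]), (116, true, [1, 0, 1, 2, 0, 4, 0, 1, 3, 1, 3, 4, 3, 4, 3]), (250, true, [0, 2, 4, 3, 4, 0, 4, 0, 4, 3, 1, 0]), (22, true, [4, 0, 1, 3, 1, 0, 1, 3, 1, 0, 1, 0, 4]), (66, false, [3, 4, 3, 4, 3,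 1, 0, 1, 3, 1, 0, 1, 3, 4, 0]), (65, false, [2, 0, 4, 0, 4, 3, 1, 0, 1, 0, 1, 3, 1, 3, 1, 0]), (248, true, [0, 2, 4, 0, 1, 0, 1, 3]), (155, true, [0, 1, 2, 0, 1, 3, 4, 0, 4, 0, 1, 3, 1]), (277, false, [1, 0, 4, 3, 4, 0, 4, 3, 4, 0]), (155, true, [2, 0, 1, 3, 4, 0, 4, 0, 4, 0]), (248, true, [0, 1, 0, 2, 4, 3, 4, 3, 4, 3, 4, 0]), (82, true, [3, 1, 0, 1, 3, 1, 0, 1, 0, 1, 3, 1]), (82, true, [0, 1, 0, 4, 3, 4, 3, 1, 0, 4, 0, 4]), (116, true, [2, 0, 1, 0, 4, 0, 4, 3, 4, 0, 1, 3]), (66, false, [1, 3, 4, 0, 1, 0, 1, 3, 4, 3, 1, 0, 1, 3, 4, 0]), (25, true, [0, 1, 0, 1, 2, 0, 1, 0, 4, 3, 1, 3, 1, 3, 1]), (66, false, [1, 0, 4, 3, 1, 3, 4, 0, 4, 0, 4, 0, 1, 3, 4, 0]), (250, true, [0, 1, 3, 4, 3, 4, 3, 4, 3, 1, 0, 1, 3]), (66,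 false, [1, 0, 1, 3, 1, 0, 1, 3, 1, 0, 1, 0, 1, 3]), (22, true, [0, 1, 3, 1, 0, 4, 0, 4, 0, 4, 3, 1]), (116, true, [2, 0, 4, 0, 4, 3, 1, 3, 1, 3, 4, 0]), (66, false, [0, 1, 3, 1, 3, 1, 0, 1, 3, 1, 0, 4, 3, 1]), (82, true, [2, 4, 0, 4, 3, 1, 3, 4, 0, 4, 3, 1, 0, 1]), (27, true, [0, 1, 3, 1, 0, 4, 0, 4, 0, 4, 3, 1]), (82, true, [3, 1, 0, 1, 0, 4, 3, 4, 3, 4, 3, 4, 0, 1]), (46, true, [0, 1, 2, 0, 1, 3, 1, 0, 1, 3, 4, 3, 4, 0, 4]), (65, false, [1, 0, 1, 2, 0, 4, 0, 4, 3, 1, 3, 4]), (248, true, [3, 4, 0, 4]), (220, true, [0, 2, 4, 0, 4, 3, 4, 3, 1, 0, 1, 0, 1, 0, 1, 3, 4]), (248, true, [0, 1, 0, 2, 4, 3, 4, 0, 1, 3, 1, 0, 4, 3, 4]), (250, true, [0, 2, 4, 0, 1, 3, 1, 3, 1, 3, 1, 0, 1, 0]), (176, true, [4, 0, 4, 3, 1, 3, 4,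 0, 4, 0, 1, 3, 1, 3]), (277, false, [0, 1, 0, 1, 3, 4, 3, 4, 0, 1, 3, 1, 0, 4, 0]), (22, true, [0, 4, 3, 4, 0, 1, 0, 1, 3, 4, 0, 1]), (277, false, [3, 1, 3, 4, 0, 4]), (210, true, [0, 1, 0, 4, 3, 1, 0, 1, 3]), (116, true, [2, 0, 4, 3, 4, 0, 4, 0, 4, 3, 4]), (106, true, [1, 0, 1, 0, 2, 4, 0, 4, 3, 4, 0, 1]), (210, true, [0, 1, 3, 1, 0, 1, 0, 1, 3, 4, 0, 4, 0, 1]), (106, false, [2, 0, 4, 3, 1, 0, 1, 3, 4, 3, 4, 0, 4, 0, 1]), (210, true, [1, 3, 1, 0, 1, 0, 4, 3, 1, 0, 1, 3, 4]), (250, true, [0, 4, 0, 1, 3, 1, 3, 1, 3, 1, 3, 4]), (176, true, [0, 1, 0, 2, 4, 0, 4, 3, 4, 0, 4, 3]), (66, false, [4, 3, 1, 3, 4, 0, 4, 3, 4, 3]), (106, false, [1, 0, 1, 0, 1, 2, 0, 1, 0, 1]), (65, false, [0, 1, 0, 1, 2, 0, 1, 0, 1, 3, 4, 0, 4,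 3, 1, 3, 1, 0]), (210, false, [3, 1, 3, 1, 0, 1, 3, 1, 0, 1, 0, 4, 0]), (65, false, [2, 4, 0, 1, 0, 1, 0, 4, 3, 1, 0, 1, 0, 1, 3, 1, 3]), (176, true, [1, 0, 4, 0, 4, 3, 4, 0, 1, 0, 1, 0, 4]), (220, true, [2, 0, 1, 0, 4, 3, 4, 3, 1, 0, 1, 0, 1, 0, 4, 0, 4]), (155, false, [2, 0, 4, 0, 4, 0, 4, 3, 4, 0, 4, 3, 4, 0, 1]), (46, true, [0, 2, 4, 0, 4, 3, 4, 0, 1, 0, 1, 3, 1, 0, 4, 3]), (277, false, [1, 3, 4, 3, 4, 0, 1, 3, 4, 3, 4, 3, 4]), (220, true, [0, 1, 2, 0, 1, 3, 1, 3, 1, 3, 1, 0, 4, 3]), (116, true, [1, 2, 0, 1, 0, 1, 3, 4, 3, 4, 0, 1, 3, 4]), (27, true, [4, 0, 1, 3, 1, 0, 1, 3, 1, 0, 1, 0, 4]), (66, false, [1, 0, 4, 3, 1, 0, 1, 3, 1, 3, 1, 3, 4, 3, 4, 0]), (82, true, [2, 0, 1, 0, 1, 3, 1, 3, 1, 0, 1, 0, 4, 3]), (65,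 false, [1, 2, 0, 1, 0, 4, 3, 1, 0]), (155, false, [0, 2, 4, 0, 1, 0, 1, 3, 1, 0, 1, 3, 4, 3]), (277, false, [1, 0, 4, 0, 1, 3, 1, 3, 1, 3, 1, 3, 1, 0, 4, 0]), (25, true, [0, 2, 4, 3, 4, 0, 1, 3, 1, 3, 4]), (220, true, [2, 0, 4, 0, 4, 3, 4, 0, 1, 0, 1, 0, 4, 3, 1, 3]), (176, true, [0, 1, 0, 1, 3, 1, 0, 1, 0, 4, 0, 4]), (248, true, [0, 1, 0, 1, 3, 4, 3, 1, 0, 1, 3, 1, 0, 1, 0]), (106, true, [2, 4, 3, 4, 0, 1, 3, 1, 0, 4, 3, 1]), (250, true, [0, 4, 0, 4, 3, 4, 3, 1, 0]), (155, true, [2, 0, 1, 0, 1, 3, 1, 3, 1, 3, 1])]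
def r202 : List (ℕ × Bool × List ℕ) := [(224, false, [2, 4, 3, 1, 0, 4, 3, 4, 0, 1, 0, 1, 3, 4, 0, 4]), (223, true, [1, 0, 1, 3, 1, 0, 4, 0, 4, 0, 4, 3, 1, 3, 1]), (147, true, [1, 0, 1, 3, 1, 0, 1, 3, 4, 3, 1, 0]), (222, false, [4, 0, 1, 0, 1, 0, 4, 3, 1, 0]), (204, true, [1, 2, 0, 1, 3, 1, 0, 4, 0]), (269, true, [1, 3, 1, 3, 4, 0, 4, 3, 1, 3, 1, 3, 4, 3, 4]), (146, false, [0, 4, 0, 1, 3, 4, 0, 4, 3, 4, 3]), (256, true, [0, 2, 4, 3, 4, 0, 4, 3, 1, 3, 1, 0, 1, 0, 4]), (202, false, [0, 1, 0, 2, 4, 3, 4, 0, 1, 3, 4, 3, 4, 3]), (157, true, [2, 0, 1, 0, 4, 0, 4, 3, 1, 0, 1, 3]), (153, false, [0, 1, 2, 0, 1, 3, 1, 3, 1, 3, 1, 0, 4, 0]), (74, true, [1, 0, 1, 0, 1, 0, 4, 3, 1, 0, 1, 3]), (51, true, [1, 3, 4, 0, 1, 3, 1, 0,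 1, 3, 4]), (223, true, [0, 1, 2, 0, 4, 3, 4, 3, 4, 0, 1, 3, 4, 0]), (269, true, [3, 1, 0, 4, 0, 4, 0, 1, 3, 4, 3, 4, 3, 1, 3]), (68, false, [1, 0, 2, 4, 3, 1, 0, 1, 0, 4, 0, 4, 3, 1, 3, 4]), (70, true, [1, 0, 2, 4, 0, 4, 3, 1, 3, 4, 0, 4, 0, 1, 3, 4]), (117, true, [3, 1, 0, 4, 3, 1, 0]), (117, true, [2, 4, 0, 1, 3, 1, 3, 4, 0, 4, 0, 4, 0, 4, 3, 1]), (50, true, [0, 1, 0, 1, 2, 0, 4, 0]), (172, false, [3, 4, 3, 4, 0, 4, 3, 1, 3, 1, 0, 1, 3, 4, 0]), (212, true, [0, 1, 0, 4, 3, 4, 3, 1, 0, 4, 0, 4, 3, 4, 0]), (119, true, [0, 1, 3, 4, 0, 1, 0, 1, 0, 1, 3, 1]), (134, true, [3, 1, 0, 1, 0, 1, 0, 4, 0, 4, 0]), (158, true, [2, 4, 3, 4, 3, 1, 0, 1, 0, 1, 0, 4, 0, 4, 0]), (256, true, [0, 4, 0, 1, 3, 1, 0, 4, 3, 1, 3, 1, 0, 1,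 0, 4]), (183, true, [0, 1, 3, 1, 0, 1, 3, 4, 0, 4, 3, 4, 0, 4]), (33, false, [3, 4, 0, 1, 0, 1, 3, 1, 3, 1, 3]), (281, true, [0, 2, 4, 0, 1, 3, 1, 0, 1, 0, 4, 3, 1, 3, 4]), (91, false, [1, 0, 4, 3, 1, 0, 1, 0, 4, 3, 1, 0, 1]), (96, true, [2, 0, 4, 0, 4, 0, 4, 3, 1, 3, 4, 0, 1]), (117, false, [3, 1, 3, 4, 0, 4, 0, 4, 0, 4, 3, 1]), (253, true, [2, 4, 3, 1, 3, 1, 3, 4, 0, 4, 3, 1, 3, 4]), (212, false, [0, 2, 4, 3, 4, 0, 1, 3, 1, 3, 1, 0, 1, 0, 4]), (212, false, [3, 4, 3, 1, 3, 1, 3, 1, 0, 1, 3, 4, 3, 4]), (273, true, [0, 1, 2, 0, 1, 3, 1, 0, 4, 3, 1, 0, 1]), (186, false, [3, 4, 0, 1, 0, 1, 0, 4, 3, 1, 3]), (249, false, [3, 1, 0, 4, 0, 4, 0, 1, 3, 4, 0]), (237, true, [3, 4, 3, 1, 3, 1, 0, 4, 3, 1, 3, 1, 3]), (270, false,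 [0, 1, 2, 0, 4, 3, 1, 3, 1, 0, 4, 3, 1, 0, 1, 0]), (124, false, [2, 0, 4, 0, 4, 0, 4, 0, 1, 3, 4, 3]), (107, false, [1, 3, 4, 3, 1, 0, 1, 0, 1, 0, 4, 3, 4, 0, 4]), (218, true, [2, 4, 0, 4, 3, 4, 0, 4, 3, 4, 3, 1, 0]), (165, false, [0, 4, 0, 1, 3, 1, 0, 4, 0]), (256, true, [3, 1, 3, 4, 0, 4, 0, 4, 3, 1, 0, 1, 0, 4]), (149, false, [0, 4, 3, 4, 3, 1, 0, 1, 3, 1, 3, 4, 3]), (198, false, [0, 2, 4, 0, 1, 3, 1, 3, 4, 3, 4, 0, 1]), (156, false, [1, 0, 1, 2, 0, 1, 3, 4, 0, 4, 3, 1, 3]), (164, false, [3, 1, 3, 4, 3, 4, 3, 1, 3]), (270, false, [3, 1, 3, 1, 0, 1, 3, 1, 3, 4, 3, 4, 0, 1, 0]), (242, false, [4, 3, 1, 3, 1, 0, 1, 0, 4, 3, 1, 3, 1]), (68, true, [3, 4, 0, 1, 0, 1, 0, 4, 3, 4, 0, 1, 0, 1]), (263, true, [0, 1, 2, 0, 4,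 3, 4, 0, 4, 3, 4, 0]), (244, false, [1, 0, 1, 0, 2, 4, 0, 4, 3, 1, 0, 4]), (97, true, [2, 0, 1, 3, 4, 3, 4, 0, 1, 3, 1]), (253, true, [1, 3, 1, 3, 4, 0, 1, 0, 1, 0, 4, 3, 1, 0]), (124, false, [4, 0, 1, 3, 1, 0, 1, 0, 1, 3, 1, 0, 4, 3, 1, 0]), (249, false, [0, 4, 3, 4, 0, 4, 0, 4, 0, 4, 3, 1]), (123, false, [0, 1, 0, 1, 0, 4, 0, 4, 0, 4]), (212, true, [2, 4, 0, 1, 3, 1, 0, 4, 0, 4, 0, 1]), (219, true, [0, 2, 4, 0, 1, 3, 4, 0, 4, 3, 1, 3, 4, 0, 4, 0]), (216, false, [4, 3, 4, 0, 4, 0, 4, 3, 1, 0, 4, 0, 4, 3]), (70, true, [1, 3, 1, 3, 1, 0, 4, 3, 1, 3, 1, 0, 1]), (253, true, [1, 0, 1, 0, 1, 2, 0, 1, 0, 1, 3, 1, 3, 1, 0, 1]), (187, true, [0, 1, 3, 1, 3, 4, 3, 4, 3, 4, 3, 1, 0]), (68, false, [0, 1, 3, 1, 0, 1, 3, 4, 0, 4,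 3, 4, 0, 4]), (218, true, [3, 4, 0, 4, 3, 4, 0, 1, 3, 4, 3, 1, 0]), (91, false, [0, 1, 2, 0, 1, 3, 1, 3, 1, 3, 4, 3, 4, 3, 4, 0, 4, 3]), (119, true, [3, 4, 3, 4, 3, 1, 0, 1, 3, 4, 3, 4, 3]), (153, false, [4, 0, 1, 0, 1, 3, 4, 0, 1, 0, 1, 3, 4, 3]), (68, true, [0, 1, 0, 1, 2, 0, 4, 3, 4, 3, 4, 0, 4, 0, 4, 3, 1, 0]), (80, false, [4, 3, 4, 0, 1, 0]), (123, false, [0, 2, 4, 3, 4, 0, 1, 3, 1, 0, 4, 0, 4, 0, 4, 0]), (264, false, [2, 4, 3, 1, 3, 4, 0, 1]), (172, false, [1, 2, 0, 4, 0, 4, 3, 1, 0, 1, 3, 4, 3, 1, 0]), (33, false, [1, 2, 0, 1, 0, 1, 0, 1, 0, 1, 0, 1, 0]), (183, true, [1, 0, 2, 4, 3, 1, 0, 1, 0, 4, 0, 4, 3, 1, 3, 4]), (117, false, [1, 0, 1, 3, 4, 0, 4, 3, 4, 3, 4]), (202, false, [1, 3, 4, 0, 1, 3, 1, 3, 4, 0,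 1, 3, 1]), (273, true, [3, 1, 3, 4, 0, 4, 0, 4, 3, 4, 3, 1, 3]), (149, false, [0, 2, 4, 3, 4, 3, 1, 0, 1, 3, 1, 3, 4, 3]), (186, false, [3, 1, 0, 1, 3, 1, 3, 1, 0, 4, 0, 4, 3]), (157, false, [3, 4, 0, 4, 0, 4, 3, 1, 0, 1, 0, 4, 0, 4]), (198, false, [4, 3, 1, 0, 1, 0, 1, 3, 1, 3, 4, 0]), (156, false, [3, 1, 3, 4, 0, 4, 3, 4, 0, 4, 0, 4, 3]), (269, true, [1, 0, 2, 4, 0, 4, 3, 4, 0, 1, 3, 4]), (241, false, [0, 1, 0, 2, 4, 0, 4, 0, 1, 3, 4, 0, 4, 0, 1]), (164, false, [0, 2, 4, 0, 4, 3, 4, 0, 1, 3, 4, 3, 4, 0]), (117, true, [1, 3, 1, 0, 4, 3, 1, 3, 4, 0, 4, 0, 4, 3]), (80, false, [2, 0, 4, 3, 4, 3, 4, 0, 4]), (253, true, [0, 4, 0, 1, 3, 1, 0, 1, 3, 1, 3, 4, 3, 4, 0]), (96, true, [4, 0, 4, 0, 4, 3, 1, 3, 4, 0, 1]), (219,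 true, [0, 1, 3, 1, 0, 1, 0, 4, 0, 4, 3, 1, 0, 1, 0, 4]), (224, false, [0, 4, 0, 4, 3, 1, 3, 4, 0, 4, 0, 1, 3, 1, 0]), (222, false, [1, 0, 2, 4, 0, 1, 0, 1, 3, 1, 0, 4, 0]), (257, false, [3, 4, 3, 1, 0, 1, 3, 1, 0, 1, 3, 4, 3]), (270, false, [2, 0, 1, 3, 1, 3, 1, 0, 1, 3, 1, 0, 1, 3]), (219, true, [0, 1, 3, 1, 0, 1, 3, 1, 0, 1, 0, 4, 0, 4, 0, 4]), (108, false, [0, 1, 0, 4, 3, 1, 3, 1, 0, 4, 0, 4, 3, 4, 3]), (202, false, [0, 1, 0, 1, 0, 2, 4, 0, 1, 3, 1, 3, 4, 3]), (256, true, [2, 0, 1, 0, 4, 0, 4, 3, 4, 3, 4, 3, 4, 0, 1]), (257, false, [4, 3, 4, 3, 4, 0, 4, 0, 4, 3, 4, 3, 1, 0, 1]), (219, true, [0, 1, 0, 2, 4, 0, 4, 0, 4, 0, 4, 3, 1, 0, 1, 3, 1]), (263, true, [0, 1, 0, 1, 0, 4, 0, 4, 3, 4, 3, 4, 3, 4, 3]), (237, true,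 [2, 0, 1, 0, 1, 0, 4, 0, 4, 3, 1, 0, 1, 0, 1, 3, 4]), (270, false, [3, 1, 3, 4, 3, 4, 3, 4, 0, 4, 0, 4, 3]), (158, true, [1, 0, 1, 3, 4, 0, 1, 3, 1, 3, 1, 3, 1, 0]), (269, true, [2, 4, 0, 1, 3, 4, 3, 4, 0, 4, 0, 1, 3, 4, 3]), (38, false, [0, 4, 0, 1, 0, 1, 0, 1, 3, 1, 0, 1]), (238, false, [1, 2, 0, 1, 0, 1, 3, 4, 0, 1, 0, 1]), (107, true, [0, 4, 3, 1, 0, 4, 0, 4, 0, 4, 3, 1, 3, 4, 0, 4, 3]), (79, false, [0, 1, 3, 1, 0, 1, 3, 1, 3, 4, 3, 4, 0, 1, 3])]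
def r203 : List (ℕ × Bool × List ℕ) := [(91, true, [2, 4, 3, 4, 3, 1, 0, 1, 0, 4, 0, 4, 0, 1, 3, 1]), (6, false, [2, 0, 4, 0, 1, 3, 4, 3, 1, 0, 1, 3, 4, 3, 4]), (197, true, [3, 4, 3, 1, 3, 1, 3, 4, 3, 4, 0, 1, 0]), (235, false, [0, 4, 0, 1, 3, 1, 3, 4, 0, 4, 0, 4, 0]), (174, false, [3, 4, 0, 4, 3, 1, 3, 4, 0, 1]), (249, false, [4, 0, 1, 0, 1, 0, 1, 3, 4, 0, 4, 3, 1, 0]), (196, false, [2, 0, 1, 3, 1, 3, 1, 0, 4, 0, 4, 3, 1, 0, 1]), (150, false, [1, 0, 1, 3, 4, 0, 1, 3, 1, 3, 4, 3]), (263, false, [0, 1, 3, 4, 3, 1, 0, 4, 0, 4, 0]), (150, true, [0, 1, 0, 1, 0, 1, 3, 4, 0, 1, 0, 1, 3, 1, 0]), (128, true, [0, 2, 4, 0, 4, 0, 1, 3, 1, 3, 4, 0, 4, 3, 1]), (207, false, [1, 0, 1, 3, 1, 3, 4]), (221, true, [0, 1, 0, 1, 0, 4, 3,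 4, 0, 4, 0, 4, 3, 1, 3, 4]), (261, false, [1, 0, 1, 0, 1, 2, 0, 4, 0, 4, 0, 1, 3, 1, 0, 1, 0, 1]), (249, false, [1, 0, 1, 3, 4, 0, 1, 3, 1, 3, 1, 0, 1, 0, 1]), (134, false, [3, 1, 3, 4, 0, 4, 0, 4, 3, 4, 3, 4, 3, 4]), (117, true, [1, 0, 4, 3, 1, 3, 1, 0, 4, 3, 1]), (189, true, [2, 0, 4, 0, 1, 3, 1, 3, 4, 0, 4, 3, 1, 0, 4, 3]), (221, true, [2, 0, 1, 0, 4, 3, 4, 0, 1, 3, 1, 0, 4]), (253, true, [2, 0, 4, 0, 1, 3, 1, 3, 1, 3, 1, 0, 4, 3, 1, 0]), (246, false, [0, 1, 2, 0, 4, 0, 4, 0, 4, 0, 4]), (249, false, [0, 1, 3, 1, 0, 1, 0, 1, 0, 4, 0, 4, 3, 4, 3, 4]), (188, false, [3, 1, 3, 4, 3, 4, 3, 4, 0, 4, 3, 1, 3, 4]), (204, false, [1, 0, 4, 3, 1, 3, 1, 0, 4, 3, 4, 0, 1, 0]), (191, false, [1, 0, 2, 4, 0, 4, 3, 4, 0, 4, 3, 4,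 3, 1, 3]), (260, true, [0, 2, 4, 0, 4, 0, 1, 3, 1, 0, 4, 0, 4, 0, 1, 3]), (83, true, [3, 4, 0, 1, 0, 1, 3, 1, 3, 1, 3, 1, 3, 1, 0]), (136, false, [3, 1, 3, 4, 0, 1, 0, 1, 0, 1, 3, 1]), (123, true, [1, 0, 1, 0, 1, 3, 1, 0, 4, 0, 4, 0, 1]), (134, true, [1, 0, 4, 3, 1, 3, 4, 0, 4, 0, 4, 0, 1]), (245, false, [2, 0, 4, 0, 1, 3, 4, 0, 4, 0, 4, 0, 4, 3, 4]), (231, false, []), (6, true, [0, 1, 0, 4, 0, 4, 0, 1, 3, 1, 0, 1, 3]), (249, false, [0, 4, 0, 1, 3, 4, 0, 4, 0, 4, 3, 4, 0, 1, 3, 4]), (197, true, [0, 1, 0, 1, 0, 4, 3, 1, 0, 1, 0, 1, 0, 4]), (236, false, [1, 0, 2, 4, 0, 1, 0, 4, 3, 4, 3, 4, 3, 1]), (166, true, [1, 0, 1, 3, 1, 0, 1, 0, 4, 0, 4, 3, 1, 0]), (144, false, [2, 0, 4, 3, 4, 0, 4, 0, 4, 3, 1, 3]), (150, false,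 [1, 0, 2, 4, 3, 4, 3]), (153, false, [1, 2, 0, 1, 0, 1, 0, 1, 0, 4, 0, 4, 0, 1, 3, 1]), (235, false, [1, 0, 1, 0, 1, 0, 1, 0, 1, 3, 1, 3, 4, 0, 4, 0]), (206, false, [1, 0, 4, 0, 4, 3, 1, 0, 4, 0, 4, 3, 4, 0]), (79, false, [4, 0, 1, 3, 4, 0, 4, 3, 4, 0, 4, 0, 4, 0]), (129, false, [1, 3, 4, 0, 1, 0, 1, 0, 1, 3, 1]), (262, true, [0, 4, 0, 1, 3, 4, 0, 4, 3, 4, 3, 4, 0, 1, 0, 1]), (40, true, [1, 3, 1, 3, 4, 0, 4, 0, 4, 0, 1, 3, 4]), (144, true, [2, 4, 0, 1, 3, 1, 0, 1]), (60, true, [1, 3, 1, 0, 4, 3, 4, 0, 4, 3, 1, 3]), (60, false, [2, 0, 1, 3, 4, 0, 4, 0, 1, 3, 1, 0, 1, 0]), (177, true, [3, 1, 3, 4, 0, 4, 3, 1, 0, 1, 0, 4, 0, 4, 0]), (196, false, [0, 2, 4, 0, 1, 3, 1, 0, 4, 3, 4, 3]), (189, true, [1, 0, 1, 3, 1, 0, 1, 3,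 1, 0, 1, 0, 1]), (190, true, [0, 1, 0, 1, 2, 0, 1, 0, 1, 0, 4, 0, 4, 0, 4, 0]), (83, false, [0, 2, 4, 0, 4, 0, 4, 0, 4, 0, 4, 0, 4]), (269, true, [0, 1, 2, 0, 1, 3, 1, 0, 1, 3, 4, 3, 1]), (189, false, [0, 2, 4, 0, 4, 0, 4, 0, 1, 3, 1, 0, 4, 3, 4, 0]), (128, false, [0, 2, 4, 0, 4, 3, 1, 0, 1, 3, 4, 3, 4, 0]), (128, true, [1, 3, 1, 0, 1, 0, 1, 0, 1, 3, 4, 3, 1, 0, 1, 3]), (235, false, [1, 2, 0, 1, 0, 1, 0, 4, 3, 4, 0, 1, 0, 1, 3, 4, 3]), (245, true, [0, 2, 4, 0, 4, 3, 1, 3, 1, 0, 1, 3, 4]), (6, false, [0, 1, 0, 1, 0, 1, 3, 4, 3, 4, 0, 1, 3]), (89, false, [0, 1, 0, 1, 0, 1, 0, 1, 2, 0]), (185, false, [1, 2, 0, 1, 0, 1, 3, 1, 3, 1, 0, 4, 3, 1]), (144, true, [1, 2, 0, 4, 3, 4, 0, 1, 3, 1, 0]), (143, true, [0, 4, 0, 4, 0,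 1, 3, 1, 0, 4, 3, 1]), (128, true, [0, 4, 3, 1, 0, 1, 0, 1, 0, 4, 0, 4, 0, 4, 3, 4]), (166, false, [3, 1, 0, 1, 0, 4, 3, 1, 3, 1, 3, 4]), (128, true, [2, 0, 4, 0, 4, 0, 4, 0, 1, 3, 1, 0, 4, 0, 4, 3]), (246, false, [0, 2, 4, 3, 4, 0, 4, 3, 1, 0, 1, 0, 1, 0, 4]), (144, false, [0, 1, 3, 1, 3, 4, 0, 1, 3, 1, 0, 4, 0]), (261, true, [2, 4, 0, 1, 3, 1, 0, 1, 0, 4, 3, 4, 0, 1]), (98, false, [4, 3, 4, 3, 4, 0, 4, 0, 4, 3, 4, 3, 4, 3, 1, 0]), (128, false, [0, 1, 3, 4, 0, 1, 3, 1, 0, 4, 0, 4, 0]), (89, false, [4, 3, 4, 0, 4, 0, 1, 3, 1, 3, 1, 3, 4, 0, 4]), (188, false, [0, 2, 4, 0, 1, 0, 4, 3, 1, 0, 1, 0, 4, 3, 4]), (139, false, [0, 1, 0, 1, 3, 4, 3, 1, 0, 1, 3, 1, 3, 1, 3, 4]), (102, false, [1, 2, 0, 4, 3, 1, 0, 1, 3, 1, 3]),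 (113, false, [1, 0, 1, 0, 1, 2, 0, 1, 3, 4, 3, 4, 3, 1]), (144, false, [0, 4, 0, 1, 3, 4, 0, 1]), (40, true, [2, 0, 1, 0, 4, 3, 1, 3, 1, 0, 4]), (236, false, [4, 3, 4, 3, 1, 0, 1, 0, 4, 3, 4, 3, 4, 3, 4, 0, 1]), (197, true, [4, 0, 1, 3, 1, 0, 4, 3, 4, 3, 4, 3, 1, 0, 1]), (150, true, [2, 4, 3, 4, 0, 4, 0, 4, 0, 1, 3, 4, 3, 1, 0]), (189, false, [0, 4, 0, 1, 0, 1, 3, 1, 0, 4, 3]), (140, true, [4, 0, 1, 0, 4, 3, 1, 3, 1, 3, 1, 3]), (197, true, [2, 0, 4, 3, 4, 3, 4, 0, 1, 3, 4, 3, 1, 0]), (269, true, [3, 4, 0, 1, 0, 1, 0, 4, 3, 4, 0, 1, 3, 1, 0]), (177, true, [3, 1, 0, 4, 0, 4, 0, 4, 3, 4, 0, 4, 3, 4, 0]), (261, true, [0, 4, 3, 4, 0, 4, 0, 1, 3, 4, 3, 4]), (98, false, [2, 4, 0, 4, 3, 4, 0, 1, 0, 1, 3, 1, 0]), (235, false,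 [0, 1, 2, 0, 4, 3, 4, 0, 4, 0, 4, 0, 4, 3]), (91, true, [4, 3, 1, 0, 1, 3, 4, 0, 4, 0, 4, 0, 4]), (262, true, [2, 0, 4, 3, 4, 3, 1, 0, 1, 3, 4, 3, 4, 3, 1, 0, 1]), (245, false, [1, 0, 2, 4, 0, 4, 3, 4, 3, 4]), (6, true, [2, 0, 4, 0, 1, 0, 1, 3, 4, 3, 1, 0, 4, 3, 4]), (190, true, [3, 4, 0, 1, 3, 1, 0, 4, 0, 4, 3, 4, 3, 4, 0]), (191, false, [3, 1, 0, 4, 0, 4, 0, 4, 3, 1, 3, 4]), (261, false, [0, 1, 0, 4, 3, 1, 0, 1, 0, 1, 3, 4, 0, 4]), (253, true, [4, 0, 1, 3, 1, 0, 1, 3, 4, 0, 1, 0]), (263, false, [0, 1, 0, 1, 0, 1, 2, 0, 4, 3, 1, 0, 1, 3, 1, 3, 4, 0]), (128, false, [1, 3, 1, 0, 1, 3, 1, 0, 1, 3, 1, 0, 1, 0, 4, 3]), (98, false, [4, 0, 1, 0, 1, 3, 1, 3, 1, 3, 1, 0, 4]), (128, false, [0, 1, 0, 2, 4, 0, 1, 0, 1, 3, 1, 0,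 1, 3, 4]), (98, false, [0, 2, 4, 0, 1, 3, 4, 3, 4, 3, 1, 0, 4, 0]), (260, true, [1, 3, 4, 3, 4, 0, 4, 3, 4, 3, 4, 0, 4]), (249, false, [2, 0, 1, 3, 4, 0, 4, 0, 4, 3, 4, 3, 4, 3, 1]), (177, true, [1, 2, 0, 4, 3, 1, 0, 1, 0, 1, 0, 1, 3, 1, 3]), (153, false, [1, 0, 4, 3, 4, 0, 1, 3, 1, 3]), (257, false, [0, 1, 0, 4, 3, 4, 3, 4, 0, 4, 0, 4, 3, 4, 3, 4]), (108, true, [0, 4, 3, 4, 0, 1, 3, 1, 3, 4, 0, 4, 0, 1]), (123, true, [0, 1, 2, 0, 1, 0, 1, 3, 1, 3, 1, 3, 4, 0, 4, 3]), (185, true, [4, 0, 4, 3, 1, 0, 1, 0, 1, 3, 1, 3])]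

theorem q192 : closeb 18 ps18 base7 rgR om xs x192 orb r192 = true := by decide +kernel
theorem q193 : closeb 18 ps18 base7 rgR om xs x193 orb r193 = true := by decide +kernel
theorem q194 : closeb 18 ps18 base7 rgR om xs x194 orb r194 = true := by decide +kernel
theorem q195 : closeb 18 ps18 base7 rgR om xs x195 orb r195 = true := by decide +kernel
theorem q196 : closeb 18 ps18 base7 rgR om xs x196 orb r196 = true := by decide +kernel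
theorem q197 : closeb 18 ps18 base7 rgR om xs x197 orb r197 = true := by decide +kernel
theorem q198 : closeb 18 ps18 base7 rgR om xs x198 orb r198 = true := by decide +kernel
theorem q199 : closeb 18 ps18 base7 rgR om xs x199 orb r199 = true := by decide +kernel
theorem q200 : closeb 18 ps18 base7 rgR om xs x200 orb r200 = true := by decide +kernel
theorem q201 : closeb 18 ps18 base7 rgR om xs x201 orb r201 = true := by decide +kernel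
theorem q202 : closeb 18 ps18 base7 rgR om xs x202 orb r202 = true := by decide +kernel
theorem q203 : closeb 18 ps18 base7 rgR om xs x203 orb r203 = true := by decide +kernel

theorem c16 : Rows xc16 :=
  Rows.cons q192 (Rows.cons q193 (Rows.cons q194 (Rows.cons q195 (Rows.cons q196 (Rows.cons q197 (Rows.cons q198 (Rows.cons q199 (Rows.cons q200 (Rows.cons q201 (Rows.cons q202 (Rows.cons q203 Rows.nil)))))))))))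

end Cfsg.Agent.H698.U33.Clo
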