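import Cfsg.Agent.H698.U33.Clo.Rows

/-!
# S5525: the closure certificate, rows 216 to 227 (helper698; data of helper819, helper763)
-/

set_option autoImplicit false
set_option maxRecDepth 100000
set_option Elab.async false

namespace Cfsg.Agent.H698.U33.Clo

def r216 : List (ℕ × Bool × List ℕ) := [(216, true, [3, 1, 3, 1, 3, 1, 0, 4, 3]), (152, true, [4, 0, 1, 3, 1, 0, 1, 0, 1, 3, 1, 0, 1, 3]), (68, false, [3, 1, 0, 4, 3, 1, 0, 1, 3, 4, 3, 1, 0, 1]), (240, false, [0, 4, 3, 1, 3, 1, 0, 1, 3, 4, 0, 1, 3, 1]), (51, true, [1, 0, 1, 2, 0, 1, 0, 1, 3, 1, 0, 1, 0]), (119, false, [4, 3, 1, 0, 1, 0, 1, 3, 1, 0, 4, 3, 4]), (187, false, [1, 0, 4, 3, 1, 0, 1, 0, 1, 3]), (205, false, [1, 0, 4, 0, 1, 3, 1, 0, 1, 3, 1, 0, 4, 0, 4]),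 (70, true, [4, 3, 1, 3, 1, 3, 1, 3, 4, 3, 4, 3, 1]), (121, true, [3, 4, 3, 4, 0, 1, 3, 1, 3, 1, 3, 4, 0, 1, 0, 4]), (238, false, [1, 0, 1, 0, 1, 2, 0, 1, 0, 4, 3, 4, 0, 1]), (51, true, [0, 4, 0, 4, 0, 1, 3, 1, 3, 1, 0]), (167, false, [0, 1, 0, 4, 0, 4, 3, 4, 3, 4, 0, 1, 3]), (121, true, [3, 1, 3, 1, 0, 4, 3, 1, 0, 1]), (226, true, [4, 3, 4, 0, 4, 3, 1, 0, 1, 0, 1, 0, 1]), (112, true, [0, 4, 0, 4, 0, 1, 3, 1, 3, 4, 0, 4, 0, 4, 0, 4]), (254, true, [0, 1, 3, 4, 0, 4, 0, 4, 3, 4, 0, 4, 3, 4, 0, 4, 0]), (187, false, [0, 4, 0, 1, 3, 1, 3, 1, 0, 4, 3, 4, 3, 4, 0, 1, 0]), (88, true, [0, 4, 0, 4, 3, 1, 3, 1, 3, 1, 0, 4, 0, 4]), (237, true, [0, 1, 0, 1, 0, 2, 4, 0, 4, 3, 1, 3, 4, 0, 4, 0]), (198, false, [1, 3, 4, 3, 4, 0, 1, 0,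 1, 0, 4]), (222, false, [0, 1, 0, 2, 4, 0, 4, 3, 4, 0, 4, 3, 1, 3, 1, 0]), (216, false, [2]), (182, true, [1, 3, 1, 3, 1, 3, 4, 0, 1, 0, 1, 3, 4, 3, 1]), (68, false, [1, 0, 1, 2, 0, 1, 3, 1, 0, 4, 3, 4, 3, 1]), (222, false, [0, 1, 0, 1, 0, 4, 0, 4, 0, 4, 3, 4, 3, 4, 0]), (206, true, [1, 3, 1, 0, 4, 3, 1, 3, 4, 0, 4, 3, 4, 3]), (179, true, [0, 1, 3, 4, 3, 4, 0, 4, 0, 1, 3, 1, 3, 4]), (202, false, [0, 1, 3, 1, 3, 4, 0, 1, 3, 1, 3, 1, 0, 1]), (39, true, [4, 0, 1, 3, 1, 0, 4, 3, 4, 3, 1, 3]), (205, false, [0, 4, 3, 4, 3, 1, 0, 4, 3, 4, 0, 1, 3]), (125, true, [3, 4, 3, 4, 0, 1, 0, 1, 3, 1, 0, 4, 0, 1]), (230, true, [1, 0, 1, 2, 0, 1, 3, 1, 0, 4, 3, 1]), (236, true, [4, 0, 1, 3, 4, 0, 4, 0, 4, 0, 4, 3, 4, 3, 4, 3]), (220,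 true, [2, 4, 3, 4, 3, 4, 0, 4, 0, 4, 0, 4, 3, 1, 0, 1]), (51, true, [3, 1, 3, 1, 3, 1, 0, 1, 0, 4, 3, 4, 3]), (226, true, [2, 4, 0, 1, 0, 1, 0, 1, 3, 4, 3, 4, 0, 4, 3]), (117, false, [4, 0, 4, 3, 4, 0, 4, 3, 4, 0, 4]), (237, true, [3, 4, 3, 4, 0, 4, 3, 1, 3, 4, 0, 1, 3]), (221, true, [0, 1, 0, 4, 3, 1, 0, 4, 0]), (273, true, [3, 4, 0, 1, 3, 1, 0, 1, 0, 1, 0, 4, 0, 4, 0]), (183, false, [0, 4, 0, 1, 0, 1, 0, 4, 0, 4, 0, 4, 3]), (89, false, [2, 0, 1, 0, 1, 3, 4, 3, 1, 0, 1, 3, 4, 0, 1, 0]), (221, true, [2]), (152, true, [2, 0, 1, 3, 4, 3, 4, 0, 4, 3, 4, 0, 4, 0, 4, 3]), (213, false, [0, 1, 0, 2, 4, 3, 4, 0, 1, 3, 1, 0, 4, 0, 4, 0, 1]), (157, true, [1, 0, 1, 2, 0, 1, 0, 1, 3, 1, 3, 1, 3, 1, 3]), (179, true, [3, 4, 3, 1,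 0, 1, 0, 1, 3, 1, 3, 4, 3, 4, 3]), (81, false, [4, 0, 1, 0, 4, 3, 4, 0, 1, 0, 1, 0]), (89, false, [3, 1, 3, 1, 3, 4, 3, 4, 0, 1, 3, 1, 3]), (151, false, [1, 2, 0, 1, 3, 1, 0, 4, 3, 4, 0, 1, 3]), (57, true, [0, 1, 0, 1, 0, 2, 4, 0, 4, 0, 4, 0, 4, 3, 1, 0, 4]), (107, true, [0, 4, 3, 1, 3, 1, 0, 1, 3, 4, 0]), (157, true, [3, 4, 3, 4, 0, 1, 0, 1, 0, 4, 0, 4, 3, 1, 3, 1]), (273, true, [0, 1, 0, 2, 4, 3, 4, 3, 1, 0, 1, 0, 1, 0]), (51, true, [3, 4, 0, 4, 3, 4, 3, 1, 0, 1]), (216, true, []), (182, true, [2, 0, 1, 0, 4, 3, 4, 3, 4, 3, 4, 0, 4, 0, 4, 0, 4, 3, 4]), (220, true, [0, 1, 3, 4, 3, 1, 0, 1, 3, 1, 3, 4, 0, 1, 0, 1, 3]), (222, false, [0, 2, 4, 3, 4, 0, 1, 0, 1, 0, 1, 3, 4, 3, 1]), (70, true, [0, 2, 4, 3, 1, 3, 1, 0, 1,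 0, 1, 3, 1]), (179, true, [2, 4, 3, 4, 0, 1, 3, 1, 3, 4, 0, 4, 3, 1]), (244, true, [1, 0, 1, 0, 1, 0, 1, 0, 1, 2, 0, 4, 0, 1]), (2, false, [0, 1, 0, 2, 4, 0, 4, 3, 1, 0, 1, 0, 1, 0]), (76, false, [0, 4, 0, 4, 3, 1, 3, 1, 0, 1, 3, 4, 3, 4, 0]), (57, true, [0, 1, 0, 1, 3, 4, 3, 1, 0, 4, 0, 4, 0, 1, 3]), (58, true, [1, 2, 0, 1, 3, 1, 3, 1, 0, 4, 3, 4, 3, 1, 0, 1]), (151, false, [0, 4, 0, 1, 3, 4, 0, 4, 3, 1, 3, 1, 0, 4]), (89, false, [4, 0, 4, 0, 4, 0, 4, 3, 1, 3, 1, 0, 4, 0, 1]), (158, true, [0, 1, 0, 1, 3, 4, 3, 1, 0, 4, 0, 4, 0, 1]), (125, true, [2, 0, 1, 0, 1, 0, 1, 3, 4, 3, 4, 0, 1, 3, 1, 0, 1]), (254, true, [1, 0, 1, 2, 0, 1, 3, 1, 0, 4, 3, 1, 3, 1, 0]), (179, true, [0, 1, 0, 2, 4, 0, 4, 3, 1, 0, 1, 0, 1, 3, 1, 3,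 1, 0]), (107, false, [0, 1, 0, 1, 0, 4, 3, 1, 3, 1, 0, 1, 0, 4, 3, 4, 3, 4]), (224, false, [1, 3, 4, 3, 4, 0, 1, 3, 1, 3, 4, 0]), (75, false, [1, 2, 0, 1, 0, 1, 3, 1, 3, 4, 0]), (157, true, [3, 4, 3, 4, 0, 1, 3, 1, 3, 1, 3, 4, 0]), (112, true, [2, 0, 4, 0, 4, 0, 4, 3, 4, 0, 1, 0, 1]), (213, false, [0, 4, 3, 1, 3, 4, 0, 4, 0, 4, 3, 4]), (94, false, [3, 1, 0, 4, 3, 1, 3, 4, 0, 4]), (119, true, [1, 3, 4, 3, 4, 0, 4, 0, 4, 3, 4, 3, 4, 3, 4]), (112, true, [2, 0, 4, 0, 1, 0, 1, 3, 4, 0, 4, 3, 4, 0, 4, 0]), (263, true, [1, 0, 2, 4, 3, 4, 0, 4, 0, 4, 0, 4]), (75, false, [2, 4, 0, 4, 0, 1, 3, 1, 3, 1, 0]), (236, true, [0, 2, 4, 3, 1, 3, 1, 0, 1, 0, 1, 3, 4, 0, 4, 3, 4, 0, 4]), (158, false, [0, 2, 4, 3, 4, 3, 4, 0, 4, 3, 4, 0,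 4, 0, 1, 3]), (158, false, [4, 0, 1, 3, 1, 3, 1, 0, 4, 3, 1, 0, 1]), (88, true, [2, 0, 1, 0, 1, 0, 1, 3, 1, 3, 4, 0, 4, 3, 1, 3]), (29, false, [1, 2, 0, 4, 3, 1, 3, 1, 3, 4, 0, 4, 0]), (34, false, [0, 4, 0, 4, 3, 4, 0, 4, 3, 4, 0, 1, 0]), (183, false, [0, 2, 4, 0, 4, 0, 1, 3, 4, 3, 4, 3, 4, 0, 4]), (222, false, [0, 1, 0, 1, 0, 1, 0, 4, 0, 4, 3, 1, 0, 1, 3, 1]), (141, false, [1, 2, 0, 1, 0, 4, 0, 4, 3, 4, 3, 4, 3, 4, 0, 4, 0]), (214, false, [4, 0, 1, 0, 4, 3, 1, 0, 1, 0, 4, 3, 1]), (76, false, [2, 0, 4, 3, 4, 0, 4, 3, 4, 0, 4]), (58, true, [4, 3, 4, 0, 1, 0, 1, 0, 4, 3, 4, 0, 4]), (64, false, [0, 2, 4, 0, 1, 3, 4, 3, 4, 0, 4, 0, 1, 3, 4, 3, 4]), (217, false, [0, 4, 3, 1, 3, 4, 0, 4, 0, 1, 3, 4, 3, 4, 3]), (214, false,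 [1, 0, 1, 2, 0, 4, 0, 4, 3, 1, 0, 1, 3]), (141, false, [0, 1, 3, 1, 3, 4, 3, 4, 0, 4, 0, 4, 0, 4, 3, 4]), (263, true, [0, 4, 0, 1, 3, 4, 0, 4, 0, 1, 3, 1, 0, 4, 3, 4]), (64, false, [0, 1, 0, 4, 3, 4, 0, 4, 0, 1, 3, 4, 3, 4, 3, 4]), (217, false, [2, 4, 3, 4, 0, 4, 3, 4, 0, 4, 3, 1, 3, 1]), (112, true, [3, 4, 0, 1, 0, 1, 3, 4, 0, 4, 3, 1, 3]), (233, true, [3, 4, 0, 1, 3, 1, 3, 4, 3, 4, 3, 1, 3]), (259, true, [0, 1, 0, 1, 0, 1, 2, 0, 4, 3]), (216, true, [0, 1, 3, 4, 0, 4, 0, 4, 0]), (241, true, [4, 3, 4, 3, 1, 0, 1, 0, 1, 3, 1, 3, 1, 3]), (89, false, [1, 2, 0, 4, 0, 1, 3, 1, 0, 1, 0, 1, 3, 4, 3, 1]), (158, true, [0, 1, 0, 1, 0, 2, 4, 0, 4, 0, 1]), (157, true, [0, 1, 2, 0, 1, 0, 1, 3, 1, 0, 4, 3, 1, 0]), (224, false, [2,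 0, 1, 3, 4, 3, 4, 0, 4, 3, 4, 0, 1, 0, 4])]
def r217 : List (ℕ × Bool × List ℕ) := [(86, true, [4, 3, 4, 3, 1, 0, 4, 3, 4, 3, 4, 0, 4]), (245, true, [0, 2, 4, 3, 4, 0, 1, 3, 4]), (239, false, [1, 0, 1, 3, 4, 0, 4, 3, 4, 3, 4, 0]), (56, false, [0, 4, 0, 1, 3, 1, 0, 4, 0, 4, 3, 4, 3, 4, 3, 4]), (170, false, [0, 1, 3, 1, 3, 4, 0, 1, 3, 1, 3, 1, 0, 1, 0, 1, 0]), (121, true, [1, 0, 1, 3, 1, 0, 1, 0, 4, 3, 1, 3, 1, 0, 4]), (226, false, [1, 0, 1, 3, 4, 3, 4, 0, 4, 0, 1, 3, 1]), (266, true, [4, 0, 1, 3, 1, 3, 4, 3, 4, 3, 1, 3]), (232, true, [2, 0, 1, 0, 1, 3, 4, 0, 4]), (135, true, [4, 0, 1, 3, 1, 0, 4, 3, 1, 3, 1, 0]), (76, false, [2, 0, 1, 3, 1, 3, 4, 3, 4, 3, 1]), (216, false, [0, 4, 0, 1, 3, 1, 3, 1, 3, 4, 0, 4, 3, 4, 3]),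 (110, true, [2, 0, 1, 0, 4, 3, 4, 0, 1, 3, 1, 3, 1, 3, 4, 0, 4]), (38, true, [1, 0, 4, 0, 4, 3, 1, 3, 1, 0, 4, 3, 1]), (185, false, [0, 1, 0, 1, 0, 2, 4, 0, 4, 0, 4, 0, 1, 0]), (145, true, [0, 1, 3, 4, 3, 4, 3, 1, 0, 1, 3, 4, 0]), (232, true, [2, 0, 1, 0, 1, 0, 1, 0, 1, 0, 1, 3]), (217, true, []), (73, true, [3, 4, 0, 1, 3, 4, 3, 4, 0, 4, 3, 1, 0]), (86, true, [0, 2, 4, 0, 1, 0, 1, 0, 4, 0, 4, 3, 1, 0]), (222, false, [1, 3, 4, 3, 4, 0, 4, 0, 4, 3, 4, 3, 4, 0]), (263, true, [1, 0, 1, 0, 2, 4, 3, 4, 3, 4, 3, 4, 3]), (218, false, [2, 0, 4, 3, 4, 0, 4, 0, 1, 3, 4, 0, 4, 0, 1]), (78, true, [2, 0, 1, 0, 4, 3, 1, 0, 1, 3, 1, 0, 4]), (105, false, [0, 1, 3, 4, 3, 1, 0, 1, 0, 4, 3, 1]), (59, false, [1, 3, 4, 3, 1, 0, 1, 0, 4,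 0, 4, 3, 1, 0]), (255, true, [1, 0, 1, 0, 2, 4, 0, 4, 0, 4, 0, 1, 3]), (31, false, [0, 1, 0, 1, 2, 0, 1, 0, 1, 0, 4]), (65, true, [0, 1, 0, 1, 3, 4, 0, 1, 3, 1, 0, 1]), (111, true, [4, 3, 1, 0, 1, 0, 4, 0, 4, 0, 1, 3, 1, 3]), (220, false, [2, 0, 1, 0, 1, 0, 4, 0, 4, 3, 4, 3]), (86, true, [3, 1, 3, 4, 0, 4, 0, 4, 3, 4, 0, 4, 3, 4]), (186, false, [2, 4, 0, 1, 0, 1, 0, 4, 0, 4, 3, 4, 3]), (269, true, [1, 2, 0, 4, 3, 4, 3, 4, 0, 4, 0, 1, 3, 1, 3]), (197, false, [1, 0, 1, 0, 1, 0, 1, 0, 1, 3, 4, 3]), (269, true, [0, 4, 3, 1, 0, 4, 3, 4, 3, 1, 0]), (261, true, [0, 1, 3, 1, 0, 4, 3, 4, 3, 4, 0, 4, 0, 4, 3, 1]), (254, true, [0, 2, 4, 0, 1, 3, 1, 3, 1, 0, 4, 3, 4, 0, 1]), (152, false, [0, 1, 2, 0, 1, 0, 4, 3, 1, 3, 4, 0, 4, 3]),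 (66, false, [3, 4, 3, 4, 0, 1, 0, 1, 0, 4, 3, 4, 0, 1, 0]), (86, true, [2, 4, 0, 4, 3, 4, 3, 4, 3, 4, 0, 4, 0, 4, 3, 1]), (179, true, [0, 1, 3, 1, 3, 1, 3, 1, 0, 1, 0, 4, 0, 4]), (217, true, []), (226, false, [1, 0, 1, 0, 1, 2, 0, 4, 3, 4, 0, 4, 3, 4, 0, 1, 0]), (277, false, [3, 1, 0, 4, 3, 4, 3, 1, 0, 4, 3, 4, 0]), (255, true, [0, 1, 3, 1, 3, 1, 3, 4, 0, 4, 0, 1, 3, 1, 3]), (76, false, [0, 1, 0, 2, 4, 0, 1, 3, 1, 0, 1, 3, 4]), (257, true, [2, 0, 4, 3, 1, 0, 1]), (59, false, [3, 4, 0, 1, 3, 1, 3, 1, 0, 1, 0, 4, 3, 4]), (66, false, [0, 1, 0, 1, 2, 0, 1, 3, 4, 0, 1, 0, 4]), (75, false, [4, 3, 1, 0, 4, 3, 4, 0, 1, 3, 1, 3, 1, 3]), (146, false, [1, 0, 4, 3, 1, 0, 1, 3, 1, 0, 4]), (183, false, [4, 3, 1, 3, 1, 0, 1, 0, 4,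 3, 4, 3, 4]), (89, false, [1, 0, 4, 3, 1, 0, 1, 0, 1, 3, 4, 0]), (100, false, [1, 3, 4, 3, 4, 0, 4, 3, 1, 3, 4, 0, 1]), (73, true, [1, 0, 2, 4, 0, 1, 0, 1, 0, 4, 3, 4, 0]), (31, false, [1, 0, 1, 2, 0, 4, 0, 4, 3]), (104, true, [3, 4, 3, 4, 0, 1, 3, 1, 3]), (56, false, [0, 1, 0, 4, 0, 4, 0, 4, 3, 1, 0, 1, 3, 4, 0]), (35, false, [0, 1, 0, 1, 2, 0, 4, 0, 4, 3, 4, 3, 1]), (112, true, [2, 4, 0, 4, 0, 4, 3, 4, 3, 4, 0, 1, 3, 1, 3]), (83, true, [0, 1, 3, 1, 0, 1, 3, 4, 0, 4, 3, 1]), (136, false, [3, 1, 0, 1, 3, 1, 3, 4, 3, 4, 3, 1, 3]), (89, false, [2, 0, 4, 0, 4, 3, 1, 0, 1, 3, 4, 3, 4, 0, 4]), (183, false, [1, 2, 0, 1, 0, 4, 3, 4, 0, 1, 0, 1, 3, 1]), (172, true, [1, 2, 0, 1, 0, 4, 0, 4, 3, 4, 0, 4, 3, 4, 0]), (186, false,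 [0, 1, 3, 4, 0, 4, 3, 4, 0]), (182, true, [3, 1, 3, 1, 3, 1, 3, 4, 0, 4, 3, 1, 0]), (209, true, [0, 4, 3, 4, 0, 4, 0, 4, 3, 4, 0, 4, 3, 1]), (230, true, [2, 0, 4, 0, 4, 0, 4, 0, 1, 3, 4, 0]), (230, true, [3, 1, 0, 4, 3, 4, 3, 4, 0, 1, 3, 1, 3]), (209, false, [2, 0, 4, 3, 4, 3, 1, 0, 4]), (249, false, [0, 1, 3, 4, 0, 4, 3, 1, 3, 4, 0, 4, 0, 4, 0]), (257, true, [1, 2, 0, 1, 3, 4, 0, 4, 3, 4, 3, 4, 0, 1]), (215, false, [0, 1, 3, 4, 3, 4, 0, 1, 3, 1, 3, 4]), (104, true, [4, 0, 4, 0, 1, 3, 1, 0, 1, 3, 4, 0]), (111, true, [0, 1, 2, 0, 4, 3, 1, 0, 1, 0, 4, 3, 4, 0, 4]), (65, true, [1, 0, 2, 4, 3, 4, 3, 4, 0, 4, 0, 4, 0, 4, 3, 4]), (49, false, [1, 3, 4, 0, 1, 0, 4]), (215, false, [3, 1, 3, 1, 3, 1, 0, 1, 0, 4, 3, 4, 0, 4]),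 (105, false, [0, 1, 2, 0, 1, 0, 1, 3, 1, 0, 4, 0, 4, 0, 1, 0]), (182, true, [3, 1, 3, 1, 3, 1, 3, 4, 0, 4, 3, 1, 0]), (152, false, [3, 4, 0, 4, 3, 4, 0, 4, 0, 1]), (38, true, [0, 4, 0, 4, 0, 4, 0, 4, 3, 4, 0]), (182, true, [2, 0, 1, 3, 1, 3, 1, 3, 4, 0, 4, 3, 1, 0]), (35, false, [1, 0, 1, 0, 1, 2, 0, 4, 0]), (179, true, [0, 1, 0, 1, 0, 1, 2, 0, 1, 0, 4, 3]), (152, false, [1, 2, 0, 4, 3, 4, 0, 1, 0, 1]), (220, false, [1, 0, 1, 3, 4, 0, 4, 3, 4, 0]), (277, false, [1, 2, 0, 4, 3, 4, 3, 1, 0, 4, 3, 4, 0]), (199, true, [4, 0, 1, 3, 1, 3, 4, 0, 4, 0, 1, 3, 4, 3, 1]), (199, true, [1, 0, 2, 4, 0, 4, 3, 1, 3, 1, 0, 1, 0]), (222, false, [1, 2, 0, 1, 0, 4, 0, 4, 3, 4, 3, 4, 0]), (254, true, [0, 1, 3, 1, 3, 1, 0, 1, 0, 4, 0, 4,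 3, 1, 0, 4]), (208, true, [0, 1, 3, 1, 0, 1, 0, 1, 3, 4, 0, 1, 0, 1, 0]), (184, true, [0, 4, 3, 4, 0, 4, 0, 1, 3, 1]), (121, true, [3, 4, 3, 1, 3, 1, 3, 1, 3, 1, 3, 1]), (110, true, [1, 3, 4, 0, 1, 3, 1, 0, 4, 3, 1]), (247, false, [2, 0, 4, 0, 4, 3, 4, 3, 4, 0, 1, 3, 4, 3]), (168, false, [1, 3, 1, 0, 4, 3, 1, 0, 1, 0]), (170, false, [1, 0, 2, 4, 3, 1, 0, 1, 3, 4, 0, 4, 3, 1, 3, 4]), (131, false, [4, 3, 1, 3, 4, 0, 4, 3, 1, 3]), (108, false, [0, 4, 3, 4, 0, 4, 3, 1, 0, 1, 0, 4, 0, 4, 0]), (216, false, [2, 4, 3, 4, 3, 1, 0, 1, 3, 1, 0, 1, 3, 1]), (261, true, [0, 1, 2, 0, 4, 0, 4, 3, 4, 3, 4, 0, 4]), (263, true, [3, 1, 3, 1, 3, 4, 0, 4, 3, 4, 0, 4, 3, 1, 3, 4]), (182, true, [2, 0, 1, 3, 1, 3, 1, 3, 4, 0, 4, 3, 1, 0]), (172,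 true, [3, 4, 3, 4, 3, 1, 0, 4, 0, 4, 3]), (112, true, [1, 0, 4, 0, 1, 3, 4, 0]), (152, false, [1, 0, 4, 3, 1, 3, 1, 0, 1, 0, 4, 3, 4, 3, 4]), (279, true, [1, 0, 1, 0, 2, 4, 0, 4, 0, 4, 3, 4, 0, 1]), (218, false, [0, 1, 3, 1, 0, 4, 3, 4, 3, 4, 3, 4, 0, 4, 3, 1])]
def r218 : List (ℕ × Bool × List ℕ) := [(105, false, [0, 4, 3, 4, 3, 4, 0, 1, 3, 4, 3, 4, 3, 1]), (168, true, [0, 1, 3, 1, 3, 4, 0, 1, 3, 1, 0, 4, 0]), (124, false, [2, 0, 1, 0, 1, 3, 1, 3, 4, 0, 4, 0, 4, 0, 4]), (194, false, [4, 3, 4, 0, 4, 0, 4, 3, 4, 0, 4, 3, 1, 3, 1]), (222, false, [1, 0, 1, 3, 1, 0, 4, 3, 4, 3, 4, 0, 4, 0]), (128, true, [3, 1, 0, 1, 0, 1, 3, 1, 0, 4, 0, 4, 0, 4, 3]), (241, true, [1, 3, 1, 0, 1, 3, 1, 0, 4, 0, 4]), (192, false, [4, 3, 1,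 3, 1, 3, 4, 0, 4, 3, 1, 3]), (224, true, [0, 4, 0, 4, 0, 4, 3, 1, 0, 1, 3, 4]), (137, false, [1, 0, 1, 0, 1, 2, 0, 1, 0, 1, 0, 1, 0]), (200, true, [3, 1, 3, 4, 0, 4, 3, 4, 0, 1, 3, 4]), (98, false, [2, 4, 0, 1, 0, 1, 3, 1, 3, 1, 3, 1, 0, 4, 3]), (56, true, [4, 3, 1, 3, 1, 3, 1, 0, 4, 3, 4, 3]), (255, false, [2, 0, 1, 0, 4, 3, 4, 0, 4, 0, 1, 3, 4]), (214, true, [0, 2, 4, 3, 1, 3, 1, 3, 4, 3, 4, 0, 4, 0, 4, 3]), (212, true, [4, 0, 1, 0, 1, 0, 4, 0, 4, 3, 1]), (123, false, [2, 4, 0, 4, 0, 1, 3, 1, 3, 1, 3, 1, 0, 4]), (114, true, [1, 3, 1, 3, 1, 0, 1, 0, 1, 3, 1, 0, 1]), (257, false, [4, 3, 1, 3, 4, 0, 4, 3, 1, 0, 4, 0, 4, 3]), (110, true, [4, 3, 4, 3, 1, 0, 1, 3, 4, 0, 4, 0, 4, 3]), (121, true, [2, 0, 4, 0, 1, 3, 1, 0,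 1, 0, 1, 3, 1, 3, 1]), (61, true, [1, 3, 4, 3, 4, 3, 4, 3, 4]), (234, false, [0, 4, 0, 1, 3, 4, 0, 4, 3, 1, 3, 4]), (6, false, [2, 4, 3, 1, 0, 4, 3, 4, 3, 4, 0, 1, 3, 1]), (87, true, [0, 2, 4, 0, 4, 3, 1, 3, 1, 0, 1, 0, 4]), (200, false, [0, 1, 2, 0, 1, 0, 4, 3, 4, 0, 4, 0, 1, 3, 1, 0]), (90, true, [1, 3, 1, 0, 4, 3, 1, 3, 4]), (179, true, [1, 0, 1, 0, 1, 3, 1, 3, 4, 0, 4, 0, 4, 3]), (218, false, [0, 1, 3, 4, 0, 4, 3, 1, 3, 1, 0, 1, 0, 4]), (172, true, [0, 1, 0, 4, 3, 4, 0, 4, 3, 4, 3, 4]), (36, true, [1, 0, 4, 3, 4, 3, 1, 0, 4, 3, 4, 0, 1, 0, 4]), (276, false, [1, 0, 1, 2, 0, 1, 3, 1, 3, 4, 3, 4, 0, 1, 0]), (223, true, [1, 3, 1, 0, 1, 3, 4, 3, 1, 0]), (59, true, [0, 4, 0, 4, 3, 4, 3, 4, 0, 4, 0, 1, 0]), (246, true,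 [1, 3, 1, 3, 1, 3, 4, 3, 4, 3, 1, 3]), (108, true, [0, 1, 3, 4, 3, 4, 3, 4, 0, 4, 0, 4, 3, 4, 3, 4, 0]), (151, true, [0, 1, 2, 0, 1, 3, 1, 3, 4, 0, 4, 3, 4, 0, 4]), (217, false, [2, 4, 0, 1, 0, 1, 3, 4, 0, 1, 0, 1, 3, 1, 0]), (6, true, [2, 4, 3, 1, 0, 1, 0, 4, 3, 1, 3, 1, 3]), (230, true, [0, 1, 0, 1, 0, 2, 4, 3, 4, 0, 1, 3, 4, 0]), (250, true, [3, 1, 3, 1, 0, 4, 3, 4, 3, 1, 0, 1, 3, 4, 0]), (65, false, [0, 4, 3, 1, 3, 1, 0]), (81, false, [0, 1, 0, 1, 3, 1, 0, 4, 3, 4, 0, 1, 0, 1, 3]), (64, true, [0, 1, 2, 0, 1, 0, 1, 0, 4, 0, 4, 0, 4, 0]), (235, true, [2, 0, 4, 3, 1, 0, 1, 3, 4, 0, 4, 0, 1, 3, 1, 3, 4]), (73, true, [2, 0, 1, 0, 4, 3, 1, 3, 1, 3]), (152, true, [1, 0, 2, 4, 3, 1, 0, 1, 3, 4, 0, 1, 0, 1, 3, 1, 3, 4]),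 (9, false, [1, 3, 4, 3, 4, 3, 4, 0, 4, 3, 1, 0, 4]), (145, true, [0, 1, 3, 1, 3, 4, 3, 4, 0, 4, 3, 4, 3, 4]), (218, true, []), (266, true, [1, 3, 4, 3, 1, 0, 1, 3, 1, 3, 1, 0, 4, 3, 4, 0]), (170, true, [2, 0, 1, 3, 1, 3, 1, 0, 4, 3, 4, 3, 1]), (275, true, [1, 0, 1, 3, 4, 0, 4, 0, 1, 3, 1, 0]), (270, false, [1, 3, 1, 0, 1, 3, 1, 3, 4, 0, 4, 3, 1, 0]), (21, true, [0, 2, 4, 0, 1, 3, 1, 0, 1, 3, 4, 3, 4]), (170, true, [0, 2, 4, 3, 4, 0, 1, 0, 1, 3, 1, 3, 1, 0, 1, 0]), (124, true, [1, 0, 1, 2, 0, 4, 3, 1, 3, 1, 3, 1, 0, 4, 3, 4]), (78, true, [1, 2, 0, 4, 3, 4, 3, 4, 3, 4]), (260, false, [0, 1, 0, 1, 0, 4, 0, 4, 0, 1, 3, 1, 0, 4, 3]), (178, true, [1, 0, 2, 4, 0, 4, 3, 4, 3, 1, 0]), (275, true, [1, 3, 4, 3, 1, 0, 1, 3, 1, 3,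 4, 0, 4]), (104, true, [1, 0, 4, 3, 4, 3, 4, 0, 4, 3, 4, 3]), (65, false, [3, 4, 0, 4, 3, 4, 3, 4, 0, 4, 3, 4, 0, 4, 3]), (127, false, [4, 3, 4, 0, 1, 3, 1, 0, 4, 0, 4, 3, 1, 0]), (246, true, [1, 0, 2, 4, 3, 4, 0, 1, 3, 4, 3, 4]), (82, true, [3, 1, 3, 4, 0, 4, 3, 1, 3, 1, 3, 4, 3, 4]), (132, false, [2, 0, 4, 0, 1, 3, 1, 0, 4, 0, 4, 0]), (69, false, [1, 3, 4, 3, 1, 0, 4, 3, 4, 3, 4, 0, 4]), (97, false, [0, 2, 4, 3, 4, 3, 4, 0, 1, 3, 4, 3, 4, 3, 1]), (208, true, [1, 0, 4, 3, 4, 3, 1, 0, 4, 0, 4, 0, 4, 3, 1, 3]), (234, true, [4, 0, 1, 3, 4, 3, 1, 0, 1, 0, 4, 3, 1, 3, 4, 0]), (237, true, [0, 2, 4, 0, 4, 3, 4, 0, 1, 0, 1, 0, 4, 3, 1, 3, 1, 0]), (202, true, [0, 4, 3, 1, 3, 4, 0, 1, 0, 1, 3, 1, 0]), (123, true, [1, 0, 2, 4,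 3, 4, 0, 1, 0, 1, 3, 1, 3, 1, 0, 4, 0]), (140, false, [0, 1, 2, 0, 4, 0, 4, 3, 1, 0, 1, 3, 4, 3, 1]), (122, false, [3, 1, 3, 4, 0, 1, 3, 1, 0, 1, 0, 1, 3]), (220, false, [1, 2, 0, 1, 3, 1, 0, 1, 0, 4, 3, 1, 3, 4, 0]), (182, true, [2, 0, 1, 0, 1, 3, 4, 0, 4, 3, 1, 0, 4]), (119, false, [1, 3, 4, 3, 4, 0, 1, 3, 1, 3, 4, 0]), (171, false, [3, 4, 3, 4, 3, 4, 3, 4, 0, 1, 3, 4, 0]), (89, true, [1, 0, 1, 3, 4, 0, 4, 0, 1, 3, 4, 3, 1]), (220, true, [1, 3, 1, 3, 4, 0, 4, 0, 4, 0, 1, 3, 4, 3, 4]), (91, true, [0, 2, 4, 0, 4, 0, 4, 0, 4, 3, 4, 0]), (226, false, [0, 1, 0, 2, 4, 0, 1, 0, 1, 3, 1, 3, 1, 0, 1, 0, 1, 0]), (198, false, [0, 1, 0, 1, 0, 4, 0, 4, 0, 1, 0]), (182, true, [4, 3, 1, 0, 1, 0, 1, 3, 1, 0, 4, 3, 1]), (152, true,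 [2, 0, 1, 3, 1, 0, 4, 3, 4, 3, 1, 0, 1, 3, 4, 3]), (218, false, [1, 3, 4, 3, 4, 0, 4, 0, 1, 3, 1, 0, 4, 3]), (79, false, [4, 0, 1, 3, 4, 3, 1, 0, 1, 0, 1, 3, 1, 3, 1, 0]), (7, false, [1, 0, 4, 3, 1, 3, 4, 0, 4, 3, 1, 0, 1, 0, 1]), (191, false, [2, 4, 0, 1, 0, 4, 3, 4, 3, 1, 0, 1, 3, 4]), (12, true, [0, 1, 0, 1, 0, 2, 4, 3, 4, 0]), (222, false, [1, 3, 1, 0, 1, 0, 1, 3, 1, 3, 1, 0, 4, 3, 1, 0]), (191, true, [3, 1, 3, 1, 0, 1, 0, 1, 0, 4, 0, 4, 0, 4]), (215, true, [0, 1, 0, 1, 3, 1, 0, 1, 3, 1, 3, 1, 0, 4]), (267, false, [1, 3, 1, 0, 1, 3, 1, 0, 1, 3, 4]), (171, false, [0, 2, 4, 3, 4, 0, 4, 3, 4, 0]), (188, false, [1, 0, 1, 3, 1, 3, 1, 0, 4, 3, 4, 0, 1, 0, 1, 3]), (119, false, [0, 1, 2, 0, 1, 3, 1, 0, 4, 0, 4, 0, 1, 3,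 1, 3]), (266, true, [1, 3, 4, 0, 1, 3, 1, 0, 4, 3, 1]), (87, true, [0, 1, 2, 0, 1, 3, 1, 3, 1, 0, 4, 0, 4, 3, 4, 0]), (218, false, [3, 1, 3, 1, 0, 1, 0, 4, 0, 4, 0, 4, 3, 4, 3, 1]), (15, false, [0, 4, 0, 1, 3, 4, 0, 4, 3, 4, 3]), (172, true, [0, 1, 0, 4, 3, 4, 0, 4, 3, 4, 3, 4]), (78, true, [0, 1, 0, 1, 3, 1, 3, 1, 0, 1, 0, 1, 3, 4]), (242, true, [0, 4, 3, 1, 0, 4, 0, 4, 3, 1, 3]), (258, true, [0, 1, 0, 1, 0, 1, 3, 1, 3, 4, 3, 4, 3]), (5, true, [2, 0, 4, 3, 1, 0, 1, 3, 1, 3, 4, 0]), (126, true, [0, 2, 4, 3, 1, 0, 1, 3, 4, 3, 4, 3, 1, 0]), (226, true, [2, 4, 3, 1, 3, 1, 0, 4, 3, 1, 3, 1, 0, 1, 3]), (213, false, [4, 0, 1, 3, 4, 3, 4, 0, 1, 3, 4, 3]), (255, true, [0, 1, 0, 1, 2, 0, 4, 0, 4, 3, 4, 3, 1, 0, 4, 0, 4, 3])]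
def r219 : List (ℕ × Bool × List ℕ) := [(67, false, [2, 0, 4, 0, 4, 0, 1, 3, 4, 3, 4, 0, 4, 0]), (68, false, [1, 0, 2, 4, 3, 1, 0, 4, 0, 4, 3]), (20, true, [3, 1, 3, 1, 0, 1, 0, 4, 3, 4, 0, 4]), (91, true, [1, 3, 4, 3, 1, 0, 4, 3, 4, 3, 4, 0, 4, 3, 1, 3]), (256, false, [1, 2, 0, 1, 3, 1, 3, 1, 0, 1, 0, 1, 0, 4]), (225, false, [2, 0, 4, 3, 1, 0, 4, 0, 4, 3, 4, 3, 1]), (86, true, [0, 4, 3, 1, 3, 4, 0, 1, 3, 1, 3, 1, 0, 1, 3, 1]), (277, true, [0, 4, 0, 1, 3, 1, 0, 4, 0, 4, 0, 1, 3, 1, 3, 1]), (24, false, [1, 2, 0, 1, 0, 4, 0, 4, 0, 4, 3, 1, 0, 1]), (225, false, [1, 2, 0, 4, 3, 4, 3, 4, 0, 4, 3, 4, 0, 1, 0, 1]), (219, false, [0, 4, 0, 1, 0, 1, 0, 4, 0, 4, 0, 1, 0]), (202, true, [0, 4, 3, 1, 3, 1, 3, 4, 3, 4, 0, 4, 0, 4,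 0, 1]), (264, false, [1, 0, 4, 3, 4, 3, 4, 3, 4, 0]), (67, false, [1, 2, 0, 4, 0, 4, 3, 4, 0, 4, 3, 4, 3, 4, 0, 4]), (68, false, [2, 4, 3, 4, 3, 4, 0, 4, 0, 1, 3, 1, 0, 4, 0]), (156, false, [2, 4, 0, 1, 3, 1, 3, 1, 0, 1, 0, 1, 3, 1, 0]), (219, false, [0, 1, 3, 1, 3, 1, 0, 4, 3, 4, 3, 1, 0, 1, 3]), (29, false, [2, 0, 1, 0, 1, 3, 4, 3, 4, 0, 1, 3, 4]), (152, true, [2, 0, 1, 0, 4, 3, 4, 3, 4, 0, 1, 3, 1]), (198, true, [0, 1, 0, 1, 0, 1, 0, 2, 4, 3, 4]), (127, false, [2, 4, 0, 1, 3, 4, 0, 4, 3, 4, 3, 4, 3, 1, 3]), (256, true, [1, 3, 4, 0, 4, 3, 1, 0, 1, 0, 4, 3]), (91, false, [1, 0, 2, 4, 0, 4, 0, 1, 3, 1, 0, 4, 0]), (125, false, [3, 4, 3, 4, 0, 1, 0, 1, 3, 4, 3, 4]), (86, true, [0, 4, 3, 1, 3, 4, 0, 1, 0]), (67, true, [0,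 2, 4, 3, 1, 0, 1, 0, 1, 3, 4, 0, 1, 0, 1]), (179, true, [0, 1, 3, 1, 0, 1, 0, 4, 3, 1, 3, 4, 0, 4]), (123, true, [0, 2, 4, 3, 4, 3, 4, 0, 4, 0, 4, 0, 4, 3, 1, 3, 1]), (264, false, [1, 0, 4, 3, 1, 0, 1, 3, 1, 0, 4, 0, 4]), (223, false, [2, 0, 1, 3, 4, 0, 1, 0]), (72, true, [0, 1, 0, 1, 2, 0, 1, 0, 1, 0, 1, 3, 4, 0, 1]), (75, false, [0, 2, 4, 3, 1, 0, 1, 3, 4]), (200, true, [0, 2, 4, 0, 4, 0, 1]), (223, true, [2, 4, 0, 1, 3, 1, 0, 1, 0, 1, 3, 4, 0, 4, 0, 1, 0]), (66, true, [3, 1, 0, 4, 0, 4, 0, 4, 3, 1, 3]), (70, false, [0, 4, 0, 1, 3, 4, 3, 1, 0, 1, 0, 1, 3, 1, 3]), (71, false, [0, 1, 2, 0, 1, 3, 4, 0, 4, 0, 4, 3, 1]), (219, false, [1, 3, 1, 3, 1, 0, 4, 3, 4, 3, 1, 0, 1]), (96, true, [3, 1, 3, 4, 0, 1, 3, 1, 0]), (57,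 true, [4, 0, 4, 3, 4, 3, 4, 3, 4, 3, 4, 0]), (198, true, [4, 3, 4, 0, 4, 0, 1, 3, 1, 0, 1, 3, 4]), (256, false, [0, 1, 2, 0, 1, 3, 1, 3, 1, 0, 1, 3, 4, 3, 4]), (158, true, [2, 0, 4, 0, 1, 3, 1, 0, 1, 0, 4, 3, 4, 0, 4, 3]), (252, true, [0, 1, 0, 4, 3, 4, 3, 1, 0, 4, 3, 4, 0]), (256, false, [0, 2, 4, 3, 1, 0, 1, 0, 1, 0, 4, 0, 4, 0, 1, 3]), (156, false, [0, 1, 0, 4, 3, 4, 3, 4, 3, 4, 0, 4, 0]), (252, false, [2, 0, 1, 3, 4, 0, 4, 3, 4, 0, 4, 0]), (225, true, [0, 2, 4, 3, 4, 0, 1, 3, 1, 3, 1, 0, 1, 3, 4, 3, 1]), (183, false, [0, 1, 0, 2, 4, 3, 4, 3, 4, 0, 1, 0, 1, 3]), (266, true, [0, 1, 2, 0, 1, 0, 4, 3, 1, 3, 4, 0, 4, 0]), (209, false, [2, 4, 0, 4, 0, 1, 3, 1, 3, 4, 0, 1, 0, 1, 0]), (70, false, [0, 4, 3, 1, 0, 1, 3, 1,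 3, 1, 0, 1, 3, 1, 0]), (223, true, [1, 0, 1, 3, 4, 0, 1, 0, 1, 3, 1, 3]), (90, true, [0, 1, 3, 4, 0, 4, 3, 4, 3, 4, 0, 1, 3, 1]), (190, true, [0, 1, 3, 4, 3, 4, 0, 4, 3, 1, 0]), (71, false, [0, 2, 4, 0, 4, 3, 1, 0, 4, 0, 4]), (273, false, [4, 0, 1, 0, 4, 3, 4, 0, 1, 3, 1, 3, 1, 3, 4, 3]), (223, false, [0, 1, 3, 4, 3, 4, 0, 1, 3, 1, 3, 4]), (214, false, [0, 1, 2, 0, 1, 3, 1, 3, 4, 0, 4, 3, 1, 0]), (223, false, [0, 4, 0, 1, 3, 4, 0, 4, 0, 4, 3, 1, 0, 1]), (24, false, [4, 3, 1, 0, 1, 3, 4, 3, 1, 0, 4, 0]), (219, false, [1, 0, 1, 0, 4, 0, 4, 3, 4, 0, 4, 3, 1, 0, 1, 0, 4]), (67, false, [2, 4, 0, 1, 3, 1, 0, 1, 3, 4, 0, 4, 0, 1]), (151, true, [4, 0, 1, 0, 1, 0, 1, 0, 4, 0, 4, 0]), (212, false, [1, 0, 2, 4, 3, 4, 0, 1, 0, 1,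 0, 4, 0]), (70, true, [0, 1, 2, 0, 4, 3, 4, 0, 1, 0, 1, 0, 1, 3, 4, 3, 4]), (202, true, [1, 3, 1, 3, 1, 3, 4, 3, 4, 0, 4, 3, 4, 0, 4, 3]), (71, false, [0, 2, 4, 0, 4, 3, 4, 3, 1, 0, 1, 0]), (237, false, [2, 0, 1, 3, 1, 0, 1, 0, 1, 3, 1, 3, 1, 0, 4]), (125, false, [2, 4, 0, 1, 3, 1, 0, 1, 0, 1, 3, 4, 0, 4, 3]), (58, false, [0, 4, 3, 4, 0, 4, 3, 4, 0, 1, 3, 1, 3, 4]), (151, false, [1, 0, 2, 4, 0, 4, 0, 4, 0, 4, 0, 4, 3, 1, 3, 1]), (68, true, [0, 4, 0, 4, 3, 4, 3, 4, 0, 4, 0]), (219, true, [2, 4, 0, 4, 0, 1, 3, 4, 3, 4, 0, 4, 3]), (68, false, [2, 0, 1, 0, 1, 3, 1, 3, 1, 0, 4, 3, 4, 3, 4, 0, 1, 0]), (225, false, [2, 4, 3, 4, 0, 4, 0, 1]), (152, true, [0, 1, 2, 0, 1, 0, 4, 0, 4, 3, 4, 3, 4, 3, 4, 0]), (96, true, [3, 1, 0,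 1, 3, 4, 3, 1, 0, 1, 3, 1, 3, 4, 3]), (253, true, [2, 4, 0, 1, 3, 1, 3, 1, 0, 1, 3, 4, 3, 1, 0]), (115, false, [3, 1, 3, 1, 0, 1, 0, 4, 3, 4, 3, 4, 3, 4]), (272, true, [1, 0, 4, 0, 4, 0, 4, 0, 4, 0, 4, 3]), (71, false, [1, 0, 2, 4, 0, 4, 0, 4, 3, 4, 3, 1, 0, 1, 3, 4]), (68, false, [2, 0, 1, 0, 1, 3, 1, 3, 1, 0, 4, 3, 4, 3, 4, 0, 1, 0]), (178, true, [0, 4, 0, 1, 3, 1, 3, 4, 0, 4, 0, 4]), (189, true, [1, 2, 0, 4, 0, 1, 3, 1, 0, 4, 0, 4]), (263, false, [4, 0, 4, 0, 4, 0, 1, 3, 4, 3, 4, 0, 4, 0, 4, 3]), (181, false, [1, 0, 4, 0, 1, 3, 1, 0, 1, 0, 4, 3, 1, 3, 1, 0]), (150, true, [2, 0, 4, 0, 4, 3, 1, 3, 4, 0, 4, 0, 4, 0, 4]), (119, false, [1, 0, 2, 4, 3, 1, 0, 4, 0, 1]), (219, true, [0, 1, 2, 0, 1, 3, 1, 3, 4, 0, 1, 0, 1]),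 (124, true, [0, 2, 4, 3, 4, 0, 1, 3, 1, 3, 1, 0, 1, 3, 1]), (224, false, [2, 0, 1, 3, 4, 0, 4, 0, 4, 3, 1, 0, 4, 0, 1]), (183, false, [0, 1, 3, 4, 0, 4, 3, 1, 3, 4, 0, 4, 3]), (268, true, [2, 4, 0, 1, 3, 1, 3, 4, 0, 1, 0, 1, 0, 1, 3, 4, 0]), (274, false, [2, 4, 3, 4, 3, 4, 0, 1, 0, 1, 3, 1, 3, 4]), (190, true, [1, 0, 1, 0, 4, 0, 4, 3, 4, 3, 4, 0]), (253, false, [0, 4, 0, 1, 0, 1, 3, 1, 0, 1, 0, 4, 0, 4, 3]), (21, false, [2, 4, 0, 4, 3, 4, 3, 1, 0, 1, 0]), (269, false, [4, 0, 4, 3, 4, 0, 4, 3, 1, 0, 4, 0, 4]), (179, true, [2, 0, 1, 3, 1, 3, 4, 0, 1, 3, 1, 3, 4, 0]), (256, false, [0, 1, 2, 0, 1, 3, 1, 3, 1, 0, 1, 3, 4, 3, 4]), (253, true, [0, 1, 2, 0, 4, 3, 4, 0, 1, 0, 1, 3, 4, 0, 1]), (19, true, [1, 0, 1, 3, 4, 3, 1,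 0, 4, 3]), (105, true, [0, 1, 3, 4, 0, 4, 0, 1, 3, 4, 3, 1]), (167, true, [0, 2, 4, 3, 4, 0, 1, 0, 1, 3, 4, 0, 4]), (126, false, [0, 1, 0, 1, 2, 0, 4, 3, 4, 3, 4, 0, 4, 3, 1, 0]), (280, false, [0, 2, 4, 0, 4, 3, 1, 3, 1, 0, 4, 3, 1, 0]), (123, false, [1, 0, 4, 0, 1, 3, 4, 0, 4, 3, 4, 3, 4]), (61, false, [3, 4, 3, 1, 0, 4, 0, 4, 3, 1, 0, 4, 0, 4, 0]), (223, true, [1, 2, 0, 4, 0, 1, 3, 4, 3]), (157, true, [3, 1, 3, 4, 0, 4, 3, 1, 3, 1, 0, 1, 3]), (98, false, [0, 4, 0, 1, 3, 1, 3, 1, 3, 1, 3, 1])]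
def r220 : List (ℕ × Bool × List ℕ) := [(106, false, [3, 1, 3, 4, 0, 1, 3, 1, 3, 4]), (263, true, [0, 1, 2, 0, 4, 3, 4, 0, 4, 3, 4]), (184, false, [3, 4, 3, 4, 0, 1, 3, 1, 3, 1, 0, 1, 3, 4]), (262, false, [1, 3, 4, 3, 4, 0, 4, 0, 4, 0, 4, 3, 1]), (233, false, [4, 3, 1, 3, 4, 0, 1, 3, 1, 0, 1, 3, 4]), (85, true, [1, 0, 1, 0, 1, 3, 4, 0, 1, 3, 1, 0, 1]), (255, true, [4, 0, 1, 0, 1, 0, 4, 3, 1, 0]), (118, false, [0, 1, 0, 4, 0, 4, 3, 1, 3, 1, 0, 4, 0, 4]), (226, false, [2, 0, 4, 0, 1, 3, 4, 3, 4, 0, 1, 3, 4, 3, 1]), (239, false, [0, 1, 3, 1, 3, 1, 3, 4, 0, 1, 3, 4]), (220, true, []), (57, true, [4, 3, 4, 0, 4, 0, 1, 3, 1, 0, 4, 3, 1, 3]), (124, true, [3, 1, 3, 1, 0, 4, 3, 4, 0, 4, 0, 4, 3, 1, 0]), (241, false, [1, 3, 4,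 3, 4, 0, 4, 0, 4, 3, 4, 0, 1, 0]), (88, false, [0, 4, 3, 4, 0, 4, 3, 4, 3, 4, 0, 4, 0]), (170, true, [1, 0, 1, 3, 1, 3, 1, 0, 4, 0, 4, 3, 4, 0, 1]), (192, true, [1, 2, 0, 4, 3, 1, 3, 1, 0, 4, 3, 4, 0, 4]), (194, true, [0, 1, 0, 1, 0, 4, 3, 1, 3, 1, 0, 1, 3, 4, 3, 4, 3]), (201, true, [0, 1, 0, 1, 2, 0, 1, 0, 1, 3, 4, 3]), (226, false, [0, 1, 3, 4, 3, 1, 0, 1, 0, 1, 3, 1, 3, 4]), (268, false, [0, 4, 0, 4, 3, 4, 3, 4, 3, 1, 0, 1, 3, 4]), (110, false, [0, 1, 3, 4, 3, 1, 0, 1, 3, 1, 3]), (126, true, [2, 0, 4, 3, 1, 0, 4, 0, 4, 0, 4, 3, 1, 3, 4, 0]), (47, false, [3, 1, 3, 4, 0, 4, 0, 1, 3, 4, 3, 4, 3, 4]), (260, true, [0, 1, 3, 4, 3, 1, 0, 4, 0, 4, 0, 4, 0, 1]), (116, false, [0, 1, 0, 4, 0, 4, 0, 4, 3, 4]), (218, true, [1,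 0, 1, 0, 4, 3, 1, 3, 1, 3, 1, 0, 4, 0, 4]), (235, false, [3, 4, 3, 4, 0, 4, 0, 1, 3, 4, 3, 4, 0]), (192, false, [0, 1, 0, 1, 2, 0, 1, 0, 4, 0, 4, 0, 4, 3, 1]), (5, true, [0, 1, 3, 4, 3, 1, 0, 1, 3, 1, 0, 1]), (88, true, [0, 4, 0, 4, 3, 1, 0, 4]), (92, true, [0, 2, 4, 0, 1, 0, 1, 0, 4, 0, 4, 3, 4, 0, 4, 0]), (155, true, [1, 3, 4, 3, 4, 0, 4, 0, 4, 3, 4, 3]), (92, false, [1, 0, 1, 2, 0, 1, 0, 1, 0, 1, 3, 1, 3, 4, 0, 4, 0]), (5, true, [4, 0, 1]), (152, false, [4, 3, 4, 0, 4, 3, 1, 0, 1, 0, 1, 3, 1, 3, 4, 3]), (23, false, [1, 3, 4, 0, 4, 0, 1, 3, 1, 0, 4, 0, 4, 0, 4, 0]), (247, true, [0, 1, 0, 1, 0, 2, 4, 0, 1, 3, 1, 3, 1]), (73, false, [0, 1, 3, 4, 3, 4, 0, 4, 3, 1, 0]), (89, true, [3, 1, 0, 1, 0, 1, 3, 1, 3, 1, 3, 4, 3,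 4, 0]), (233, false, [0, 1, 0, 1, 3, 4, 0, 4, 3, 1, 3, 1, 3, 4, 3]), (72, true, [1, 3, 4, 0, 1, 3, 1, 3, 4, 0, 4, 3, 4, 3]), (166, true, [1, 2, 0, 4, 3, 1, 0, 1, 0, 4, 0, 4]), (236, true, [1, 2, 0, 1, 3, 1, 0, 4, 0, 4, 3, 4, 3, 4, 3]), (276, false, [0, 4, 3, 4, 3, 1, 0, 1, 0, 1, 3, 1, 3, 4, 3]), (212, false, [2, 0, 1, 3, 1, 0, 4, 3, 1, 3, 1, 0, 4, 0]), (218, false, [0, 1, 2, 0, 4, 0, 1, 3, 4, 0, 4, 3, 4, 0, 4]), (180, true, [2, 4, 3, 1, 0, 4, 3, 4, 3, 4, 0, 4, 3, 1, 3]), (121, false, [0, 2, 4, 0, 1, 0, 1, 0, 4, 3, 1, 3]), (98, true, [0, 1, 3, 4, 3, 1, 0, 4, 0, 4, 0, 1, 3]), (46, false, [1, 3, 1, 3, 4, 3, 4, 0, 4, 0, 4, 3, 1, 3, 1]), (220, false, [0, 1, 3, 4, 0, 1, 3, 1, 0, 4, 3, 1]), (92, true, [0, 1, 0, 2, 4, 3, 4,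 0, 4, 0, 4, 3, 1, 3, 4, 0]), (111, false, [1, 0, 2, 4, 0, 4, 0, 1, 3, 1, 3, 4, 0, 4, 0, 1]), (86, true, [1, 0, 1, 2, 0, 4, 3, 4, 3, 4, 0, 1, 3, 4]), (57, false, [3, 1, 3, 1, 3, 1, 0, 4, 0, 4, 3, 4, 3, 4, 3]), (204, false, [2, 4, 3, 4, 0, 1, 0, 1, 0, 1, 3, 1, 0, 1]), (125, true, [0, 2, 4, 3, 4, 0, 1, 3, 1, 0, 4, 0, 4, 3, 1, 0]), (270, false, [0, 1, 3, 4, 3, 4, 0, 1, 3, 4, 3, 4, 0, 1, 3]), (64, false, [0, 1, 2, 0, 4, 3, 4, 0, 1, 0, 1, 0, 4, 0, 4, 3, 1, 3]), (106, false, [1, 3, 1, 0, 1, 3, 4, 0, 4, 3, 1, 0]), (128, false, [3, 1, 0, 4, 3, 1, 0, 1, 3, 4, 3, 1, 0, 1, 0, 1]), (217, false, [3, 1, 0, 1, 3, 1, 0, 4, 3, 4]), (211, false, [3, 1, 3, 4, 3, 4, 3, 4, 0, 4, 0, 4, 3]), (222, true, [0, 1, 0, 1, 0, 2, 4, 0, 4, 3, 1, 3,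 1, 3, 1, 0, 1, 0]), (110, true, [0, 2, 4, 0, 1, 0, 1, 0, 4, 0, 4, 3, 1, 3, 1, 3]), (225, true, [0, 1, 3, 1, 0, 1, 3, 4, 0, 4, 3, 4, 0, 4]), (3, false, [1, 0, 4, 3, 4, 0, 1, 0, 1, 0]), (176, true, [1, 3, 4, 3, 1, 0, 1, 3, 4, 0, 4, 3, 1]), (254, true, [1, 0, 4, 3, 1, 0, 1, 0, 4, 0, 4, 3]), (171, false, [2, 0, 1, 0, 1, 3, 4, 3, 1, 0, 1, 3, 1, 3, 1]), (220, true, []), (234, false, [4, 0, 1, 3, 1, 0, 1, 3, 4, 3, 4]), (69, true, [0, 1, 0, 1, 0, 1, 2, 0, 4, 0, 4, 0, 1, 3, 1, 0, 1, 0, 1, 3, 1]), (179, false, [1, 2, 0, 1, 3, 1, 3, 4, 0, 4, 0, 4, 0, 1]), (110, true, [4, 0, 4, 3, 1, 3, 1, 0, 4, 3, 1, 3]), (111, true, [2, 0, 4, 0, 1, 3, 4, 3, 4, 3, 4, 3]), (5, false, [0, 1, 0, 1, 0, 1, 3, 4]), (123, false, [2, 4, 3, 4, 3, 4, 0,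 1, 0, 1, 3, 1, 3, 1, 0, 4, 0]), (35, true, [3, 4, 3, 4, 0, 1, 3, 1, 3, 1, 0, 4, 3, 1]), (153, true, [1, 0, 2, 4, 0, 4, 3, 4, 0, 1, 3, 1, 3, 4, 3, 4, 3, 1]), (105, true, [2, 0, 1, 0, 1, 3, 1, 3, 1, 0, 1, 3]), (75, false, [4, 0, 4, 3, 4, 3, 1, 0, 4, 0, 4, 0, 4, 3, 1]), (73, true, [4, 0, 4, 3, 1, 3, 4, 0, 4, 3, 1, 0, 4, 0]), (184, false, [0, 4, 0, 4, 3, 4, 0, 4, 3, 1, 0, 1, 0, 4]), (250, true, [4, 0, 4, 3, 1, 3, 1, 0, 1, 0, 1]), (118, false, [4, 0, 4, 3, 1, 0, 1, 0, 1, 3, 1, 3, 1, 0]), (43, true, [0, 4, 3, 4, 3, 4, 0, 1, 3, 4, 3, 1]), (109, false, [4, 3, 4, 3, 4, 3, 1, 0, 4, 3, 4, 3, 4, 3, 1]), (36, false, [3, 1, 3, 1, 0, 1, 3, 1, 0, 1, 0]), (82, false, [3, 4, 3, 4, 0, 1, 3, 1, 0, 1, 0, 1, 3, 4, 3, 4]), (258, false, [2,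 0, 1, 0, 4, 0, 4, 3, 4, 0, 1, 3, 1]), (136, true, [0, 1, 3, 4, 3, 1, 0, 4, 3, 4]), (266, true, [1, 0, 1, 0, 1, 2, 0, 4, 3, 4, 3, 4, 0, 4, 0]), (277, false, [3, 4, 0, 1, 3, 1, 3, 1, 3]), (220, false, [0, 1, 0, 4, 0, 4, 0, 1, 3, 4, 0, 1]), (189, false, [3, 4, 3, 4, 0, 4, 0, 4, 3, 4, 0, 4, 3, 4, 3]), (111, false, [1, 2, 0, 1, 3, 1, 3, 4, 0, 4, 3, 1, 3, 1, 3, 1, 3]), (7, false, [1, 2, 0, 4, 0, 4, 3, 1, 0, 1, 0, 4, 0, 4, 0, 1]), (170, true, [4, 3, 4, 0, 4, 3, 4, 0, 1]), (86, false, [2, 0, 4, 3, 1, 0, 1, 0, 1, 0, 4, 3]), (229, true, [1, 3, 1, 0, 1, 0, 1, 3, 1, 3, 1, 3, 4, 0, 4]), (67, true, [0, 2, 4, 0, 1, 3, 1, 3, 4, 3, 4, 0, 1, 3, 1, 3, 1]), (83, false, [1, 0, 1, 3, 1, 3, 1, 3, 4, 3, 4, 3, 4, 0, 1]), (254, false, [2, 0,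 1, 0, 1, 3, 4, 3, 1, 0, 4, 0, 4, 3, 4]), (42, false, [1, 3, 1, 0, 1, 0, 4, 3, 4, 0, 1, 3, 1, 0]), (220, false, [0, 1, 0, 1, 0, 4, 0, 4, 0, 1, 3, 4]), (167, true, [3, 1, 0, 4, 3, 4, 0, 4, 3, 4, 3, 1]), (111, false, [4, 3, 4, 0, 4, 0, 4, 3, 4, 3, 4, 3]), (216, true, [2, 4, 0, 4, 3, 1, 0, 1, 0, 1, 0, 1, 3, 1, 3, 1]), (224, true, [4, 0, 1, 0, 4, 3, 4, 3, 1, 0, 4]), (180, true, [0, 2, 4, 0, 4, 3, 1, 3, 1, 0, 1, 0, 1])]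
def r221 : List (ℕ × Bool × List ℕ) := [(262, false, [4, 3, 4, 3, 1, 0, 4, 3, 4, 0, 1, 0]), (158, false, [0, 2, 4, 0, 4, 0, 1, 3, 1, 3, 4, 3, 4, 3, 1, 0]), (68, false, [0, 4, 3, 4, 0, 1, 0, 1, 0, 4, 0, 4, 3]), (112, true, [2, 4, 3, 1, 3, 1, 0, 1, 0, 4, 3, 4, 3, 1]), (139, true, [1, 0, 1, 3, 1, 0, 1, 3, 4, 3, 1, 0, 4]), (50, false, [3, 1, 0, 1, 3, 1, 3, 4, 0, 1, 0, 1]), (253, true, [0, 1, 0, 2, 4, 0, 4, 3, 1, 3, 1, 0, 1, 3, 1]), (112, false, [2, 0, 1, 0, 1, 0, 1, 3, 4, 3, 1, 0]), (226, false, [1, 3, 4, 0, 1, 3, 1, 0, 1]), (71, false, [4, 0, 4, 3, 4, 0, 4, 3, 4, 0, 4]), (128, true, [1, 2, 0, 4, 0, 1, 3, 1, 3, 4, 3, 4, 0]), (245, false, [0, 2, 4, 3, 4, 3, 4, 0, 4, 0, 1, 3, 1, 3]), (191, true, [2, 0, 4, 0, 1, 0, 1, 3, 1,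 0, 4, 0, 4, 3]), (214, true, [0, 1, 3, 4, 0, 1, 3, 1, 0, 1, 0, 1, 3]), (262, false, [0, 1, 3, 1, 0, 4, 0, 4, 0, 1, 3, 1, 0, 1, 3]), (196, true, [0, 1, 3, 1, 0, 1, 3, 1, 0, 1, 3, 1, 3, 1, 3]), (226, true, [0, 4, 3, 1, 3, 4, 0, 4, 3, 1, 0, 1, 0, 4, 0]), (72, false, [0, 1, 3, 1, 0, 1, 3, 4, 0, 4, 0, 4, 3, 4, 3]), (72, true, [0, 1, 3, 4, 0, 4, 3, 1, 0, 4, 0]), (235, true, [2, 4, 0, 1, 3, 4, 0, 4, 3, 1, 3, 1, 3, 4, 3, 4, 3]), (235, true, [1, 2, 0, 1, 3, 1, 3, 4, 0, 4, 3, 4, 0, 1]), (91, true, [1, 0, 1, 0, 1, 2, 0, 4, 3, 4, 0, 4, 3, 4, 3, 4, 3]), (89, true, [2, 0, 1, 0, 1, 3, 4, 3, 1, 0, 1, 3, 4, 0, 1, 0]), (141, true, [4, 3, 1, 3, 1, 0, 1, 0, 1, 0, 1, 3, 1, 0]), (153, false, [4, 3, 1, 3, 4, 0, 4, 3, 1, 3, 1, 0, 1]), (149,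 true, [1, 0, 2, 4, 0, 4, 3, 4, 3, 4, 0, 1, 3, 4]), (208, false, [0, 4, 3, 1, 0, 1, 3, 1, 0, 4]), (191, false, [1, 0, 1, 0, 1, 0, 1, 2, 0, 1, 3, 4, 3, 1]), (124, true, [1, 3, 4, 0, 4, 0, 1, 3, 1, 0, 1]), (232, false, [1, 2, 0, 4, 0, 4, 3, 4, 0, 1, 3, 4]), (190, true, [0, 1, 0, 1, 0, 1, 2, 0, 1, 3, 1, 0, 1, 3, 1, 3, 1]), (167, true, [0, 2, 4, 3, 1, 0, 1, 0, 1, 0, 4, 3]), (236, false, [0, 4, 0, 1, 3, 4, 0, 4, 3, 1, 3, 4, 0, 4, 3, 1]), (221, false, [0, 1, 3, 4, 0, 1, 3, 1, 3, 1, 0, 4, 3, 4, 3, 4]), (63, true, [1, 0, 1, 2, 0, 4, 3, 4, 0, 4, 0, 4, 0]), (91, false, [4, 0, 1, 0, 1, 0, 4, 0, 4, 3, 1, 3]), (68, false, [1, 2, 0, 4, 0, 4, 3, 1, 0, 1, 0, 1, 0, 4, 3]), (214, false, [0, 4, 3, 1, 0, 4, 0, 4, 3, 1, 3, 4, 0, 4, 0]), (204,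 true, [1, 2, 0, 4, 3, 4, 0, 4, 3, 4, 0, 1, 3]), (149, true, [1, 0, 1, 2, 0, 1, 3, 1, 3, 1, 0, 4]), (273, false, [2, 0, 1, 3, 1, 0, 4, 3, 4, 0, 4, 3, 4, 3, 4]), (188, false, [1, 3, 1, 3, 1, 0, 1, 0, 4, 0, 4, 3, 1]), (216, true, [2]), (224, true, [2, 4, 0, 1, 0, 1, 0, 4, 0, 4, 0, 1]), (266, true, [0, 4, 0, 1, 3, 4, 0, 4, 0, 4, 0, 4, 0]), (98, false, [0, 1, 0, 1, 2, 0, 4, 3, 4, 3, 4, 0, 4, 3, 4, 3]), (157, false, [0, 1, 2, 0, 1, 3, 1, 0, 1, 3, 1, 0, 1, 3, 1]), (115, false, [1, 0, 4, 0, 1, 3, 1, 3, 1, 0, 1, 0, 1, 3]), (155, true, [1, 0, 2, 4, 3, 4, 0, 1, 0, 1, 3, 1, 0]), (75, false, [2, 0, 4, 0, 4, 3, 4, 3, 4]), (53, true, [0, 4, 3, 1, 0, 4, 3, 4, 3, 4, 0, 4, 0]), (198, true, [1, 0, 2, 4, 3, 1, 0, 1, 0, 1, 0, 1, 3, 1, 0]),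 (188, false, [1, 2, 0, 4, 0, 4, 3, 4, 3, 4, 0, 1, 3, 1, 3, 4]), (106, true, [0, 2, 4, 0, 1, 0, 1, 0, 1, 0, 1]), (92, false, [0, 2, 4, 3, 1, 0, 1, 0, 4, 3, 4, 3, 4, 3, 4, 3]), (71, false, [4, 0, 4, 3, 4, 0, 4, 3, 4, 0, 4]), (179, true, [1, 0, 4, 3, 4, 3, 4, 0, 4, 3, 4, 0, 4]), (203, true, [1, 2, 0, 4, 3, 4, 0, 1, 3, 1, 0, 4, 0]), (245, true, [0, 1, 0, 1, 0, 1, 0, 1, 0, 1, 3, 1, 3, 4, 0, 4]), (183, false, [2, 4, 0, 1, 0, 4, 3, 1, 0, 1, 0, 1, 3]), (155, true, [1, 0, 1, 2, 0, 1, 3, 1, 3]), (281, false, [0, 1, 0, 1, 3, 1, 3, 1, 0, 1, 0, 1, 3, 4, 0, 4, 3]), (235, false, [2, 0, 4, 3, 4, 3, 4, 0, 4, 3, 4, 0, 4, 3, 1]), (86, false, [1, 3, 1, 3, 1, 3, 4, 3, 4, 3, 1, 0, 1, 0]), (256, false, [1, 0, 1, 0, 1, 3, 4, 3, 4, 0, 1, 3,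 1, 0, 4, 3]), (96, true, [2, 0, 4, 3, 4, 0, 1, 0, 1, 0]), (246, true, [3, 4, 3, 4, 3, 4, 0, 4, 0, 4, 3, 1, 3, 1]), (109, true, [4, 3, 4, 3, 4, 0, 1, 0, 1, 3, 1, 3, 1]), (41, false, [3, 1, 0, 1, 3, 4, 0, 1, 0, 1, 3]), (246, true, [1, 0, 4, 3, 4, 3, 4, 0, 4, 0, 4]), (150, false, [3, 4, 3, 4, 0, 1, 3, 1, 3, 4, 0, 1]), (29, false, [4, 0, 1, 3, 1, 3, 4, 0, 1, 0, 1, 3]), (70, false, [4, 0, 4, 0, 1, 3, 1, 0, 1, 3, 1]), (169, true, [1, 3, 1, 0, 1, 3, 1, 3, 1]), (221, false, [1, 0, 1, 0, 4, 0, 4, 3, 1, 0, 1, 0, 4, 0, 4]), (214, false, [2, 0, 4, 3, 4, 0, 1, 0, 1, 0, 4, 0, 4, 0]), (58, true, [0, 1, 3, 1, 0, 1, 0, 4, 3, 1, 3, 1, 0, 4]), (261, true, [2, 0, 1, 0, 1, 0, 4, 3, 4, 0, 4, 0, 4, 0]), (128, false, [1, 3, 1, 0, 4, 0, 4, 0,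 4, 3, 1, 0, 1, 3, 1]), (89, true, [3, 1, 3, 4, 0, 1, 3, 1, 3, 4, 0, 4]), (20, true, [3, 1, 3, 4, 0, 4, 0, 4, 0, 4, 3, 4, 3]), (58, true, [0, 4, 3, 1, 0, 1, 3, 4, 3, 4, 3, 1, 0, 1, 3]), (272, true, [1, 0, 1, 3, 1, 0, 4, 3, 1, 0, 1, 0, 1]), (158, false, [1, 2, 0, 4, 3, 4, 0, 4, 3, 4, 3, 4, 0, 1, 3]), (276, true, [0, 1, 3, 1, 3, 1, 0, 4, 3, 1, 3, 4, 0, 4, 0, 1, 0]), (19, true, [1, 2, 0, 1, 0, 1, 0, 1, 0, 1, 0, 4]), (79, true, [1, 0, 4, 0, 4, 3, 1, 0, 1, 3, 4, 3, 1, 0, 1, 3]), (89, false, [2, 4, 3, 1, 0, 1, 3, 4, 3, 4, 0, 4, 0, 4, 0, 4]), (236, false, [0, 4, 3, 1, 0, 1, 3, 4, 0, 4, 0, 4, 3, 4, 3]), (106, true, [0, 2, 4, 0, 4, 0, 4, 0, 1, 3, 4, 3, 4]), (112, false, [1, 0, 1, 3, 1, 3, 4, 0, 1, 3, 1, 0, 1, 3]), (215, true,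 [1, 3, 1, 0, 4, 3, 4, 3, 4, 0, 4, 3, 1, 0, 4]), (21, false, [1, 0, 1, 0, 1, 3, 1, 0, 4, 3, 1, 3, 4, 0]), (236, true, [2, 0, 4, 0, 1, 3, 4, 0]), (30, true, [1, 0, 4, 0, 4, 3, 4, 3, 4, 3, 4, 3, 4]), (89, true, [3, 4, 3, 1, 0, 1, 3, 1, 0, 4, 0, 4]), (208, true, [0, 4, 3, 4, 3, 4, 0, 4, 0, 4, 0, 4, 3, 1, 3]), (215, true, [3, 1, 3, 4, 0, 1, 3, 1, 0, 4, 0, 4, 3, 4]), (256, false, [2, 0, 4, 0, 1, 0, 1, 3, 1, 0]), (41, false, [3, 4, 3, 1, 3, 1, 0, 4, 0, 1]), (66, false, [0, 1, 0, 1, 0, 4, 3, 1, 3, 1, 0, 1, 0, 1]), (86, false, [1, 0, 4, 3, 4, 0, 1]), (191, false, [1, 0, 2, 4, 3, 4, 3, 4, 0, 1, 0, 1, 0]), (128, true, [1, 2, 0, 4, 3, 1, 0, 4]), (189, false, [2, 0, 1, 0, 1, 0, 4, 0, 4, 0, 4, 0, 4, 3]), (112, false, [3, 4, 3, 4,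 0, 4, 0, 4, 3, 1, 3, 4, 0, 4]), (30, true, [2, 4, 0, 1, 3, 4, 3, 4, 3, 4, 3, 4]), (261, false, [0, 2, 4, 3, 1, 0, 4, 3, 4, 0, 4, 0, 4]), (260, false, [2, 4, 3, 1, 3, 4, 0, 4, 3, 4, 0, 4, 3, 1, 0]), (72, true, [2, 0, 1, 0, 4, 3, 1, 3, 1, 0, 4, 0]), (198, true, [3, 4, 0, 4, 3, 4, 3, 1, 0, 4, 3, 4, 3, 1]), (277, false, [4, 3, 1, 0, 1, 0, 1, 3, 4, 0, 4, 3, 1, 3])]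
def r222 : List (ℕ × Bool × List ℕ) := [(256, false, [0, 1, 2, 0, 1, 3, 4, 0, 4, 0, 4, 0, 4, 3, 1, 0, 4]), (57, true, [0, 1, 0, 1, 2, 0, 4, 0, 4, 3, 1, 3, 1, 3]), (172, false, [1, 3, 1, 3, 1, 0, 1, 0, 1, 3, 4, 0, 4, 3, 1, 3]), (111, false, [3, 4, 3, 1, 3, 1, 3, 1, 0, 4, 3]), (126, false, [2, 4, 0, 1, 0, 1, 0, 4, 3, 1, 3, 4, 0, 4, 3, 1]), (51, true, [0, 2, 4, 3, 4, 3, 4, 3, 1, 0, 1, 3, 4]), (109, true, [3, 4, 0, 1, 3, 1, 0, 4, 3, 4, 3, 4]), (272, true, [0, 4, 0, 4, 0, 4, 0, 1, 3, 1, 0, 4, 0, 4, 3]), (69, false, [0, 4, 3, 1, 0, 1, 3, 4, 3, 4, 0, 4, 3, 1]), (158, false, [0, 1, 0, 2, 4, 3, 4, 0, 4, 3, 4, 0]), (158, true, [3, 4, 0, 1, 3, 4, 0, 4, 0, 4, 0, 1]), (269, false, [0, 2, 4, 0, 1, 3, 1, 0, 1, 0, 4, 3, 1, 3, 1, 0,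 4]), (222, true, []), (115, false, [1, 0, 2, 4, 3, 1, 0, 1, 3, 1, 0, 1, 0, 1, 3, 4]), (222, true, [0, 1, 0, 1, 0, 1, 3, 4, 3, 4, 3, 1, 0, 1, 3, 1]), (222, false, [0, 1, 0, 1, 0, 1, 3, 1, 3, 4, 3, 4, 3, 4, 0, 4]), (151, true, [1, 0, 4, 0, 1, 3, 4, 3, 4, 0, 4, 3, 1, 3, 1]), (261, false, [0, 1, 2, 0, 1, 3, 1, 0, 1, 3, 4, 3, 4, 0, 4, 3, 1, 0]), (65, false, [4, 3, 1, 3, 4, 0, 1, 0, 1, 0, 4, 3]), (276, true, [0, 1, 0, 1, 2, 0, 4, 3, 4, 3, 4, 0, 4, 0, 1, 3, 1]), (252, true, [1, 0, 1, 2, 0, 1, 0, 1, 0, 1, 3]), (252, true, [1, 2, 0, 4, 3, 1, 3, 1, 0, 4, 3, 1, 3, 4]), (220, true, [1, 0, 1, 0, 1, 2, 0, 4, 0, 1, 3, 4, 0, 4, 0, 4, 3, 4]), (69, false, [1, 3, 1, 3, 1, 0, 1, 3, 1, 0, 1, 3, 1, 3, 1, 0, 4]), (68, false, [0, 1, 2, 0, 4,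 3, 4, 0, 1, 3, 1, 3, 1, 0, 1, 0]), (218, false, [3, 4, 0, 1, 3, 4, 0, 4, 0, 4, 3, 4, 3, 4, 0, 4]), (124, true, [4, 0, 4, 3, 4, 0, 1, 3, 1, 3, 1, 0, 1, 0, 4, 3]), (178, true, [1, 0, 2, 4, 0, 1, 0, 1]), (232, true, [2, 0, 1, 3, 4, 3, 4, 0, 4, 3, 1, 3, 1, 0]), (170, false, [2, 0, 1, 3, 1, 0, 4, 0, 4, 0, 4, 3, 4, 3]), (226, true, [1, 2, 0, 1, 0, 4, 3, 4, 0, 4, 0, 1, 3, 1, 3, 1, 3]), (217, false, [2, 0, 1, 3, 1, 3, 1, 0, 1, 0, 4, 0, 4]), (263, false, [0, 4, 0, 1, 3, 1, 0, 1, 3, 1, 0, 1, 0, 1, 3, 4, 0]), (128, false, [1, 0, 1, 3, 1, 3, 4, 0, 4, 3, 1, 0, 4, 0, 4, 0]), (90, true, [0, 1, 0, 4, 0, 4, 3, 4, 0]), (58, false, [1, 0, 1, 0, 4, 3, 1, 0, 1, 0, 1, 0]), (170, false, [1, 0, 2, 4, 3, 4, 3, 1, 0, 1, 3, 1, 0, 1, 3, 4, 3, 4]),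 (126, false, [1, 3, 1, 0, 4, 3, 1, 0, 1, 0, 4, 3, 1, 3]), (58, true, [2, 0, 4, 0, 1, 3, 4, 3, 4, 3, 1, 0, 1]), (89, true, [1, 0, 4, 0, 4, 0, 4, 3, 1, 0, 1, 3]), (180, false, [1, 0, 1, 2, 0, 4, 0, 4, 3, 1, 3, 4, 0, 4, 3]), (68, false, [0, 4, 0, 1, 0, 1, 3, 4, 0, 4, 3, 1, 3, 1, 3, 4]), (222, true, []), (225, true, [4, 0, 1, 0, 1, 0, 4, 0, 4, 0, 1]), (254, true, [1, 3, 4, 3, 4, 0, 1, 0]), (222, false, [0, 4, 0, 1, 0, 1, 3, 1, 3, 1, 3, 4, 3, 4, 0, 4]), (125, true, [1, 2, 0, 1, 3, 1, 0, 4, 3, 4, 0, 1]), (117, false, [3, 1, 0, 4, 0, 4, 0, 4, 3, 4, 3, 4, 3]), (38, false, [0, 2, 4, 0, 4, 3, 4, 3, 4, 0, 4, 3, 1, 3]), (126, false, [0, 1, 2, 0, 4, 0, 4, 3, 1, 3, 1, 0]), (57, true, [0, 1, 2, 0, 1, 0, 4, 3, 1, 3, 1, 0, 1, 0, 4, 3,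 1]), (146, false, [0, 1, 0, 4, 3, 4, 0, 1, 0, 1, 0, 1, 3, 4]), (87, false, [0, 2, 4, 3, 1, 0, 1, 3, 4, 0, 1, 3, 1, 3, 1, 3]), (192, true, [2, 4, 3, 4, 3, 4, 0, 4, 0, 1]), (279, true, [3, 1, 0, 1, 3, 4, 0, 4, 0, 4, 3, 4]), (171, true, [0, 1, 3, 1, 3, 4, 3, 4, 3, 4, 3, 4, 3]), (172, true, [0, 4, 3, 4, 3, 4, 3, 4, 0, 4, 0, 4, 0, 4]), (272, false, [3, 1, 0, 1, 3, 1, 3, 1, 0, 1, 0, 1, 0, 1, 0]), (88, true, [0, 2, 4, 3, 1, 3, 1, 0]), (39, true, [3, 1, 3, 4, 0, 4, 0, 4, 3, 1, 0]), (280, false, [3, 1, 0, 1, 0, 4, 3, 1, 3, 4, 0]), (267, false, [1, 0, 1, 3, 1, 3, 1, 3, 1, 0, 4, 0, 4, 3, 1]), (98, false, [0, 4, 3, 1, 0, 1, 3, 4, 3, 4, 3, 1, 0, 4]), (23, false, [1, 0, 2, 4, 3, 4, 0, 1, 3, 1, 3, 1, 0, 1, 0]), (178, true, [2, 0, 4,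 3, 4, 0, 4, 3, 1, 0, 1, 3, 4]), (171, true, [3, 4, 3, 4, 0, 1, 0, 1, 3, 4, 3, 4, 0, 1, 0, 4]), (267, false, [3, 4, 3, 4, 0, 4, 0, 4, 0, 1, 3, 1, 0, 4, 0]), (73, true, [2, 4, 0, 1, 0, 4, 3, 4, 0, 4, 3, 4, 0]), (56, true, [4, 3, 1, 0, 4, 0, 4, 0, 1, 3, 1, 0, 1, 0, 1]), (216, false, [3, 1, 0, 1, 0, 1, 3, 1, 3, 1, 3, 4, 3, 4, 3]), (77, false, [1, 3, 1, 0, 4, 3, 4, 0, 1, 3, 4, 3, 1, 0]), (43, false, [1, 0, 1, 0, 2, 4, 3, 4, 0, 1, 3, 4, 0]), (115, false, [1, 2, 0, 1, 3, 1, 0, 4, 0, 4, 3, 1, 3, 4, 0]), (112, false, [0, 1, 0, 1, 2, 0, 1, 3, 4, 3, 1]), (125, true, [0, 1, 0, 1, 2, 0, 4, 3, 4, 3, 4, 0, 1, 3]), (38, false, [0, 4, 0, 4, 3, 1, 3, 4, 0, 4, 3, 1, 0, 4, 0, 4]), (89, false, [0, 4, 0, 4, 3, 1, 0, 1, 3, 4, 0, 4]), (222,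 true, [4, 0, 1, 3, 1, 3, 1, 3, 4, 0, 4, 0, 1, 3, 1, 3]), (104, false, [4, 3, 4, 0, 4, 3, 1, 0]), (232, true, [3, 1, 0, 1, 3, 4, 0, 4, 0, 4, 3]), (87, false, [1, 0, 4, 3, 1, 3, 1, 0, 1, 0, 4, 3, 4, 3]), (87, false, [0, 1, 0, 1, 0, 1, 2, 0, 4]), (270, true, [2, 4, 3, 1, 0, 1, 0, 1, 3, 4, 3, 1]), (267, false, [3, 4, 3, 4, 0, 4, 0, 4, 0, 1, 3, 1, 0, 4, 0]), (38, false, [0, 1, 3, 4, 3, 4, 0, 1, 3, 4, 0]), (56, true, [0, 4, 3, 4, 0, 4, 0, 4, 3, 4, 0, 4, 3]), (87, false, [3, 1, 3, 4, 0, 4, 0, 1, 3, 4, 0, 4, 0, 1, 0]), (243, false, [0, 2, 4, 0, 4, 0, 1, 3, 1, 0, 1, 0, 1, 3, 1]), (123, false, [2, 0, 4, 3, 4, 3, 4, 0, 4, 3, 4, 0, 1, 0, 1]), (8, false, [4, 3, 1, 3, 4, 0, 1, 3, 1, 3, 4, 0]), (216, false, [2, 4, 3, 1, 3, 4, 0, 4,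 0, 4, 0, 1, 3, 1, 3]), (112, true, [0, 2, 4, 3, 4, 0, 1, 0, 1, 3, 4, 0]), (248, true, [1, 0, 4, 3, 1, 3, 4, 0, 4, 3, 4, 3, 4, 0]), (255, false, [0, 1, 2, 0, 1, 3, 4, 3, 4, 3, 4, 0, 1]), (117, false, [1, 3, 4, 0, 1, 3, 1, 0, 4, 0, 4, 0, 4, 0]), (255, true, [0, 1, 2, 0, 4, 3, 4, 3, 4, 0, 1, 3, 1, 0, 4, 0, 4]), (104, false, [0, 2, 4, 3, 1, 0, 1, 0, 4, 0, 4]), (180, false, [1, 3, 4, 3, 4, 0, 1, 0, 1, 0, 1, 3, 1]), (256, false, [0, 4, 0, 4, 3, 4, 3, 4, 3, 4, 0, 4, 0, 1, 0]), (225, false, [3, 1, 0, 1, 0, 1, 3, 1, 0, 1, 3, 4, 0, 4]), (90, true, [3, 1, 3, 1, 0, 4, 3, 4, 3, 4, 0, 4, 0, 4, 3, 4]), (82, true, [0, 1, 0, 2, 4, 0, 4, 3, 4, 3, 4, 0, 4, 0, 1]), (119, false, [0, 1, 0, 1, 0, 1, 0, 4, 3, 4, 0, 4]), (67, false, [2, 0, 4,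 3, 1, 0, 1, 0, 4, 0, 4, 0, 4]), (178, true, [4, 0, 1, 0, 1, 3, 4, 0, 4, 0]), (156, true, [0, 1, 0, 1, 2, 0, 1, 0, 1, 3, 1, 3, 1, 0]), (67, true, [0, 2, 4, 3, 1, 0, 1, 0, 4, 3, 4, 3, 1, 0, 1]), (111, false, [0, 4, 0, 4, 3, 4, 3, 4, 3, 4, 3, 4, 0, 1, 0]), (218, false, [3, 1, 3, 1, 0, 1, 0, 1, 3, 4, 0, 4, 3, 4]), (202, false, [3, 4, 0, 1, 3, 4, 3, 4, 3, 1]), (215, true, [0, 1, 0, 1, 0, 1, 0, 4, 3, 1, 0, 1, 0, 1, 3, 4]), (236, true, [4, 0, 1, 3, 4, 3, 4, 0, 1, 0, 1, 3, 4, 3, 4])]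
def r223 : List (ℕ × Bool × List ℕ) := [(66, false, [4, 0, 1, 0, 4, 3, 1, 3, 1, 0, 4, 0]), (223, true, [0, 4, 0, 4, 3, 1, 3, 1, 0, 1, 0, 1, 3, 4, 0]), (71, false, [1, 0, 1, 0, 2, 4, 0, 1, 3, 1, 0, 4, 3]), (60, true, [0, 1, 0, 1, 3, 4, 0, 1, 3, 1, 0, 1, 0, 4, 3]), (256, true, [3, 4, 0, 1, 3, 1, 0, 1, 3, 1, 3, 4, 3, 4]), (192, false, [1, 3, 1, 3, 1]), (74, false, [4, 0, 4, 0, 4, 0, 1, 3, 1, 0, 4, 0, 4, 0, 1]), (154, false, [1, 3, 4, 3, 1, 0, 4, 0, 4, 3, 1, 0, 4, 0, 4]), (219, false, [4, 3, 4, 0, 1, 3, 1, 3, 1, 0, 4, 3, 1, 3]), (88, true, [0, 2, 4, 3, 4, 0, 4, 0, 1, 3, 4, 0, 4, 3, 4]), (212, false, [1, 0, 1, 3, 4, 0, 4, 3, 4, 3, 4, 0, 4, 3, 4, 3]), (84, true, [0, 2, 4, 0, 4, 0, 1, 3, 1, 3, 4, 3, 4, 3, 1]), (71, true, [0,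 4, 3, 1, 0, 1, 3, 4, 3, 4, 0, 1, 0, 4]), (223, false, [4, 0, 1, 0, 1, 3, 4, 0, 1, 3, 1, 3, 1]), (60, false, [4, 0, 4, 0, 4, 3, 1, 3, 4]), (57, true, [1, 0, 2, 4, 3, 4, 3, 4, 0, 1, 0, 1, 3, 1, 3, 1]), (223, true, [1, 0, 1, 3, 1, 3, 1, 3, 4, 3, 4, 0]), (90, true, [0, 1, 3, 1, 0, 1, 0, 4, 0, 4, 3, 1, 0, 1, 3, 1]), (273, true, [4, 0, 1, 3, 1, 0, 1, 0, 1, 3, 1, 0]), (85, false, [1, 0, 2, 4, 3, 4, 0, 1, 3, 1, 3, 4, 3, 4, 3, 4]), (172, true, [2, 4, 3, 4, 3, 1, 0, 1, 0, 1, 0, 1, 3, 4, 0]), (156, true, [1, 2, 0, 1, 3, 4, 3, 4, 3, 1, 0, 4, 0, 4]), (158, true, [0, 4, 0, 4, 3, 1, 3, 4, 0, 4, 3, 4]), (214, true, [3, 4, 0, 1, 3, 1, 3, 1, 3, 4, 3, 4, 3, 4]), (218, true, [0, 4, 3, 1, 3, 4, 0, 4, 0, 4]), (223, false, [1, 3, 4, 0, 4,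 3, 1, 0, 1, 3, 1, 3, 1]), (223, true, [3, 1, 0, 4, 3, 4, 3, 4, 0, 4, 0, 1, 3, 1, 3]), (270, true, [0, 2, 4, 3, 4, 0, 1, 3, 1, 3, 4, 0, 4, 0, 4, 0, 4]), (152, false, [0, 1, 0, 1, 0, 4, 3, 4, 0, 4, 3, 4, 0, 4, 0, 4]), (219, true, [2, 0, 4, 0, 1, 0, 1, 3, 4, 0, 4, 0, 4, 3, 4, 0, 1]), (71, false, [2, 4, 3, 1, 3, 1, 3, 1, 0, 1, 0, 1, 3, 4, 0]), (152, false, [0, 1, 3, 4, 0, 4, 0, 1, 3, 1, 3, 4, 0, 4, 0, 1]), (242, false, [0, 1, 0, 1, 3, 1, 0, 4, 0, 4, 0, 1, 3, 4]), (224, true, [0, 1, 0, 1, 0, 2, 4, 3, 4, 0, 4, 0, 4, 3, 1, 0, 1, 3]), (219, true, [0, 4, 0, 4, 3, 4, 3, 1, 0, 4, 3, 4]), (109, false, [1, 0, 1, 3, 4, 3, 1, 0, 1, 0, 4]), (105, false, [0, 1, 3, 4, 0, 4, 0, 1, 3, 1, 0, 1]), (193, false, [1, 0, 1, 0, 1, 0, 4, 0, 4,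 0, 4, 0, 1, 3]), (190, false, [4, 3, 4, 3, 4, 0, 1, 3, 4]), (253, false, [0, 4, 3, 1, 3, 4, 0, 1, 3, 1, 3]), (255, false, [3, 1, 0, 1, 3, 1, 3, 1, 0, 1, 3, 4, 3]), (112, true, [1, 0, 1, 0, 2, 4, 0, 1, 3, 1, 3, 1, 0, 1, 3, 1, 3]), (91, false, [1, 0, 1, 0, 1, 0, 1, 2, 0, 1, 0, 1, 3, 1, 3, 4, 0]), (68, false, [2, 4, 3, 1, 3, 1, 3, 1, 0, 1, 0, 1, 3, 1]), (152, true, [0, 1, 2, 0, 4, 0, 4, 3, 4, 0, 1, 0, 1, 0, 4]), (219, true, [0, 1, 0, 2, 4, 0, 1, 0, 4]), (223, false, [1, 0, 4, 0, 4, 3, 4, 0, 1, 3, 1, 0]), (77, false, [1, 0, 1, 2, 0, 1, 0, 1, 0, 4, 3, 1, 3]), (162, true, [3, 1, 0, 1, 3, 1, 3, 4, 0, 1, 0]), (252, true, [1, 0, 1, 0, 1, 2, 0, 1, 3, 4, 0, 4, 0, 1]), (276, true, [0, 1, 2, 0, 1, 3, 4, 0, 4, 0, 4, 3, 4, 3, 4, 0,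 4, 3]), (167, true, [0, 1, 0, 1, 0, 1, 3, 4, 0, 1, 0, 1, 0, 1]), (223, true, [3, 1, 0, 1, 0, 4, 0, 4, 0, 4, 3, 4]), (111, false, [0, 4, 3, 4, 3, 1, 0, 1, 0, 4, 3, 4, 3, 4, 0]), (84, false, [3, 4, 3, 4, 0, 4, 0, 1, 3, 4, 0, 4, 0, 1, 0]), (58, true, [3, 4, 0, 4, 0, 4, 0, 4, 3, 4, 3, 4, 0, 4]), (58, false, [2, 4, 3, 1, 3, 1, 0, 1, 0, 1, 3, 1, 3, 1, 3, 4]), (202, true, [2, 0, 1, 3, 4, 0, 1, 3, 1, 3, 1, 0, 4, 3]), (277, true, [0, 1, 0, 2, 4, 0, 1, 0, 4, 3, 4, 3, 1, 0, 4, 0, 4]), (252, false, [0, 1, 0, 1, 0, 1, 2, 0, 4, 3, 4, 0, 4, 0]), (97, false, [1, 0, 4, 3, 4, 0, 1, 3, 1, 3, 4, 0, 1]), (91, true, [1, 3, 1, 0, 1, 3, 4, 0, 4, 0, 1]), (223, false, [0, 4, 0, 4, 3, 4, 0, 4, 3, 4, 0, 1, 0]), (237, false, [0, 1, 0, 1, 0, 1, 2,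 0, 1, 3, 1, 0, 1, 0]), (223, false, [1, 0, 1, 0, 4, 0, 4, 3, 1, 0, 1, 0, 4, 0, 4]), (96, false, [1, 2, 0, 4, 0, 4, 3, 4, 0, 1, 0, 1, 0, 4]), (219, false, [0, 1, 3, 4, 3, 4, 0, 1, 3, 1, 3, 4]), (109, false, [1, 3, 4, 3, 1, 0, 1, 3, 4, 3, 4, 0, 4, 3]), (212, true, [1, 3, 1, 3, 4, 3, 4, 0, 4, 0, 4, 3, 1, 3, 4, 0]), (205, true, [4, 0, 4, 3, 1, 0, 1, 0, 4, 3, 4, 0]), (111, true, [1, 0, 4, 3, 1, 3, 1, 0, 1, 3, 4, 0, 4, 0, 4]), (219, false, [2, 0, 4, 0, 1, 3, 4, 0]), (70, false, [1, 0, 1, 0, 4, 3, 4, 3, 4, 3, 1, 0, 4, 0, 1]), (164, false, [1, 2, 0, 4, 3, 4, 0, 4, 3, 1, 3, 1, 0, 4]), (252, false, [2, 0, 4, 3, 4, 0, 4, 3, 4, 0, 4, 3, 4, 3, 1, 0]), (141, false, [2, 4, 0, 1, 0, 1, 3, 1, 0, 1, 3, 1, 0, 1, 3, 1]), (152, true, [1,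 0, 2, 4, 0, 4, 0, 4, 0, 1, 3, 4, 3, 4, 0, 4, 3]), (108, false, [4, 3, 4, 0, 1, 0, 1, 3, 1, 3, 1, 0, 1]), (237, true, [2, 4, 3, 1, 0, 1, 0, 1, 3, 4, 3, 1, 0, 4, 0]), (72, true, [0, 1, 2, 0, 1, 3, 1, 3, 1, 3, 1, 0, 4, 3, 4]), (91, false, [1, 0, 1, 0, 1, 0, 1, 2, 0, 1, 0, 1, 3, 1, 3, 4, 0]), (60, true, [4, 0, 4, 0, 1, 3, 1, 3, 4, 3, 4, 3, 1]), (158, false, [1, 0, 1, 0, 2, 4, 0, 4, 3, 1, 0, 1, 3, 1]), (276, true, [1, 2, 0, 1, 0, 1, 3, 1, 3, 1, 0, 4, 0, 4, 3, 1, 3, 1]), (88, false, [0, 2, 4, 3, 1, 0, 1, 3, 4, 0, 4, 0, 4, 0, 1, 0]), (96, true, [2, 4, 3, 4, 3, 1, 0, 1, 3, 1, 0, 1, 3, 4, 3, 4, 0]), (223, false, [1, 0, 1, 0, 4, 0, 4, 3, 4, 0, 4, 3, 1, 0, 1, 0, 4]), (153, false, [3, 4, 0, 4, 0, 1, 3, 4, 3, 4, 3, 4]), (185, true,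 [0, 1, 0, 1, 0, 1, 0, 1, 2, 0, 4, 3, 4]), (213, false, [0, 1, 0, 2, 4, 0, 1, 3, 1, 3, 4, 0, 4, 3, 1, 0, 4]), (90, false, [0, 1, 0, 1, 3, 1, 3, 4, 0, 4, 0, 4, 3, 4]), (223, false, [3, 1, 0, 4, 3, 1, 0, 1, 3, 1, 0, 1]), (52, true, [1, 2, 0, 1, 3, 4, 0, 1, 3, 1, 3, 1, 0, 1]), (242, true, [3, 1, 3, 4, 0, 4, 0, 4, 3, 4, 3, 4, 3, 1, 0]), (277, true, [2, 4, 0, 1, 0, 4, 3, 1, 3, 4]), (209, true, [1, 0, 1, 3, 1, 3, 1, 3, 4, 3, 4, 0, 4, 3]), (270, false, [1, 2, 0, 4, 3, 1, 3, 1, 3, 4]), (164, true, [0, 1, 0, 4, 3, 4, 0, 4, 0, 1, 3, 1, 0, 1, 3]), (213, true, [1, 0, 4, 0, 4, 0, 4, 0, 4, 0, 4, 3]), (71, true, [3, 4, 0, 4, 0, 1, 3, 4, 0, 4, 0, 1, 3, 4, 3]), (205, false, [1, 0, 2, 4, 0, 1, 0, 4, 3, 4, 0, 1]), (242, true, [1, 3, 1,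 0, 4, 0, 4, 3, 1, 3, 4, 0, 4, 0]), (141, false, [1, 0, 1, 2, 0, 1, 0, 4, 3, 4, 3, 1, 0, 1, 0, 1]), (57, false, [0, 1, 2, 0, 1, 0, 1, 3, 4, 0, 1, 3, 1, 3, 4, 0]), (153, false, [3, 1, 3, 1, 3, 4, 3, 4, 3, 4, 0, 1, 3, 1]), (66, false, [0, 1, 0, 1, 0, 4, 3, 1, 3, 1, 0, 4, 0, 1]), (190, true, [0, 1, 0, 1, 3, 4, 3, 1, 0, 1, 3, 1]), (170, false, [1, 0, 1, 0, 1, 2, 0, 4, 3, 4, 0, 1, 3, 4]), (89, true, [0, 1, 0, 4, 0, 4, 0, 4, 3, 1, 0]), (97, true, [1, 0, 2, 4, 0, 4, 0, 4, 3, 1, 0, 4, 0]), (211, false, [0, 2, 4, 0, 1, 0, 1, 3, 1, 3, 1, 3]), (189, true, [3, 4, 3, 1, 3, 1, 3, 1, 0, 1, 3, 4, 0, 1])]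
def r224 : List (ℕ × Bool × List ℕ) := [(169, true, [1, 0, 2, 4, 3]), (253, false, [2, 0, 4, 0, 1, 0, 1, 3, 4, 0, 4, 3, 4, 0, 4, 3]), (172, false, [2, 0, 1, 0, 1, 0, 4, 3, 1, 3, 1, 0, 1, 3, 4, 3, 4]), (164, true, [2, 4, 0, 1, 0, 4, 3, 1, 0, 1, 3, 1, 0, 4, 0]), (230, true, [1, 0, 1, 3, 1, 0, 1, 3, 1, 3, 1, 0, 4, 3]), (185, true, [0, 2, 4, 0, 4, 3, 1, 0, 1, 3, 4, 3, 4, 0, 1]), (169, false, [1, 0, 1, 3, 4, 0, 4, 0, 1, 0]), (147, true, [1, 3, 4, 0, 1, 3, 1, 3, 1, 3, 1, 0, 4, 3]), (98, true, [2, 0, 1, 3, 4, 0, 4, 0, 4, 3, 1, 0, 1, 0, 4]), (70, false, [4, 0, 4, 3, 1, 3, 4, 0, 4, 3, 4, 3, 1, 0, 1]), (58, true, [2, 0, 4, 0, 4, 0, 4, 0, 4, 3, 1, 3, 1, 0, 1]), (190, true, [1, 0, 1, 0, 1, 0, 1, 2, 0, 1, 0, 4, 0, 4]), (202, false,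 [3, 4, 0, 4, 3, 1, 0, 1, 3, 4, 3, 1, 0, 1, 3]), (72, true, [2, 4, 3, 1, 0, 1, 0, 1, 0, 4, 3, 1, 3]), (220, true, [1, 3, 4, 0, 1, 0, 1, 3, 4, 3, 1]), (204, true, [0, 1, 2, 0, 1, 0, 4, 3, 4, 0, 1]), (150, true, [2, 0, 1, 3, 4, 3, 4, 3, 4, 0, 4, 0, 4, 3, 4, 3]), (219, false, [2, 4, 0, 1, 0, 4, 3, 1, 0, 1, 0, 1, 3, 4, 0]), (108, false, [0, 4, 0, 1, 3, 1, 0, 4, 0]), (253, true, [0, 4, 3, 1, 3, 4, 0, 4, 3, 1, 0, 4, 0, 4, 3, 4]), (256, true, [2, 0, 1, 0, 1, 3, 4, 0, 4, 3, 1, 0]), (259, false, [2, 0, 1, 3, 4, 3, 4, 0, 4, 0, 4, 0, 4]), (89, false, [1, 0, 2, 4, 3, 4, 0, 4, 0, 1, 3, 1, 3, 4]), (107, true, [1, 0, 4, 0, 1, 3, 1, 0, 1, 3, 1, 0, 4, 3]), (186, true, [3, 4, 0, 1, 0, 1, 3, 4, 3, 1]), (249, true, [1, 3, 4, 3, 4, 0, 4,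 0, 1, 3, 4, 0, 4, 0]), (153, true, [2, 0, 4, 0, 4, 3, 1, 3, 1, 0, 1, 3, 4, 0, 4]), (244, false, [0, 4, 3, 4, 3, 4, 3, 4, 0, 1, 0, 1, 0]), (157, true, [1, 2, 0, 4, 0, 4, 0, 4, 0, 4, 3, 4]), (262, false, [4, 3, 1, 0, 1, 0, 4, 3, 1, 3, 4]), (236, false, [1, 3, 1, 0, 4, 3, 4, 0, 4, 3, 4, 0, 1]), (152, true, [4, 3, 1, 3, 1, 0, 1, 3, 4, 0, 4]), (271, true, [1, 0, 1, 3, 4, 0, 4, 0, 4, 0, 1, 0]), (62, false, [1, 2, 0, 4, 3, 1, 0, 1, 3, 1, 0, 4, 3]), (199, false, [4, 3, 1, 0, 1, 0, 4, 3, 4, 0, 4, 0, 1]), (60, true, [1, 3, 4, 0, 1, 3, 1, 0, 4, 3, 4, 3, 1]), (237, true, [0, 1, 0, 1, 0, 1, 3, 1, 0, 4, 3, 1, 3, 4]), (214, false, [2, 0, 1, 3, 1, 3, 1, 3, 4, 3, 4]), (152, false, [1, 3, 4, 0, 4, 3, 1, 3, 1, 3, 1, 0, 4, 0]), (111, true,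 [2, 0, 4, 0, 4, 3, 1, 0, 1, 0, 1, 3, 1, 3, 4, 0]), (231, true, [4, 0, 1, 3, 4, 3, 4, 0, 4, 3]), (157, false, [1, 0, 2, 4, 0, 4, 3, 4, 3, 4, 0]), (224, false, [0, 1, 0, 2, 4, 3, 4, 0, 1, 3, 1, 3, 4, 3]), (216, false, [1, 3, 4, 3, 4, 0, 1, 3, 1, 3, 4, 0]), (190, true, [0, 1, 2, 0, 1, 3, 4, 0, 4, 3, 1, 0]), (235, false, [1, 0, 4, 3, 4, 0, 4, 0, 1, 3, 4, 0, 4, 0]), (188, false, [1, 2, 0, 1, 3, 1, 0, 4, 3, 1, 3, 4, 0, 4]), (91, true, [0, 2, 4, 0, 1, 3, 1, 0, 1, 0, 1, 3, 4, 0, 4, 3, 1, 0]), (171, false, [0, 4, 3, 4, 0, 4, 0, 4, 3, 4, 3, 4, 0, 1, 3, 1]), (58, false, [1, 2, 0, 1, 0, 4, 3, 4, 0, 1, 3, 1, 3, 4, 3, 4]), (30, true, [4, 3, 1, 3, 1, 0, 4, 0, 4]), (96, true, [1, 0, 1, 3, 1, 3, 1, 0, 4, 3, 4, 0, 4, 3, 4]), (188, false,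 [0, 1, 3, 4, 3, 1, 0, 1, 0, 4, 3, 1, 3, 1, 0]), (218, true, [1, 0, 4, 3, 4, 0, 1, 3, 1, 3, 1, 3]), (268, true, [3, 1, 0, 1, 0, 1, 3, 1, 0, 1, 3, 1, 3, 4, 0]), (257, false, [3, 1, 0, 1, 0, 1, 3, 1, 0, 1, 3]), (245, false, [0, 1, 2, 0, 1, 3, 1, 0, 1, 3, 1, 3, 1, 0, 4, 0]), (76, false, [2, 4, 3, 4, 3, 4, 3, 1, 0, 1, 3, 4, 3, 4]), (65, false, [1, 0, 4, 3, 1, 3, 4, 0, 4, 0, 1, 3, 4, 0]), (52, false, [1, 0, 2, 4, 3, 1, 0, 4, 3, 4, 0, 1, 0, 4]), (190, false, [2, 0, 4, 0, 1, 0, 1, 3, 1, 3, 1, 0, 4, 3, 4, 0, 1]), (70, true, [1, 3, 4, 3, 4, 0, 4, 0, 1, 3, 1, 3, 1, 3, 1]), (256, true, [0, 1, 0, 1, 0, 2, 4, 0, 1, 0, 4, 3, 4, 3, 4, 0]), (237, true, [0, 2, 4, 0, 1, 3, 4, 3, 4, 0, 1, 3]), (182, true, [0, 1, 0, 1, 0, 1, 3, 4, 3, 4,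 3, 1, 0, 1, 3, 1, 3, 1]), (270, true, [2, 4, 0, 4, 0, 1, 3, 1, 3, 1, 0, 1, 3, 4, 3, 1, 0]), (238, false, [2, 0, 1, 3, 4, 0, 4, 3, 4, 3, 4]), (269, false, [2, 0, 4, 3, 4, 3, 4, 0, 4, 3, 4, 0, 1, 3]), (188, true, [1, 0, 1, 3, 1, 3, 1, 0, 1, 3, 4, 0, 4]), (166, false, [4, 0, 4, 3, 4, 3, 1, 0, 1, 0, 1, 3, 1]), (139, false, [0, 1, 3, 1, 0, 1, 0, 1, 3, 1, 0]), (158, true, [1, 3, 4, 3, 4, 3, 1, 0, 4, 3, 1]), (128, false, [2, 4, 0, 4, 0, 4, 3, 4, 0, 4, 3, 4, 0, 4]), (129, false, [3, 1, 3, 1, 3, 1, 3, 1, 0, 1]), (221, true, [2, 4, 0, 1, 0, 1, 0, 4, 0, 4, 0, 1]), (183, false, [0, 1, 2, 0, 1, 3, 1, 0, 1, 3, 1, 3, 1, 0, 4, 3]), (164, false, [0, 2, 4, 0, 1, 0, 1, 3, 4, 3, 1, 0, 4, 3, 4]), (125, false, [0, 2, 4, 3, 1, 3, 1, 3, 1,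 0, 4, 0, 4]), (196, false, [1, 0, 1, 0, 4, 0, 4, 3, 1, 0, 1, 0, 1]), (263, false, [2, 4, 3, 4, 0, 4, 0, 1, 3, 1, 3, 1, 3, 1, 0]), (91, false, [4, 0, 1, 3, 1, 3, 4, 0, 4, 3, 1]), (105, true, [2, 0, 1, 0, 1, 3, 1, 3, 1, 0, 1]), (117, true, [3, 4, 0, 1, 3, 1, 0, 4, 0, 4, 0, 1]), (151, true, [0, 4, 3, 4, 3, 1, 0, 1, 3, 1, 3, 1]), (153, false, [4, 0, 1, 3, 4, 0, 4, 0]), (266, false, [1, 0, 4, 0, 4, 3, 4, 0]), (83, true, [0, 2, 4, 0, 1, 3, 4, 0, 4, 3, 1, 3]), (257, true, [0, 4, 3, 1, 0, 1, 3, 1, 3, 1, 3, 4, 3, 4, 0, 1]), (111, true, [1, 0, 1, 0, 2, 4, 0, 1, 0, 1, 3, 1, 0, 1]), (158, false, [1, 2, 0, 1, 3, 1, 3, 1, 0, 1, 0, 1, 3, 4, 3, 1]), (223, true, [0, 2, 4, 0, 4, 3, 1, 0, 1, 0, 1, 3, 1, 3, 4, 3, 4, 3]), (242, false, [1,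 0, 4, 0, 4, 3, 4, 3, 1, 0, 4, 0, 4]), (253, true, [1, 2, 0, 4, 3, 1, 0, 1, 3, 1, 3, 4, 0, 4]), (196, true, [0, 4, 0, 1, 0, 1, 3, 1, 3, 1, 3, 1, 0, 4]), (128, false, [0, 1, 0, 4, 3, 1, 3, 1, 3, 1, 0, 4, 0]), (91, false, [0, 1, 3, 1, 0, 1, 0, 4, 0, 4, 0, 4, 3, 4, 0, 4, 3]), (129, false, [3, 1, 3, 1, 3, 4, 3, 4, 0, 1, 3]), (153, false, [1, 0, 1, 2, 0, 1, 0, 1, 0, 4, 3, 1, 3, 1, 0, 1]), (188, true, [0, 4, 3, 4, 0, 1, 3, 1, 3, 4, 3, 4, 3, 1, 3]), (158, true, [4, 3, 1, 3, 1, 0, 1, 0, 4, 3, 1, 3, 1, 3]), (179, false, [2, 4, 3, 4, 3, 1, 0, 4, 0]), (189, false, [2, 0, 4, 0, 4, 3, 4, 3, 4, 3, 1, 3]), (181, true, [2, 4, 3, 1, 3, 1, 0, 4, 3, 4, 0, 1, 0]), (60, false, [1, 0, 1, 0, 1, 3, 4, 0, 4, 0, 4, 3, 4, 3, 4]), (128, true, [0,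 1, 2, 0, 1, 3, 4, 0, 4, 3, 4, 0, 4, 0]), (185, false, [0, 4, 3, 4, 0, 4, 0, 1, 3, 1, 0, 4, 3, 1, 3, 1]), (246, false, [4, 0, 4, 0, 4, 0, 4, 3, 4]), (89, false, [1, 0, 1, 0, 1, 2, 0, 1, 3, 4, 3, 4, 3, 1, 0, 1]), (259, true, [1, 0, 1, 0, 4, 0, 4, 3, 4, 0, 4, 3, 4, 3, 1]), (150, true, [4, 3, 1, 0, 1, 3, 4, 3, 1, 0, 4, 3, 4, 0]), (245, true, [2, 4, 0, 1, 0, 1, 3, 1, 0, 4, 0, 4, 3, 1]), (91, true, [1, 0, 1, 2, 0, 1, 0, 1, 3, 1, 0, 4, 0, 4, 0, 1, 3])]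
def r225 : List (ℕ × Bool × List ℕ) := [(272, true, [1, 0, 2, 4, 0, 4, 3, 1, 0, 1, 3, 4]), (38, false, [2, 0, 4, 3, 4, 3, 1, 0, 4]), (127, true, [1, 0, 1, 2, 0, 1, 3, 1, 0, 4, 3, 4, 0, 4]), (105, false, [1, 0, 4, 0, 4, 0, 4, 3, 4]), (86, true, [2, 0, 1, 0, 1, 3, 1, 3, 4, 0, 1, 0, 1, 3]), (226, false, [0, 1, 0, 2, 4, 3, 4, 3, 4, 0, 4, 3, 1, 3, 1, 3, 4]), (96, true, [1, 2, 0, 4, 0, 4, 0, 4, 3, 1, 3, 1, 0, 4]), (225, false, [1, 0, 1, 0, 4, 3, 4, 0, 4, 3, 4, 0, 4, 0, 4]), (97, false, [0, 4, 0, 1, 3, 4, 0, 4, 3, 4, 3, 4, 0, 1, 3, 4]), (20, false, [2, 4, 3, 4, 3]), (178, true, [2, 4, 0, 4, 0, 1, 3, 4, 3, 4, 3, 1, 0, 1, 3, 4]), (126, false, [1, 0, 4, 3, 1, 0, 1, 3, 4, 3, 4, 0, 1, 3, 1]), (65, false, [0, 1, 0, 1, 0, 1, 2, 0,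 1, 3, 4, 3, 1]), (73, false, [1, 2, 0, 1, 0, 4, 0, 4, 0, 4, 3, 1, 3, 4, 0, 4]), (254, false, [2, 0, 1, 3, 1, 0, 4, 3, 1, 3, 1, 0, 1, 3]), (124, false, [1, 2, 0, 4, 3, 4, 3, 1, 0, 1, 3, 4, 3, 4]), (125, false, [0, 2, 4, 3, 4, 0, 4, 3, 1, 0, 1, 0, 4, 3, 4, 3, 4]), (235, false, [0, 4, 3, 1, 0, 1, 0, 1, 3, 1, 0, 1, 3, 1, 0, 1, 0, 4]), (226, false, [1, 0, 2, 4, 3, 4, 0, 1, 3, 1, 3, 4, 3, 4, 3, 4]), (24, false, [0, 2, 4, 3, 1, 0, 4, 0, 4, 3, 4, 0, 4]), (261, false, [0, 1, 0, 1, 2, 0, 1, 0, 1, 0, 1, 3, 4, 3, 1]), (234, false, [0, 1, 2, 0, 1, 0, 1, 0, 4, 3, 1, 3, 1, 0, 1, 3, 4, 0]), (225, true, []), (110, false, [3, 1, 3, 4, 0, 4, 3, 4, 3, 1, 0, 4, 0, 4, 3, 4]), (22, true, [1, 0, 1, 2, 0, 4, 3, 4, 3, 4, 3, 1, 0, 4, 0, 1]), (28,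 false, [0, 1, 3, 4, 0, 4, 0, 1, 3, 4, 3, 1]), (85, true, [0, 1, 3, 4, 0, 1, 3, 1, 3, 4, 3, 4, 0, 4, 3]), (214, false, [1, 2, 0, 4, 0, 4, 0, 1, 3, 4, 0, 4, 0, 4, 3, 4]), (35, false, [1, 2, 0, 1, 3, 1, 3, 4, 0, 4, 3, 1]), (19, false, [4, 0, 4, 3, 1, 3, 1, 0, 1, 3, 4, 3, 1, 0, 4]), (180, false, [3, 1, 3, 1, 3, 1, 3, 1, 3, 4, 0]), (75, false, [3, 1, 0, 4, 3, 4, 0, 4, 0, 4, 0, 1, 3]), (214, true, [1, 2, 0, 4, 0, 1, 3, 1, 3, 4, 0, 4, 0]), (165, false, [1, 0, 2, 4, 0, 1, 0, 1, 3, 1, 3]), (278, true, [0, 1, 3, 1, 3, 1, 0, 1, 0, 4, 0]), (252, false, [2, 0, 4, 3, 4, 0, 1, 3, 1, 3, 1, 3, 4, 0, 4]), (222, false, [1, 3, 1, 0, 4, 3, 4, 0, 4, 3, 4, 3, 4, 0]), (219, false, [2, 4, 3, 1, 3, 1, 0, 1, 0, 4, 3, 1, 0]), (6, true, [4, 0, 4,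 0, 4, 3, 4]), (116, false, [0, 4, 3, 1, 0, 1, 3, 4, 3, 4]), (277, false, [2, 0, 1, 0, 1, 3, 4, 3, 4, 0, 4, 0, 4, 0]), (85, true, [0, 1, 2, 0, 1, 0, 1, 0, 4, 3, 4, 3, 1, 0, 1, 0, 1, 3, 1]), (220, true, [0, 1, 3, 1, 0, 1, 3, 4, 0, 4, 3, 4, 0, 4]), (125, true, [0, 1, 3, 4, 0, 4, 0, 1, 3, 1, 0, 4, 3, 4, 3, 4]), (155, true, [4, 0, 1, 3, 1, 3, 1, 3, 4, 0, 1, 0, 4]), (7, true, [2, 0, 4, 3, 4, 3, 4, 0, 1, 3, 1, 0, 1, 3, 1, 3]), (68, false, [0, 1, 3, 4, 3, 1, 0, 1, 0, 4, 3, 1, 0, 1, 0, 4]), (179, false, [2, 0, 1, 3, 1, 0, 1, 3, 1, 0, 1]), (81, true, [3, 1, 3, 4, 3, 4, 0, 4, 3, 4, 0, 4, 0, 1]), (154, true, [0, 1, 3, 4, 0, 1, 3, 1, 3, 1, 3, 4]), (69, true, [1, 0, 2, 4, 0, 1, 3, 1, 3, 1, 3, 4, 0, 4, 3]), (67, true, [0, 1, 2, 0,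 1, 0, 1, 3, 1, 0]), (179, false, [0, 4, 3, 1, 3, 4, 0, 1, 3]), (123, false, [1, 0, 1, 2, 0, 1, 3, 4, 0, 4, 0, 4, 3, 4, 0, 1, 3]), (210, true, [2, 0, 4, 3, 1, 0, 1, 0, 1, 3, 4, 0, 4, 0, 4]), (255, true, [0, 1, 3, 1, 0, 4, 3, 4, 0, 1, 0, 1, 0, 1, 0]), (69, true, [0, 1, 2, 0, 1, 0, 4, 3, 1, 3, 1, 0, 1, 0, 4, 3, 1, 3]), (267, false, [2, 0, 1, 3, 4, 0, 4, 0, 4, 0, 4, 0]), (176, false, [1, 0, 1, 2, 0, 1, 0, 1, 3, 1, 3, 1, 0]), (110, false, [3, 4, 3, 4, 0, 4, 3, 4, 3, 4, 0, 4]), (114, false, [0, 2, 4]), (167, false, [3, 4, 3, 1, 0, 1, 3, 1, 3, 1, 0, 4, 3, 1]), (19, true, [3, 1, 3, 1, 0, 1, 3, 4, 3, 4, 0, 4]), (26, false, [3, 4, 0, 1, 3, 1, 3, 1, 0, 1, 0, 1, 3, 1]), (158, true, [1, 0, 1, 2, 0, 1, 0, 1, 0, 1, 3, 1, 3, 4, 3, 4]),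 (110, false, [3, 1, 3, 1, 3, 4, 0, 4, 3, 4, 0, 4, 3, 1, 3, 1]), (272, true, [2, 4, 3, 1, 0, 4, 0, 4, 3, 4, 0, 1]), (3, true, [0, 2, 4, 0, 1, 0, 4, 3, 4, 3, 1, 0, 1, 3]), (171, false, [2, 0, 4, 0, 4, 3, 4, 0, 4, 0, 4, 3, 4, 0, 4]), (225, false, [1, 0, 1, 0, 4, 3, 4, 0, 4, 3, 4, 0, 4, 0, 4]), (214, false, [3, 4, 0, 4, 3, 1, 0, 1, 0, 1, 0, 4, 3, 1]), (155, false, [1, 0, 1, 3, 1, 0, 1, 0, 1, 3, 4]), (231, true, [2, 0, 1, 3, 1, 0, 4, 3, 1, 3, 1, 3, 4]), (225, true, []), (222, true, [4, 3, 1, 3, 1, 3, 4, 3, 4, 3, 1]), (47, true, [0, 4, 3, 1, 0, 4, 0, 4, 0]), (123, true, [1, 2, 0, 1, 3, 1, 0, 1, 0, 1, 3, 1, 0, 4, 3, 4]), (219, false, [2, 4, 0, 1, 0, 1, 3, 1]), (195, true, [1, 0, 2, 4, 3, 1, 0, 4, 3]), (193, false, [1, 0, 1,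 3, 1, 3, 4, 3, 4, 3, 4, 0, 4]), (119, true, [0, 1, 0, 1, 2, 0, 4, 3, 4, 3, 4, 0, 4, 0]), (178, true, [2, 4, 0, 4, 0, 1, 3, 4, 3, 4, 3, 1, 0, 1, 3, 4]), (87, false, [1, 0, 1, 0, 2, 4, 0, 1, 0, 1, 3, 1, 3, 1, 0, 1, 0, 1]), (87, false, [2, 0, 4, 3, 1, 3, 1, 0, 1, 0, 1, 3, 4, 3]), (127, false, [4, 3, 4, 0, 1, 3, 1, 0, 1, 3, 1, 3]), (89, false, [3, 1, 3, 1, 3, 4, 0, 4, 3, 4, 3, 1, 3]), (219, true, [0, 1, 0, 2, 4, 0, 1, 3, 1, 0, 4, 0, 4, 3, 1, 3, 1]), (20, true, [1, 0, 4, 3, 1, 0, 1, 3, 4, 3]), (90, true, [1, 3, 1, 3, 1, 0, 4, 3, 1, 3, 1, 0, 1, 3, 4]), (269, true, [1, 3, 1, 3, 1, 3, 1, 3, 4, 3, 4, 3, 4]), (225, false, [0, 1, 3, 4, 3, 1, 0, 1, 0, 4, 3, 1, 0, 1, 0, 4, 0]), (7, true, [0, 1, 3, 1, 3, 1, 3, 4, 0, 4, 3, 4, 3, 1,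 0, 1, 0]), (66, false, [4, 0, 1, 3, 1, 3, 1, 0, 1, 3, 4, 0, 1]), (234, true, [0, 1, 0, 1, 0, 1, 3, 1, 3, 1, 0, 1, 0, 4, 0]), (23, false, [0, 2, 4, 0, 1, 3, 4, 3, 4, 0, 4, 0, 1]), (209, true, [4, 3, 1, 0, 4, 3, 4, 0, 1, 0, 1, 3, 4]), (172, false, [1, 0, 2, 4, 0, 4, 3, 1, 3, 1, 0, 1, 0, 1, 3, 4]), (211, false, [1, 0, 4, 0, 4, 3, 4, 3, 4, 0, 4, 0, 4, 3, 4, 3]), (183, false, [2, 0, 4, 0, 4, 3, 4, 0, 4, 3, 4, 3, 4, 0, 1, 3]), (214, true, [0, 1, 0, 2, 4, 0, 4, 0, 1, 3, 1, 0, 4, 0, 4, 0, 4, 3]), (47, false, [0, 2, 4, 3, 4, 0, 1, 3, 1, 3, 4, 3, 4, 3, 4]), (101, false, [0, 2, 4, 3, 4, 3, 4, 3, 4, 3, 1, 3]), (226, false, [1, 3, 4, 0, 1, 3, 1, 0, 4, 3, 4, 3, 4, 3, 4, 0]), (182, false, [4, 3, 1, 3, 4, 0, 4, 0, 1, 3, 4, 3, 4, 0,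 4]), (219, false, [2, 4, 0, 4, 0, 1, 3, 1, 0, 1, 3, 1, 3, 1, 0, 4]), (89, true, [3, 1, 3, 1, 0, 4, 0, 4, 0, 4, 3, 1, 3, 1]), (25, true, [1, 0, 1, 2, 0, 1, 0, 4, 3, 4, 3, 4, 3, 1]), (187, false, [1, 0, 1, 0, 1, 2, 0, 1, 3, 1, 0, 1, 0, 1, 0, 4]), (77, false, [1, 0, 4, 3, 4, 0, 4, 0, 1, 3, 1, 0, 4, 3]), (81, false, [0, 4, 0, 4, 0, 1, 3, 1, 3, 1, 3, 1, 0, 4, 3]), (89, false, [2, 0, 1, 0, 1, 0, 1, 0, 4, 0, 4, 3, 1, 0, 1, 3]), (127, false, [4, 0, 4, 3, 1, 0, 1, 0, 4, 0, 4, 3, 4, 0])]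
def r226 : List (ℕ × Bool × List ℕ) := [(64, true, [0, 4, 0, 4, 3, 1, 3, 1, 0, 4, 0, 4, 3, 4, 3, 4]), (16, true, [0, 1, 3, 4, 0, 4, 3, 1, 3, 1, 0, 1]), (153, false, [1, 2, 0, 1, 0, 4, 3, 4, 0, 4, 0, 1, 3, 4, 3]), (96, true, [1, 0, 4, 0, 4, 0, 4, 3, 4, 0, 1, 0, 1, 0, 1, 3]), (95, false, [0, 1, 0, 1, 3, 1, 0, 1, 3, 1, 0, 4, 0, 4, 0]), (194, false, [3, 4, 0, 1, 3, 4, 0, 4, 0, 4, 0, 4, 3, 1]), (194, true, [0, 2, 4, 0, 4, 0, 4, 3, 4, 3, 4, 0, 4, 0]), (38, true, [1, 3, 1, 3, 1, 0, 1, 0, 4, 0, 4, 0, 4, 0, 1, 3]), (176, false, [3, 1, 0, 1, 3, 4, 3, 1, 0, 4, 0, 4, 3, 1]), (280, false, [0, 1, 2, 0, 4, 0, 4, 3, 1, 0, 4]), (215, true, [1, 0, 1, 0, 1, 3, 4, 3, 1, 0, 4, 3, 4, 3, 4, 0, 4]), (68, false, [4, 3, 4, 0, 4, 0, 1, 3, 1, 0,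 1, 3, 1, 3]), (28, true, [2, 0, 1, 3, 1, 3, 4, 3, 4, 0, 1, 3, 1]), (262, true, [2, 0, 1, 0, 4, 3, 4, 3, 4, 0, 4, 3, 1, 3, 1]), (128, false, [4, 0, 1, 0, 1, 0, 4, 3, 1, 0, 1, 0, 4, 3, 4]), (155, true, [0, 2, 4, 0, 1, 0, 1, 3, 1, 3, 1]), (106, false, [1, 2, 0, 1, 3, 1, 3, 4, 0, 1, 3, 1, 3, 1, 0, 1, 3]), (139, false, [1, 0, 2, 4, 3, 4, 0, 1, 3, 1, 0]), (155, true, [0, 1, 2, 0, 4, 0, 4, 3, 1, 3, 4, 0, 4, 3, 4, 3]), (237, false, [3, 1, 0, 4, 3, 4, 0, 4, 0, 4, 3, 4, 0]), (135, false, [4, 3, 1, 3, 1, 0, 1, 3, 4, 3, 4, 0]), (35, true, [4, 0, 1, 3, 1, 3, 4, 0, 4, 3, 4, 0, 4, 3, 1]), (76, true, [1, 0, 1, 0, 1, 3, 4, 0, 1, 3, 1, 3, 4, 3]), (145, false, [0, 1, 0, 1, 0, 4, 3, 4, 0, 1, 0, 1, 0, 1, 3]), (216, true, [4, 3, 4, 3, 4,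 3, 4, 0, 1, 3, 1, 0, 1]), (75, true, [3, 4, 3, 4, 3, 4, 0, 4, 0, 4, 3, 1, 0, 1]), (213, true, [0, 2, 4, 0, 1, 3, 4, 3, 4, 3, 1, 0, 4, 0, 1]), (204, true, [1, 0, 2, 4, 3, 1, 0, 1, 3, 1, 0, 1, 0]), (214, false, [4, 3, 1, 0, 4, 0, 4, 3, 1, 0, 4, 0, 4, 3]), (260, true, [1, 0, 1, 0, 2, 4, 3, 4, 0, 1, 0, 1, 0, 4, 0, 4, 0]), (105, false, [1, 2, 0, 1, 3, 4, 0, 4, 3, 1, 0, 1, 0, 1, 0]), (42, false, [2, 4, 0, 4, 3, 4, 0, 1, 0, 1, 0, 1, 3, 4, 3, 1]), (111, true, [2, 0, 1, 0, 1, 3, 1, 3, 1, 3, 1, 0]), (90, false, [0, 2, 4, 0, 1, 0, 1, 0, 4, 3, 4, 0, 1, 3, 1, 3, 4]), (89, false, [1, 2, 0, 4, 3, 4, 3, 1, 0, 4, 0, 4, 0, 1, 3]), (231, true, [1, 0, 1, 0, 4, 0, 4, 3, 4, 0, 4, 3, 4, 0]), (179, false, [1, 2, 0, 1, 3, 4, 3, 4, 3, 1, 0, 1,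 3, 1, 3, 1, 0]), (268, false, [0, 1, 0, 1, 0, 1, 2, 0, 4, 0, 1, 3, 1, 0, 1, 3]), (153, false, [4, 3, 1, 0, 4, 3, 4, 0, 1, 0, 1, 3, 4, 0, 4, 3]), (169, false, [4, 3, 4, 0, 4, 3, 4, 3, 4, 3, 1, 3]), (46, false, [2, 0, 4, 0, 4, 0, 1, 3, 1, 0, 4]), (269, false, [0, 4, 3, 1, 3, 1, 0, 1, 3, 4, 3, 1, 0, 1, 3]), (183, true, [1, 0, 1, 0, 4, 3, 4, 0, 1, 3, 1, 3, 1, 3, 1]), (186, true, [0, 1, 0, 1, 0, 4, 3, 1, 3, 4, 0, 4, 0, 4]), (188, true, [2, 4, 0, 1, 3, 1, 3, 1, 0, 1, 3, 4, 0, 1]), (98, false, [4, 0, 1, 0, 1, 3, 1, 0, 1, 3, 4, 3, 1, 0, 1, 0]), (222, true, [0, 1, 2, 0, 1, 3, 1, 0, 1, 3, 4, 3, 4, 3, 1, 0, 4]), (116, true, [1, 2, 0, 1, 3, 1, 0, 1, 0, 1, 3, 1]), (272, false, [3, 4, 3, 1, 0, 1, 0, 4, 0, 4, 0, 4, 3]), (244, true,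 [3, 1, 0, 1, 3, 1, 3, 1, 0, 4, 0, 1]), (155, true, [0, 1, 0, 2, 4, 0, 4, 3, 1, 3, 4, 0, 4]), (221, true, [3, 1, 3, 4, 3, 4, 0, 1, 0, 1, 3, 4, 3, 1, 0]), (87, false, [1, 2, 0, 1, 0, 4, 0, 4, 3, 4, 3, 4, 0, 1, 3, 1]), (111, true, [0, 1, 2, 0, 4, 3, 4, 3, 4, 0, 4, 0, 4]), (225, false, [1, 0, 1, 0, 1, 0, 2, 4, 3, 4, 0, 1, 3, 1, 3, 4]), (57, true, [0, 2, 4, 3, 1, 0, 4, 3, 4, 3, 1, 0, 1, 3, 4, 0, 1]), (158, true, [2, 4, 0, 1, 3, 4, 3, 4, 0, 4, 3, 1, 3, 1, 3]), (218, true, [0, 2, 4, 0, 4, 3, 4, 3, 1, 0, 4, 3, 4, 3, 1]), (209, true, [0, 2, 4, 0, 4, 0, 4, 3, 1, 3, 4, 0, 1, 0]), (276, true, [1, 3, 4, 3, 4, 3, 4, 3, 1, 0, 4, 0]), (191, false, [0, 2, 4, 0, 1, 3, 1, 3, 1, 3, 4]), (121, false, [3, 1, 3, 4, 3, 4, 3, 1, 0, 1, 3]), (221,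 false, [4, 3, 4, 0, 4, 3, 1, 0, 4]), (261, false, [0, 4, 0, 4, 3, 1, 3, 1, 3, 1, 0, 4, 0, 4]), (217, false, [4, 0, 4, 3, 1, 3, 1, 0, 1, 0, 4, 3, 4]), (127, true, [0, 2, 4, 3, 4, 0, 1, 3, 1, 3, 4, 3, 4, 0, 1]), (226, true, []), (64, true, [1, 0, 4, 3, 1, 3, 1, 0, 1, 3, 1, 0, 1, 3]), (234, true, [1, 2, 0, 4, 3, 1, 0, 1, 3, 1, 3, 1, 0, 4, 3]), (86, false, [2, 0, 4, 0, 4, 3, 4, 0, 1, 3, 1, 3, 4, 0]), (225, false, [0, 2, 4, 0, 1, 3, 1, 3, 1, 0, 1, 3, 4, 3, 1, 0, 1]), (148, true, [2, 4, 0, 4, 3, 1, 3, 1, 0, 4, 3, 1, 3]), (109, false, [2, 0, 1, 0, 1, 0, 1, 3, 4, 0, 1, 0, 1, 3, 4]), (58, true, [3, 1, 3, 4, 0, 4, 0, 4, 3, 4, 0, 1, 0, 1, 3]), (104, false, [0, 1, 0, 4, 3, 4, 0, 4, 3, 1, 0, 1, 0, 4]), (126, false, [0, 1, 0, 4, 3,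 4, 3, 1, 0, 1, 3, 1, 0]), (152, false, [0, 4, 3, 1, 3, 4, 0, 1, 3, 1, 3, 1, 3, 4]), (276, true, [2, 0, 1, 3, 4, 3, 4, 0, 4, 0, 4, 0, 4, 3]), (241, true, [0, 1, 2, 0, 1, 3, 1, 3, 4, 0, 4, 0, 4, 0]), (58, false, [0, 1, 3, 1, 3, 4, 3, 4, 0]), (184, true, [2, 0, 4, 3, 4, 0, 1, 3, 1, 3, 1, 0, 1, 0, 4]), (183, false, [2, 0, 1, 3, 4, 0, 1, 3, 1, 3, 1, 3, 1, 0, 1]), (75, true, [0, 2, 4, 3, 1, 0, 1, 0, 1, 0, 1, 3, 4, 3]), (128, true, [0, 1, 2, 0, 1, 0, 4, 3, 4, 0, 4, 3, 1, 0, 1]), (89, false, [0, 2, 4, 0, 4, 0, 4, 0, 1, 3, 4, 3, 1, 0]), (235, true, [1, 2, 0, 4, 0, 4, 3, 1, 0, 4, 0, 4, 0, 4, 3]), (82, true, [4, 3, 4, 0, 1, 3, 1, 0, 4, 3, 4, 3, 4]), (69, true, [1, 0, 4, 3, 1, 3, 1, 0, 4, 3, 1, 0, 1, 0, 1]), (82, false, [1, 2, 0,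 1, 0, 4, 0, 4, 3, 4, 0, 4, 3, 4, 0, 4]), (123, true, [1, 0, 1, 0, 1, 3, 4, 0, 4, 3, 1, 0, 1, 0, 1]), (247, true, [4, 3, 1, 3, 4, 0, 4, 0, 4, 0, 1, 3, 1]), (172, false, [0, 4, 0, 4, 3, 4, 0, 4, 3, 4, 3]), (169, true, [4, 3, 1, 0, 1, 0, 4, 3, 4, 3, 1, 0, 4]), (76, false, [0, 2, 4, 0, 4, 3, 4, 3, 4, 3, 4, 0, 1, 0, 4]), (136, true, [1, 3, 4, 0, 1, 3, 1, 0, 1, 3]), (220, false, [2, 4, 3, 1, 3, 4, 0, 1, 3, 1, 3, 4, 0, 1, 0]), (220, false, [1, 0, 4, 0, 4, 3, 4, 0, 4, 3, 1, 3, 4, 0]), (261, false, [4, 0, 1, 0, 4, 3, 1, 0, 1, 3, 4, 0]), (272, true, [0, 1, 0, 2, 4, 0, 4, 0, 1, 3, 1]), (178, false, [3, 1, 0, 4, 0, 4, 3, 1, 0, 1, 3, 4, 0, 4]), (75, false, [4, 3, 4, 3, 4, 0, 1, 0, 1, 3, 1, 3, 1, 0, 4, 0]), (225, false, [0, 4, 3,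 4, 0, 1, 3, 1, 3, 1, 3, 1, 0, 1, 0, 4]), (254, true, [4, 3, 4, 3, 1, 0, 1, 0, 1, 0, 4, 3]), (149, false, [0, 4, 3, 4, 0, 1, 0, 1, 3, 4, 0, 4]), (67, true, [0, 4, 0, 1, 3, 4, 3, 4, 0, 4, 0, 1]), (92, true, [1, 0, 2, 4, 0, 4, 0, 4, 3, 1, 0, 4, 3]), (57, false, [0, 1, 0, 1, 2, 0, 4, 0, 4, 3, 1, 0, 1, 0, 1]), (190, false, [1, 0, 4, 3, 4, 0, 4, 3, 1, 0, 4, 0, 4, 3, 4, 3]), (86, false, [3, 1, 3, 4, 0, 1, 3, 1, 0, 4, 0, 4, 3, 1, 0]), (60, true, [4, 0, 1, 3, 1, 0, 1, 0, 4, 0, 4, 0]), (218, false, [2, 0, 4, 0, 4, 0, 4, 3, 4, 3, 4, 0, 4, 0, 1, 3, 4, 3]), (249, false, [1, 3, 4, 3, 4, 3, 4, 0, 4, 0, 4, 0, 4, 3, 4, 3])]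
def r227 : List (ℕ × Bool × List ℕ) := [(154, true, [3, 1, 3, 1, 0, 1, 0, 4, 3, 1, 3, 1, 0, 4]), (136, false, [1, 3, 4, 0, 4, 0, 4, 0, 4, 3, 4, 3, 4, 0]), (66, true, [0, 2, 4, 3, 1, 0, 1, 3, 1, 0, 1, 3, 4, 3, 4, 3, 1]), (280, false, [0, 2, 4, 0, 1, 3, 1, 3, 4, 3, 4, 3, 1, 0]), (209, false, [0, 2, 4, 3, 4, 3, 1, 0, 1, 3, 1, 3, 1, 3, 4, 3]), (280, false, [0, 2, 4, 3, 4, 0, 4, 3, 1, 0, 1, 0, 1, 0, 4, 3, 4]), (280, false, [0, 1, 2, 0, 4, 0, 1]), (280, false, [1, 2, 0, 1, 0, 1, 0, 4]), (96, true, [3, 1, 0, 4, 3, 4, 3, 4, 3, 4, 0, 1, 0, 4]), (96, true, [0, 4, 0, 4, 3, 1, 0, 1, 3, 4, 3, 1, 0, 1, 3, 4]), (84, false, [0, 1, 0, 2, 4, 3, 4, 0, 1, 3, 1, 0, 4, 0, 1]), (209, false, [2, 4, 0, 1, 0, 1, 3, 4, 3, 1, 0, 1, 3]), (154, true,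 [4, 3, 1, 0, 1, 0, 1, 0, 4, 0, 4, 0, 4, 3, 1, 0]), (253, true, [4, 3, 4, 3, 4, 0, 1, 3, 4, 3, 4, 3, 4, 3]), (245, false, [0, 2, 4, 0, 1, 0, 4, 3, 1, 3, 4]), (209, false, [0, 2, 4, 3, 4, 3, 4, 0, 4, 0, 1, 3]), (88, false, [1, 0, 1, 2, 0, 1, 3, 1, 0, 1, 0, 4]), (136, false, [2, 0, 1, 0, 1, 0, 4, 3, 1, 3]), (280, false, [0, 1, 2, 0, 4, 0, 4, 0, 4, 0, 4, 0, 4]), (66, true, [0, 1, 0, 1, 2, 0, 4, 3, 4, 3, 4, 3, 1, 0, 4, 3, 4]), (84, false, [0, 4, 3, 1, 0, 1, 0, 1, 0, 1, 3, 1]), (84, false, [1, 2, 0, 4, 0, 4, 3, 4, 3, 4, 0, 4]), (66, true, [0, 1, 3, 4, 0, 4, 3, 1, 3, 1, 3, 4, 3, 4, 3]), (43, false, [3, 4, 0, 4, 3, 1, 3, 1, 0, 4, 3, 1, 3, 4]), (88, false, [0, 4, 3, 4, 3, 4, 0, 1, 3, 1, 0, 1]), (209, true, [0, 1, 0, 1, 3, 1,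 3, 4, 3, 4, 3, 4, 3, 4, 3]), (19, false, [1, 0, 2, 4, 3, 1, 0, 4, 3, 4, 3, 1, 0, 1, 3]), (21, true, [0, 4, 3, 4, 0, 4, 0, 1, 3, 1, 0, 1, 3, 4]), (253, true, [0, 1, 2, 0, 1, 0, 1, 0, 4, 0, 4, 3, 1, 0, 1, 3]), (209, true, [2, 0, 4, 3, 4, 0, 1, 3, 1, 0, 1, 0, 1, 3]), (88, false, [3, 1, 0, 4, 3, 4, 3, 1, 0, 1]), (88, false, [1, 0, 1, 0, 1, 2, 0, 1, 3, 1, 3, 4]), (245, false, [0, 2, 4, 0, 4, 3, 4, 3, 1, 0, 4, 3, 1]), (154, true, [3, 4, 0, 4, 0, 4, 3, 1, 0, 1, 3, 4, 0, 4, 0]), (110, false, [1, 0, 1, 0, 2, 4, 0, 1, 0, 1, 3, 4, 3, 1, 0, 4, 0]), (86, false, [4, 0, 1, 3, 1, 3, 4, 3, 4, 3, 1, 0, 4, 0, 1]), (84, false, [0, 4, 0, 1, 0, 1, 0, 1, 3, 4, 3, 4, 0, 4, 3, 1]), (86, false, [0, 4, 0, 4, 3, 1, 3, 1, 3, 4, 3, 4, 0, 1, 0, 4]),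 (136, false, [2, 0, 1, 0, 1, 3, 4, 3, 1, 0, 1, 0, 1, 0, 4]), (136, false, [2, 0, 4, 3, 4, 3, 1, 0, 1, 0, 4]), (21, true, [2, 4, 3, 4, 3, 4, 0, 4, 3, 1, 3, 4, 0, 4, 0, 1]), (66, true, [0, 4, 3, 1, 0, 1, 0, 4, 0, 4, 3, 1, 0, 1]), (96, true, [0, 1, 0, 2, 4, 0, 1, 0, 1, 3, 4, 3, 1, 0, 4, 0, 4]), (96, true, [1, 0, 1, 0, 1, 0, 2, 4, 0, 4, 0, 1]), (253, true, [0, 4, 0, 4, 0, 1, 3, 1, 3, 4, 3]), (86, false, [2, 4, 3, 4, 0, 4, 3, 4, 3, 4, 0, 4, 0, 4]), (96, true, [1, 0, 1, 2, 0, 4, 3, 4, 3, 4, 3, 1, 0, 1, 0]), (43, false, [0, 1, 2, 0, 1, 3, 4, 3, 4, 3, 4, 0, 1, 3, 4]), (19, false, [0, 1, 0, 4, 3, 4, 3, 4, 3, 1, 0, 4, 0, 4, 3, 4, 0]), (110, false, [3, 1, 3, 4, 0, 4, 3, 1, 0, 1, 0, 4, 0, 4]), (136, false, [0, 1, 0, 4, 3, 1, 3,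 1, 3, 1, 0, 4, 0, 4, 0]), (280, false, [1, 3, 4, 0, 4, 0, 4, 3, 4, 0, 1, 0, 1, 0, 1, 3]), (209, false, [4, 0, 4, 3, 4, 0, 4, 0, 4, 3, 1, 0]), (21, true, [3, 4, 3, 4, 3, 4, 3, 1, 0, 4, 0]), (154, true, [0, 1, 0, 1, 2, 0, 1]), (84, false, [4, 0, 1, 0, 1, 3, 1, 3, 1, 3, 1, 3, 1, 3]), (245, false, [1, 0, 4, 3, 4, 3, 1, 0, 1, 3, 1, 0, 1, 3]), (84, false, [0, 1, 0, 1, 3, 1, 0, 1, 3, 4, 0, 4, 0, 1, 3]), (23, false, [0, 1, 3, 4, 0, 4, 0, 4, 3, 4, 0, 4, 3, 4, 0, 4, 0, 1]), (66, true, [1, 0, 1, 3, 1, 3, 4, 0, 4, 0, 4, 3]), (280, false, [1, 0, 2, 4, 0, 1, 0, 1, 3, 1, 3, 4]), (88, false, [0, 1, 2, 0, 4, 3, 4, 0, 1, 0, 1, 3, 4, 0, 1, 3]), (19, false, [0, 4, 3, 4, 0, 4, 3, 1, 3, 1, 0, 1, 3, 1]), (96, true, [2, 4, 3, 1, 3, 1, 0, 1,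 0, 1, 3, 1, 0]), (86, false, [2, 0, 1, 3, 1, 3, 4, 0, 1, 3, 1, 3, 4, 0, 1]), (21, true, [1, 0, 1, 2, 0, 1, 0, 1, 0, 4, 0, 4, 0, 4, 3, 4, 3]), (86, false, [1, 2, 0, 4, 3, 1, 0, 1, 0, 1, 0, 1, 3, 4]), (23, false, [0, 1, 0, 1, 0, 4, 3, 4, 0, 1, 0, 1, 0, 1, 3, 1, 3]), (86, false, [4, 0, 1, 3, 4, 0, 4]), (84, false, [2, 4, 0, 4, 3, 4, 3, 1, 0, 1, 3, 4, 0, 1]), (136, false, [1, 0, 4, 3, 1, 0, 1, 3, 4, 0, 4]), (110, false, [0, 4, 0, 4, 3, 1, 3, 4, 0, 4, 0, 1, 3, 1, 3, 4]), (245, false, [0, 2, 4, 0, 4, 0, 1, 3, 1, 0, 4, 0, 1]), (88, false, [0, 2, 4, 3, 1, 0, 4, 3, 1, 3, 1, 0, 4]), (66, true, [3, 1, 0, 1, 0, 1, 3, 1, 3, 1]), (19, false, [0, 1, 0, 1, 2, 0, 1, 0, 4, 3, 4, 0, 1, 3]), (23, false, [2, 4, 0, 4, 0, 1, 3, 4, 3, 4, 0,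 1]), (43, false, [0, 2, 4, 3, 1, 3, 1, 3, 4, 3, 4, 3, 1, 3]), (43, false, [3, 4, 0, 1, 3, 1, 0, 4, 0, 4, 3, 4, 3]), (86, false, [1, 2, 0, 1, 3, 4, 3, 4, 0, 4, 3, 1, 3]), (84, false, [4, 3, 4, 0, 4, 3, 1, 0, 4, 0]), (96, true, [3, 1, 0, 4, 3, 1, 0, 1, 3, 4, 0, 1]), (66, true, [2, 4, 0, 1, 3, 1, 0, 1, 3, 1, 3, 1, 3, 4, 0, 4, 3]), (86, false, [0, 4, 0, 4, 3, 4, 3, 4, 0, 1]), (253, true, [0, 1, 0, 1, 2, 0, 1, 0, 1, 0, 1, 3, 1, 3, 1, 0]), (154, true, [1, 2, 0, 1, 0, 1, 3, 1, 3, 4, 3, 4, 3, 1]), (110, false, [1, 0, 2, 4, 0, 4, 0, 4, 0, 4, 3, 1, 0, 1]), (253, true, [1, 0, 2, 4, 0, 4, 0, 4, 3, 4, 3, 4, 0, 4]), (110, false, [0, 4, 3, 4, 3, 1, 0, 1, 0, 1, 3, 1, 3, 4, 0]), (136, false, [2, 0, 4, 3, 4, 0, 4, 3, 1, 0, 4, 0, 1]),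 (154, true, [3, 1, 0, 1, 3, 1, 3, 4, 0, 1, 0, 1, 3, 4]), (280, false, [2, 4, 0, 4, 3, 4, 3, 4, 3, 1]), (88, false, [4, 0, 4, 3, 4, 3, 1, 0, 4, 0, 4, 3, 4, 0, 1, 3]), (253, true, [0, 4, 3, 1, 0, 4, 0]), (209, false, [1, 0, 1, 3, 1, 0, 1, 0, 4, 3, 1, 0]), (245, false, [2, 4, 0, 4, 3, 4, 0, 1, 3, 4, 3, 4, 0, 4, 3]), (253, true, [0, 4, 0, 4, 3, 4, 0, 1, 3, 4, 3, 1, 0]), (88, false, [3, 1, 0, 4, 0, 4, 3, 4, 3, 4, 3, 4, 0, 1]), (96, true, [0, 1, 0, 1, 0, 1, 3, 4, 0, 4, 3, 1, 0]), (66, true, [2, 4, 0, 1, 0, 4, 3, 4, 0, 1, 3, 1, 3, 4, 3, 4]), (110, false, [2, 4, 0, 4, 3, 4, 3, 1, 0, 1, 0, 1, 0]), (110, false, [1, 0, 2, 4, 0, 4, 0, 1, 3, 4, 3, 4, 3, 4, 0, 1]), (154, true, [0, 2, 4, 3, 4, 3, 4, 3, 4, 3, 4, 0, 1]), (154, true,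 [2, 4, 0, 4, 0, 4, 0, 4, 3, 1, 0, 4, 0, 4, 0, 1]), (245, false, [0, 2, 4, 0, 1, 3, 1, 0, 1, 3, 1, 3, 4, 3]), (209, true, [0, 1, 3, 4, 0, 4, 3, 1, 0, 4, 0, 4, 3, 1]), (136, false, [2, 0, 4, 3, 1, 0, 1, 0, 1, 3, 1, 3, 4]), (110, false, [3, 4, 3, 4, 3, 4, 0, 1, 3, 1, 3, 4, 3, 4, 0, 4]), (245, false, [0, 2, 4, 0, 1, 3, 1, 3, 4, 3, 4, 0, 4]), (245, false, [0, 1, 0, 1, 3, 4, 3, 4, 0, 4, 3, 1, 0, 4]), (253, true, [1, 2, 0, 4, 3, 1, 0, 1, 0, 1, 0, 1, 3, 4, 0, 4]), (23, false, [2, 4, 0, 1, 3, 1, 3, 4, 0, 1, 0, 1])]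

theorem q216 : closeb 18 ps18 base7 rgR om xs x216 orb r216 = true := by decide +kernel
theorem q217 : closeb 18 ps18 base7 rgR om xs x217 orb r217 = true := by decide +kernel
theorem q218 : closeb 18 ps18 base7 rgR om xs x218 orb r218 = true := by decide +kernel
theorem q219 : closeb 18 ps18 base7 rgR om xs x219 orb r219 = true := by decide +kernel
theorem q220 : closeb 18 ps18 base7 rgR om xs x220 orb r220 = true := by decide +kernel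
theorem q221 : closeb 18 ps18 base7 rgR om xs x221 orb r221 = true := by decide +kernel
theorem q222 : closeb 18 ps18 base7 rgR om xs x222 orb r222 = true := by decide +kernel
theorem q223 : closeb 18 ps18 base7 rgR om xs x223 orb r223 = true := by decide +kernel
theorem q224 : closeb 18 ps18 base7 rgR om xs x224 orb r224 = true := by decide +kernel
theorem q225 : closeb 18 ps18 base7 rgR om xs x225 orb r225 = true := by decide +kernel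
theorem q226 : closeb 18 ps18 base7 rgR om xs x226 orb r226 = true := by decide +kernel
theorem q227 : closeb 18 ps18 base7 rgR om xs x227 orb r227 = true := by decide +kernel

theorem c18 : Rows xc18 :=
  Rows.cons q216 (Rows.cons q217 (Rows.cons q218 (Rows.cons q219 (Rows.cons q220 (Rows.cons q221 (Rows.cons q222 (Rows.cons q223 (Rows.cons q224 (Rows.cons q225 (Rows.cons q226 (Rows.cons q227 Rows.nil)))))))))))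

end Cfsg.Agent.H698.U33.Clo
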