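import Cfsg.Agent.H698.U33.Clo.Rows

/-!
# S5525: the closure certificate, rows 228 to 239 (helper698; data of helper819, helper763)
-/

set_option autoImplicit false
set_option maxRecDepth 100000
set_option Elab.async false

namespace Cfsg.Agent.H698.U33.Clo

def r228 : List (ℕ × Bool × List ℕ) := [(253, true, [2, 4, 3, 1, 3, 4, 0, 4, 0, 1]), (91, false, [1, 3, 1, 3, 1, 0, 1, 0, 4, 0, 4, 3]), (58, true, [2, 4, 0, 1, 3, 1, 0, 1, 0, 4, 0, 4, 0, 4]), (76, true, [1, 0, 1, 0, 2, 4, 0, 1, 0, 1, 0, 4, 0]), (53, true, [4, 3, 4, 0, 4, 0, 4, 3, 1, 0, 1, 3, 4, 3, 1]), (256, true, [3, 1, 0, 4, 0, 4, 3, 4, 0, 4, 3, 1, 3, 4]), (115, false, [3, 1, 3, 1, 0, 1, 0, 4, 3, 1, 3, 1, 0, 4, 3]), (167, true, [0, 4, 0, 1, 0, 1, 0, 1, 3, 4, 3,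 4, 0, 4, 3, 1]), (251, false, [4, 0, 4, 3, 4, 0, 4, 3, 4, 0, 1]), (91, false, [0, 4, 0, 1, 0, 1, 3, 1, 0, 4, 0, 4, 3, 1]), (117, false, [1, 0, 4, 0, 4, 0, 4, 3, 4, 3, 4, 0, 1, 0, 1]), (49, true, [0, 1, 0, 1, 3, 4, 0, 4, 0, 4, 3, 4, 3, 4, 0, 4]), (36, false, [3, 4, 0, 4, 0, 4, 0, 4, 3, 1, 3, 4, 0, 1, 0]), (251, false, [0, 4, 0, 1, 0, 1, 3, 4, 0, 1, 0, 1, 3, 1, 3]), (257, true, [0, 1, 0, 1, 0, 1, 3, 1, 3, 1, 0]), (115, true, [1, 0, 2, 4, 3, 1, 0, 1, 0, 4, 3, 4, 0]), (131, false, [1, 0, 4, 3, 4, 3, 1, 0, 1, 0, 1, 0]), (244, false, [0, 4, 0, 4, 0, 1, 3, 1, 3, 4, 0, 4, 0, 4, 0, 1]), (36, false, [3, 4, 3, 1, 3, 1, 0, 1, 0, 1, 0, 1, 3, 1]), (253, true, [2, 0, 4, 0, 4, 3, 4, 0, 4, 0, 4, 3, 4, 0, 1]), (62, true, [1, 3, 1, 3, 1,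 3, 4, 3, 4, 0, 4, 0]), (136, false, [4, 3, 4, 0, 4, 0, 1, 3, 4, 0, 4, 0, 1, 3]), (108, false, [0, 1, 0, 4, 0, 4, 0, 1, 3]), (169, true, [4, 3, 4, 0, 1, 3, 1, 0, 1, 3, 4, 3, 4]), (208, false, [0, 1, 2, 0, 1, 0, 1, 0, 4, 0, 4, 3, 1, 0, 4, 0]), (253, true, [2, 0, 1, 3, 4, 0, 4, 3, 4, 3, 1, 0, 4, 3, 4]), (242, false, [1, 3, 1, 3, 1, 0, 1, 0, 4, 3, 4, 0, 1, 3]), (240, false, [1, 0, 1, 3, 4, 0, 1, 3, 1, 3, 4, 0]), (242, false, [4, 0, 1, 3, 4, 3, 1, 0, 1, 3, 4, 0, 1, 3]), (115, true, [3, 4, 3, 1, 0, 1, 3, 1, 0, 4, 3]), (136, false, [1, 0, 4, 0, 1, 3, 1, 0, 1, 3, 1, 3, 4, 3]), (3, false, [1, 3, 1, 0, 4, 3, 1, 0, 1, 0, 4, 0, 4, 3]), (76, false, [0, 4, 3, 1, 3, 1, 3, 4, 0, 1, 3]), (256, true, [0, 1, 2, 0, 4, 0, 4, 3, 4, 3, 1, 0,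 1, 0, 1, 0, 4, 0]), (17, false, [4, 0, 4, 0, 4, 0, 4, 3, 1, 0, 4]), (121, false, [0, 4, 0, 1, 0, 1, 0, 1, 3, 4, 0, 4]), (247, true, [2, 0, 1, 0, 1, 3, 1, 3, 1, 0, 4, 3, 4, 0, 4]), (169, true, [4, 0, 1, 0, 1, 3, 1, 3, 4]), (167, true, [0, 1, 0, 1, 0, 2, 4, 0, 4, 0, 1, 3, 1, 0]), (247, true, [2, 0, 1, 3, 4, 3, 4, 3, 1, 0, 4, 0]), (205, true, [2, 0, 4, 3, 1, 0, 1, 3, 1, 0, 1, 3, 1]), (76, false, [1, 0, 1, 3, 1, 0, 1, 0, 1, 0, 4, 0, 4, 0, 4, 3]), (119, true, [0, 1, 3, 1, 0, 1, 3, 4, 3, 1, 0, 4]), (257, true, [2, 0, 4, 3, 1, 3, 1, 0, 1, 0, 1, 3, 1, 3, 1, 0]), (91, false, [1, 2, 0, 1, 0, 1, 0, 1, 3, 4, 3, 1, 0, 4, 0, 4, 3]), (49, true, [1, 3, 1, 3, 1, 3, 1, 3, 1]), (53, false, [1, 0, 1, 3, 4, 0, 1, 3, 1, 0]), (17, false, [0,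 1, 3, 4, 0, 4, 3, 1, 3, 4, 0, 4, 3]), (36, false, [1, 3, 1, 0, 1, 0, 4, 3, 4, 0, 1, 3, 4, 3, 1]), (58, true, [2, 0, 4, 3, 1, 0, 1, 3, 1, 3, 1, 0, 4, 3, 1, 0]), (115, true, [2, 0, 4, 3, 4, 0, 1, 3, 1, 3, 1, 0, 1, 0]), (244, false, [1, 0, 1, 0, 1, 3, 1, 3, 1, 3, 4, 3, 4, 0, 1, 0]), (58, true, [1, 2, 0, 4, 0, 1, 3, 1, 3, 4, 0, 1, 0]), (271, true, [3, 4, 3, 4, 3, 1, 0, 1, 0, 1]), (256, true, [3, 4, 3, 4, 3, 1, 0, 4, 3, 4, 0, 4]), (271, true, [1, 3, 1, 3, 1, 0, 1, 0, 4, 3, 4, 3, 1]), (256, true, [2, 0, 1, 3, 1, 3, 4, 0, 4, 0, 4]), (117, false, [2, 0, 1, 3, 1, 3, 4, 3, 4, 3, 4, 0, 4, 0]), (205, true, [0, 1, 2, 0, 1, 3, 1, 0, 4, 0, 4, 3, 4, 0, 4]), (167, true, [0, 2, 4, 3, 4, 0, 4, 3, 4, 3, 1, 0, 4]), (91, false, [2, 0, 4, 3,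 1, 3, 1, 0, 1, 0]), (95, false, [0, 2, 4, 3, 4, 0, 1, 0, 1, 0, 4, 0, 4, 3, 4]), (30, false, [0, 2, 4, 3, 4, 0, 1, 3, 1, 0, 1, 3]), (53, false, [4, 0, 1, 3, 4, 3, 4, 0, 4, 3, 4]), (76, true, [0, 1, 0, 2, 4, 0, 4, 0, 4, 3, 1, 0, 1, 0, 1, 3]), (3, false, [0, 4, 3, 4, 0, 4, 0, 1, 3, 4, 0, 4, 0, 4]), (208, false, [2, 0, 4, 3, 4, 3, 1, 0, 4, 3, 4, 3, 4, 0, 4]), (3, false, [3, 1, 3, 1, 0, 4, 3, 4, 3]), (62, true, [1, 2, 0, 4, 3, 4, 0, 1, 0, 1, 0, 4, 0]), (169, true, [2, 0, 1, 3, 1, 3, 4]), (115, false, [4, 3, 1, 0, 1]), (30, false, [1, 0, 4, 3, 4, 3, 4, 0, 4, 0, 1, 3, 1, 3, 4]), (256, true, [3, 4, 0, 1, 3, 4, 3, 4, 0, 4, 0, 1, 3, 4, 0]), (95, false, [4, 0, 1, 0, 4, 3, 4, 0, 1, 3, 1, 3]), (108, false, [4, 3, 4, 0, 4, 0, 4, 0,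 1, 3]), (95, false, [2, 0, 4, 0, 1, 0, 1, 0, 1, 3, 1, 3]), (147, false, [1, 0, 4, 0, 1, 3, 1, 0, 1, 3, 1, 3, 4, 0]), (244, false, [1, 2, 0, 1, 3, 4, 0, 1, 3, 1, 3, 1, 3]), (121, false, [0, 1, 0, 1, 2, 0, 1, 0, 1, 3, 1, 0, 4, 0]), (49, true, [0, 1, 0, 1, 2, 0, 1, 0, 1, 0, 4, 3, 4]), (121, false, [0, 4, 3, 1, 0, 1, 3, 4, 3, 1, 0, 4, 0, 4, 0, 1]), (58, true, [0, 4, 0, 1, 0, 1, 3, 4, 0, 1, 3, 1, 3, 4, 0, 1]), (91, false, [2, 0, 1, 0, 1, 3, 4, 3, 1, 0, 4, 0, 4, 3, 4]), (271, true, [3, 4, 3, 1, 3, 1, 0, 1, 3, 4]), (205, true, [0, 1, 3, 1, 0, 1, 3, 4, 0, 4, 3, 4, 0, 4]), (17, false, [1, 0, 1, 0, 1, 0, 4, 3, 4, 3]), (256, true, [1, 0, 1, 0, 2, 4, 0, 1, 0, 1, 3, 4, 3]), (240, false, [1, 0, 1, 3, 4, 0, 1, 3, 1, 3, 4, 0]), (115,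 true, [2, 0, 1, 0, 1, 3, 4, 0, 4, 3, 4]), (30, false, [0, 4, 0, 4, 3, 4, 0, 1, 3]), (76, true, [4, 3, 4, 3, 4, 0, 4, 0]), (253, true, [0, 1, 0, 1, 3, 4, 0, 4, 0, 4, 3, 4, 3, 4, 0, 4, 3]), (91, false, [0, 1, 0, 1, 0, 1, 3, 4, 3, 4, 3, 1, 3]), (136, false, [2, 0, 1, 0, 4, 3, 1, 0, 4]), (76, false, [4, 3, 1, 0, 1, 3, 4, 0, 4, 3, 1, 3, 1]), (58, true, [3, 1, 0, 1, 3, 4, 3, 4, 0, 4, 0, 4]), (208, false, [3, 4, 0, 4, 0, 1, 3, 1, 3, 4, 0, 4]), (251, false, [1, 3, 1, 3, 1, 3, 4, 0, 1]), (253, true, [1, 0, 4, 0, 4, 3, 1, 0, 1, 0, 1, 0, 4, 3, 1, 0]), (251, false, [0, 1, 0, 4, 3, 4, 3, 4, 3, 1, 0, 1, 3, 1, 3]), (251, false, [1, 0, 4, 0, 4, 3, 1, 3, 1, 3, 4]), (119, true, [1, 2, 0, 1, 3, 1, 0, 1, 3, 4, 0, 4, 0, 4, 3]), (251, false,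 [1, 3, 4, 3, 4, 3, 4, 0, 1, 0, 1, 3, 1, 3, 4]), (119, true, [4, 3, 1, 0, 1, 3, 1, 0, 4, 0, 4, 3]), (253, true, [1, 3, 1, 3, 4, 0, 4, 0, 4, 0, 4, 0, 4]), (257, true, [0, 4, 3, 4, 0, 4, 0, 4, 0, 4, 3, 4, 3, 4, 3]), (58, true, [1, 0, 1, 3, 4, 0, 1, 0]), (247, true, [3, 1, 3, 1, 0, 1, 0, 1, 0, 4, 3, 4, 0, 4]), (108, false, [3, 4, 3, 1, 3, 1, 3, 4, 3, 4, 3, 1]), (117, false, [0, 1, 0, 1, 0, 1, 2, 0, 1, 3, 4, 3, 4, 0]), (242, false, [2, 0, 1, 3, 1, 3, 1, 0, 4, 3, 4, 3, 4]), (62, true, [1, 0, 1, 2, 0, 1, 0, 4, 0, 4, 0, 4, 3, 4, 3, 1])]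
def r229 : List (ℕ × Bool × List ℕ) := [(57, true, [3, 1, 3, 1, 3, 4, 3, 4, 0, 4, 0, 4, 0, 4]), (274, false, [2, 4, 3, 4, 0, 1, 3, 1, 0, 1, 3, 1, 3, 1]), (220, true, [1, 3, 1, 0, 4, 0, 4, 0, 4, 3, 4, 3, 4, 0, 4]), (167, false, [0, 1, 0, 2, 4, 0, 4, 0, 4, 3, 4, 3, 4, 0, 1]), (97, true, [2, 0, 4, 0, 4, 3, 1, 3, 4, 0, 4, 3, 1, 0, 1]), (69, false, [2, 4, 0, 1, 3, 1, 0, 1, 3, 4, 0]), (255, false, [3, 4, 3, 4, 3, 1, 0, 1, 3, 1, 3, 4, 3]), (88, true, [0, 4, 0, 4, 0, 4, 0, 4, 3, 4, 3, 4, 0, 1, 3, 4]), (111, true, [2, 0, 1, 3, 4, 3, 4, 0, 1, 0]), (30, true, [0, 4, 3, 4, 3, 1, 0, 1, 3, 1, 0, 1]), (118, false, [0, 2, 4, 3, 1, 0, 1, 3, 4, 0, 4, 3, 4, 3]), (261, true, [4, 3, 4, 0, 4, 3, 4, 0, 4, 3, 1, 3, 1, 0, 4]), (88, true, [0,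 1, 0, 1, 0, 1, 3, 4, 3, 4, 0, 4, 3, 1, 3]), (220, true, [3, 4, 0, 4, 0, 1, 3, 1, 0, 4, 0, 4, 0, 4, 0]), (274, false, [0, 2, 4, 0, 4, 0, 4, 0, 1, 3, 1, 0, 4, 3, 4]), (211, true, [2, 0, 1, 0, 4, 0, 4, 3, 1, 0, 4, 3]), (154, true, [0, 1, 0, 4, 3, 4, 0, 1, 3, 4, 3, 4, 3]), (130, false, [2, 0, 4, 0, 1, 3, 1, 3, 1, 3, 1, 3]), (85, false, [0, 4, 3, 4, 0, 4, 0, 4, 3, 4, 0, 1, 3, 4]), (66, false, [0, 1, 2, 0, 4, 0, 4, 3, 1, 3, 4, 0, 4, 3, 4]), (261, true, [1, 3, 1, 0, 1, 3, 1, 3, 1, 3, 4, 3, 4, 0]), (268, true, [2, 0, 1, 3, 1, 3, 4, 0, 4, 3, 4, 3, 1]), (229, false, [0, 4, 0, 1, 3, 1, 0, 1, 0, 4, 0, 4, 0]), (122, true, [1, 0, 1, 3, 4, 3, 1, 0, 1, 3, 1, 3, 1, 0, 4, 3]), (277, true, [1, 0, 1, 0, 2, 4, 0, 4, 0, 4, 3, 4, 3, 4, 3, 4]),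 (82, true, [0, 1, 3, 4, 3, 1, 0, 4, 3, 4, 3, 4]), (85, false, [3, 1, 0, 1, 3, 1, 3, 1, 0, 1, 0, 4, 3, 1]), (167, false, [4, 0, 1, 0, 1, 3, 1, 3, 4, 0, 1, 0]), (111, true, [2, 0, 1, 0, 1, 0, 1, 3, 4, 0, 1, 3, 1, 3]), (66, false, [0, 1, 0, 1, 0, 1, 2, 0, 4, 0, 4, 3, 1, 0]), (268, true, [2, 0, 1, 3, 4, 0, 4, 3, 1, 0, 1, 0, 4, 3, 4]), (114, false, [3, 1, 0, 1, 0, 1, 3, 4, 3, 4, 0, 1, 3]), (255, false, [0, 1, 0, 1, 0, 1]), (30, true, [1, 3, 1, 0, 1, 0, 1, 3, 4, 0, 4]), (132, true, [0, 2, 4, 0, 1, 3, 1, 3, 4, 0, 4, 3, 1, 3, 4]), (266, false, [0, 2, 4, 0, 4, 0, 4, 3, 1, 0, 4, 0, 4, 0]), (229, false, [0, 4, 3, 1, 3, 4, 0, 1, 3, 4]), (96, true, [3, 4, 3, 1, 0, 1, 0, 1, 3, 1, 0, 1, 3, 1]), (111, true, [1, 0, 2, 4, 3, 1, 0, 1, 0,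 1, 3, 4, 0, 1, 0]), (229, false, [0, 1, 3, 4, 3, 1, 0, 4, 0, 1]), (47, true, [3, 4, 0, 1, 0, 1, 0, 4, 3, 4, 3, 4]), (261, true, [0, 4, 3, 4, 3, 4, 3, 1, 0, 1, 3, 4, 3, 4]), (82, true, [0, 2, 4, 0, 1, 0, 4, 3, 4, 0, 1, 3, 4]), (106, true, [1, 0, 4, 3, 1, 0, 4, 0, 4, 3]), (69, false, [0, 2, 4, 3, 4, 0, 4, 0, 1, 3, 1, 0, 4, 3]), (66, false, [0, 2, 4, 3, 1, 3, 1, 3, 4, 3, 4, 3, 4, 3, 1]), (277, true, [1, 2, 0, 1, 3, 4, 0, 1, 3, 1, 0, 4, 0, 4, 3]), (167, false, [4, 0, 4, 3, 4, 3, 1, 0, 1, 0, 4, 3, 4, 3]), (95, true, [0, 1, 0, 1, 0, 4, 0, 4, 3, 4, 0, 4, 0, 4]), (84, true, [2, 4, 0, 1, 0, 1, 0, 4, 3, 4, 3]), (88, true, [3, 4, 3, 4, 3, 1, 0, 1]), (229, false, [1, 3, 1, 0, 1, 0, 4, 3, 1, 3, 1, 3, 4, 3]), (255, false, [0, 1, 0,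 4, 3, 4, 0, 4, 0, 4, 3, 1, 0, 1, 3, 1]), (30, true, [3, 4, 0, 4, 0, 4, 3, 4, 3, 4, 3, 1]), (193, true, [2, 4, 3, 4, 3, 4, 3, 4, 3, 4, 0, 4]), (96, true, [1, 0, 1, 3, 4, 0, 4, 3, 4, 3, 4, 0, 1, 3, 4]), (122, true, [1, 0, 4, 3, 1, 0, 1, 0, 1, 0, 1, 3, 1, 3]), (122, true, [1, 3, 4, 0, 4, 0, 1, 3, 4, 0, 4, 0, 1]), (210, false, [0, 1, 2, 0, 4, 3, 1, 0, 1, 3, 4, 0, 4]), (47, true, [0, 1, 3, 1, 3, 4, 0, 4, 0, 4, 3, 4, 3]), (66, false, [1, 0, 2, 4, 3, 4, 3, 4, 3, 4, 3, 1]), (57, true, [0, 4, 0, 1, 0, 1, 0, 4, 0, 4, 3, 1, 3, 4, 0]), (66, false, [2, 0, 1, 3, 1, 3, 1, 3, 1, 0, 1, 0, 1, 3, 4, 3]), (132, false, [2, 0, 1, 0, 4, 3, 1, 0, 1, 0, 4, 3]), (132, false, [1, 0, 2, 4, 3, 4, 3, 4, 0, 4, 0, 4, 0]), (69, false, [2, 4, 0, 1, 0,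 4, 3, 4, 0, 1, 3, 1, 3, 1, 3, 1]), (97, true, [3, 4, 3, 1, 0, 4, 0, 4, 3, 1, 3, 4, 0, 4]), (82, true, [1, 0, 4, 3, 4, 3, 4, 3, 1, 0]), (84, true, [2, 4, 0, 1, 3, 1, 3, 1, 0, 4, 3, 4, 0, 1, 0]), (274, false, [0, 1, 0, 1, 2, 0, 1, 0, 1, 3, 1, 0, 4, 3, 4]), (213, true, [3, 4, 0, 1, 3, 1, 0, 1, 0, 1, 3, 4, 0, 1, 0, 1]), (114, false, [1, 0, 1, 0, 1, 0, 1, 2, 0, 1, 0]), (57, true, [4, 3, 4, 0, 4, 0, 1, 3, 1, 3, 1, 3, 4, 3, 4]), (194, false, [0, 1, 2, 0, 4, 0, 4, 0, 1, 3, 4, 3, 4]), (154, true, [3, 1, 3, 4, 3, 4, 0, 1, 3, 1, 3, 1, 0, 1, 0]), (114, false, [4, 3, 4, 3, 1, 0, 1, 0, 1, 3, 1, 3]), (136, true, [4, 3, 1, 3, 1, 0, 4, 0, 4, 3, 1, 0, 1]), (136, true, [2, 0, 4, 0, 4, 3, 4, 3, 4, 3, 4, 0, 4]), (66, false, [2, 0, 1, 3, 1,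 0, 1, 0, 1, 3, 4, 0, 4, 3, 1, 3]), (220, true, [0, 4, 0, 4, 3, 1, 0, 1, 0, 4, 0, 4, 3, 1, 0, 4, 3]), (84, true, [1, 3, 4, 3, 4, 3, 1, 0, 4, 0, 4, 3, 1, 3]), (95, true, [0, 1, 3, 4, 3, 4, 3, 4, 0, 4, 3, 1, 3]), (194, false, [3, 4, 0, 4, 0, 4, 3, 1, 0, 4, 0, 4, 3]), (106, false, [3, 1, 3, 4, 0, 4, 3, 4, 0, 1, 3]), (85, false, [4, 3, 4, 3, 4, 3, 1, 0, 4, 0, 4]), (229, false, [3, 4, 0, 1, 3, 4, 3, 4, 0, 1, 3, 1]), (277, false, [1, 0, 1, 3, 1, 3, 4, 3, 4]), (277, true, [0, 2, 4, 0, 1, 0, 4, 3, 1, 3, 1, 3, 1, 0, 4, 0]), (210, false, [1, 2, 0, 4, 3, 1, 3, 1, 3, 4, 3, 4, 0, 4, 3]), (193, true, [0, 1, 2, 0, 4, 3, 4, 0, 1, 0, 1, 0, 4, 0]), (132, false, [1, 0, 2, 4, 3, 1, 0, 1, 0, 4, 3, 4, 0]), (96, true, [0, 1, 0, 4, 0, 4, 3, 4,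 0, 1, 0, 1, 0, 4, 0, 4]), (118, false, [2, 0, 4, 0, 4, 3, 4, 0, 4, 3, 1, 0, 1, 0]), (154, true, [0, 4, 0, 1, 0, 1, 3, 1, 0, 1, 0, 4, 0, 4]), (266, false, [4, 3, 4, 3, 4, 3, 4, 0, 4, 3, 1, 3, 4]), (47, true, [0, 4, 0, 4, 3, 4, 3, 4, 0, 1, 3, 1, 3]), (97, true, [3, 1, 3, 1, 3, 4, 0, 4, 3, 4, 3, 4, 3]), (210, false, [2, 0, 1, 3, 1, 3, 1, 0, 1, 3, 4, 3, 1, 0, 4, 0]), (118, false, [1, 0, 1, 3, 1, 3, 4, 3, 4, 0, 4]), (213, true, [0, 4, 0, 1, 3, 1, 0, 4, 3, 4, 3, 4, 3, 1, 0, 1, 3]), (95, true, [1, 0, 1, 3, 1, 0, 1, 0, 4, 3, 1, 3, 1, 0]), (193, true, [0, 1, 2, 0, 4, 0, 4, 3, 1, 0, 4, 0, 4, 0]), (266, false, [0, 2, 4, 0, 4, 3, 4, 0, 1, 0, 1, 0, 4, 0]), (194, false, [1, 0, 4, 0, 1, 3, 1, 3, 4, 0, 4, 0, 1, 3, 1]), (277, false, [3,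 4, 0, 4, 0, 4, 3, 4, 0, 1, 3, 1]), (277, false, [4, 0, 1, 3, 1, 3, 1, 0, 4, 3, 4, 3, 4, 0, 1]), (211, true, [4, 0, 4, 3, 4, 3, 4, 3, 1, 0, 1, 3, 4]), (136, true, [4, 0, 4, 0, 4, 3, 4, 3, 4, 0, 1, 3, 1, 0, 4]), (268, true, [0, 2, 4, 0, 1, 3, 4, 3, 1, 0, 1, 3, 4, 0, 1]), (106, false, [0, 4, 0, 4, 3, 4, 3, 1, 3]), (211, true, [3, 1, 3, 4, 3, 4, 0, 1, 0, 1, 3]), (213, true, [0, 1, 0, 4, 3, 4, 3, 1, 0, 1, 0, 4, 3, 4, 3, 4])]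
def r230 : List (ℕ × Bool × List ℕ) := [(259, true, [1, 0, 1, 3, 4, 0, 4, 0, 1, 3, 1, 0, 1, 0]), (4, true, [4, 3, 4, 3, 4, 0, 4, 0, 4, 3, 1, 0, 1, 3, 1]), (204, true, [3, 1, 0, 1, 3, 4, 0, 4, 0, 4, 3, 4]), (94, false, [3, 1, 3, 4, 3, 4]), (94, false, [1, 3, 4, 3, 4]), (62, false, [1, 3, 4, 3, 4, 0, 4, 3, 4, 3, 4]), (79, true, [1, 0, 1, 0, 4, 0, 4, 3, 1, 0, 1, 0, 1, 3, 4]), (130, true, [3, 4, 3, 1, 0, 1, 0, 1, 3, 1, 0]), (72, true, [0, 4, 3, 4, 0, 1, 3, 4, 3, 4, 0, 1]), (215, true, [3, 1, 0, 4, 3, 4, 0, 1, 0, 1, 3, 1, 3, 1, 3]), (134, false, [0, 4, 3, 4, 0, 4, 0, 4, 0, 1, 3, 1, 3]), (187, true, [1, 0, 1, 0, 1, 3, 1, 0, 4, 3, 1, 3, 4, 0]), (20, false, [2, 4, 3, 1, 0, 1, 0, 1, 0, 4, 3, 4, 3]), (243, true, [3, 1, 3, 4, 0,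 1, 3, 1, 0, 4]), (263, true, [1, 2, 0, 1, 0, 1, 3, 1, 3, 1]), (271, true, [1, 3, 4, 0, 1, 3, 4, 3, 4, 3, 1]), (128, false, [0, 2, 4, 0, 1, 0, 1, 3, 4, 0, 4, 3, 4, 0, 4, 3, 1]), (79, false, [3, 4, 0, 4, 3, 1, 0, 1, 0, 4, 0, 4, 0, 4, 3, 1]), (50, false, [2, 0, 1, 0, 1, 0, 4, 3, 1, 3, 4, 0]), (153, false, [1, 0, 1, 3, 4, 3, 1]), (230, true, [2, 4, 0, 1, 3, 1, 3, 1, 0, 1, 0, 1, 0, 1]), (128, false, [1, 0, 1, 0, 4, 0, 4, 3, 1, 0, 1, 0, 4, 0, 4]), (11, false, [0, 1, 3, 1, 3, 1, 3, 4, 0, 1]), (0, true, [2, 0, 4, 0, 1, 3, 4, 3, 1, 0, 4]), (173, false, [0, 1, 2, 0, 1, 0, 1, 3, 1]), (246, false, [3, 4, 3, 4, 0, 4, 0, 4, 0, 1]), (168, false, [0, 1, 0, 1, 3, 1, 0, 4, 3, 1, 0, 1, 0, 4, 3]), (189, true, [0, 1, 0, 1, 3, 1, 3, 1, 0,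 4, 0, 4, 3, 1, 3]), (230, false, [2]), (230, true, [2, 4, 0, 4, 0, 4, 0, 4, 3, 4, 3, 4, 0, 1]), (98, true, [0, 4, 0, 1, 3, 4, 0, 4, 0, 1, 3, 1, 0]), (191, false, [0, 4, 0, 4, 3, 1, 3, 1, 3, 4, 0, 4, 3, 1]), (224, true, [0, 1, 3, 4, 0, 4, 0, 4, 3, 4, 0, 4, 3, 4]), (153, false, [0, 1, 2, 0, 1, 0, 4, 0, 4, 3, 1, 0, 1, 3, 4, 3, 1]), (217, true, [3, 4, 3, 1, 0, 4, 3, 4, 3, 4, 3, 4, 0, 4]), (187, true, [3, 4, 0, 1, 3, 1, 0, 4, 3, 1, 3, 1]), (269, true, [1, 0, 1, 2, 0, 4, 3, 4, 3, 1, 0, 4, 0]), (267, true, [0, 4, 3, 1, 0, 4, 3, 4, 3, 4, 3, 4, 0, 4]), (218, true, [1, 3, 1, 3, 4, 0, 4, 0, 4, 0, 4, 3, 1, 0, 1]), (156, false, [1, 3, 4, 0, 4, 3, 4, 3, 1, 0, 4, 0, 4, 0, 4, 3]), (72, true, [0, 1, 2, 0, 4, 0, 1, 3, 1, 3, 4, 3, 4, 0,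 1, 3]), (204, false, [4, 0, 4, 3, 1, 3, 1, 0, 4, 0, 4, 3, 4, 3, 1]), (150, false, [0, 1, 3, 4, 3, 1, 0, 1, 3, 1, 3, 1, 0, 4, 3, 4]), (156, false, [4, 3, 1, 3, 1, 3, 4, 0, 1, 3, 1, 3, 1, 0, 1, 0]), (0, true, [1, 0, 2, 4, 0, 1, 0, 1, 0, 4, 3]), (183, true, [2, 0, 1, 0, 1, 0, 4, 0, 4, 3, 4, 0, 4, 0, 1]), (255, false, [2, 0, 1, 0, 4, 0, 4, 0]), (93, true, [1, 0, 1, 0, 4, 3, 1, 0, 4, 0]), (195, false, [1, 0, 2, 4, 0, 4, 0, 1, 3, 4, 0, 4, 0, 4]), (237, false, [1, 2, 0, 4, 0, 4, 0, 1, 3, 1, 0, 1]), (191, false, [0, 2, 4, 0, 1, 0, 4, 3, 4, 0, 1, 3, 1, 3, 1, 3, 4, 0]), (269, true, [3, 1, 3, 1, 0, 4, 0, 4, 3, 4, 0, 1]), (144, false, [1, 0, 4, 0, 1, 3, 4, 3, 4, 0, 4, 0]), (255, false, [0, 1, 0, 1, 0, 2, 4, 0, 4, 3, 1, 3, 1, 3, 1,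 0, 1, 0]), (119, true, [2, 4, 0, 1, 3, 1, 3, 1, 0, 1, 3, 1, 0, 1]), (216, true, [2, 4, 3, 1, 0, 4, 3, 4, 0, 4, 3, 4]), (40, true, [0, 1, 0, 1, 2, 0, 1, 3, 4, 3, 4, 0, 1, 3, 1, 3]), (4, false, [2, 0, 1, 0, 1, 3, 4, 3, 4, 0, 1, 3, 1]), (261, true, [0, 1, 2, 0, 1, 0, 4, 3, 4, 3, 4, 3, 4, 0, 1, 3, 1]), (243, true, [0, 1, 0, 1, 0, 2, 4, 0, 4, 3, 4, 3, 4, 3, 1]), (119, true, [3, 4, 0, 1, 3, 1, 3, 1, 0, 1, 3, 1, 0, 1]), (157, true, [1, 0, 1, 0, 1, 0, 1, 2, 0, 1, 0, 1, 0, 4, 0]), (267, true, [4, 3, 4, 3, 4, 0, 4, 3, 4]), (230, true, []), (217, true, [2, 0, 1, 3, 4, 0, 1, 0, 1, 0, 1, 0]), (263, true, [0, 1, 0, 1, 0, 1, 3, 4, 0, 1, 3, 1, 0, 1, 0, 4, 3]), (31, true, [1, 3, 1, 0, 4, 3, 1, 3, 1, 3, 1, 0, 4, 3]), (123, false, [1, 3,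 4, 3, 4, 3, 1, 0, 1, 3, 1, 0, 1, 3, 4, 3, 4]), (259, true, [1, 3, 1, 0, 4, 3, 1, 3, 4, 0, 4, 3, 4, 0]), (257, false, [0, 4, 3, 4, 0, 1, 3, 1, 0, 1, 0, 1, 0]), (177, true, [3, 4, 0, 4, 3, 4, 3, 4, 0, 4]), (246, false, [1, 2, 0, 4, 3, 4, 3, 4, 0, 4, 0, 4, 0, 1]), (206, false, [4, 3, 4, 0, 4, 3, 1, 3, 1, 3, 4, 0]), (134, true, [0, 1, 3, 4, 0, 1, 3, 1, 3, 1, 0, 4, 3, 4, 3, 1]), (98, true, [0, 1, 2, 0, 1, 3, 4, 3, 4, 0, 4, 3, 1, 3, 4]), (140, false, [0, 4, 3, 4, 3, 1, 0, 4, 3, 4, 0, 4]), (79, false, [0, 1, 0, 1, 0, 1, 3, 4, 0, 4, 3, 4, 0]), (230, false, [1, 0, 1, 0, 2, 4, 0, 1, 3, 4, 3, 4]), (230, false, [0, 4, 3, 4, 0, 4, 3, 1, 3, 1, 0, 1]), (230, false, [1, 0, 1, 3, 1, 3, 1, 0, 4, 3, 4, 3, 4, 0, 4]), (195, true, [3, 1, 3,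 4, 0, 4, 0, 1]), (177, true, [2, 0, 1, 3, 4, 3, 4, 0, 4]), (123, false, [0, 1, 0, 1, 0, 2, 4, 0, 1, 3, 1, 3, 1, 0, 4]), (40, true, [1, 0, 4, 3, 1, 3, 1, 3, 4, 0, 1, 3]), (218, true, [2, 0, 1, 3, 4, 0, 1, 3, 1, 3, 4, 3, 4, 3]), (189, true, [1, 2, 0, 1, 0, 1, 0, 1, 3, 4, 0, 4, 3, 4, 0, 4, 0]), (157, false, [3, 4, 0, 4, 3, 1, 0, 4, 0, 4, 3, 4, 0]), (31, true, [0, 1, 3, 1, 3, 1, 0, 4, 3, 1, 3, 4]), (14, true, [0, 4, 0, 1, 3, 4, 0, 4, 0, 1, 3, 4, 3]), (94, true, [1, 0, 2, 4, 3, 4]), (94, true, [1, 0, 2, 4, 3, 4]), (215, true, [1, 0, 4, 3, 1, 3, 1, 3, 4, 0, 1, 0, 4]), (150, false, [0, 1, 2, 0, 4, 3, 1, 0, 1, 0, 4, 3, 1, 3]), (259, false, [2, 4, 0, 4, 3, 1, 0, 1, 3, 1, 0, 4]), (261, true, [0, 4, 0, 1, 3, 1, 0, 4, 0, 4, 3, 4,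 3, 4, 3, 4]), (50, false, [1, 0, 4, 0, 1, 3, 1, 3, 4, 0, 4, 0, 4, 0]), (255, false, [4, 3, 4, 0, 1, 0, 1, 3, 1, 0, 4, 3, 4]), (230, false, [1, 2, 0, 4, 0, 4, 3, 1, 0, 1, 0, 4]), (118, false, [0, 4, 0, 4, 3, 4, 0, 4, 3, 4, 3, 4]), (237, false, [0, 4, 0, 1, 0, 1, 0, 4, 3, 1, 3, 1, 3]), (191, false, [4, 3, 1, 3, 1, 3, 1, 3, 4, 3, 4, 3, 4, 0]), (255, false, [1, 3, 1, 3, 1, 0, 1, 3, 4, 0, 4]), (183, true, [3, 1, 3, 4, 0, 4, 0, 4, 3, 4, 3, 4, 0]), (191, false, [2, 0, 1, 0, 1, 3, 1, 3, 1, 0, 4, 3, 4, 3, 1]), (240, false, [0, 4, 3, 1, 3, 1, 3, 1, 0, 4, 3, 4]), (259, true, [1, 0, 1, 0, 1, 0, 1, 0, 1, 3, 1, 3, 1, 0, 1, 0]), (224, true, [2, 0, 4, 3, 4, 3, 1, 0, 1, 3, 1, 3, 4, 0, 4]), (243, false, [4, 3, 1, 0, 4, 0, 4, 3, 1, 3, 4,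 0, 4, 0]), (117, true, [1, 0, 4, 3, 1, 0, 1, 0, 4, 3, 4, 0, 4, 0]), (257, false, [0, 1, 3, 1, 0, 1, 3, 4, 3, 4, 0, 1, 0]), (79, true, [0, 1, 3, 4, 3, 4]), (130, false, [2, 0, 1, 0, 1, 0, 4, 3, 4, 3, 4, 0])]
def r231 : List (ℕ × Bool × List ℕ) := [(172, true, [0, 1, 2, 0, 1, 0, 4, 3, 1, 0, 1, 3, 4, 0, 1]), (124, false, [1, 2, 0, 1, 3, 1, 0, 1, 3, 1, 0, 1, 3, 1, 3, 4, 3]), (124, false, [0, 1, 0, 4, 3, 1, 3, 1, 0, 1, 0, 4, 3, 4, 3, 4, 3, 1]), (214, true, [1, 2, 0, 1, 3, 4, 0, 4, 0, 1, 3, 1, 0, 4, 0, 4]), (144, false, [0, 1, 0, 2, 4, 3, 4, 0, 1, 3, 1, 3]), (226, true, [3, 1, 0, 1, 3, 1, 0, 1, 3, 1, 3, 4, 3, 4]), (263, false, [0, 1, 0, 4, 0, 4, 0, 4, 3, 4, 3, 4, 0, 1, 0]), (4, false, [2, 4, 3, 4, 3, 4, 3, 1, 3]), (204, false,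 [3, 4, 0, 4, 3, 4, 0, 1, 0, 1, 3, 1, 0, 1]), (112, false, [0, 1, 0, 2, 4, 3, 4, 3, 4, 0, 4, 0, 4, 0, 1, 0]), (79, true, [1, 0, 1, 0, 1, 0, 1, 3, 1, 3, 1, 3, 1, 0, 4, 0, 4]), (118, false, [3, 4, 3, 1, 0, 4, 0, 4, 3, 1, 0, 4, 3]), (72, true, [0, 4, 3, 4, 3, 4, 3, 4, 0, 1, 0, 1]), (277, true, [1, 3, 1, 0, 4, 3, 4, 3, 4, 3, 1, 0, 1, 3, 1]), (266, true, [2, 0, 1, 3, 4, 0, 4, 3, 1, 0, 1, 3]), (151, true, [4, 0, 1, 0, 1, 0, 1, 3, 4, 3, 4, 0, 1]), (80, true, [3, 1, 0, 1, 0, 1, 0, 4, 3]), (191, true, [1, 0, 1, 3, 1, 3, 1, 3, 1, 0, 1, 0, 4, 0, 4, 0]), (72, true, [2, 0, 1, 0, 4, 0, 4, 0, 4, 3, 4, 3, 4, 0, 4, 0, 4, 3]), (119, false, [1, 0, 4, 0, 4, 0, 4, 3, 4, 3, 4, 0, 4]), (153, true, [4, 0, 4, 0, 4, 0, 4, 3, 1, 3, 1, 0, 4, 0, 4]),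 (207, true, [4, 0, 1, 3, 1, 0, 4, 0, 4, 0, 1]), (269, false, [4, 0, 1, 0, 1, 0, 1, 3, 4, 0, 4, 3]), (173, false, [1, 0, 4, 0, 1, 3, 4, 0, 4, 0, 1, 3, 4]), (260, true, [0, 1, 0, 2, 4, 0, 1, 0, 1, 3]), (27, false, [0, 4, 3, 1, 3, 1, 0, 4, 3, 4, 0, 4, 3, 4, 0]), (166, true, [1, 0, 1, 3, 1, 0, 1, 0, 4, 0, 4, 3, 1, 0]), (231, true, []), (90, true, [2, 4, 3, 4, 0, 1, 3, 1, 3, 4, 0, 4, 0, 4, 3, 4]), (151, true, [1, 0, 1, 0, 1, 0, 1, 2, 0, 1, 3, 4, 3, 4]), (262, false, [1, 0, 4, 3, 4, 0, 4, 3, 4, 0, 1, 3, 1, 3, 4, 0]), (203, false, []), (6, true, [2, 4, 0, 1, 3, 1, 3, 4, 3, 4, 0, 4]), (226, true, [1, 0, 2, 4, 0, 1, 3, 1, 0, 4, 0, 4, 3, 4, 3]), (125, false, [1, 0, 2, 4, 3, 1, 0, 1, 0, 1, 0, 4, 3, 1, 3, 4]), (247, true, [2, 4,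 3, 1, 0, 4, 0, 4, 0]), (83, true, [3, 4, 0, 1, 0, 1, 3, 1, 3, 1, 3, 1, 3, 1, 0]), (50, false, [0, 2, 4, 3, 1, 3, 1, 3, 4, 3, 4, 0, 4]), (4, true, [4, 3, 1, 3, 4, 0, 1, 3, 1, 0]), (213, true, [1, 3, 1, 0, 4, 0, 4, 3, 1, 3, 4, 0, 4, 0]), (235, true, [1, 0, 4, 0, 4, 3, 4, 0, 1, 3, 1, 3, 1, 3]), (44, false, [1, 0, 4, 0, 1, 0]), (15, false, [1, 0, 4, 0, 1, 3, 4, 0, 4, 3, 1, 3, 4]), (231, false, [1, 2, 0, 1, 0, 1, 0, 4, 0, 4, 0, 4]), (57, false, [2, 4, 3, 4, 0, 1, 0, 1, 0, 4, 3, 1, 3, 4]), (189, true, [1, 0, 1, 3, 4, 0, 4, 0, 4, 0, 4, 3, 1, 3, 1]), (224, true, [0, 1, 3, 1, 0, 1, 0, 4, 3, 1]), (232, true, [0, 1, 2, 0, 1, 0, 1, 0, 4, 3, 4, 3, 1]), (232, false, [4, 0, 4, 0, 4, 0, 4, 3, 1, 0]), (177, true, [1, 3, 1, 0, 1, 3, 1,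 0, 1]), (263, false, [2, 4, 3, 1, 3, 4, 0, 4, 0, 4, 0, 4, 3, 1, 3, 1]), (191, true, [1, 0, 2, 4, 0, 1, 3, 1, 3, 4, 3, 4, 3, 1, 3]), (88, true, [2, 0, 4, 3, 4, 0, 4, 0, 4, 0, 4, 3, 1, 3, 1, 3]), (166, false, [1, 2, 0, 1, 3, 1, 0, 1, 0, 4, 0, 4, 3, 1, 0]), (133, false, [0, 1, 2, 0, 1, 0, 4, 3, 4, 0, 4, 3]), (191, false, [2, 4, 0, 4, 3, 4, 3, 4, 3, 4, 0, 1, 3, 1, 0, 4]), (73, true, [1, 0, 1, 3, 1, 0, 1, 3, 1, 0, 1, 0, 1, 3]), (79, true, [0, 1, 0, 1, 3, 1, 0, 4, 0, 4, 0, 1, 3, 1, 3, 1, 3]), (235, true, [2, 0, 1, 3, 4, 0, 4, 0, 4, 3, 1, 0]), (246, false, [0, 4, 0, 1, 3, 1, 0, 4, 0, 4, 3, 4, 3, 4, 3]), (124, false, [1, 3, 1, 0, 1, 3, 1, 3, 4, 0, 1, 0, 4]), (111, true, [0, 1, 0, 1, 3, 1, 3, 1, 3, 1, 0, 1, 0, 4, 3, 4]), (156,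 true, [4, 3, 4, 0, 1, 3, 1, 0, 1, 3, 1, 3]), (224, true, [2, 4, 3, 1, 3, 1, 0, 1, 0, 1, 0, 4, 0, 4, 3, 4]), (16, true, [0, 4, 3, 1, 0, 1, 3, 4, 3, 4, 0]), (262, true, [0, 2, 4, 0, 4, 3, 4, 0, 1, 0, 1, 3, 1, 0, 1]), (118, false, [2, 0, 4, 0, 1, 3, 1, 3, 4, 3, 4, 0, 4]), (262, true, [3, 4, 0, 4, 3, 4, 0, 1, 0, 1, 3, 1, 0, 1]), (153, true, [0, 2, 4, 0, 4, 3, 4, 0, 4, 3, 4, 3, 1, 0, 4]), (50, false, [2, 4, 0, 4, 3, 1, 0, 1, 0, 4, 0, 4]), (86, false, [0, 1, 0, 1, 3, 4, 0, 4, 3, 1, 3, 1, 3, 4, 0]), (6, false, [3, 4, 0, 1, 3, 1, 3, 4, 3, 4, 0, 4]), (73, true, [2, 4, 0, 4, 0, 4, 3, 1, 3, 4, 0, 4, 3, 4, 3, 4, 3]), (111, true, [1, 2, 0, 4, 3, 4, 0, 1, 0, 1, 3, 1, 0, 4]), (269, false, [1, 0, 1, 2, 0, 1, 3, 1, 0, 1, 3, 1, 0, 1]),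 (34, true, [4, 3, 1, 0, 1, 0, 4, 3, 1, 3, 1, 3, 4]), (12, false, [2, 4, 3, 1, 0, 1, 3, 4, 0, 4, 0, 4, 3]), (118, false, [2, 4, 3, 4, 3, 4, 3, 4, 3, 4, 3, 1, 3]), (140, true, [1, 0, 1, 0, 1, 0, 2, 4, 3, 4, 3]), (189, true, [0, 1, 0, 1, 2, 0, 1, 0, 4, 3, 1, 0, 1, 0, 4, 0, 4]), (247, true, [4, 0, 1, 3, 1, 0, 4, 3, 1, 0, 1, 0, 4, 0]), (124, false, [2, 0, 1, 3, 1, 0, 1, 0, 4, 3, 4, 3, 4, 3, 1]), (112, false, [0, 1, 3, 1, 0, 1, 0, 1, 3, 1, 3, 4, 3, 4]), (191, false, [3, 1, 0, 1, 0, 4, 3, 4, 3, 4, 3, 4]), (140, false, [4, 0, 1, 0, 1, 0, 4, 0, 4, 0, 4]), (125, false, [1, 3, 4, 3, 4, 3, 1, 0, 1, 0, 1, 0, 4, 3, 1]), (133, false, [2, 4, 3, 1, 3, 1, 0, 4, 3, 4, 0, 4, 0]), (156, false, [1, 0, 1, 0, 1, 3, 1, 0, 1, 3, 4, 3, 4]), (86,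 false, [2, 4, 3, 4, 0, 4, 3, 4, 3, 4, 0, 1]), (6, false, [1, 0, 2, 4, 0, 4, 3, 4, 0, 1, 3, 1, 3, 4, 3, 4]), (214, true, [3, 4, 0, 4, 3, 1, 3, 1, 3, 1, 0, 4, 0, 4]), (172, true, [4, 0, 1, 0, 1, 3, 4, 3, 1, 0, 1, 0, 4]), (57, false, [0, 4, 3, 4, 3, 1, 0, 4, 0, 4, 3, 1, 3]), (262, false, [0, 1, 2, 0, 4, 3, 4, 3, 4, 0]), (6, true, [4, 3, 4, 3, 4, 0, 4, 3, 1, 3, 1, 0, 1, 0, 4]), (88, true, [3, 4, 0, 4, 0, 4, 0, 4, 3, 4, 3, 4, 0, 4, 3]), (260, true, [1, 3, 1, 0, 4, 3, 4, 3, 1, 0, 1, 0, 1, 0, 4]), (277, true, [0, 2, 4, 3, 1, 0, 1, 0, 1, 0, 4, 0, 4, 3, 1, 0, 1, 0]), (119, false, [3, 1, 0, 1, 0, 4, 0, 4, 0, 4, 3, 4, 3, 4, 0, 1]), (204, false, [0, 4, 3, 4, 0, 4, 3, 1, 3, 1, 0, 1, 3, 1]), (225, true, [1, 0, 2, 4, 3, 4, 3, 1, 0,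 4, 3, 4, 0]), (135, false, [0, 1, 3, 1, 0, 1, 3, 4, 3, 4, 0, 4, 3, 4]), (225, true, [3, 1, 0, 1, 0, 4, 3, 4, 0, 4, 3, 4, 0, 1, 3, 1]), (135, false, [0, 1, 0, 1, 3, 1, 0, 4, 3, 4, 3, 4]), (27, false, [2, 4, 3, 4, 3, 1, 3]), (266, true, [1, 0, 1, 0, 2, 4, 0, 1, 3, 1, 0, 1, 3, 4, 3]), (177, true, [0, 4, 0, 4, 3, 4, 3, 4, 0, 1, 3, 1, 0, 4, 0, 4]), (213, true, [2, 4, 0, 4, 0, 4, 3, 1, 3, 4, 0, 4, 0]), (242, true, [4, 0, 1, 3, 4, 3, 4, 3, 4, 0, 1, 3, 1]), (79, false, [3, 4, 3, 1, 3, 1, 0, 4, 3, 4, 3, 4, 0, 1, 3]), (90, true, [0, 1, 3, 1, 3, 1, 3, 4, 0, 4, 0, 1, 3]), (187, true, [4, 3, 1, 0, 4, 3, 4, 0, 1, 3, 1, 3])]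
def r232 : List (ℕ × Bool × List ℕ) := [(73, false, [2, 4, 3, 4, 3, 1, 0, 1, 0, 1, 0, 1, 3, 4, 0, 1]), (232, true, [0, 1, 0, 2, 4, 0, 1, 0, 1, 0, 4, 3, 4, 0, 4]), (158, true, [0, 1, 2, 0, 1, 0, 1, 3, 1, 0, 1, 3, 4, 3, 4, 0]), (94, true, [3, 4, 0, 1, 3, 4, 3, 4, 3, 1]), (243, true, [1, 0, 1, 0, 1, 0, 4, 3, 4, 0, 4, 0, 4, 3]), (269, false, [0, 1, 3, 4, 0, 4, 0, 4, 0, 4, 3, 4, 3, 1, 3]), (167, true, [1, 3, 1, 0, 4, 3, 4, 3, 4, 3, 1, 0, 1, 3, 1, 3]), (212, false, [3, 4, 0, 1, 3, 4, 3, 4, 3, 1, 3]), (259, false, [0, 4, 3, 4, 0, 4]), (84, true, [0, 1, 0, 1, 3, 1, 3, 1, 3, 1]), (39, false, [3, 1, 3, 4, 0, 4, 0, 1]), (266, false, [4, 0, 4, 3, 4, 0, 1, 3, 1, 3, 4, 3, 4, 0]), (129, true, [0, 4, 0, 4, 3, 4, 0, 4, 3, 1, 0, 1, 3]),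 (213, true, [0, 1, 0, 2, 4, 0, 4, 0, 4, 0, 4, 0, 4, 3, 1, 3, 4, 0]), (179, false, [1, 2, 0, 1, 3, 4, 0, 4, 3, 1, 0, 1, 0, 4, 3, 4, 3]), (153, false, [0, 1, 3, 4, 3, 1, 0, 1, 0, 1]), (112, false, [3, 4, 3, 4, 3, 4, 0, 4, 0, 4, 0, 4, 3, 4, 0]), (273, false, [3, 1, 0, 1, 0, 4, 3, 1, 3, 1, 0, 4, 0, 4]), (234, false, [0, 1, 0, 1, 0, 1, 2, 0, 1, 0, 1, 0, 1, 3, 4, 0, 1, 3, 1]), (257, false, [1, 0, 2, 4, 3, 4, 3, 4, 0, 4, 0, 4, 3, 4, 3, 4]), (217, true, [1, 2, 0, 1, 3, 4, 0, 4, 0]), (231, false, [3, 4, 0, 1, 3, 1, 3, 1, 3, 1]), (58, true, [3, 4, 0, 1, 3, 4, 3, 4, 3, 1, 0, 4, 3]), (90, false, [1, 0, 4, 0, 4, 3, 1, 3, 4, 0, 4, 0, 1, 3, 4, 0]), (55, false, [2, 0, 4, 0, 4, 3, 4, 3, 1, 3]), (261, true, [1, 0, 1, 0, 4, 3, 1, 3, 1,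 3, 4, 0, 1, 0, 4]), (167, true, [1, 0, 2, 4, 0, 1, 0, 1, 0, 1, 3, 4, 0, 4, 3]), (144, true, [4, 3, 4, 0, 4, 3, 1, 3, 1, 0, 1, 0, 4]), (72, false, [2, 4, 0, 1, 0, 1, 3, 1, 3, 1, 0, 4, 3, 4, 0, 4]), (212, false, [0, 1, 2, 0, 4, 0, 4, 3, 4, 0, 1, 0, 1, 0, 4]), (271, true, [3, 4, 3, 4, 0, 4, 0, 1, 3, 4, 0, 4, 0]), (117, true, [1, 2, 0, 4, 0, 4, 3, 4, 3, 4, 3, 4, 0, 4, 3]), (158, true, [1, 0, 1, 3, 4, 0, 1, 0, 1, 0, 1, 0, 4, 0]), (222, true, [2, 0, 4, 3, 4, 3, 1, 0, 1, 3, 1, 3, 4, 0]), (94, true, [0, 4, 3, 1, 0, 4, 3, 4, 3, 1, 0, 1, 0, 4, 0]), (72, false, [0, 1, 0, 1, 0, 4, 3, 1, 3, 1, 0, 1, 0, 1, 3, 1, 3]), (183, true, [4, 0, 4, 3, 1, 0, 1, 3, 4, 3, 4, 0, 1, 3, 4, 3]), (261, true, [2, 0, 1, 3, 4, 0, 4, 3, 1, 3]), (221, false,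 [4, 3, 1, 0, 4, 3, 4, 3, 1, 0, 1, 0, 1, 3, 1, 0]), (280, true, [1, 0, 4, 3, 4, 0, 4, 0, 4, 0, 1, 3]), (183, true, [2, 0, 1, 0, 4, 0, 4, 3, 4, 0, 1, 0, 1]), (270, false, [0, 4, 0, 1, 3, 1, 0, 4, 3, 4, 3, 4, 0, 4, 0]), (125, false, [0, 1, 2, 0, 1, 0, 1, 3, 4, 0, 1, 3, 1]), (73, false, [4, 0, 1, 3, 1, 0, 4, 3, 4, 3, 4, 3, 1, 0, 1, 3]), (189, false, [1, 3, 4, 0, 1, 3, 1, 3, 1, 3]), (183, true, [1, 0, 1, 3, 1, 0, 1, 0, 1, 3, 4, 3]), (243, true, [4, 0, 4, 0, 4, 0, 1, 3, 4, 0, 4]), (150, true, [1, 2, 0, 1, 0, 1, 3, 4, 0, 1, 0, 1, 0]), (150, false, [0, 1, 2, 0, 1, 0, 1, 3, 4, 3, 1, 0, 4, 3]), (65, true, [2, 0, 1, 0, 4, 3, 4, 0, 4, 3, 4, 3, 4, 3, 1, 0]), (128, true, [2, 4, 3, 1, 0, 1, 3, 4, 3, 1, 0, 4, 0, 4, 0, 1]), (58, false,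 [4, 0, 1, 3, 1, 3, 1, 0, 4, 3, 4, 0, 1, 0, 1]), (112, false, [1, 0, 2, 4, 3, 4, 3, 1, 0, 1, 3, 1, 0]), (182, false, [3, 1, 0, 1, 0, 4, 0, 4, 0, 1, 3, 1, 0, 4, 3]), (125, false, [4, 3, 4, 0, 4, 0, 1, 3, 1, 0, 4, 0]), (231, true, [1, 0, 1, 0, 1, 0, 1, 0, 1, 2, 0, 1, 0]), (89, true, [2, 4, 0, 1, 0, 1, 0, 4, 3, 1, 3, 4, 0, 4]), (89, true, [1, 3, 1, 3, 4, 0, 1, 0, 1, 0, 1, 3, 4, 0]), (275, true, [3, 4, 3, 1, 3, 1, 0, 4, 3, 1, 3, 1, 0, 1, 3]), (128, true, [4, 0, 1, 0, 1, 0, 4, 0, 4, 0, 1]), (152, false, [1, 3, 4, 0, 4, 3, 1, 3, 1, 0, 1, 3, 1]), (269, false, [2, 0, 4, 0, 1, 0, 1, 3, 4, 0, 1, 0, 1, 3, 1, 0]), (189, false, [2, 4, 0, 4, 0, 4, 3, 4, 0, 4, 3, 4, 0, 4, 3]), (243, true, [4, 3, 4, 0, 4, 0, 4, 3, 4, 0, 1, 0, 1, 0]),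 (150, false, [0, 4, 3, 1, 3, 4, 0, 4, 3, 4, 3, 4, 3, 1, 3]), (62, true, [2, 0, 1, 0, 4, 3, 4, 3, 1]), (156, false, [3, 1, 0, 4, 3, 4, 0, 4, 3, 4, 3, 4, 0]), (89, true, [2, 4, 3, 1, 0, 1, 0, 4, 0, 4, 0, 4, 3]), (118, false, [1, 0, 1, 3, 4, 3, 1, 0, 1, 0, 4, 0, 4, 0]), (256, true, [2, 4, 0, 4, 0, 1, 3, 1, 3, 4, 3, 4, 3, 1, 3]), (112, false, [1, 3, 1, 0, 1, 0, 4, 0, 4, 3, 1, 0, 1, 3, 4]), (84, true, [1, 0, 1, 3, 1, 3, 1, 0, 4, 3, 1, 3, 1, 3, 4]), (257, false, [2, 4, 0, 4, 0, 1, 3, 1, 0, 1, 3, 4]), (256, true, [0, 1, 3, 4, 0, 4, 0, 1, 3, 1, 0, 1, 3]), (112, false, [1, 2, 0, 1, 3, 1, 0, 1, 3, 4, 3, 1, 0, 1, 0, 1, 0]), (123, false, [4, 3, 1, 3, 1, 0, 1, 3, 4, 3, 4, 0, 4]), (266, false, [0, 1, 3, 1, 3, 1, 3, 4, 0, 4, 3, 1, 3,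 4]), (183, true, [2, 0, 4, 3, 4, 3, 4, 0, 1, 3, 1, 3, 4, 3, 4, 0]), (65, true, [3, 4, 3, 4, 0, 1, 0, 1, 3, 1, 0, 4, 3, 4]), (232, true, []), (76, true, [2, 4, 3, 4, 3, 4, 0, 1, 3, 1, 0, 4, 0, 4]), (153, false, [0, 1, 0, 1, 2, 0, 1]), (186, true, [0, 1, 3, 1, 0, 1, 0, 1, 3, 1, 3, 1, 3, 4, 3, 4]), (152, false, [1, 0, 2, 4, 3, 1, 0, 1, 0, 4, 0, 4, 3, 1, 3]), (280, false, [2, 4, 3, 1, 0, 4, 0, 4, 3, 1, 0]), (18, true, [2, 0, 4, 0, 1, 0, 1, 3, 1, 0]), (123, false, [2, 0, 4, 0, 4, 0, 1, 3, 4, 0, 4, 3, 1, 0, 4]), (243, true, [0, 1, 3, 1, 0, 1, 0, 1, 0, 1, 3, 4]), (253, true, [1, 0, 4, 0, 4, 0, 4, 3, 4, 0, 4, 3, 4, 3, 1, 0]), (258, true, [0, 1, 0, 4, 0, 4, 3, 1, 0, 1, 3, 4, 0, 1]), (20, false, [1, 0, 4, 0, 4, 0, 4, 3, 4, 0, 4,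 3, 4, 0]), (90, false, [0, 2, 4, 3, 4, 3, 4, 3, 1, 0, 1, 3, 4, 0, 4, 3]), (182, false, [2, 4, 3, 4, 0, 1, 3, 1, 3, 1, 0, 1, 0, 1, 0]), (232, false, [1, 3, 4, 0, 1, 0, 1, 0, 4, 0, 4, 0]), (221, false, [1, 0, 2, 4, 0, 1, 3, 1, 0, 1, 0, 4]), (76, true, [1, 0, 1, 0, 1, 0, 1, 0, 1, 0, 2, 4, 3, 4, 3]), (187, true, [3, 1, 0, 1, 3, 1, 0, 4, 3, 4, 3, 4, 3, 4]), (150, true, [4, 0, 1, 0, 4, 3, 1, 3, 1, 0, 1, 0, 1, 3]), (222, true, [1, 0, 2, 4, 0, 1, 0, 4, 3, 4, 3, 1, 0, 4, 0, 1]), (234, false, [0, 4, 0, 4, 0, 1, 3, 4, 3, 4, 3, 1, 0, 1]), (217, true, [0, 2, 4, 0, 4, 0, 4, 0, 4, 0, 4, 0]), (89, true, [1, 0, 1, 3, 1, 0, 1, 3, 4, 3]), (232, true, [1, 0, 1, 0, 2, 4, 0, 1, 0, 1, 3, 4, 3, 4, 0]), (179, false, [4, 0, 4, 3, 4, 3, 4, 0, 4,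 3, 4, 0, 4, 3]), (222, true, [0, 4, 3, 4, 3, 1, 0, 1, 3, 4, 0, 1, 0, 1, 3, 1]), (222, true, [0, 1, 3, 1, 3, 1, 0, 4, 3, 4, 0]), (270, false, [2, 4, 3, 1, 0, 1, 3, 1, 0, 4, 3, 4]), (58, false, [1, 0, 1, 0, 1, 2, 0, 4, 3, 1, 3, 1, 0, 4, 0]), (58, true, [2, 0, 4, 0, 4, 0, 4, 0, 4, 3, 4, 3, 4, 0, 4, 3, 1]), (198, true, [1, 3, 4, 0, 4, 3, 1, 3, 1, 3, 1, 0, 4, 0]), (253, true, [1, 2, 0, 1, 0, 1, 3, 4, 3, 4, 0, 4, 0, 4]), (213, true, [0, 4, 0, 4, 3, 4, 0, 4, 0, 4, 3, 4, 3])]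
def r233 : List (ℕ × Bool × List ℕ) := [(25, false, [0, 1, 2, 0, 1, 0, 4, 3, 4, 0, 4, 0, 4, 3, 1, 0]), (184, false, [0, 2, 4, 3, 1, 3, 1, 3, 4, 3, 4, 3, 1, 3]), (120, false, [0, 1, 3, 1, 3, 1, 0, 4, 0, 4, 3, 1, 3, 4, 0]), (105, false, [0, 1, 2, 0, 4, 3, 1, 0, 1, 0, 4, 0, 4, 0, 1]), (107, true, [3, 4, 3, 4, 0, 1, 3, 1, 3, 4, 0, 4, 3, 1]), (148, true, [2, 4, 0, 4, 3, 4, 3, 4, 0, 4, 3, 1, 0, 4, 0]), (149, true, [0, 1, 2, 0, 1, 3, 4, 3, 4, 0, 1, 3, 1, 3, 1]), (109, false, [1, 0, 2, 4, 0, 1, 0, 1, 0, 1, 0, 4, 0, 4, 0]), (181, true, [1, 2, 0, 1, 0, 1, 0, 1, 3, 1, 3, 1, 3, 1, 0, 4, 3]), (269, true, [1, 3, 1, 0, 4, 0, 4, 0]), (92, true, [0, 1, 0, 4, 3, 1, 3, 1, 0, 4, 0, 4, 3, 1]), (233, true, []), (262, false, [2, 4, 0, 4, 0,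 4, 0, 1, 0]), (241, true, [2, 4, 3, 1, 0, 4, 3, 4, 0, 1, 0]), (220, false, [1, 0, 4, 3, 4, 0, 4, 3, 1, 0, 4, 0, 1]), (276, false, [1, 3, 4, 0, 4, 3, 4, 0, 4, 0, 4, 3, 1]), (44, false, [4, 3, 1, 0, 1, 0, 4, 3, 1]), (41, true, [4, 0, 4, 3, 1, 0, 1, 0, 4, 3, 4, 3, 1]), (262, false, [1, 0, 1, 3, 1, 3, 1, 3, 1, 0, 1, 0, 4, 0, 4, 3]), (155, true, [0, 4, 3, 4, 0, 4, 3, 1, 0, 1, 0, 1]), (27, false, [2, 4, 3, 1, 3, 1, 0, 1, 0, 1, 3]), (61, false, [0, 2, 4, 3, 1, 0, 1, 0, 4, 3, 4, 0, 4, 3]), (172, false, [1, 0, 4, 3, 1, 3, 1, 0, 4, 3, 4, 0, 4, 0]), (75, false, [0, 1, 2, 0, 1, 0, 4, 3, 4, 0, 1, 0, 4]), (237, false, [1, 0, 1, 3, 1, 3, 4, 3, 4, 3, 4, 3, 4, 0]), (233, false, [1, 0, 1, 0, 1, 0, 1, 0, 2, 4, 3, 4, 0, 4]), (196, true,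 [3, 4, 3, 4, 0, 4, 0, 4, 0, 1, 0]), (216, true, [0, 4, 0, 1, 0, 1, 0, 4, 0, 4, 3, 1, 0]), (95, true, [0, 1, 0, 1, 0, 2, 4, 0, 4, 3, 4, 3, 4]), (276, false, [2, 0, 4, 0, 1, 3, 4, 0, 4, 3, 1, 3, 1, 3, 4]), (182, true, [2, 0, 1, 3, 1, 3, 4, 3, 4, 0, 1, 3, 4, 3, 4, 0, 4]), (53, true, [0, 4, 0, 1, 0, 1, 3, 4, 0, 1, 3, 1, 0, 1, 0]), (111, true, [0, 1, 2, 0, 4, 0, 4, 3, 4, 3, 1, 0, 1, 0, 1, 0, 4]), (148, true, [0, 4, 3, 4, 0, 4, 0, 1, 3, 4, 3, 1]), (43, true, [3, 4, 0, 4, 0, 1, 3, 1, 3, 1, 3, 1, 0]), (20, false, [3, 4, 0, 4, 3, 4, 0, 4, 0, 1, 3, 4]), (120, false, [3, 4, 0, 1, 3, 1, 0, 1, 0, 1, 3, 4, 0, 1]), (86, false, [4, 0, 4, 0, 4, 0, 1, 3, 1, 0, 1, 0, 1]), (109, false, [1, 0, 1, 0, 4, 3, 1, 0, 1, 0, 4, 3, 4]), (233, false,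 [0, 1, 3, 1, 0, 4, 3, 4, 0, 4, 3, 4, 3, 1]), (220, false, [2, 4, 0, 4, 3, 4, 3, 4, 3, 4, 0, 4, 0, 4, 3, 1, 3]), (250, false, [4, 0, 4, 3, 4, 3, 1, 0, 4, 3, 4, 3, 1, 0]), (186, true, [4, 0, 4, 3, 4, 0, 1, 3, 1, 3, 1, 3]), (168, true, [0, 2, 4, 3, 4, 0, 4, 3, 4, 0, 1, 3, 4]), (188, true, [0, 1, 3, 4, 3, 1, 0, 1, 3, 4, 3, 4, 0, 1, 3]), (46, false, [2, 0, 4, 3, 1, 3, 1, 0, 1, 0, 1, 3, 4, 0]), (65, true, [2, 0, 1, 3, 4, 0, 1, 0, 1, 0, 1, 3, 4, 0, 4]), (37, false, [0, 4, 0, 1, 3, 1, 3, 1, 0, 1, 0, 1, 3]), (15, true, [1, 0, 1, 0, 1, 0, 4, 3, 1, 0, 4]), (43, true, [2, 4, 3, 1, 0, 1, 3, 1]), (149, true, [3, 1, 0, 1, 0, 4, 0, 4, 0]), (41, true, [0, 1, 0, 1, 2, 0, 4, 0, 1, 3, 4, 3, 4, 3]), (155, false, [1, 3, 1, 0, 4, 3, 4, 0]),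 (9, false, [4, 0, 1, 0, 1, 3, 1, 3, 4, 0, 4, 0]), (212, false, [2, 0, 4, 0, 1, 0, 1, 3, 1, 0, 4, 0, 4, 3]), (56, false, [0, 1, 0, 1, 3, 1, 3, 1, 0, 1, 0, 1, 3, 4, 3, 1]), (3, true, [0, 2, 4, 0, 4, 3, 4, 0, 4, 3, 1, 3, 1, 0, 1]), (92, true, [1, 0, 2, 4, 3, 1, 0, 4, 3, 4, 0, 4, 0, 4, 3, 1]), (220, false, [0, 1, 0, 4, 0, 4, 0, 1, 3, 1, 0, 4, 3, 4, 3]), (50, true, [2, 4, 0, 4, 3, 1, 0, 1, 3, 1, 0]), (184, false, [2, 0, 1, 3, 1, 3, 4, 3, 4]), (191, false, [0, 1, 0, 1, 0, 2, 4, 0, 4, 3, 4, 3, 1, 0, 1]), (49, true, [1, 0, 1, 0, 4, 0, 4, 0, 1, 3, 1]), (65, true, [1, 3, 1, 0, 1, 3, 4, 3, 4, 3, 1, 0, 1, 3, 4]), (75, true, [0, 1, 3, 1, 0, 4, 3, 4, 0, 1, 0, 4]), (3, true, [0, 4, 3, 1, 0, 1, 3, 1, 3, 4, 3]), (241, true, [1, 0, 1,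 0, 1]), (3, true, [0, 2, 4, 3, 4, 0, 1, 0, 4]), (27, false, [0, 4, 3, 1, 0, 4, 3, 4, 0, 4, 0, 4]), (86, false, [2, 4, 0, 4, 0, 4, 0, 4, 3, 4, 3, 4, 3, 4, 0, 4, 0]), (65, true, [0, 1, 3, 4, 3, 4, 0, 4, 0, 4, 3, 1, 0, 1, 3, 1]), (70, true, [2, 0, 1, 3, 1, 0, 4, 0, 4, 3, 1, 0, 4, 0, 1]), (3, true, [1, 0, 4, 0, 4, 3, 1, 0, 1, 0, 1, 3]), (191, false, [1, 0, 4, 3, 4, 3, 4, 3, 4, 0, 1, 0, 1, 3, 4, 3, 1]), (172, false, [2, 4, 3, 1, 3, 4, 0, 4, 3, 1, 3, 1, 3]), (107, true, [0, 1, 3, 4, 0, 4, 3, 4, 3, 1, 0]), (107, true, [4, 0, 1, 0, 1, 0, 4, 0, 4, 3, 1]), (248, true, [3, 1, 0, 4, 3, 4, 3, 4, 0, 4, 0, 4, 3, 4]), (205, true, [1, 3, 4, 3, 1, 0, 4, 3, 4, 3, 1, 0, 4, 0, 1]), (46, false, [4, 0, 1, 3, 1, 3, 1, 0, 1, 3, 4, 3, 1]), (20,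 false, [1, 0, 4, 3, 4, 3, 4, 0, 1, 3, 1, 0, 4, 0, 4, 0]), (120, false, [1, 0, 4, 0, 4, 3, 1, 0, 1, 3, 4]), (269, true, [1, 2, 0, 1, 3, 1, 0, 4, 3, 1, 0, 1, 0, 4, 0]), (56, false, [4, 0, 1, 3, 1, 0, 1, 0, 4, 3, 1, 3, 1, 0, 4]), (233, false, [3, 1, 0, 1, 3, 4, 0, 4, 3, 4, 3, 1]), (43, true, [1, 2, 0, 4, 3, 4, 0, 4, 0, 1, 3, 1, 3, 1, 3, 1, 0]), (212, false, [1, 0, 1, 3, 1, 0, 4, 0, 4, 3, 4, 0, 1, 3]), (18, true, [3, 4, 3, 1, 3, 1, 3, 1, 3, 1, 3]), (65, true, [1, 2, 0, 1, 3, 1, 3, 4, 0, 4, 0, 1, 0]), (70, true, [1, 3, 1, 3, 1, 3, 4, 0, 1, 0]), (105, false, [0, 4, 0, 4, 0, 4, 0, 1]), (25, false, [1, 0, 4, 3, 1, 3, 1, 3, 1, 0, 1]), (188, true, [0, 1, 0, 2, 4, 0, 4, 3, 1, 3, 4, 0, 1, 0]), (182, true, [0, 1, 0, 4, 3, 4, 0, 4,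 0, 4, 3, 1, 0, 1, 0, 4]), (111, true, [0, 4, 0, 4, 3, 1, 0, 1, 3]), (155, true, [1, 0, 1, 0, 2, 4, 0, 1, 3, 4, 3, 4]), (237, false, [2, 0, 4, 0, 4, 3, 4, 0, 4, 3, 1, 0, 1, 0, 1]), (241, true, [0, 2, 4, 3, 1, 3, 1, 0, 4, 0, 4, 3]), (155, false, [2, 0, 1, 0, 4, 3, 1, 3, 1, 0, 1, 3, 4, 3, 1]), (181, true, [0, 4, 3, 4, 3, 4, 3, 1, 0, 1, 3, 1, 3, 1]), (6, true, [2, 4, 0, 4, 3, 1, 0, 1, 3, 1, 0, 1, 0, 4, 0, 4, 3]), (111, true, [1, 0, 2, 4, 0, 4, 3, 4, 0, 4, 3, 1, 3, 1, 0]), (6, true, [3, 1, 0, 4, 0, 4, 0, 4, 3]), (111, true, [1, 3, 1, 3, 4, 3, 4, 0, 1, 3, 1, 3, 1, 0, 4]), (233, false, [0, 1, 0, 4, 3, 1, 0, 1, 3, 1, 0, 1, 0]), (220, false, [2, 4, 0, 1, 0, 1, 3, 1, 3, 1, 3, 4, 3, 4, 0]), (43, true, [4, 0, 1, 3, 1, 3, 4, 3, 4,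 3, 1, 0, 1, 3, 1]), (233, false, [2, 0, 4, 0, 1, 3, 1, 3, 1, 0, 1, 3, 4, 0]), (207, false, [1, 0, 1, 3, 1, 3, 1, 0, 1, 0, 4, 0, 4, 3, 4]), (45, false, [3, 4, 3, 1, 0, 4, 0, 4, 3, 1, 0, 4]), (95, true, [2, 4, 3, 1, 0, 1, 3, 4, 0, 1, 0, 1, 0]), (161, true, [3, 1, 0, 1, 0, 1, 3, 1, 3, 4, 3, 4])]
def r234 : List (ℕ × Bool × List ℕ) := [(276, false, [1, 0, 1, 3, 4, 3, 4, 3, 4, 0, 1, 0, 1, 3, 1]), (261, true, [4, 3, 1, 0, 1, 0, 1, 0, 1, 3, 1, 3, 4, 3]), (171, false, [3, 4, 0, 4, 3, 1, 3, 4, 0, 1, 0]), (65, false, [0, 4, 3, 4, 3, 1, 0, 4, 3, 4, 3, 4, 0, 4]), (232, false, [0, 4, 0, 1, 0, 1, 3, 1, 0, 4, 0, 4, 0, 4]), (132, false, [2, 0, 1, 0, 1, 0, 1, 0, 1]), (225, true, [3, 1, 3, 4, 3, 4, 0, 4, 0, 4, 3, 4, 3, 4, 3]), (263, false,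 [0, 4, 0, 4, 0, 4, 3, 1, 3, 1, 0, 1, 0, 4, 3, 1]), (275, true, [0, 4, 0, 4, 3, 4, 3, 1, 0, 4, 3, 4, 3, 4, 3]), (179, true, [2, 0, 4, 3, 4, 3, 4, 0, 1, 0, 1, 3, 4, 0, 4, 3, 1]), (178, true, [3, 1, 3, 1, 0, 4, 0, 4, 3, 1, 3]), (125, true, [4, 0, 1, 3, 1, 3, 1, 0, 1, 0, 1, 3, 4, 0, 4, 3]), (262, true, [4, 0, 1, 3, 4, 0, 4, 0, 4, 0, 4]), (77, false, [1, 0, 1, 3, 1, 3, 4, 3, 4, 3, 1, 0]), (248, true, [1, 2, 0, 4, 0, 4, 0, 1, 3, 4, 3, 4, 0]), (149, true, [2, 4, 0, 1, 0, 1, 3, 1, 3, 4, 0]), (261, true, [0, 1, 3, 1, 0, 1, 0, 1, 3, 1, 0, 4, 3, 4, 3]), (2, true, [0, 4, 0, 4, 0, 4, 3, 4, 3, 4, 0, 4, 0]), (57, true, [1, 3, 1, 0, 4, 3, 4, 0, 4, 3, 4, 0, 1, 0, 1, 0]), (246, true, [4, 0, 4, 3, 4, 0, 4, 3, 1, 3, 4, 0, 4]), (193, false,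 [0, 1, 3, 4, 3, 4, 0, 4, 3, 1, 3, 1, 3, 4]), (200, false, [0, 4, 3, 4, 3, 4, 0, 4, 3, 4, 0, 4, 3, 4, 3, 4, 0]), (151, true, [3, 1, 0, 4, 3, 4, 3, 4, 0, 4, 3, 1, 0, 1, 0]), (194, false, [0, 1, 0, 1, 0, 1, 0, 4, 0, 4, 3, 1, 3, 1]), (225, false, [0, 1, 2, 0, 4, 0, 1, 3, 1, 0, 1, 0, 4, 3, 1, 3, 1, 0]), (28, false, [0, 2, 4, 3, 4, 3, 1, 0, 1, 3, 1, 3, 1, 0, 4, 0, 4]), (250, true, [1, 0, 1, 0, 1, 0, 1, 2, 0, 4, 3, 4, 3]), (154, true, [1, 3, 4, 3, 1, 0, 1, 3, 4, 0, 4, 0, 4, 0, 1]), (123, true, [0, 1, 3, 1, 0, 4, 3, 4, 3, 1, 0, 1, 0, 4, 3]), (77, false, [2, 0, 1, 3, 1, 0, 4, 3, 4, 0, 4, 0, 1]), (86, false, [1, 0, 2, 4, 3, 1, 0, 4, 0, 4, 3, 1, 3, 4, 0, 4]), (64, false, [0, 4, 0, 1, 0, 1, 0, 1, 3, 1, 0]), (69, false, [1, 2, 0,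 4, 3, 1, 0, 1, 0, 4, 3, 1]), (181, false, [3, 1, 3, 1, 3, 1, 0, 4, 3, 1, 3, 1, 3, 4]), (95, false, [0, 4, 3, 1, 0, 1, 3, 1, 3, 1, 0]), (58, true, [1, 2, 0, 1, 0, 1, 3, 4, 0, 1, 3, 1, 3, 1]), (173, true, [1, 0, 4, 3, 4, 0, 4, 0, 4, 0, 1, 0]), (254, false, [0, 2, 4, 3, 4, 0, 1, 3, 1, 0, 4, 0, 4, 3, 1, 0, 1, 0]), (170, false, [1, 0, 1, 3, 1, 0, 1, 0, 1, 3, 1, 3, 1]), (26, false, [3, 1, 0, 4, 3, 4, 3, 1, 0, 4, 3, 4]), (59, true, [2, 4, 3, 4, 0, 1, 3, 1, 3, 1, 0, 1, 3]), (234, true, []), (125, true, [3, 1, 0, 1, 3, 1, 3, 4, 0, 4, 3, 4, 0, 4, 3]), (35, false, [4, 3, 1, 0, 4, 3, 4, 3, 1, 0, 1, 0, 1]), (182, true, [0, 2, 4, 0, 1, 0, 4, 3, 1, 3, 1, 3, 4, 0, 4, 3]), (127, true, [0, 1, 3, 1, 0, 1, 3, 4, 0, 4, 3, 4, 0, 4]), (72,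 false, [2, 4, 3, 4, 0, 4, 0, 1, 3, 1, 3, 4, 0]), (20, true, [3, 1, 0, 1, 0, 4, 0, 4, 0, 1, 3, 1, 3, 4]), (20, false, [0, 1, 3, 1, 3, 4, 3, 4, 0, 1, 3]), (120, true, [1, 3, 1, 0, 1, 0, 1, 0, 4, 0, 4, 0, 4, 0]), (98, true, [1, 0, 2, 4, 3, 1, 0, 4, 3, 4, 3, 4, 3, 4]), (120, false, [0, 1, 0, 1, 0, 1, 3, 4, 0, 1, 3, 1, 3]), (91, true, [1, 2, 0, 1, 3, 1, 0, 1, 0, 4, 0, 4, 0, 1, 3]), (87, true, [2, 4, 0, 1, 0, 1, 3, 4, 0, 1, 3, 1, 3, 4, 0, 1]), (126, false, [2, 4, 0, 4, 0, 4, 3, 4, 3, 4, 3, 4, 3, 4, 0, 1, 0]), (72, true, [1, 0, 1, 3, 4, 3, 1, 0, 1, 3, 1, 3, 1, 0]), (38, false, [0, 1, 0, 2, 4, 0, 1, 0, 4, 3, 4, 3, 1]), (218, false, [1, 0, 4, 0, 1, 3, 1, 0, 4, 3, 1, 3]), (255, true, [0, 2, 4, 3, 1, 0, 1, 0, 1, 3, 1, 3, 4, 0, 4,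 0, 4]), (135, true, [3, 1, 0, 4, 3, 1, 3, 4, 0, 4, 3, 4, 0]), (254, false, [1, 3, 4, 0, 4, 0, 1, 3, 1, 0, 1, 3, 1, 0, 4, 0]), (114, true, [2, 4, 3, 1, 3, 1, 3, 4, 3, 4, 0, 4, 3, 4, 3]), (180, false, [2, 0, 4, 3, 1, 0, 1, 3, 1, 0, 1, 0, 4, 0, 4, 0]), (126, false, [0, 1, 3, 1, 0, 1, 0, 1, 0, 1, 3, 4, 3, 4, 0]), (104, true, [1, 0, 4, 3, 4, 3, 4, 3, 1, 0, 1, 0, 4]), (153, true, [0, 4, 3, 4, 3, 1, 0, 1, 3, 4, 3, 1]), (158, false, [4, 0, 4, 3, 4, 3, 1, 0, 1, 0]), (218, true, [0, 1, 3, 4, 3, 1, 0, 4, 0, 4, 3, 1, 3, 4, 0, 1]), (88, true, [0, 2, 4, 3, 1, 0, 1, 3, 4, 0, 4, 0, 1, 3, 1, 0]), (215, true, [0, 4, 3, 4, 0, 4, 0, 1, 3, 1, 3, 1, 3, 1, 3]), (141, true, [2, 4, 0, 1, 0, 1, 3, 1, 3, 1, 0, 4, 0, 4, 3, 4, 3]), (226, true, [0,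 1, 2, 0, 4, 3, 4, 3, 4, 0, 4, 3, 1, 0, 4]), (9, false, [3, 4, 3, 4, 3, 4, 3, 4, 3, 4]), (182, false, [0, 1, 0, 2, 4, 3, 4, 0, 4, 0, 4, 0, 4, 0]), (157, false, [4, 0, 4, 0, 1, 3, 1, 3, 1, 0]), (29, false, [0, 2, 4, 3, 1, 0, 1, 0, 1, 3, 1, 3]), (199, true, [4, 0, 4, 0, 1, 3, 4, 0, 1]), (191, false, [1, 0, 4, 3, 4, 0, 4, 0, 1, 3, 4, 0, 4, 3]), (66, true, [4, 3, 4, 3, 4, 3, 1, 0, 1, 3, 4, 3, 4, 3, 1, 0]), (269, true, [2, 4, 0, 1, 0, 4, 3, 4, 3, 4, 3, 1, 0, 4, 0, 1]), (23, false, [3, 1, 3, 1, 0, 1, 0, 1, 3, 4]), (183, true, [1, 0, 1, 0, 1, 2, 0, 1, 3, 1]), (106, true, [4, 0, 4, 0, 1, 3, 4, 3, 4, 0, 1, 0, 1, 3]), (171, false, [3, 4, 0, 4, 3, 1, 3, 4, 0, 1, 0]), (246, true, [1, 0, 4, 0, 1, 3, 1, 0, 1, 3, 1, 3, 1, 0, 4]), (234,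 false, [2, 4, 3, 1, 0, 1, 3, 4, 0, 4, 3, 1]), (22, true, [1, 0, 1, 0, 1, 0, 1, 2, 0, 4, 3, 4, 0, 1, 0, 1]), (90, true, [3, 1, 0, 1, 3, 4, 0, 1, 3, 1, 3, 1, 0, 4]), (46, true, [0, 1, 3, 4, 0, 4, 0, 4, 3, 4, 0, 4, 3]), (83, true, [3, 1, 0, 1, 3, 1, 3, 1, 0, 1, 3, 4, 3, 1]), (234, true, []), (179, false, [0, 4, 3, 1, 0, 4, 0, 4, 0, 1, 3]), (260, false, [1, 0, 1, 2, 0, 4, 0, 1, 3, 1, 0, 1, 0, 1]), (272, true, [1, 0, 1, 3, 4, 0, 4, 3, 4, 3, 4, 0, 4]), (126, true, [1, 3, 1, 0, 1, 0, 4, 3, 4, 0, 4, 3, 4]), (255, false, [1, 2, 0, 4, 3, 4, 0, 4, 3, 1, 3, 1, 0, 1, 3]), (111, false, [1, 2, 0, 1, 3, 4, 0, 1, 3, 1, 3, 1, 0, 4]), (82, true, [0, 1, 3, 1, 3, 4, 3, 4, 0, 1, 0]), (41, false, [1, 0, 2, 4, 3, 4, 3, 1, 3]), (94, true, [2,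 0, 4, 3, 1, 0, 1, 3, 4, 3, 4, 0, 4, 0, 1]), (86, true, [4, 3, 1, 0, 4, 3, 4, 3, 4, 0, 1, 3]), (153, true, [4, 0, 4, 3, 1, 3, 1, 0, 4, 0, 4, 3, 1]), (22, true, [2, 0, 4, 3, 4, 0, 4, 0, 1, 3, 1, 0, 4, 3, 1, 0]), (220, false, [1, 0, 1, 0, 4, 3, 4, 0, 4, 3, 1]), (40, false, [1, 0, 4, 3, 1, 3, 1, 3, 1, 3, 4, 3]), (137, false, [0, 1, 0, 2, 4, 3, 4, 0, 4, 3, 4]), (22, true, [2, 0, 1, 3, 1, 0, 4, 3, 4, 3, 4, 0, 4, 3, 1]), (251, true, [0, 1, 0, 4, 0, 4, 3, 4, 0, 1, 0, 1, 0, 1]), (84, false, [3, 1, 3, 4, 0, 1, 3, 1, 0, 1, 0, 1, 3, 1]), (146, true, [1, 3, 1, 3, 1, 0, 1, 3, 1, 3, 4]), (260, true, [3, 1, 3, 1, 3, 1, 0, 1, 3, 1, 0, 1, 0, 4, 0]), (4, false, [3, 4, 0, 4, 3, 1, 0, 4, 0, 4, 3, 1, 3])]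
def r235 : List (ℕ × Bool × List ℕ) := [(214, true, [2, 0, 1, 0, 4, 0, 4, 0, 1, 3, 4, 3, 4, 0, 4]), (105, false, [0, 1, 0, 1, 0, 2, 4, 3]), (106, false, [4, 3, 1, 0, 1, 0, 1, 0, 4, 0, 4, 0, 1]), (117, true, [2, 0, 1, 3, 1, 3, 4, 0, 4, 0, 1, 3]), (91, false, [0, 4, 0, 1, 0, 1, 3, 1, 3, 1, 3, 1, 0, 4, 0, 4]), (105, false, [0, 1, 2, 0, 1, 0, 4, 0, 4, 3]), (276, true, [3, 4, 3, 1, 3, 1, 3, 1, 0, 1, 0, 1, 0, 1]), (272, true, [2, 0, 4, 3, 1, 3, 1, 0, 4, 3, 4, 3, 4, 3]), (101, false, [2, 0, 1, 3, 1, 0, 4, 3, 4, 3, 4, 0, 4, 3]), (117, true, [2, 0, 4, 3, 4, 0, 1, 0, 1, 0, 4, 3, 4]), (89, false, [4, 0, 4, 3, 4, 0, 1, 3, 1, 3, 4, 0, 4]), (141, false, [3, 1, 0, 4, 3, 1, 3, 1, 0, 1]), (181, false, [4, 0, 4, 3, 4, 0, 4, 3, 1, 3, 1,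 0, 4]), (139, false, [2, 0, 4, 3, 4, 0, 1, 3, 1]), (224, false, [3, 1, 3, 1, 0, 4, 3, 1, 3, 1, 0, 1, 3, 4]), (242, true, [2, 4, 0, 4, 0, 1, 3, 1, 0, 1, 3, 1, 0, 4, 0]), (208, false, [3, 4, 3, 4, 0, 1, 0, 1, 3, 4, 0, 1, 3, 1]), (152, true, [4, 0, 1, 3, 1, 3, 1, 0, 1, 0, 4, 3, 4]), (72, true, [1, 2, 0, 4, 3, 4, 3, 4, 3, 1, 0]), (249, false, [3, 4, 3, 4, 0, 1, 3, 1, 0, 4, 3, 4]), (221, true, [0, 1, 0, 1, 0, 2, 4, 3, 4, 3, 1, 0, 1, 3, 4, 0, 1]), (62, false, [1, 0, 1, 2, 0, 1, 3, 4, 3, 4, 0, 1, 3, 4, 3, 1]), (29, false, [0, 4, 3, 1, 0, 1, 0, 4, 3, 1, 3, 1, 0, 1]), (29, true, [2, 0, 1, 0, 4, 0, 4, 3, 4, 0, 1, 0, 1]), (135, true, [4, 3, 1, 3, 1, 0, 1, 0, 1, 3, 1, 3]), (111, false, [0, 2, 4, 0, 1, 0, 1, 3, 1, 3, 1, 0, 1, 0, 4]),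 (118, true, [3, 4, 0, 1, 0, 1, 3, 1, 3, 1, 3, 1, 3, 1, 0]), (170, false, [1, 3, 1, 0, 4, 0, 4, 3, 1, 0, 1, 3, 1, 0]), (221, true, [2, 4, 0, 1, 3, 1, 0, 1, 3, 4, 3, 4, 0, 4]), (63, true, [3, 1, 3, 4, 0, 1, 0, 1, 3]), (263, false, [4, 3, 4, 0, 4, 3, 4, 3, 1, 0]), (261, false, [0, 4, 3, 1, 3, 1, 3, 4, 3, 4, 3, 4, 0, 4, 3, 4, 0]), (188, false, [2, 0, 1, 3, 1, 0, 1, 0, 1, 0, 4]), (107, true, [3, 1, 3, 4, 3, 4, 0, 4, 0, 4, 3, 4, 0]), (155, true, [0, 1, 3, 4, 0, 4, 3, 4, 0, 4, 3]), (71, true, [1, 0, 2, 4, 0, 1, 3, 1, 3, 4, 0, 4]), (109, true, [0, 4, 0, 1, 3, 1, 3, 4, 0, 4, 0, 1, 3, 1, 3]), (255, true, [3, 1, 3, 1, 3, 4, 3, 4, 0, 1, 3]), (277, true, [0, 1, 2, 0, 1, 3, 1, 0, 4, 0, 4, 0, 1, 3]), (106, true, [4, 0, 4, 0, 4, 3, 4,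 3, 4, 0, 1, 3, 1]), (225, false, [1, 0, 4, 0, 4, 3, 4, 0, 4, 3, 4, 0, 4, 0, 4, 3, 1, 0]), (188, true, [2, 0, 1, 0, 1, 3, 1, 0, 1, 3, 1, 0, 1, 0, 1, 3, 1]), (157, false, [1, 3, 1, 3, 4, 0, 4, 3, 4, 3]), (256, true, [2, 0, 4, 0, 4, 3, 1, 3, 1, 0, 4, 3, 1, 3, 1]), (186, false, [0, 4, 0, 4, 3, 4, 3, 1, 0, 4, 0]), (119, true, [0, 4, 3, 1, 3, 4, 0, 4, 0, 4, 3, 4, 3, 1, 0]), (186, false, [0, 1, 3, 4, 0, 4, 0, 1, 3, 1, 3, 4, 0, 4, 3]), (58, false, [1, 0, 1, 0, 2, 4, 3, 4, 0, 1, 3, 4, 3, 4]), (58, true, [1, 2, 0, 4, 0, 1, 3, 1, 3, 1, 3, 4, 0, 1, 0, 1]), (231, true, [2, 0, 4, 3, 1, 0, 1, 0, 1, 3, 4, 0]), (183, false, [1, 0, 1, 0, 2, 4, 0, 1, 3, 1, 3]), (221, false, [2, 4, 3, 1, 0, 1, 3, 1, 0, 1, 3, 1, 3, 1, 0]), (203, false, [3,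 1, 3, 1, 3, 1, 0, 4, 0, 4, 3, 1, 3]), (199, false, [3, 4, 3, 4, 0, 1, 3, 4, 3, 4, 0, 4, 0]), (214, false, [4, 0, 4, 0, 4, 0, 1, 3, 4, 3]), (71, false, [4, 3, 1, 3, 1, 0, 1, 0, 4, 3, 4, 0, 4, 0, 4]), (253, false, [2, 0, 1, 0, 1, 0, 1, 0, 1, 3, 4, 3, 4]), (91, false, [1, 3, 1, 3, 4, 0, 4, 3, 1, 3, 1, 0, 1, 0]), (188, false, [0, 1, 0, 1, 0, 1, 0, 1, 0, 2, 4, 3, 4, 0, 1, 0, 1]), (214, true, [0, 2, 4, 3, 4, 3, 4, 0, 4, 3, 4, 0, 4, 3, 4, 3, 4, 0]), (263, false, [1, 3, 1, 3, 1, 3, 4, 3, 4, 3, 1, 0, 1]), (203, false, [1, 0, 1, 0, 1, 0, 1, 0, 1, 3, 1, 3, 4, 0, 4, 0]), (200, false, [3, 1, 3, 1, 0, 1, 0, 1, 0, 4, 0, 4, 3, 1, 0, 4]), (64, false, [2, 0, 1, 3, 4, 3, 4, 0, 4, 0, 4, 0, 4, 3, 4, 3, 4, 3]), (272, true, [0, 2, 4, 3, 1,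 0, 1, 3, 4, 3, 1, 0, 4]), (62, true, [0, 2, 4, 0, 1, 0, 1, 3, 1, 3, 4, 0, 4]), (58, false, [1, 0, 4, 3, 4, 3, 4, 3, 1, 0, 1, 0, 4]), (89, true, [0, 4, 0, 4, 0, 1, 3, 4, 0, 4, 0, 1, 0]), (253, true, [1, 0, 1, 3, 1, 3, 1, 0, 4, 3, 4, 3, 1]), (24, false, [2, 4, 3, 1, 3, 4, 0, 4, 3, 4, 3, 4, 0]), (125, true, [2, 0, 4, 3, 1, 0, 1, 0, 1, 0, 4, 0, 4, 3, 4]), (46, true, [0, 4, 0, 4, 3, 1, 3, 4, 0, 4, 3]), (91, false, [0, 4, 0, 4, 3, 4, 3, 4, 0, 4, 0, 4, 3, 1]), (158, false, [4, 3, 1, 3, 1, 0, 1, 3, 1, 3, 4, 3, 4, 3]), (170, true, [0, 1, 0, 2, 4, 0, 1, 3, 1, 3, 1, 0, 1, 3, 4, 0]), (194, true, [1, 3, 4, 0, 1, 3, 1, 0, 4, 3]), (87, false, [0, 2, 4, 3, 1, 0, 1, 3, 1, 3, 4, 3, 4, 3, 4]), (72, false, [1, 0, 2, 4, 0, 1, 3, 1, 3, 1,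 0, 1, 3]), (88, true, [0, 4, 0, 4, 3, 1, 3, 1, 0, 1, 3, 4, 0, 4]), (276, true, [1, 0, 1, 3, 4, 3, 1, 0, 1, 3, 1, 3, 4, 0]), (87, false, [1, 0, 1, 0, 1, 0, 4, 3, 1, 3, 1, 0, 1, 3, 4, 0]), (52, false, [3, 4, 3, 4, 0, 1, 3, 1, 3, 4, 3, 4]), (71, true, [1, 0, 2, 4, 0, 1, 3, 1, 3, 4, 0, 4]), (58, true, [2, 0, 4, 3, 4, 0, 4, 3, 4, 0, 4, 0, 4, 3, 4, 0]), (266, true, [3, 1, 0, 1, 0, 4, 0, 4, 3, 1, 0, 4, 0, 1]), (236, false, [0, 2, 4, 3, 4, 3, 4, 0, 4, 0, 4, 0, 4, 3, 1, 3, 1, 3]), (53, false, [1, 3, 1, 0, 4, 0, 4, 3, 4, 0, 4, 3, 4, 0]), (169, true, [1, 3, 1, 3, 1, 0, 1, 0, 4, 0, 4, 0]), (92, false, [3, 1, 3, 1, 3, 1, 0, 1, 0, 4, 3, 4, 3, 4, 0]), (30, false, [0, 2, 4, 3, 1, 0, 1, 3, 1, 3, 4, 3, 4, 3, 1]), (200, true, [0, 1, 3,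 4, 0, 4, 0, 1, 3, 1, 3, 1, 3]), (262, true, [3, 1, 0, 1, 0, 4, 0, 4, 3, 1, 3, 1, 3, 4, 3]), (226, true, [0, 1, 2, 0, 1, 0, 1, 0, 4, 3, 1, 0, 1, 0, 4]), (166, true, [4, 3, 1, 0, 1, 0, 4, 3, 1, 3, 4, 0, 4]), (76, true, [1, 3, 4, 3, 4, 3, 1, 0, 4, 3, 4, 3, 1]), (220, false, [3, 1, 0, 1, 0, 4, 3, 1, 3, 1, 0, 1, 0]), (266, false, [4, 0, 1, 3, 4, 3, 4, 3, 4, 3]), (280, true, [0, 1, 2, 0, 1, 0, 1, 3, 4, 0, 4, 3, 1]), (274, true, [1, 2, 0, 1, 3, 1, 3, 4, 0, 1, 0, 1, 0, 1]), (121, false, [2, 0, 4, 0, 1, 3, 4, 3, 4, 0, 4, 3, 1, 3, 1]), (17, false, [3, 1, 0, 1, 3, 1, 0, 4, 0, 4, 0, 1, 3]), (98, false, [1, 3, 1, 3, 4, 0, 4, 3, 4, 3]), (109, true, [0, 4, 0, 4, 0, 4, 3, 4, 3, 1]), (22, true, [2, 4, 3, 1, 0, 1, 0, 1, 0, 1, 0, 1, 3]),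 (153, true, [3, 4, 3, 4, 0, 1, 0, 1, 3, 1, 0, 4, 3, 1]), (218, true, [1, 0, 2, 4, 3, 4, 0, 1, 0, 1, 3, 4, 0, 4, 3, 1, 0]), (75, true, [3, 4, 0, 4, 3, 1, 0, 1, 3, 4, 3, 4, 3, 4, 3]), (276, false, [0, 1, 0, 2, 4, 0, 4, 0, 4, 3, 4, 3, 1, 0, 1, 0, 1]), (237, false, [2, 0, 1, 0, 1, 3, 1, 3, 4, 3, 4, 3, 4, 0, 4, 3, 4, 0]), (107, false, [3, 1, 3, 4, 3, 4, 0, 1, 3, 1, 3, 1, 0]), (128, false, [1, 2, 0, 1, 3, 4, 3, 4, 0, 1, 3, 1, 3, 1, 0, 1]), (151, false, [2, 0, 1, 0, 1, 0, 1, 0, 1, 3, 4, 3, 1, 0, 1])]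
def r236 : List (ℕ × Bool × List ℕ) := [(169, true, [1, 0, 1, 3, 4, 0, 4, 0, 4, 0, 4]), (129, true, [1, 3, 1, 0, 1, 0, 4, 3, 1, 3, 1]), (98, false, [1, 0, 1, 0, 2, 4, 0, 4, 3, 1, 3, 1, 3, 4, 3]), (60, false, [1, 2, 0, 1, 3, 4, 0, 1, 3, 1, 0, 1, 0, 1]), (249, true, [2, 0, 4, 0, 4, 3, 1, 3, 4, 0, 1, 3]), (235, false, [0, 2, 4, 3, 4, 3, 1, 0, 1, 0, 1, 0, 1, 3, 1, 3, 1, 3]), (261, false, [4, 3, 4, 3, 1, 0, 1, 3, 4, 3, 4, 3, 1]), (50, false, [1, 3, 4, 3, 1, 0, 1, 0, 1, 3]), (31, true, [1, 0, 4, 3, 1, 0, 1, 3, 1, 3, 4, 0, 1]), (70, true, [3, 4, 0, 4, 3, 4, 0, 4, 0, 1, 3, 1]), (27, true, [2, 0, 4, 0, 4, 3, 4, 0, 1, 3, 4, 0]), (91, true, [1, 0, 1, 2, 0, 4, 3, 4, 3, 4, 0, 1, 3, 4, 3]), (195, false, [0, 2, 4, 3, 1, 3, 1, 3, 1,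 0, 1, 0, 1, 3, 1, 0]), (158, true, [1, 3, 4, 0, 4, 0, 4, 0, 4, 3, 4, 3, 1, 0]), (188, false, [2, 4, 0, 1, 3, 1, 0, 1, 0, 4, 0, 4, 0, 1, 3, 4]), (10, true, [1, 0, 1, 0, 4, 3, 1, 3, 1, 3, 1, 0, 1, 3, 1]), (244, false, [0, 1, 0, 1, 0, 2, 4, 0, 1, 3, 1, 3, 4, 0]), (192, false, [2, 4, 3, 4, 0, 4, 0, 1, 3, 1, 3, 1]), (10, false, [0, 1, 3, 1, 0, 4, 3, 1, 3, 1, 3, 1, 0]), (68, false, [2, 0, 4, 0, 1, 3, 1, 3, 1, 0, 4, 3, 1, 3, 1]), (112, false, [2, 4, 3, 4, 0, 4, 0, 4, 0, 4, 3, 1, 3, 4, 0, 4]), (169, false, [0, 2, 4, 0, 4, 3, 1, 0, 1, 0, 1, 0, 4]), (200, false, [4, 0, 1, 0, 4, 3, 4, 3, 4]), (213, true, [2, 4, 0, 1, 3, 4, 3, 1, 0, 1, 0, 1, 0, 4, 3, 1, 3]), (189, false, [2, 0, 1, 0, 4, 3, 4, 0, 4, 0, 4, 3, 4, 0, 4]), (49, false,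 [0, 1, 0, 1, 3, 1, 0, 4, 3, 1, 3, 4, 0, 4, 3, 1]), (58, true, [0, 1, 3, 4, 3, 4, 0, 1, 3, 1, 3, 4]), (153, false, [2, 4, 3, 4, 3, 1, 0, 1, 0, 4, 3, 4, 3, 4, 3, 4, 0, 4]), (262, true, [0, 2, 4, 3, 1, 0, 1, 3, 1, 3, 1, 3, 4, 3, 4, 0]), (16, true, [4, 0, 4, 3, 4, 3, 1, 0, 1, 3, 4, 3, 1]), (188, true, [1, 0, 1, 2, 0, 4, 3, 4, 0, 1, 3, 1, 3, 1, 0]), (6, false, [2, 4, 3, 1, 3, 4, 0, 4, 3, 1, 0, 4, 3]), (144, true, [1, 3, 4, 3, 4, 0, 1, 0, 4]), (19, false, [2, 0, 1, 0, 1, 3, 1, 0, 1, 3, 4, 3]), (92, false, [0, 1, 0, 1, 0, 1, 0, 4, 3, 4, 3]), (221, false, [0, 1, 0, 1, 3, 1, 3, 1, 0, 4, 3, 4, 0, 1, 3]), (141, false, [0, 1, 0, 1, 2, 0, 4, 0, 4, 0, 4, 3, 1, 3, 4, 0, 4]), (150, true, [1, 2, 0, 1, 0, 4, 3, 4, 0, 1, 0, 4]), (216, true,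 [0, 1, 0, 1, 0, 1, 3, 1, 3, 1, 3, 1, 0, 4, 3, 1]), (268, false, [4, 3, 4, 3, 4, 0, 4, 0, 4, 3, 4, 3, 4]), (260, false, [2, 4, 0, 1, 3, 4, 3, 4, 0, 4, 0, 1, 3, 4, 3]), (150, true, [3, 4, 0, 1, 3, 4, 0, 4, 3, 1, 3]), (102, true, [1, 0, 1, 0, 2, 4, 3, 4, 0, 4, 3]), (141, false, [1, 2, 0, 1, 0, 1, 0, 4, 0, 4, 3, 1, 3, 1, 0]), (196, true, [4, 0, 1, 3, 1, 3, 1, 0, 4, 3, 4, 0, 1]), (128, false, [1, 0, 1, 3, 4, 3, 1, 0, 1, 3, 1, 3, 4, 0, 4, 0]), (181, false, [1, 0, 2, 4, 3, 1, 0, 1, 3, 4, 0, 4, 0, 4, 0, 1, 3, 4]), (188, true, [1, 0, 1, 0, 1, 0, 4, 0, 4, 0, 1, 3, 1, 0]), (220, true, [0, 1, 0, 1, 0, 1, 2, 0, 1, 0, 4, 3, 4, 0, 4]), (6, false, [2, 0, 1, 3, 1, 0, 1, 0, 1, 3, 4, 3, 4, 0, 1, 3, 4]), (262, true, [4, 3, 1, 3, 4, 0, 1,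 0, 1, 0, 4, 3, 1, 3, 4]), (270, false, [1, 2, 0, 1, 0, 1, 0, 1, 3, 4, 0]), (40, false, [1, 0, 2, 4, 0, 4, 3, 4, 3, 4, 0, 4, 3, 1]), (108, false, [4, 0, 4, 0, 1, 3, 4, 0, 4, 0, 4, 3, 4]), (124, false, [1, 2, 0, 1, 0, 4, 3, 1, 0, 1, 3, 4, 0]), (112, true, [0, 1, 0, 1, 3, 1, 3, 4, 0, 1, 0, 1, 0]), (204, true, [4, 3, 4, 0, 4, 0]), (247, true, [1, 0, 4, 0, 4, 3, 4, 0, 1, 3]), (170, false, [0, 2, 4, 3, 1, 3, 1, 3, 1, 0, 4, 0, 4, 3, 1, 3]), (115, false, [2, 0, 1, 3, 1, 0, 1, 3, 1, 3, 4, 3, 4, 3, 4]), (96, false, [4, 3, 4, 3, 4, 3, 4, 3, 4, 3, 1]), (128, false, [1, 3, 4, 0, 1, 0, 1, 0, 4, 0]), (72, true, [1, 0, 1, 2, 0, 1, 0, 1, 3, 4, 3, 4, 0, 4]), (149, false, [1, 2, 0, 1, 0, 4, 0, 4, 0, 4, 3, 1, 3, 4, 0]), (73, false, [0, 1,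 0, 2, 4, 3, 4, 3, 1, 0, 4, 3, 1]), (196, true, [0, 1, 0, 1, 3, 4, 3, 1, 0, 1, 3, 4, 0, 1, 3, 1]), (191, false, [0, 1, 0, 1, 0, 4, 3, 4, 3, 4, 3, 1, 0, 4, 3]), (166, true, [0, 1, 3, 1, 0, 1, 0, 1, 0, 1, 3, 1, 3, 1, 0, 4, 3]), (221, false, [1, 0, 1, 0, 1, 0, 1, 0, 1, 3, 4, 3, 4, 0, 1, 3]), (50, true, [2, 4, 0, 1, 3, 4, 3, 4, 0, 4, 0, 1, 3, 4, 0]), (190, false, [0, 4, 0, 4, 3, 1, 0, 1, 3, 1, 3, 4, 0, 1]), (254, false, [1, 3, 1, 3, 1, 3, 1, 3, 1, 0, 1, 0, 1]), (158, true, [3, 4, 3, 1, 3, 1, 0, 4, 0, 4, 3, 1, 0, 4]), (259, true, [1, 0, 1, 3, 1, 0, 1, 3, 1, 0, 1, 0, 4, 0]), (190, false, [1, 0, 1, 0, 4, 3, 1, 0, 1, 3, 4, 3, 1, 0, 1, 3, 4]), (206, false, [1, 0, 1, 0, 1, 0, 4, 0, 4, 3, 4, 0, 4, 3, 1, 0]), (221, true, [2, 0, 1,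 3, 4, 0, 1, 0]), (140, true, [3, 4, 3, 4, 3, 1, 0, 4, 0, 4, 3, 4, 0, 1, 0]), (111, false, [1, 3, 4, 3, 4, 0, 1, 3, 1, 3, 4, 0]), (253, false, [1, 2, 0, 1, 3, 1, 3, 1, 0, 1, 3, 4, 0, 4]), (125, false, [1, 3, 4, 0, 4, 3, 4, 3, 1, 0, 1, 0, 1, 0, 4]), (190, true, [1, 2, 0, 1, 3, 4, 3, 4, 0, 4, 0, 4, 0, 4, 3, 4]), (186, false, [4, 3, 4, 3, 4, 0, 4, 3, 4, 0, 4, 0, 4]), (98, true, [4, 3, 4, 3, 1, 0, 4, 0, 4, 0, 4, 3, 4]), (244, false, [4, 3, 4, 3, 1, 0, 1, 0, 4, 3, 1, 3, 1, 3]), (222, true, [1, 0, 1, 0, 4, 3, 4, 3, 1, 0, 1, 0, 4, 3, 1]), (184, false, [4, 3, 1, 0, 1, 0, 1, 0, 4, 0, 4, 0, 4, 0, 1]), (269, false, [1, 0, 2, 4, 0, 1, 0, 1, 0, 1, 3, 4, 0, 1]), (152, false, [1, 0, 2, 4, 0, 1, 0, 1, 3, 4, 3, 1, 0, 4, 0, 4, 3]), (52,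 false, [4, 0, 1, 3, 4, 3, 1, 0, 1, 3]), (143, true, [2, 4, 3, 1, 0, 4, 0, 4, 3, 1]), (169, true, [0, 1, 2, 0, 4, 0, 4, 0, 4, 3, 1, 3, 1, 0, 4]), (6, false, [1, 3, 4, 3, 4, 3, 4, 3, 4, 0, 1, 3, 4, 0]), (65, false, [0, 2, 4, 0, 1, 3, 4, 3, 4, 3, 1]), (108, false, [0, 4, 0, 4, 3, 1, 0, 1, 3, 1, 3]), (261, true, [0, 1, 2, 0, 1, 3, 1, 0, 4, 3, 4]), (189, true, [0, 1, 3, 1, 3, 1, 3, 4, 3, 4, 3, 4, 0, 1, 0, 4]), (208, false, [3, 1, 0, 1, 3, 4, 0, 4, 0, 1, 3, 1]), (247, true, [2, 4, 0, 1, 3, 1, 0, 1, 3, 1, 0, 4, 0, 4, 0]), (196, false, [2, 0, 1, 0, 1, 0, 4, 3, 1, 3, 1, 0]), (276, true, [0, 4, 3, 1, 0, 1, 3, 1, 0, 1, 0, 4, 0]), (189, false, [0, 1, 3, 4, 3, 4, 0, 1, 0, 1]), (224, false, [1, 3, 1, 0, 4, 3, 4, 0, 4, 3, 4, 0, 1]),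 (125, true, [2, 4, 0, 4, 0, 4, 3, 4, 3, 1, 0, 1, 0, 4]), (169, false, [1, 0, 4, 0, 1, 3, 4, 0, 4, 0, 4, 3, 1, 0, 1]), (203, false, [2, 4, 3, 1, 3, 1, 0, 1, 3, 4, 3, 1, 0, 4]), (0, false, [0, 1, 0, 1, 2, 0, 1, 3, 1, 0, 1, 0, 1]), (269, false, [1, 0, 1, 2, 0, 4, 0, 4, 0, 1, 3, 1, 0, 4, 3, 4]), (128, false, [1, 0, 1, 3, 1, 3, 1, 0, 4, 0, 4, 3, 4]), (140, true, [2, 4, 3, 1, 0, 4, 3, 4, 3, 1, 0, 1, 3, 1]), (259, true, [0, 4, 0, 1, 3, 4, 3, 4, 0, 1, 0]), (172, true, [3, 4, 3, 1, 0, 1, 0, 4, 0, 4, 0, 4, 3, 4, 3])]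
def r237 : List (ℕ × Bool × List ℕ) := [(115, true, [1, 3, 4, 0, 4, 3, 1, 0, 1, 0, 4, 3, 4, 3, 1]), (276, false, [2, 4, 3, 1, 0, 1, 3, 4, 0, 4, 3, 1, 3, 4, 0, 4]), (188, false, [0, 1, 0, 2, 4, 0, 4, 0, 4, 0, 4, 3, 4, 3, 4, 0, 4]), (281, true, [0, 4, 3, 4, 3, 1, 0, 1, 0, 1, 3, 1]), (266, false, [0, 1, 3, 1, 0, 4, 3, 4, 0, 1, 0, 1, 0, 4, 0]), (233, false, [3, 1, 0, 1, 0, 1, 0, 1, 0, 4, 0, 4, 3, 4]), (150, false, [1, 0, 4, 0, 4, 0, 4, 3, 4, 0, 4, 3, 4, 3, 4]), (208, true, [3, 4, 0, 4, 3, 4, 0, 4, 0, 4, 3, 1, 3]), (223, false, [2, 0, 4, 0, 4, 3, 4, 0, 4, 3, 4, 3, 4, 3]), (96, false, [2, 4, 3, 4, 0, 4, 3, 1, 0, 1, 0, 1, 0]), (237, true, [4, 3, 4, 3, 1, 0, 4, 3, 4, 0, 4, 3, 4]), (257, false, [1, 3, 1, 3, 1, 0, 4, 0, 4, 3, 1,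 0, 4, 0, 4, 0]), (152, false, [0, 1, 0, 2, 4, 0, 4, 3, 1, 3, 1, 3, 1, 0]), (215, false, [2, 0, 4, 3, 1, 3, 1, 0, 4, 3, 4]), (214, true, [1, 2, 0, 1, 3, 4, 0, 4, 0, 4, 3, 4, 0, 1, 3]), (198, true, [0, 4, 0, 4, 0, 1, 3, 1, 3, 4, 3, 4, 3, 4]), (237, false, [0, 1, 0, 4, 0, 4, 3, 1, 0, 1, 0, 4, 0, 4, 0, 1]), (246, false, [0, 1, 3, 4, 3, 1, 0, 1, 0, 4, 3, 4, 3, 4, 3, 4]), (152, false, [1, 2, 0, 4, 3, 4, 3, 4, 0, 1, 3, 1, 3, 4, 3, 4]), (237, false, [0, 1, 0, 4, 3, 4, 0, 4, 3, 4, 0, 4, 0]), (255, false, [0, 1, 3, 4, 0, 4, 3, 1, 0, 1, 0, 4, 0, 4, 3]), (51, false, [2, 0, 4, 0, 4, 0, 1, 3, 1, 0, 4, 3, 4, 3, 4]), (57, false, [0, 1, 0, 2, 4, 0, 4, 3, 4, 3, 1, 0, 4, 3, 4]), (123, true, [1, 0, 2, 4, 3, 4, 3, 4, 0, 1, 0, 1, 3, 4, 3,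 1]), (53, false, [2, 0, 1, 0, 1, 3, 1, 0, 1, 0]), (200, true, [0, 1, 0, 1, 2, 0, 1, 3, 4, 3, 4, 3, 1, 0]), (63, false, [3, 4, 0, 4, 3, 4, 0, 4, 3, 4, 3, 4, 0, 1, 3]), (224, true, [1, 0, 4, 0, 1, 3, 4, 0, 4, 3, 4, 3, 4, 3]), (70, true, [2, 4, 3, 1, 3, 4, 0, 4, 3, 1, 3, 1, 3, 1]), (153, false, [1, 0, 2, 4, 3, 4, 3, 4, 0, 4, 3, 4, 0, 4, 0, 4]), (179, true, [0, 4, 0, 4, 3, 1, 0, 1, 0, 4, 0, 4, 0]), (89, false, [2, 4, 3, 4, 0, 4, 3, 1, 0, 1, 0, 1, 3, 1, 3, 4]), (256, false, [0, 2, 4, 0, 4, 0, 1, 3, 1, 3, 4, 3, 4, 3, 1, 0, 1, 3]), (151, true, [1, 0, 1, 3, 1, 3, 1, 3, 4, 3, 4, 3, 4, 0, 1, 3]), (243, true, [0, 4, 0, 4, 3, 1, 3, 1, 3, 1, 0, 1, 3]), (112, true, [0, 1, 0, 1, 3, 4, 0, 4, 3, 4, 3, 1, 0, 4, 3, 4]), (68, true, [1, 0,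 1, 2, 0, 1, 0, 1, 0, 4, 3, 1, 3, 4, 0, 4, 3]), (235, false, [0, 2, 4, 0, 4, 0, 1, 3, 1, 3, 1, 0, 1, 3, 4, 0, 4, 0]), (84, true, [3, 4, 0, 1, 0, 1, 3, 1, 3, 1, 3, 1, 3, 1, 0]), (245, true, [2, 0, 1, 3, 1, 0, 1, 3, 1, 0, 1, 0, 1]), (257, false, [3, 4, 3, 1, 0, 1, 0, 1, 0, 4, 0, 4, 3, 4]), (263, true, [0, 4, 0, 4, 0, 4, 3, 1, 0, 1, 3, 1]), (70, false, [2, 0, 1, 3, 1, 0, 1, 3, 1, 0, 1, 0, 1, 3]), (202, true, [0, 4, 0, 4, 0, 1, 3, 4, 0, 4, 0, 1, 0]), (156, false, [2, 0, 4, 3, 1, 3, 1, 3, 1, 0, 1, 3, 4]), (256, false, [0, 1, 3, 1, 0, 1, 3, 1, 3, 1, 0, 4, 3, 1]), (179, false, [1, 2, 0, 1, 0, 1, 0, 1, 3, 4, 3, 1, 0, 4, 0, 4]), (149, true, [2, 0, 4, 3, 4, 3, 1, 0, 4, 3, 4, 0, 1, 0, 4]), (149, true, [2, 4, 3, 1, 3, 4, 0, 1, 3,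 1, 0, 4, 3, 1]), (89, false, [3, 1, 3, 1, 0, 1, 3, 1, 0, 1, 0, 4, 0]), (205, true, [2, 0, 1, 3, 4, 0, 1, 0, 1, 0, 4, 0]), (87, true, [3, 1, 3, 1, 3, 4, 0, 1, 3, 1, 3, 4]), (219, false, [1, 2, 0, 4, 3, 4, 3, 4, 0, 4, 0, 4, 3, 4, 0]), (266, true, [0, 1, 3, 1, 3, 1, 3, 4, 0, 4, 3, 1, 3, 4]), (66, false, [0, 4, 0, 1, 3, 1, 3, 4, 0, 1, 3, 1, 0]), (183, true, [1, 0, 2, 4, 3, 4, 3, 1, 0, 1, 3, 4, 3]), (243, true, [0, 1, 0, 1, 0, 1, 3, 4, 3, 1, 0, 1, 3, 1]), (156, true, [2, 0, 4, 3, 1, 0, 1, 3, 1, 0, 1, 0, 1, 3, 4]), (180, true, [1, 3, 1, 0, 4, 0, 4, 0, 1, 3, 1, 0, 4, 3, 4]), (88, true, [0, 4, 3, 1, 0, 4, 3, 4, 0, 1, 0]), (65, true, [2, 4, 0, 1, 3, 4, 3, 1, 0, 1, 0, 4, 3, 4, 3]), (253, false, [1, 0, 2, 4, 0, 4, 3, 4, 3, 1, 0,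 1, 3, 1, 0]), (118, false, [4, 0, 1, 3, 1, 3, 4, 3, 4, 0, 1, 3, 4, 3, 1]), (88, false, [4, 0, 4, 0, 4, 3, 1, 0, 1, 0, 4, 0, 4, 3, 1]), (124, true, [2, 0, 4, 0, 1, 3, 1, 0, 4, 3, 4, 0, 4]), (153, true, [2, 0, 4, 3, 1, 0, 1, 3, 1, 3, 1, 3, 4, 3, 4, 0]), (252, false, [1, 0, 1, 0, 4, 3, 4, 0, 1, 0, 1, 0, 1, 3, 1, 0]), (218, true, [0, 1, 2, 0, 1, 0, 1, 0, 4, 3, 4, 0, 4, 0, 1, 3, 1, 3]), (226, false, [3, 1, 0, 1, 3, 1, 3, 1, 0, 1, 3, 4, 0]), (216, true, [0, 4, 0, 1, 3, 4, 3, 1, 0, 1, 0, 1, 0]), (119, true, [0, 4, 0, 1, 3, 1, 3, 4, 0, 1, 0, 1, 0, 4, 0]), (42, false, [4, 0, 4, 0, 4, 3, 1, 0, 1, 3, 1, 0, 4, 0]), (89, true, [1, 0, 2, 4, 3, 4, 0, 4, 3, 1, 3, 1, 3]), (123, true, [2, 4, 0, 1, 3, 1, 3, 4, 0, 4, 3, 4, 0, 4, 3]), (20,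 false, [3, 1, 0, 1, 0, 1, 3, 1, 3, 1, 3, 1, 0, 1, 0]), (90, true, [0, 2, 4, 0, 4, 3, 4, 3, 4, 0, 4, 0, 4, 3, 1, 0]), (182, true, [3, 1, 0, 1, 0, 4, 0, 4, 0, 1, 3, 1, 0, 4, 3]), (190, false, [2, 0, 4, 3, 1, 0, 1, 0, 1, 0, 4, 3, 1]), (84, true, [0, 2, 4, 0, 4, 0, 4, 0, 1, 0]), (179, true, [1, 3, 4, 0, 1, 0, 1, 0, 4, 0, 4, 3, 1, 3, 1, 0]), (91, true, [2, 0, 1, 0, 1, 0, 4, 3, 1, 3, 1, 3, 4, 3]), (53, true, [1, 3, 1, 3, 4, 3, 4, 0, 4, 3, 4, 3]), (158, false, [2, 0, 4, 0, 4, 3, 4, 0, 4, 0, 1, 0]), (109, false, [2, 0, 4, 0, 1, 3, 1, 0, 4, 0, 4, 3, 1, 0]), (242, true, [3, 4, 0, 4, 3, 1, 0, 1, 0, 4, 3, 4, 3, 4, 3, 1]), (112, false, [4, 3, 1, 0, 1, 0, 4, 0, 4, 3, 1, 0, 1, 3, 1]), (242, true, [0, 1, 3, 1, 3, 4, 0, 4, 0, 4, 0, 4,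 3, 4, 3]), (209, true, [2, 0, 1, 0, 4, 0, 4, 0, 4, 3, 1, 0]), (182, false, [0, 4, 3, 1, 3, 4, 0, 4, 3, 1, 3, 1, 3, 4, 0]), (19, true, [1, 3, 1, 3, 4, 0, 4, 3, 1, 3, 1, 3, 4]), (197, true, [0, 1, 3, 4, 3, 1, 0, 1, 0, 1, 3, 1, 0, 4]), (224, true, [0, 2, 4, 0, 1, 3, 1, 3, 4, 0, 1, 3]), (230, false, [2, 4, 0, 4, 3, 4, 0, 1, 0, 1, 0, 4]), (237, false, [0, 2, 4, 3, 1, 3, 1, 3, 4, 3, 4, 3, 1, 3]), (223, true, [2, 0, 1, 0, 4, 3, 1, 3, 4, 0, 4, 0, 4, 3, 1]), (117, false, [0, 4, 0, 4, 0, 4, 3, 4, 3, 4, 3]), (237, true, [1, 0, 1, 3, 1, 0, 1, 3, 4, 0, 1, 0, 1]), (170, true, [1, 0, 4, 3, 1, 3, 1, 0, 1, 0, 1]), (263, false, [0, 1, 0, 1, 3, 1, 3, 1, 3, 1, 0, 1, 0, 4, 3, 4]), (135, false, [3, 1, 0, 1, 3, 1, 0, 1, 0, 1, 3, 4, 3]), (125,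 false, [1, 2, 0, 4, 0, 1, 3, 1, 3, 4, 0, 1, 0, 1, 0, 1]), (92, true, [2, 0, 4, 0, 4, 3, 4, 3, 1, 0, 4, 0, 1]), (97, true, [2, 0, 1, 0, 1, 3, 1, 3, 1, 0, 1, 0, 4, 3, 4]), (112, false, [0, 4, 0, 1, 0, 1, 3, 1, 0, 4, 0, 4, 0, 1, 0]), (71, true, [4, 3, 4, 3, 4, 0, 1, 3, 1, 0, 4, 3, 4]), (276, true, [4, 3, 1, 0, 1, 3, 1, 0, 1, 0, 4, 0, 4, 3, 1]), (190, false, [3, 4, 3, 4, 3, 4, 0, 4, 3, 1, 3, 1, 3, 4, 0, 1]), (61, true, [0, 4, 3, 1, 0, 4, 3, 4, 0, 4, 0, 4, 3, 4, 0, 4]), (237, false, [0, 1, 2, 0, 1, 3, 4, 0, 4, 3, 1, 3, 1, 3, 4, 0]), (123, false, [0, 2, 4, 0, 4, 0, 4, 3, 4, 0, 4, 3, 4, 0, 4, 0]), (251, true, [1, 0, 1, 0, 4, 3, 4, 3]), (237, false, [2, 0, 1, 3, 4, 3, 4, 3, 1, 0, 1, 3, 4, 0, 4, 3])]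
def r238 : List (ℕ × Bool × List ℕ) := [(0, true, [3, 4, 3, 4, 0, 1, 3, 1, 0, 4, 0, 4]), (50, true, [0, 2, 4, 0, 4, 3, 1, 3, 1, 0, 1, 3, 4, 3, 1]), (259, true, [1, 0, 1, 2, 0, 4, 3, 4, 3, 1, 0, 1, 0, 4, 3, 4]), (202, false, [1, 3, 1, 3, 4, 0, 1, 0, 1, 0, 1, 3, 4, 0, 1]), (186, false, [0, 2, 4, 0, 1, 3, 1, 3, 1, 0, 1, 3, 4]), (224, false, [1, 0, 1, 0, 1, 3, 4, 0, 4, 3, 4, 0]), (238, false, [0, 1, 0, 1, 3, 1, 0, 1, 3, 4, 0, 1, 0]), (174, false, [3, 4, 3, 1, 0, 1, 0, 4, 3, 1, 3, 4]), (196, false, [3, 1, 0, 1, 3, 4, 0, 4, 0, 1]), (31, true, [0, 1, 3, 1, 3, 1, 0, 4, 0, 4, 3, 1, 3, 4]), (177, true, [2, 0, 1, 0, 4, 0, 4, 0, 1, 3, 1, 0, 4, 0]), (240, true, [0, 4, 3, 1, 0, 1, 0, 4]), (108, false, [3, 4, 3, 1, 0, 4, 3, 4, 0, 1,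 0, 1, 3, 1]), (189, false, [0, 1, 3, 4, 3, 4, 3, 1, 0, 1, 3, 1, 3, 1, 3]), (188, true, [0, 1, 2, 0, 1, 3, 4, 0, 4, 3, 4, 3, 4, 0, 1, 3]), (244, false, [1, 2, 0, 1, 0, 1, 3, 1, 3, 4]), (206, true, [1, 0, 1, 0, 4, 3, 1, 0, 1, 0, 4, 0]), (238, false, [0, 1, 0, 4, 3, 4, 0, 4, 3, 1, 0, 1, 0]), (108, false, [0, 4, 3, 4, 3, 4, 3, 1, 0, 4, 0, 4, 3, 1, 3, 4]), (177, true, [1, 2, 0, 1, 0, 4, 3, 4, 3, 1, 0, 1, 0, 4]), (108, false, [1, 0, 1, 0, 1, 3, 1, 0, 1, 3, 4, 3]), (121, false, [0, 1, 3, 1, 3, 4, 3, 4, 3, 1, 0]), (196, true, [4, 0, 4, 3, 1, 0, 1, 0, 1, 3, 1, 0, 4, 3, 1]), (216, false, [2, 4, 0, 1, 3, 1, 0, 4, 0, 4, 3, 4, 3, 4]), (246, false, [1, 0, 1, 2, 0, 4, 3, 4, 0, 1, 3, 1, 3, 1]), (238, false, [2, 4, 3, 4, 0, 1, 3, 1]),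 (121, false, [3, 1, 3, 1, 3, 1, 3, 1, 3, 4, 3]), (216, false, [0, 1, 0, 1, 0, 4, 3, 4, 3, 4, 3, 1, 0, 1, 3]), (177, true, [3, 4, 3, 1, 0, 4, 0, 4, 0, 4, 3, 1, 3, 1]), (93, true, [0, 4, 0, 1, 0, 1, 3]), (0, false, [1, 2, 0, 1, 3, 4, 0, 4, 0, 4, 3, 1, 3]), (108, false, [1, 3, 4, 0, 4, 3, 1, 0, 4, 0, 4, 3, 1]), (224, false, [1, 0, 1, 0, 1, 2, 0, 1, 3, 4, 0]), (177, true, [0, 1, 2, 0, 4, 0, 4, 0, 4, 3, 1, 3, 1, 0, 4]), (244, false, [3, 1, 0, 4, 3, 1, 0, 1, 0, 1, 3, 1, 3, 4]), (74, true, [1, 3, 1, 0, 4, 3, 4, 3, 4, 3, 1]), (145, false, [3, 4, 3, 4, 3, 4, 3, 4]), (244, false, [2, 0, 1, 0, 4, 3, 4, 3, 4, 0, 4, 3, 1, 3, 1, 0]), (74, true, [1, 0, 1, 3, 1, 3, 4, 0, 4, 0, 1]), (174, false, [0, 1, 3, 4, 0, 4, 3, 4, 3, 1, 3]), (259,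 true, [1, 2, 0, 4, 0, 4, 0, 4, 0, 4]), (121, false, [0, 4, 0, 4, 0, 4, 3, 4, 0, 1, 3, 1, 0]), (216, false, [0, 4, 0, 1, 3, 1, 0, 4, 0, 4, 3, 4, 3, 4]), (177, true, [2, 0, 4, 3, 1, 0, 1, 3, 1, 3, 1, 0, 1, 3, 4, 0]), (108, false, [0, 1, 3, 4, 0, 4, 3, 1, 0, 1, 0, 1, 0]), (259, true, [3, 4, 0, 4, 3, 1, 3, 4, 0, 1, 0]), (50, true, [0, 1, 2, 0, 1, 0, 1, 3, 4, 0, 4, 3, 4, 0, 4, 3]), (240, true, [2, 0, 4, 3, 1, 0, 1, 0, 1, 3, 4, 0, 1]), (186, false, [1, 0, 1, 3, 1, 3, 1, 3, 4, 3, 4, 3, 4]), (246, false, [2, 4, 0, 4, 3, 1, 0, 1, 0, 4, 0, 4, 0, 4]), (246, false, [0, 4, 3, 4, 0, 4, 3, 1, 0, 1, 0, 1]), (185, true, [0, 1, 0, 1, 0, 1, 3, 1, 0, 1, 3, 1, 3, 4, 0]), (244, false, [1, 0, 1, 0, 2, 4, 3, 4, 3, 4, 3, 1, 0]), (144, true, [4,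 3, 1, 0, 4, 3, 4, 3, 1, 0, 4]), (249, true, [0, 1, 0, 1, 0, 1, 0, 1, 0, 4]), (189, false, [0, 1, 0, 4, 3, 1, 0, 1, 3, 1, 3, 1, 3]), (238, false, [0, 1, 0, 2, 4, 3]), (224, false, [4, 0, 4, 3, 1, 3, 1, 0, 1, 3, 4, 0]), (188, true, [2, 4, 3, 1, 3, 1, 3, 1, 3, 4, 3, 4, 0, 4, 3, 4, 0, 4]), (94, true, [0, 1, 3, 4, 0, 1, 3, 1, 3, 4, 0, 1, 0, 1]), (31, true, [4, 0, 4, 3, 4, 0, 1, 0, 1]), (259, true, [4, 0, 1, 3, 4, 0, 4, 0, 4, 0, 4, 3, 4, 3, 4, 0]), (144, true, [2, 4, 0, 1, 0, 4, 3, 4, 3, 1, 0, 4]), (31, true, [0, 1, 0, 4, 3, 4, 3, 1, 0, 4, 3, 4, 3]), (206, true, [4, 3, 4, 0, 1, 3, 1, 3, 4, 0, 4, 0, 4, 3, 4]), (177, true, [3, 4, 0, 1, 0, 1, 0, 4, 3, 1, 3, 1]), (177, true, [1, 3, 1, 3, 1, 3, 1, 3, 4, 3, 4, 3, 4, 0, 4, 3, 1]),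 (224, false, [0, 2, 4, 3, 1, 0, 1, 3, 4, 3, 4, 0, 4, 0, 4]), (108, false, [1, 0, 4, 3, 4, 0, 1, 0, 1, 0, 1, 0]), (202, false, [0, 1, 0, 1, 0, 4, 3, 1, 0, 1, 3, 4, 3, 1, 0, 4]), (188, true, [1, 3, 4, 0, 1, 0, 1, 0, 1, 3, 4, 0, 4, 3, 1]), (189, false, [0, 4, 0, 4, 0, 1, 3, 1, 3, 1, 3, 1, 3]), (185, true, [2, 4, 3, 1, 0, 4, 0, 4, 0, 4, 3, 1, 0, 4]), (188, true, [1, 0, 1, 3, 1, 3, 1, 3, 1, 0, 4, 0, 4]), (196, false, [1, 2, 0, 4, 3, 1, 0, 1, 3, 4, 0, 1, 0, 1]), (177, true, [1, 3, 4, 0, 1, 0, 1, 0, 1, 3, 4]), (94, true, [3, 1, 3, 1, 0, 4, 3, 4, 0, 4, 3, 1]), (108, false, [0, 4, 0, 4, 0, 1, 3, 4, 3, 4, 3, 1, 3]), (94, true, [3, 1, 0, 4, 3, 4, 3, 4, 0, 1, 3, 1, 3, 1, 0]), (188, true, [4, 3, 1, 0, 1, 3, 1, 0, 4, 3, 1, 3, 4, 0,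 4]), (174, false, [3, 1, 0, 4, 0, 4, 3, 4, 0, 1]), (188, true, [0, 2, 4, 0, 4, 3, 1, 3, 1, 0, 1, 3, 4, 3, 1, 0, 1]), (50, true, [0, 1, 2, 0, 1, 3, 4, 0, 4, 3, 4, 3, 4, 0, 4]), (189, false, [0, 2, 4, 0, 4, 3, 1, 3, 1, 0, 1, 3, 4, 3, 1, 0, 4]), (240, true, [4, 3, 4, 0, 4, 3, 4, 3, 4, 0]), (93, true, [0, 4]), (0, false, [0, 1, 0, 2, 4, 0, 1, 0, 1, 0, 4, 0, 4]), (159, true, [3, 1, 3, 4, 0, 1, 3]), (259, true, [0, 2, 4, 3, 1, 3, 1, 0, 1, 0, 1, 3, 4, 0, 1, 3]), (189, false, [1, 0, 2, 4, 0, 1, 0, 1, 0, 1, 3, 4, 3, 1, 0, 4]), (244, false, [1, 2, 0, 4, 0, 1, 3, 4, 3, 4, 3, 4, 3, 1]), (249, true, [3, 1, 0, 1, 0, 4, 0, 4, 3, 1, 0]), (108, false, [0, 1, 0, 1, 0, 1, 3, 1, 0, 4, 3, 4, 3]), (249, true, [3, 4, 0, 1, 0, 1, 3, 4, 0, 1,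 3, 1, 0, 1]), (177, true, [1, 0, 4, 3, 1, 3, 4, 0, 4, 3, 4, 3]), (93, true, [3, 1, 0, 1, 0, 1, 3, 1, 3]), (238, false, [0, 4, 3, 4, 0, 1, 3, 1, 0, 1, 0, 4]), (189, false, [0, 2, 4, 0, 1, 3, 1, 3, 1, 0, 1, 0, 1, 3, 4, 0, 4]), (224, false, [0, 1, 2, 0, 1, 0, 4, 3, 4, 0, 4, 0, 4, 3, 4]), (196, true, [1, 0, 1, 0, 1, 0, 4, 3, 1, 3, 1, 0, 1, 3]), (196, true, [1, 0, 4, 0, 4, 0, 4, 3, 4, 3, 4, 0, 1, 0]), (244, false, [3, 1, 3, 4, 0, 4, 0, 4, 0, 1, 0]), (196, false, [0, 2, 4, 0, 1, 0, 4, 3, 1, 3, 1, 3, 4, 3, 4, 0, 4]), (202, false, [2, 4, 0, 4, 0, 1, 3, 4, 0, 4, 0, 4]), (185, true, [0, 1, 0, 4, 3, 1, 0, 1, 0, 4, 3, 4, 3, 4, 3]), (259, true, [0, 2, 4, 0, 1, 3, 1, 0, 1, 3, 4, 3, 4]), (238, false, [1, 0, 1, 3, 4, 3, 1, 0, 1, 0, 4,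 3, 4]), (74, false, [4, 3, 4, 3, 4, 0, 1, 0, 1, 3, 4, 3, 1]), (144, true, [1, 3, 4, 0, 4, 3, 4, 0, 1, 3]), (108, false, [0, 1, 0, 1, 3, 4, 0, 4, 3, 1, 3, 4, 0, 4, 0, 4]), (224, false, [1, 0, 4, 3, 1, 3, 1, 3, 1, 0, 1, 3, 1]), (186, false, [1, 3, 1, 0, 1, 0, 4, 3, 1, 3, 4, 0, 4, 3])]
def r239 : List (ℕ × Bool × List ℕ) := [(239, false, [2, 0, 1, 0, 1, 3, 4, 0, 4, 3, 4, 0, 4]), (31, false, [0, 4, 3, 4, 3, 1, 0, 1, 3]), (258, false, [0, 1, 3, 4, 3, 4, 3, 1, 0, 1, 0]), (172, false, [3, 1, 0, 4, 3, 4, 0, 4, 3, 1, 0, 4]), (166, false, [0, 2, 4, 3, 1, 3, 1, 0, 4, 3, 1, 3, 1, 0]), (12, false, [3, 4, 3, 4, 3, 4, 0]), (220, false, [0, 2, 4, 3, 4, 0, 4, 0, 1, 3, 4, 0, 1]), (267, true, [1, 0, 4, 0, 4, 3, 1, 0, 4, 0, 4, 0, 4, 0]),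 (82, false, [1, 3, 4, 0, 4, 3, 1, 0, 4, 0, 4, 3, 4, 0]), (7, false, [3, 4, 0, 1, 3, 1, 0, 4, 0, 4, 3, 1, 0, 1, 3]), (0, true, [2, 4, 3, 1, 0, 1, 3, 4, 3, 4, 0, 1, 3, 1]), (261, false, [1, 2, 0, 4, 0, 4, 3, 4, 0, 4, 0, 4]), (113, true, [0, 2, 4, 0, 4, 0, 1, 3, 1, 3, 4, 0, 1, 0, 1, 0]), (31, false, [1, 3, 1, 3, 1, 3, 4, 3, 4, 0, 4, 0]), (56, false, [1, 0, 4, 3, 4, 0, 1, 0, 1, 0, 4, 0, 4, 3, 1, 3]), (220, false, [1, 0, 4, 3, 1, 0, 4, 0, 4, 0, 4, 3]), (258, false, [1, 3, 4, 0, 4, 3, 4, 3, 4, 3, 1]), (82, false, [1, 3, 4, 0, 4, 3, 1, 0, 4, 0, 4, 3, 4, 0]), (215, false, [0, 1, 2, 0, 1, 3, 1, 0, 4, 3, 4, 3, 4, 0, 4]), (83, true, [3, 4, 3, 4, 0, 4, 3, 4, 0, 4, 3, 4, 3, 4]), (239, false, [0, 1, 0, 2, 4, 0, 1, 3, 4, 3]), (170,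 false, [2, 0, 1, 3, 1, 3, 1, 0, 1, 0, 4, 0, 4, 3, 1, 0]), (177, true, [0, 1, 3, 4, 3, 4, 3, 4, 0, 1, 3, 1, 0, 1, 0]), (220, false, [1, 3, 4, 3, 1, 0, 4, 3, 4, 3, 1, 0, 1, 3, 1]), (170, false, [2, 4, 3, 4, 3, 1, 0, 1, 3, 1, 3, 1]), (131, false, [4, 3, 1, 3, 1, 3, 1, 0, 1, 0, 1, 0, 1]), (172, false, [2, 4, 3, 1, 0, 1, 0, 4, 3, 4, 0, 1, 0, 1, 0, 1]), (56, false, [4, 0, 1, 3, 4, 3, 1, 0, 1, 3, 4, 3, 4]), (198, true, [0, 1, 0, 1, 0, 1, 2, 0, 1, 3, 4, 0, 4, 0]), (56, true, [4, 0, 4, 0, 1, 3, 4, 3, 4, 3, 4, 0, 1, 3, 1]), (56, true, [0, 1, 3, 4, 0, 4, 3, 1, 3, 1, 3, 4, 3, 4, 0, 1]), (113, true, [0, 2, 4, 0, 4, 0, 4, 3, 1, 3, 4, 0, 4]), (3, false, [3, 4, 3, 1, 0, 1, 3, 1, 0, 1]), (56, true, [0, 1, 0, 1, 0, 1, 3, 1, 3, 1, 0, 1,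 3, 1, 0]), (261, false, [0, 1, 2, 0, 1, 0, 4, 0, 4, 0, 4, 3, 4, 3, 4, 0, 4]), (220, false, [1, 3, 1, 0, 1, 0, 4, 0, 4, 0, 4, 3, 4, 0, 4]), (172, false, [0, 4, 3, 4, 3, 4, 0, 4, 0, 4, 3, 1, 0, 1, 3, 4]), (239, true, []), (166, false, [1, 2, 0, 1, 3, 1, 3, 4, 3, 4, 0, 1, 3, 4, 3]), (211, false, [1, 0, 1, 0, 1, 3, 1, 3, 4, 0, 1, 0, 1, 3]), (168, false, [0, 1, 2, 0, 4, 0, 4, 0, 4, 3, 1, 0, 4]), (138, true, [1, 0, 1, 3, 1, 3, 1, 3]), (217, false, [3, 1, 0, 1, 0, 1, 3, 1, 0, 4, 3, 4]), (207, true, [1, 0, 4, 3, 4, 3, 4]), (7, false, [2, 0, 1, 3, 1, 0, 1, 3, 1, 0, 4, 0, 4, 3, 1]), (83, true, [0, 2, 4, 3, 1, 0, 1, 3, 1, 0, 4, 3, 1, 3, 4]), (247, true, [1, 3, 1, 3, 1, 0, 4, 3, 4, 3, 4, 0, 4, 0, 4]), (131, false, [0, 2, 4, 0, 1,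 3, 1, 0, 4, 3, 1, 0, 1]), (177, true, [0, 1, 0, 2, 4, 0, 1, 0, 4]), (258, false, [4, 0, 1, 3, 1, 0, 4, 3, 4, 0]), (12, false, [1, 0, 4, 0, 1, 3, 4, 3, 4, 0, 4, 0, 4]), (258, false, [0, 4, 0, 1, 0, 1, 0, 4, 3, 4, 0, 1, 3, 1]), (144, false, [0, 1, 0, 4, 3, 1, 0, 4]), (258, false, [1, 0, 1, 3, 4, 3, 4, 0, 1, 3, 4, 0]), (239, true, []), (258, false, [2, 0, 4, 3, 4, 0, 4, 0, 4, 3, 1, 0, 1, 3]), (80, false, [2, 0, 4, 0, 4, 3, 4, 3, 1, 0, 4, 0]), (82, false, [2, 0, 4, 3, 4, 0, 4, 3, 1, 3, 4, 0, 4]), (247, true, [2, 0, 1, 3, 1, 3, 1, 0, 1, 3, 4, 0, 1]), (247, true, [4, 0, 1, 3, 1, 0, 4, 3, 1, 3, 1, 0]), (82, false, [2, 0, 4, 3, 4, 0, 4, 3, 1, 3, 4, 0, 4]), (172, false, [0, 1, 0, 1, 2, 0, 1, 3, 1, 0, 4, 0, 4, 0, 1]), (168, false,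 [3, 4, 0, 1, 3, 1, 3, 1, 3, 4, 0, 4, 3]), (168, false, [0, 4, 3, 1, 3, 4, 0, 4, 3, 4, 0, 4, 0, 4, 0]), (7, false, [0, 1, 2, 0, 4, 0, 4, 0, 4, 0]), (217, false, [4, 0, 1, 3, 1, 0, 4, 0, 4, 3, 4, 3, 1]), (220, false, [0, 1, 2, 0, 1, 0, 4, 3, 4, 0, 4, 0, 1, 3, 1, 0]), (177, true, [0, 4, 0, 4, 3, 4, 0, 4, 3, 1, 0, 4, 0, 4]), (261, false, [0, 2, 4, 3, 4, 3, 4, 0, 4, 3, 4, 0]), (170, false, [0, 1, 3, 1, 3, 1, 0]), (80, false, [1, 0, 1, 3, 1, 0, 4, 3, 4, 3, 4, 0, 4, 3, 4]), (166, false, [0, 1, 0, 1, 2, 0, 1, 3, 1, 3, 4, 3, 4, 0, 1]), (170, false, [1, 3, 4, 3, 4, 0, 1, 3, 1, 3, 1, 0, 1, 0, 4]), (31, false, [0, 2, 4, 3, 4, 3, 4, 3, 4, 0, 1, 0, 1]), (217, false, [1, 3, 1, 3, 4, 0, 4, 3, 4, 3, 4, 0, 1]), (7, false, [3, 1, 3, 1,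 3, 4, 0, 4, 3, 1, 3, 1, 0, 4, 0]), (3, false, [1, 0, 1, 0, 1, 3, 1, 3, 1, 0, 4, 3, 4, 3, 4]), (258, false, [1, 3, 1, 3, 1, 0, 1, 0, 1, 3, 4, 0, 4, 3]), (170, false, [0, 4, 3, 4, 3, 1, 0, 4, 0, 4, 3, 4, 0, 4]), (239, false, [2, 0, 4, 3, 4, 0, 1, 3, 1, 0]), (12, false, [1, 3, 1, 3, 4, 0, 1, 0, 1, 0, 4, 3, 1, 0]), (82, false, [2, 4, 0, 1, 3, 1, 3, 4, 0, 4, 3, 4, 0, 1]), (211, false, [0, 1, 0, 1, 0, 1, 0, 1, 3, 1, 3, 4, 0, 4]), (0, true, [3, 1, 3, 4, 3, 4, 3, 4, 0]), (267, true, [2, 0, 4, 0, 4, 0, 1, 3, 4, 3, 4, 3, 1, 0]), (83, true, [1, 3, 1, 3, 4, 3, 4, 3, 1, 0, 4, 0, 4, 3]), (170, false, [0, 1, 0, 2, 4, 0, 4, 0, 4, 0, 1, 3, 1, 0, 4, 3, 4]), (261, false, [0, 1, 3, 1, 3, 4, 0, 4, 0, 4, 0, 4, 3, 1, 3, 1]), (239, true, []),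 (267, true, [0, 1, 3, 1, 3, 1, 3, 4, 0, 4, 3, 1, 3, 1, 0]), (82, false, [2, 4, 0, 1, 3, 1, 3, 4, 0, 4, 3, 4, 0, 1]), (261, false, [1, 0, 1, 0, 4, 3, 4, 0, 4, 3, 4, 0, 4, 0, 4]), (198, true, [4, 0, 1, 0, 1, 0, 1, 3, 1, 3, 1, 0, 4, 0, 1]), (220, false, [1, 0, 1, 2, 0, 1, 0, 4, 0, 4, 0, 4, 3, 4, 0, 4]), (3, false, [0, 1, 0, 4, 3, 4, 3, 4, 0, 1, 3, 1, 0]), (258, false, [2, 0, 4, 3, 4, 3, 1, 0, 1, 3, 4, 3, 1]), (80, false, [1, 0, 1, 2, 0, 1, 0, 4, 3, 1, 3, 4, 0, 4]), (172, false, [0, 4, 3, 4, 3, 4, 0, 1, 3, 1, 0, 1, 3, 4]), (261, false, [3, 4, 0, 4, 0, 4, 3, 4, 3]), (172, false, [1, 0, 1, 2, 0, 4, 3, 4, 0, 4, 3, 4, 3, 1]), (211, false, [0, 1, 0, 1, 0, 4, 3, 4, 0, 1, 0, 1, 0]), (113, true, [2, 0, 4, 0, 4, 3, 1, 3, 1, 0, 1,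 0, 4]), (198, true, [4, 3, 1, 0, 1, 0, 4, 3, 1, 3, 4]), (215, false, [0, 1, 0, 1, 3, 1, 0, 4, 0, 4, 0, 4, 3, 4, 3]), (271, true, [3, 1, 3, 1, 0, 4, 3, 4, 3, 4, 0]), (56, false, [3, 1, 0, 4, 3, 1, 0, 1, 3, 1, 3, 1, 0, 4]), (0, true, [2, 0, 1, 3, 4, 0, 4, 0, 4, 3, 4, 0, 1, 0, 1]), (7, false, [2, 4, 3, 1, 0, 4, 0, 4, 0, 4, 3, 4, 0]), (215, false, [0, 1, 2, 0, 4, 0, 4, 3, 4, 0]), (258, false, [3, 1, 3, 4, 0, 1, 0, 4]), (7, false, [0, 1, 0, 4, 3, 1, 3, 4, 0, 4, 0, 4, 0]), (131, false, [0, 1, 0, 4, 3, 4, 0, 4, 3, 1, 0, 4])]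

theorem q228 : closeb 18 ps18 base7 rgR om xs x228 orb r228 = true := by decide +kernel
theorem q229 : closeb 18 ps18 base7 rgR om xs x229 orb r229 = true := by decide +kernel
theorem q230 : closeb 18 ps18 base7 rgR om xs x230 orb r230 = true := by decide +kernel
theorem q231 : closeb 18 ps18 base7 rgR om xs x231 orb r231 = true := by decide +kernel
theorem q232 : closeb 18 ps18 base7 rgR om xs x232 orb r232 = true := by decide +kernel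
theorem q233 : closeb 18 ps18 base7 rgR om xs x233 orb r233 = true := by decide +kernel
theorem q234 : closeb 18 ps18 base7 rgR om xs x234 orb r234 = true := by decide +kernel
theorem q235 : closeb 18 ps18 base7 rgR om xs x235 orb r235 = true := by decide +kernel
theorem q236 : closeb 18 ps18 base7 rgR om xs x236 orb r236 = true := by decide +kernel
theorem q237 : closeb 18 ps18 base7 rgR om xs x237 orb r237 = true := by decide +kernel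
theorem q238 : closeb 18 ps18 base7 rgR om xs x238 orb r238 = true := by decide +kernel
theorem q239 : closeb 18 ps18 base7 rgR om xs x239 orb r239 = true := by decide +kernel

theorem c19 : Rows xc19 :=
  Rows.cons q228 (Rows.cons q229 (Rows.cons q230 (Rows.cons q231 (Rows.cons q232 (Rows.cons q233 (Rows.cons q234 (Rows.cons q235 (Rows.cons q236 (Rows.cons q237 (Rows.cons q238 (Rows.cons q239 Rows.nil)))))))))))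

end Cfsg.Agent.H698.U33.Clo
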