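import Cfsg.Agent.H698.U33.Clo.Rows

/-!
# S5525: the closure certificate, rows 24 to 35 (helper698; data of helper819, helper763)
-/

set_option autoImplicit false
set_option maxRecDepth 100000
set_option Elab.async false

namespace Cfsg.Agent.H698.U33.Clo

def r24 : List (ℕ × Bool × List ℕ) := [(20, false, [1, 0, 2, 4, 3, 1, 0, 1, 3, 1, 3, 1, 0, 4, 0]), (81, false, [0, 1, 0, 4, 3, 4, 0, 1, 3, 1, 3]), (58, false, [1, 3, 4, 0, 4, 3, 4, 3, 4, 0, 4, 0, 4, 3]), (171, false, [0, 1, 3, 4, 3, 1, 0, 1, 3, 1, 3, 1, 0, 1, 3, 4]), (256, true, [2, 4, 3, 1, 3, 4, 0, 1, 0, 1, 3, 4, 3, 1, 0, 4, 3]), (275, true, [0, 4, 3, 1, 3, 1, 3, 4, 3, 4, 3, 4, 0, 1, 3]), (61, false, [1, 2, 0, 1, 3, 4, 0, 4, 0, 4, 0, 4, 3]), (2, true, [2, 4, 0,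 4, 3, 4, 3, 4, 0, 4]), (4, true, [2, 4, 3, 1, 3, 4, 0, 1, 3, 4]), (67, false, [4, 0, 1, 0, 1, 0, 1, 0, 1, 0, 4]), (51, false, [1, 0, 2, 4, 3, 4, 0, 1, 0, 1, 0, 4, 0, 4, 3]), (256, true, [2, 0, 4, 0, 4, 3, 4, 3, 4, 3, 4, 0, 1, 3, 1]), (122, true, [3, 4, 0, 4, 3, 1, 0, 1, 0, 4, 0, 4, 0, 4, 3]), (191, true, [3, 4, 3, 1, 0, 1, 0, 1, 0, 4, 0, 4, 0, 4]), (158, true, [3, 1, 0, 1, 3, 4, 3, 1, 0, 1, 0, 1, 0, 4, 3, 1]), (281, true, [0, 1, 3, 4, 0, 1, 3, 1, 3, 1, 0, 1, 0, 4]), (243, true, [4, 0, 4, 3, 4, 0, 1, 3, 1, 3, 1, 3]), (125, false, [4, 0, 1, 0, 4, 3, 1, 0, 1, 3]), (275, true, [2, 0, 4, 0, 1, 3, 1, 0, 4, 3, 4, 3]), (126, true, [1, 0, 1, 3, 1, 3, 4, 0, 4, 0, 1, 3, 4, 3, 4, 3, 4]), (71, false, [3, 1, 0, 4, 3, 4, 3, 4, 0,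 4, 0, 4, 0, 4, 0]), (213, true, [1, 3, 1, 0, 4, 3, 4, 3, 4, 0, 1, 3, 4, 3, 1, 0]), (219, false, [1, 2, 0, 1, 3, 1, 3, 1, 3, 1, 0, 1, 0, 1, 0, 1]), (21, false, [2]), (179, false, [3, 1, 3, 4, 3, 4, 0, 1, 0, 1, 0, 1, 3, 1]), (225, false, [2, 0, 1, 0, 1, 3, 4, 0, 4, 3, 1, 3, 1, 3, 4]), (23, true, [0, 1, 0, 2, 4, 0, 4, 0, 4, 0, 1, 3, 4, 3, 4, 0, 4, 3]), (28, true, [0, 1, 0, 1, 3, 4, 0, 1, 0, 1, 3, 4, 0, 1, 3]), (90, true, [3, 1, 3, 1, 3, 4, 3, 4, 0, 1, 3, 1, 3, 1, 0]), (281, true, [0, 1, 3, 4, 0, 4, 0, 1, 3, 1, 3, 4]), (71, false, [0, 1, 2, 0, 4, 0, 4, 0, 4, 3, 4, 3, 4, 0, 4, 3, 4]), (243, true, [3, 4, 3, 1, 0, 4, 3, 4, 3, 4, 0, 1, 3]), (178, false, [1, 0, 4, 3, 4, 0, 1, 0, 1, 3, 4, 3]), (122, true, [4, 0, 1, 3, 1, 3, 4,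 0, 1, 3, 1, 3, 4, 3, 4]), (274, false, [0, 1, 0, 2, 4, 0, 1, 0, 1, 0, 1, 3, 4, 0, 1]), (235, false, [2, 0, 1, 3, 1, 3, 1, 0, 1, 3, 4, 3, 1]), (213, true, [0, 4, 0, 4, 0, 1, 3, 4, 0, 4, 0, 4, 0, 1]), (165, false, [0, 1, 3, 1, 0, 1, 0, 1, 3, 1, 3, 4, 0]), (81, false, [2, 0, 4, 0, 1, 0, 1, 0, 4, 0, 4, 0, 4]), (7, true, [1, 2, 0, 1, 0, 1, 3, 4, 0, 4, 0, 4, 3, 4, 3, 4]), (36, false, [1, 0, 1, 3, 4, 3, 4, 0, 1, 0, 1, 0, 1, 3, 4, 3, 4, 0]), (127, false, [0, 4, 3, 1, 3, 1, 3, 1, 0, 1, 0, 1, 3, 1, 3]), (63, false, [2, 0, 4, 0, 1, 0, 1, 3, 4, 0, 4]), (63, false, [3, 4, 3, 1, 0, 1, 0, 1, 0, 1, 3, 4, 3, 1, 0]), (80, true, [0, 1, 3, 4, 0, 4, 0, 1, 3, 1, 0, 1, 3, 4]), (179, true, [0, 1, 0, 1, 0, 4, 0, 4, 0]), (68, true, [4, 0, 4,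 3, 4, 0, 4, 0, 1, 3, 1, 0, 4]), (43, true, [2, 4, 3, 4, 0, 1, 3, 1, 0, 1, 3, 4, 3, 4]), (19, true, [1, 0, 1, 0, 2, 4, 0, 4, 3, 4, 0, 1, 3, 1]), (81, true, [3, 1, 3, 4, 0, 4, 3, 1]), (125, false, [1, 3, 4, 0, 4, 0, 1, 3, 1, 3, 1, 3, 4]), (61, false, [3, 4, 0, 4, 3, 1, 3, 1, 0, 4, 0, 4, 3]), (195, true, [1, 2, 0, 1, 3, 4, 0, 1, 3, 1, 3, 1, 3]), (24, true, [0, 1, 0, 1, 0, 1, 0, 1, 0, 1, 0, 1, 0, 1]), (125, false, [0, 1, 3, 4, 3, 1, 0, 4, 3, 4, 0, 1]), (183, true, [4, 3, 4, 3, 4, 0, 4, 0, 1, 3, 1, 0, 1, 0, 4]), (200, true, [2, 0, 4, 0, 1, 0, 1, 0, 1, 3, 4, 3, 4, 0, 4, 0]), (51, false, [2, 0, 1, 3, 1, 3, 1, 0, 1, 0, 4, 3, 4]), (133, false, [3, 4, 3, 4, 3, 4, 3, 1, 0, 4, 0]), (127, false, [3, 1, 0, 1, 3, 1, 3, 1, 0, 4, 3,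 4, 3, 4, 0, 1]), (2, false, [3, 4, 3, 4, 0, 4, 0, 4, 3, 4, 3]), (213, true, [0, 1, 2, 0, 1, 3, 1, 0, 1, 0, 1, 3, 4, 0, 4, 0, 1]), (19, true, [1, 2, 0, 1, 3, 1, 0, 4, 3, 4, 3, 4, 0, 4, 0, 4]), (68, true, [1, 0, 4, 3, 4, 0, 4, 3, 4, 3, 4, 3, 1, 0, 1, 3]), (57, true, [2, 0, 4, 0, 4, 0, 1, 3, 1, 0, 4, 3, 1, 3]), (42, true, [2, 4, 0, 1, 0, 1, 0, 4, 0, 4, 0, 1]), (57, true, [2, 0, 1, 0, 1, 0, 1, 3, 4, 3, 4, 0, 4, 0, 4]), (42, true, [0, 1, 0, 1, 3, 4, 0, 4, 3, 4, 0, 4, 3, 1, 3, 4]), (165, false, [0, 1, 0, 1, 0, 4, 3, 4, 0, 1, 3, 1, 3, 4]), (71, false, [0, 4, 3, 1, 3, 1, 3, 1, 0, 4, 3, 1, 3, 1, 3]), (29, true, [3, 1, 3, 1, 0, 1, 3, 4, 3, 1, 0, 1, 0, 1, 0, 4]), (69, true, [4, 0, 4, 3, 4, 0, 4, 0, 1, 3, 1, 0, 4]), (200, true,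 [1, 2, 0, 1, 3, 4, 0, 1]), (213, true, [0, 2, 4, 0, 4, 3, 1, 0, 1, 0, 4, 0, 4, 3, 1, 3]), (219, false, [1, 2, 0, 1, 3, 4, 0, 1, 3, 1, 3, 1, 3, 1]), (25, true, [0, 1, 2, 0, 4, 0, 4, 3, 1, 0, 1, 0, 4]), (28, true, [0, 1, 0, 1, 0, 1, 0, 1, 0, 1, 0, 1, 0, 1]), (27, true, [1, 0, 2, 4, 3, 1, 0, 4, 3, 4, 3, 1, 0, 1, 3]), (21, false, [1, 2, 0, 1, 3, 4, 0, 1, 0, 1, 3, 4, 0, 1]), (179, true, [1, 3, 1, 0, 4, 0, 4, 3, 1, 0, 1, 0, 1]), (183, true, [1, 0, 4, 3, 4, 0, 1, 3, 1, 0]), (67, false, [4, 0, 1, 0, 1, 3, 4, 0, 1, 0, 1, 3, 1, 3, 4]), (58, false, [3, 4, 3, 4, 3, 4, 3, 4, 0, 1, 0, 1, 3, 1]), (235, false, [2, 4, 0, 4, 3, 4, 0, 1, 0, 1, 0, 1, 3, 4, 3, 1]), (183, false, [4, 0, 1, 3, 4, 3, 4, 0, 4, 0, 4, 3, 4, 3, 1]), (125, false,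 [1, 0, 1, 3, 1, 0, 1, 0, 4, 0, 4, 0, 4, 3, 4]), (274, false, [1, 0, 4, 0, 1, 3, 1, 3, 1, 3, 4, 3, 4]), (183, false, [4, 3, 4, 0, 4, 3, 1, 3, 4, 0, 4, 0, 1, 3, 4]), (69, true, [1, 0, 4, 3, 4, 0, 4, 3, 4, 3, 4, 3, 1, 0, 1, 3]), (29, true, [0, 1, 3, 4, 3, 1, 0, 1, 0, 4, 3, 1, 0, 1, 0, 4]), (20, false, [2, 0, 4, 3, 1, 3, 1, 0, 4, 0, 4]), (171, false, [1, 3, 1, 0, 1, 3, 4, 3, 1, 0, 1, 0, 1, 0, 1]), (71, false, [0, 1, 2, 0, 4, 0, 1, 3, 4, 3, 4, 0, 4, 3]), (80, true, [1, 0, 4, 0, 4, 3, 4, 3, 1, 0, 4, 3, 4, 3, 1, 3]), (195, true, [2, 0, 4, 0, 4, 3, 4, 3, 1, 0, 4, 3, 4, 3]), (178, false, [0, 4, 3, 4, 3, 1, 0, 1, 3, 4, 3, 4, 0, 1, 0]), (191, true, [3, 1, 0, 4, 3, 1, 0, 1, 0, 4, 3, 1]), (179, false, [0, 1, 3, 4, 3, 4, 3, 4, 0,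 4, 3, 4, 0, 4, 0]), (4, false, [1, 2, 0, 1, 3, 4, 0, 1, 3, 1, 3, 4]), (126, true, [4, 0, 1, 3, 1, 3, 1, 0, 4, 3, 1, 3, 1, 3]), (55, false, [0, 1, 2, 0, 1, 3, 1, 3, 1, 0, 1]), (55, false, [2, 0, 1, 3, 1, 0, 1, 0, 1, 3, 1]), (275, false, [1, 0, 1, 2, 0, 4, 0, 4, 3]), (275, false, [1, 3, 4, 0, 1, 0, 1, 0, 4, 3, 1, 0, 1]), (158, true, [1, 3, 1, 0, 4, 3, 4, 3, 4, 3, 1, 0, 4, 0]), (225, false, [1, 2, 0, 1, 3, 1, 0, 1, 0, 4, 3, 1, 3]), (7, true, [2, 0, 1, 3, 1, 3, 1, 3, 1, 0, 1, 0, 1, 3, 1, 3]), (81, true, [1, 0, 1, 2, 0, 1, 3, 1, 3, 4, 3, 4, 3, 4, 0, 4]), (219, false, [3, 1, 0, 4, 3, 1, 3, 4, 0, 4, 0, 1]), (219, false, [1, 0, 1, 0, 4, 3, 1, 0, 1, 0, 1, 3, 1, 3, 1, 3]), (90, true, [4, 3, 4, 3, 4, 0, 4, 0, 1, 3, 1, 0, 4]),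 (24, true, [0, 1, 0, 1, 0, 1, 0, 1, 0, 1, 0, 1, 0, 1])]
def r25 : List (ℕ × Bool × List ℕ) := [(199, true, [2, 0, 4, 0, 4, 3, 4, 0, 4, 3, 4, 3, 1, 0, 4]), (199, true, [3, 1, 3, 1, 0, 1, 3, 4, 0, 4, 0, 4, 0, 4]), (270, false, [4, 0, 4, 3, 1, 0, 1, 0, 4, 3, 4, 0, 1, 3, 4]), (18, true, [0, 1, 0, 1, 0, 4, 0, 4, 3, 1, 3, 1, 3, 4]), (92, true, [0, 4, 3, 4, 0, 4, 0, 4, 0, 4, 3, 1]), (87, true, [4, 0, 1, 3, 1, 3, 1, 0, 4, 3, 1, 0, 1, 0, 4]), (168, true, [0, 4, 0, 1, 3, 1, 3, 4, 3, 4, 3, 1, 0, 4, 0, 1]), (180, false, [0, 1, 0, 1, 3, 1, 3, 4, 0, 4, 0, 1, 3, 4, 3, 1]), (107, true, [0, 1, 3, 4, 0, 4, 0, 4, 3, 1, 0, 4]), (16, true, [4, 3, 4, 0, 1, 3, 1, 3, 4, 0, 4, 0, 1, 3]), (184, false, [3, 4, 0, 4, 0, 1, 3, 1, 0, 4, 3]), (92,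 true, [0, 1, 3, 1, 0, 4, 3, 4, 3, 4, 3, 4, 0, 1]), (110, true, [2, 0, 1, 3, 4, 0, 4, 3, 4, 0, 4, 0, 1, 3, 1]), (179, false, [2, 0, 1, 0, 1, 3, 1, 0, 4, 0, 4, 0, 1, 3, 1]), (171, true, [4, 0, 1, 0, 1, 0, 1, 3, 4, 0, 1, 0, 1, 0, 1]), (87, false, [1, 0, 2, 4, 0, 4, 0, 1, 3, 1, 0, 1, 0]), (182, true, [0, 2, 4, 0, 1, 3, 4, 0, 4, 3, 4, 0, 1]), (82, false, [0, 1, 3, 1, 3, 4, 3, 4, 0, 4, 3]), (87, true, [1, 3, 4, 3, 4, 0, 4, 0, 4, 3, 4, 3, 4, 3, 1]), (250, true, [4, 3, 1, 0, 1, 3, 1, 3, 1, 3, 4, 3, 4, 0, 1]), (172, false, [3, 4, 3, 4, 3, 4, 0, 4, 0, 1, 3]), (178, false, [3, 4, 3, 4, 0, 4, 3, 4, 0, 1, 3, 1, 3, 1, 3]), (30, true, [1, 3, 1, 0, 1, 0, 4, 0, 4, 0, 4, 3, 4, 0]), (24, true, [0, 1, 2, 0, 4, 0, 4, 3, 1, 0, 1, 0, 4]),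 (109, false, [2, 0, 1, 3, 1, 0, 4, 3, 1, 3, 4, 0, 4, 3, 4]), (272, false, [0, 4, 0, 4, 3, 4, 3, 1, 0, 1, 3, 1, 0, 1, 0]), (21, false, [1, 3, 1, 0, 1, 3, 4, 0, 4, 3, 4, 0, 4, 0]), (23, true, [0, 1, 0, 1, 0, 4, 3, 4, 0, 1, 0, 1, 0, 1, 3, 1, 3]), (233, false, [4, 3, 4, 0, 4, 0, 4, 0, 1, 3, 4]), (87, false, [2, 0, 1, 3, 1, 0, 1, 0, 4, 3, 4, 3, 4, 3, 4, 0, 4]), (141, false, [3, 1, 0, 1, 0, 4, 3, 1, 3, 1, 0, 1, 0]), (182, true, [0, 1, 0, 1, 0, 2, 4, 0, 4, 3, 4, 0, 4, 3, 1, 3, 1]), (225, true, [2, 4, 3, 1, 3, 1, 3, 1, 0, 4, 0, 4, 3, 4]), (110, true, [2, 4, 3, 4, 3, 4, 0, 1, 3, 1, 0, 4, 3, 4]), (178, false, [1, 3, 1, 0, 1, 3, 4, 3, 4, 3, 1, 0, 1, 3, 4, 3, 1]), (105, true, [0, 1, 2, 0, 1, 3, 4, 0, 1, 3, 1, 3, 1, 3, 1]), (178,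 false, [1, 3, 4, 0, 4, 3, 1, 0, 4, 0, 4, 3, 1, 0]), (104, false, [3, 1, 0, 4, 3, 4, 3, 4, 0, 1, 3, 4, 3]), (199, true, [1, 0, 4, 3, 1, 3, 4, 0, 4, 0, 4, 0, 4, 0, 4]), (180, true, [0, 4, 3, 1, 0, 1, 0, 1, 3, 1, 3, 4, 3, 4, 3, 4]), (9, true, [1, 0, 1, 3, 1, 0, 1, 3, 1, 0, 1, 0, 1, 3, 4, 0]), (128, false, [1, 2, 0, 1, 0, 4, 0, 4, 0, 4, 3, 4, 3]), (70, true, [0, 1, 3, 4, 0, 1, 3, 1, 3, 4, 3, 4, 0, 4, 0]), (70, true, [3, 4, 0, 4, 0, 4, 3, 4, 0, 1, 3]), (89, false, [2, 0, 4, 3, 1, 0, 1, 0, 4, 0, 4, 3, 1, 0, 1, 3, 1]), (73, true, [3, 4, 0, 4, 3, 1, 3, 4, 0, 4, 3, 4, 3, 1]), (181, true, [0, 4, 0, 1, 3, 1, 3, 1, 0, 1, 0, 1, 3, 1, 0]), (201, true, [1, 0, 2, 4, 3, 4, 0, 1, 3, 1, 3]), (161, true, [4, 0, 1, 0, 1, 3, 4, 0, 4, 0,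 1]), (210, true, [0, 2, 4, 0, 4, 3, 4, 0, 1, 3, 4, 0]), (82, false, [0, 1, 3, 4, 0, 4, 3, 4, 3, 4, 0, 4, 3, 4]), (168, true, [3, 4, 0, 4, 3, 4, 3, 4, 0, 1]), (168, true, [2, 4, 3, 1, 3, 4, 0, 1, 3]), (28, true, [0, 1, 2, 0, 1, 3, 4, 0, 1, 0, 1, 3, 4, 0, 1, 0]), (106, false, [0, 2, 4, 3, 4, 3, 4, 0, 4, 0, 1]), (118, false, [2, 4, 3, 1, 3, 1, 3, 1, 0, 1, 0, 1, 3, 1, 0]), (183, true, [3, 1, 3, 4, 0, 1, 0, 1, 3, 4, 3, 1, 0, 1, 3, 1]), (184, false, [0, 4, 0, 4, 0, 1, 3, 1, 0, 4, 3, 4]), (18, false, [0, 1, 0, 1, 3, 1, 3, 1, 3, 4, 3, 4, 3, 4, 0, 4]), (128, false, [1, 0, 2, 4, 3, 1, 0, 4, 3, 4, 3, 4, 0, 4, 3, 4, 3]), (180, false, [4, 0, 4, 0, 4, 3, 4, 0, 4, 3, 4, 3, 1]), (43, false, [2, 4, 0, 1, 3, 4, 0, 4, 3, 1, 0, 1, 0, 4]),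 (22, true, [0, 1, 0, 1, 2, 0, 1, 0, 1, 0, 4, 0, 4, 0, 4, 3, 4]), (181, true, [1, 3, 1, 0, 1, 0, 1, 0, 1, 0, 4]), (184, true, [0, 1, 3, 1, 3, 1, 0, 1, 0, 4, 0, 4, 0, 1, 0]), (43, true, [1, 2, 0, 4, 0, 1, 3, 4, 0, 4, 0, 1, 3, 1, 0]), (184, true, [0, 1, 0, 1, 3, 1, 3, 1, 0, 1, 0, 4, 0, 4, 0]), (43, true, [3, 4, 0, 1, 3, 1, 0, 4, 0, 4, 3, 4, 3]), (104, false, [3, 4, 0, 1, 0, 1, 0, 1, 0, 1, 0]), (172, false, [3, 4, 0, 4, 3, 1, 3, 4, 0, 4, 3, 4, 3, 1, 0]), (260, true, [4, 0, 4, 0, 1, 3, 4, 3, 4, 0, 1, 0, 1, 3, 1, 3]), (194, true, [4, 0, 4, 3, 1, 3, 1, 0, 4, 0, 4, 3, 1, 3]), (183, true, [3, 1, 3, 1, 3, 1, 3, 1, 0, 1, 0, 1, 3, 4, 0, 4]), (43, false, [0, 1, 0, 1, 2, 0, 1, 0, 4, 3]), (30, true, [1, 3, 1, 3, 4, 0, 4, 3, 4, 0,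 4]), (42, true, [0, 1, 2, 0, 1, 3, 1, 0, 4, 3, 4, 0, 4, 3, 4]), (41, true, [1, 0, 1, 3, 4, 0, 1, 0, 1, 3, 4, 0, 1]), (25, true, []), (23, true, [0, 1, 0, 1, 0, 4, 3, 4, 0, 1, 0, 1, 0, 1, 3, 1, 3]), (73, true, [4, 0, 1, 3, 1, 3, 4, 0, 4, 0, 4, 0, 4, 3, 1]), (118, false, [1, 3, 4, 3, 4, 3, 4, 3, 4, 3, 4, 3]), (16, true, [0, 1, 0, 1, 3, 4, 3, 4, 3, 1, 0, 1, 3, 1, 3]), (270, false, [3, 1, 3, 1, 0, 4, 0, 4, 0, 4, 3, 1, 3, 4, 0]), (105, false, [2, 4, 0, 4, 3, 4, 0, 4, 0, 1, 3, 4]), (268, false, [1, 2, 0, 4, 0, 1, 3, 1, 3, 1, 0, 1, 3, 4, 3, 1, 0]), (106, true, [2, 4, 3, 4, 0, 1, 3, 1, 3, 1, 0, 4, 3]), (178, false, [0, 4, 3, 1, 3, 4, 0, 1, 0, 1, 0, 1, 3, 4, 3]), (268, false, [2, 0, 1, 0, 1, 3, 1, 3, 4, 3, 4, 3, 4, 0]), (194,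 true, [0, 1, 3, 1, 0, 4, 3, 4, 3, 4, 0, 1, 3, 4, 0]), (260, true, [1, 0, 1, 0, 4, 0, 4, 0, 1, 3, 1, 3, 4, 3, 4, 3]), (199, true, [0, 2, 4, 3, 4, 3, 4, 3, 4, 0, 1, 0, 1, 3, 4, 3, 4]), (18, true, [0, 4, 3, 4, 3, 1, 0, 1, 3, 1, 0, 1, 3, 4, 3]), (141, false, [0, 1, 3, 1, 0, 1, 0, 1, 0]), (89, false, [2, 0, 4, 0, 1, 3, 1, 3, 4, 3, 4, 3, 1, 0, 1, 3, 1]), (168, true, [0, 1, 2, 0, 4, 3, 1, 0, 1, 3, 4, 3, 4, 0, 1, 3]), (225, true, [0, 2, 4, 3, 1, 0, 1, 3, 1, 3, 1, 0, 4, 3, 1]), (179, false, [1, 0, 1, 2, 0, 1, 3, 4, 3, 4, 0, 4, 3, 1, 3, 4]), (109, false, [1, 2, 0, 4, 0, 4, 0, 4, 3, 4]), (107, true, [0, 1, 0, 1, 0, 1, 3, 1, 3, 1, 3, 4, 0, 4, 0]), (250, true, [1, 0, 1, 2, 0, 4, 0, 1, 3, 4, 3, 4, 0]), (37, false, [3, 1, 3, 4, 0,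 4, 3, 4, 0, 4, 0, 4, 3, 4]), (37, false, [3, 1, 0, 4, 3, 4, 3, 1, 0, 1, 0]), (100, true, [4, 0, 4, 0, 4, 3, 1, 3, 1, 0]), (100, true, [4, 3, 4, 3, 1, 0, 1, 3, 1, 3, 4, 0, 1, 0]), (171, true, [0, 4, 3, 4, 0, 1, 3, 4, 3, 1, 0]), (272, false, [1, 3, 4, 3, 4, 0, 1, 3, 1]), (180, true, [3, 4, 0, 4, 0, 4, 3, 4, 3, 1, 0, 1, 0, 1, 0, 1]), (210, true, [2, 4, 0, 1, 3, 1, 0, 1, 3, 1, 0, 4, 0, 4, 0, 1, 3]), (56, false, [1, 3, 4, 0, 4, 3, 4, 3, 4, 0, 1, 3, 4, 3, 4]), (56, false, [1, 3, 1, 3, 1, 0, 1, 0, 1, 0, 4, 3]), (233, false, [0, 4, 0, 4, 3, 4, 3, 4, 0, 1, 3, 1, 3, 1]), (22, true, [0, 1, 3, 4, 3, 4, 0, 1, 3, 1, 3, 4])]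
def r26 : List (ℕ × Bool × List ℕ) := [(254, true, [0, 2, 4, 0, 4, 0, 1, 3, 1, 3, 4, 0, 4]), (275, true, [3, 1, 3, 4, 3, 4, 0, 4, 0, 4, 3, 4, 3, 4]), (47, false, [1, 3, 1, 3, 1, 0, 4, 3, 1, 3, 1, 3]), (171, true, [1, 0, 1, 2, 0, 1, 3, 1, 0, 4, 3, 4, 3, 4, 3, 4]), (78, true, [4, 3, 1, 3, 1, 0, 1, 0, 1, 3, 1, 3, 1, 0, 4]), (234, false, [1, 0, 1, 3, 4, 0, 1, 0, 1, 3, 4, 0]), (113, true, [2, 4, 0, 1, 3, 1, 0, 4, 0]), (170, false, [1, 0, 4, 3, 4, 0, 4, 0, 4, 0, 1, 3, 1, 3]), (69, true, [1, 3, 4, 3, 4, 3, 1, 0, 4, 0, 4, 3, 4, 0]), (110, false, [2, 0, 1, 0, 1, 3, 1, 3, 1, 3, 4, 3, 4, 3, 1, 3]), (104, false, [1, 2, 0, 4, 3, 1, 0, 1, 0, 1, 0, 1]), (136, false, [1, 0, 1, 0, 2, 4, 0, 4, 0, 4, 3, 4, 3]), (69, true, [0, 1, 2, 0,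 4, 3, 4, 0, 4, 0, 1, 3, 1, 3, 1, 0]), (110, true, [1, 2, 0, 4, 0, 1, 3, 1, 0, 1, 3, 1, 0, 4, 0, 4, 3]), (234, false, [0, 1, 2, 0, 1, 3, 1, 3, 1, 3, 4, 3, 4, 3, 4, 0, 1]), (126, false, [2, 4, 0, 4, 0, 1, 3, 1, 0, 4, 3, 4, 3, 4, 0]), (260, true, [0, 2, 4, 3, 4, 3, 4, 3, 1, 0, 4, 3, 4, 3, 4, 0]), (104, false, [1, 0, 4, 0, 4, 3, 4, 0, 4, 0, 4, 3]), (110, false, [4, 0, 1, 0, 4, 3, 1, 0, 1, 3, 4, 3]), (182, false, [2, 0, 1, 3, 1, 0, 1, 0, 4, 0, 4, 3, 1, 0, 1, 3]), (145, false, [3, 1, 0, 4, 3, 4, 0, 1, 0, 4]), (225, false, [4, 0, 4, 3, 4, 3, 4, 0, 4, 0, 4, 3, 1, 0]), (87, false, [1, 2, 0, 4, 0, 4, 0, 1, 3, 1, 0, 4]), (214, true, [2, 0, 4, 0, 4, 3]), (265, true, [1, 3, 1, 0, 4, 0, 4, 3, 4, 0, 4, 3, 1, 0]), (182, false, [3,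 1, 0, 1, 0, 4, 3, 4, 3, 4, 3, 4, 0, 4]), (59, false, [1, 3, 4, 0, 4, 3, 4, 0, 1, 0, 1]), (225, false, [0, 2, 4, 0, 1, 0, 1, 3, 4, 3, 1, 0, 4, 3, 4]), (170, false, [0, 1, 2, 0, 1, 3, 4, 3, 4, 0, 1, 0, 1, 3, 4, 0, 4]), (255, true, [0, 4, 0, 4, 3, 1, 3, 1, 0, 1, 3, 4, 3]), (80, true, [0, 4, 0, 1, 0, 1, 0, 1, 0, 1, 0, 1, 3]), (131, true, [0, 1, 0, 1, 0, 2, 4]), (180, false, [3, 1, 3, 1, 3, 4, 0, 4, 3, 4, 3, 4, 0, 1, 0]), (180, false, [2, 4, 0, 4, 3, 4, 3, 4, 3, 1, 0, 4]), (141, false, [0, 1, 0, 1, 0, 1, 0, 2, 4, 0]), (255, true, [0, 1, 0, 2, 4, 0, 4, 0, 4, 3, 4, 0, 4, 0]), (75, true, [2, 0, 1, 0, 4, 3, 4]), (126, false, [0, 1, 0, 4, 3, 4, 0, 1, 0, 1, 3, 4, 0, 4, 0]), (154, true, [0, 1, 0, 1, 3, 4, 0, 1, 3, 1, 3, 4]), (69,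 false, [4, 3, 1, 0, 1, 0]), (171, true, [1, 0, 4, 0, 4, 0, 4, 3, 1, 0, 4, 0, 4, 0, 4]), (214, true, [1, 3, 1, 0, 1, 3, 4, 3, 1, 0, 1, 0, 1, 0, 1]), (49, false, [1, 0, 1, 0, 1, 0, 4, 3, 1, 3]), (214, true, [3, 1, 3, 4, 0, 4, 3, 4, 0, 1, 3, 1]), (87, false, [1, 0, 1, 0, 1, 0, 1, 3, 4, 3, 4, 0, 1, 3, 4]), (141, false, [4, 0, 1, 0, 1, 0, 1, 3, 4, 0, 4, 3, 1, 3, 4, 0]), (110, true, [1, 3, 4, 3, 4, 0, 1, 3, 1, 0, 4, 0, 4, 3]), (168, false, [1, 3, 1, 3, 1, 0, 1, 0, 1, 0, 4, 3, 4]), (78, true, [0, 1, 0, 2, 4, 0, 1, 3, 1, 0, 4, 0, 4, 3, 4]), (254, true, [0, 1, 3, 4, 3, 1, 0, 4, 0, 4, 3, 1]), (280, false, [1, 2, 0, 4, 3, 1, 0, 1, 3, 4, 3, 4, 0, 1]), (141, false, [2, 4, 0, 4, 0, 4, 0, 1, 0]), (47, false, [1, 3, 1, 3, 4, 0, 4,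 3, 1, 3, 1]), (260, true, [4, 0, 1, 0, 4, 3, 1, 0, 1, 3, 4, 3, 1, 0, 1, 3, 4]), (280, false, [3, 1, 0, 4, 3, 4, 0, 1, 3, 1, 3, 1, 0]), (107, false, [1, 3, 1, 3, 4, 0, 4, 0, 1, 3, 1, 0, 4, 0]), (255, true, [4, 3, 1, 3, 1, 0, 4, 3, 4, 0, 1, 0, 4]), (141, false, [0, 1, 0, 4, 3, 4, 0, 4, 0, 4, 3, 4, 0, 1, 3, 1]), (69, false, [1, 2, 0, 4, 0, 1, 3, 1, 0, 1, 0, 1, 3, 4, 3, 4]), (49, false, [3, 4, 3, 1, 0, 1, 0, 4, 0, 4, 3]), (95, false, [0, 4, 0, 1, 0, 1, 0, 4, 3, 4, 0]), (154, true, [2, 0, 1, 0, 1, 3, 4, 0, 1, 3, 1, 3, 4]), (78, true, [1, 3, 1, 0, 4, 3, 4, 0, 4, 3, 4]), (87, false, [2, 4, 3, 1, 3, 4, 0, 4, 0, 1, 3, 4]), (75, true, [2, 4, 3, 4, 3, 4, 3, 1, 0, 1, 0, 4, 0]), (69, false, [0, 1, 0, 2, 4, 0, 4, 3, 4, 3, 4, 0, 4,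 3, 4]), (225, false, [4, 0, 4, 3, 4, 0, 1, 3, 1, 3, 1, 3, 1, 0, 1, 0]), (171, true, [4, 3, 1, 3, 1, 3, 1, 0, 1, 0, 4, 0, 4, 0, 4]), (107, false, [0, 4, 0, 4, 0, 1, 3, 1, 0, 1, 0, 4, 0]), (255, true, [0, 1, 2, 0, 1, 3, 1, 3, 1, 3, 1, 0, 4, 0, 4, 0]), (180, false, [2, 4, 3, 1, 0, 1, 0, 1, 0, 4, 0, 4]), (110, false, [3, 4, 3, 1, 0, 4, 3, 4, 0, 1, 0, 1, 0, 1]), (126, false, [1, 0, 1, 0, 2, 4, 0, 4, 3, 4, 3, 1, 0, 1, 0, 1, 0]), (170, false, [0, 1, 0, 1, 2, 0, 1, 3, 4, 3, 4, 0, 4, 0, 4]), (110, true, [0, 1, 0, 1, 3, 4, 3, 4, 0, 4, 3, 1, 3, 1, 3]), (59, false, [0, 1, 3, 1, 0, 1, 3, 4, 3, 1, 0, 1, 0, 4]), (225, false, [2, 0, 4, 3, 4, 0, 1, 0, 1, 0, 4, 0, 4, 3, 4]), (168, false, [1, 3, 1, 0, 4, 3, 1, 0, 1, 0, 4, 0]), (214, true,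 [1, 0, 1, 0, 1, 0, 1, 0, 1, 2, 0]), (104, false, [1, 2, 0, 4, 0, 4, 3, 4, 3, 4, 3]), (126, false, [4, 3, 1, 0, 1, 3, 1, 3, 1, 0, 4, 3, 1, 3]), (182, false, [0, 1, 2, 0, 4, 0, 1, 3, 4, 0, 4, 0, 4, 3, 1, 3]), (69, true, [3, 1, 0, 1, 0, 4, 3, 4, 3, 4, 3, 4, 0, 4, 0, 1]), (145, false, [0, 1, 3, 1, 0, 4, 0, 4, 0, 1, 3]), (131, true, [4, 3, 4, 3, 1, 0, 1]), (104, false, [3, 1, 0, 1, 3, 4, 3, 1, 0, 1, 3, 1, 3]), (113, true, [0, 2, 4, 3, 4, 0, 1, 0, 1, 0, 4, 3, 4]), (260, true, [1, 2, 0, 1, 0, 1, 0, 4, 0, 4, 3, 4, 3, 4, 0]), (234, false, [1, 0, 1, 0, 4, 3, 4, 0, 1, 0, 1, 0, 1, 3]), (69, true, [0, 1, 2, 0, 4, 0, 1, 3, 1, 3, 4, 0, 4, 0, 4, 0]), (69, false, [4, 0, 4, 3, 4, 3, 4, 3, 4, 3, 4]), (254, true, [0, 1, 3, 4, 0, 1, 3,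 1, 0, 4, 0, 4, 0, 4, 0]), (110, true, [2, 4, 3, 1, 3, 1, 0, 1, 3, 1, 0, 1, 3, 1, 0]), (265, true, [2, 0, 4, 0, 1, 3, 4, 0, 4, 0, 4, 3, 4]), (234, false, [0, 1, 0, 2, 4, 0, 4, 0, 4, 0, 1, 3, 4, 3, 4, 0, 1]), (182, false, [3, 1, 0, 1, 3, 1, 0, 1, 0, 1, 3, 4]), (80, true, [0, 1, 3, 4, 0]), (87, false, [3, 4, 3, 4, 3, 4, 0, 4, 3, 4, 0, 1, 3, 4]), (47, false, [0, 4, 0, 1, 3, 1, 3, 4, 3, 4, 0, 4, 0, 4, 3]), (110, false, [2, 0, 1, 3, 4, 0, 4, 0, 4, 3, 1, 0, 4, 0, 1]), (95, false, [0, 1, 3, 4, 3, 1, 0, 1, 0, 4, 3]), (170, false, [1, 0, 4, 0, 1, 3, 4, 0, 4, 0, 1]), (275, true, [2, 0, 1, 0, 1, 3, 1, 0, 1, 3, 1, 3, 1, 3]), (154, true, [0, 1, 0, 1, 0, 1, 3, 1, 3, 1, 3, 4, 0, 4, 0]), (47, false, [4, 0, 1, 3, 4, 3, 4, 3, 1, 0, 4]),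 (180, false, [1, 3, 1, 0, 4, 0, 4, 3, 1, 0, 1, 3, 1, 3]), (254, true, [2, 0, 1, 3, 1, 3, 4, 0, 4, 3, 4]), (171, true, [1, 0, 1, 2, 0, 1, 3, 1, 3, 1, 0, 1, 0, 1, 0]), (78, true, [1, 2, 0, 4, 3, 4, 0, 4, 3, 1]), (136, false, [3, 1, 0, 1, 3, 1, 3, 1, 0, 1, 0, 4, 3]), (154, true, [2, 0, 1, 0, 1, 0, 1, 3, 1, 3, 1, 3, 4, 0, 4, 0]), (260, true, [4, 0, 1, 3, 4, 0, 4, 3, 4, 0, 4, 0])]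
def r27 : List (ℕ × Bool × List ℕ) := [(37, false, [0, 4, 3, 1, 3, 4, 0, 1, 0, 1, 3, 4, 3, 4]), (116, true, [1, 2, 0, 1, 0, 1, 3, 1, 0, 1, 3, 4, 0, 4, 3]), (118, false, [3, 4, 0, 4, 3, 1, 3, 1, 0, 1, 3, 4, 0, 4]), (248, false, [3, 4, 0, 4, 0, 4, 0, 4, 3, 1, 3]), (56, true, [0, 1, 0, 4, 3, 4, 3, 1, 0, 1, 3, 4, 3, 4, 3, 4]), (110, true, [2, 0, 1, 3, 4, 0, 1, 3, 1, 3, 4, 0, 4, 3, 1, 0]), (110, true, [0, 4, 3, 1, 0, 1, 3, 1, 3, 4, 0, 1]), (199, true, [3, 4, 0, 1, 3, 4, 0, 4, 0, 4, 3, 1, 0, 1, 0, 1]), (23, false, [0, 1, 2, 0, 1, 0, 1, 3, 4, 0, 1, 3, 1, 3]), (182, true, [0, 4, 3, 4, 0, 1, 3, 1, 3, 4, 0, 4, 0, 4, 0, 4, 0, 4]), (67, true, [4, 3, 4, 3, 4, 0, 4, 0, 1, 3, 1]), (56, true, [0, 1, 3, 4, 3, 1, 0, 4, 3, 4, 0, 4, 0,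 4, 3, 4]), (126, true, [0, 1, 0, 1, 3, 4, 0, 1, 0, 1, 3, 4, 0]), (236, true, [2, 0, 1, 3, 4, 0, 1, 3, 1, 0, 1, 0]), (254, true, [1, 2, 0, 4, 0, 1, 3, 4, 0, 4, 3, 1, 3, 1, 0]), (209, true, [2, 0, 4, 3, 4, 0, 1, 3, 1, 0, 1, 0, 1, 3]), (88, false, [1, 0, 1, 3, 1, 0, 1, 3, 1, 3, 4]), (95, true, [3, 1, 3, 1, 3, 4, 0, 1]), (110, true, [2, 4, 0, 4, 3, 1, 3, 4, 0, 4, 0, 1, 3, 4, 3, 4]), (181, true, [1, 0, 2, 4, 3, 1, 0, 1, 3, 4, 0, 1, 0, 1, 3, 4]), (260, true, [2, 4, 0, 4, 0, 4, 0, 4, 3, 4, 3, 4]), (69, false, [1, 3, 4, 0, 4, 0, 4, 0, 4, 3, 1, 3, 1, 0, 4]), (153, true, [2, 4, 0, 1, 3, 1, 3, 4, 0, 4, 3, 4]), (24, true, [0, 2, 4, 0, 4, 3, 1, 3, 1, 0, 4, 3, 1, 3, 4]), (268, false, [1, 0, 1, 0, 1, 3, 4, 3, 4, 3, 1, 0, 1, 3, 1]),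 (126, true, [0, 4, 0, 4, 3, 1, 3, 1, 0, 1, 0, 4, 3, 4, 3]), (19, true, [0, 1, 3, 1, 3, 1, 0, 4, 3, 1, 3, 4, 0, 4, 0]), (34, false, [4, 3, 1, 0, 1, 0, 4, 3, 1, 3, 1]), (9, true, [1, 0, 4, 0, 4, 0, 4, 0, 1, 3, 1, 0, 4, 3]), (209, false, [0, 2, 4, 3, 4, 3, 4, 0, 4, 0, 1, 3]), (253, false, [4, 3, 1, 3, 4, 0, 1, 3, 1, 0, 1, 3, 1]), (88, false, [1, 0, 1, 0, 1, 3, 1, 0, 1, 0, 4]), (136, false, [2, 4, 3, 4, 3, 4, 3, 1, 0, 4, 0, 4, 3, 4, 0]), (126, true, [0, 4, 0, 4, 0, 4, 0, 4, 3, 4, 3, 4, 0, 4, 3, 4, 0]), (180, true, [0, 2, 4, 0, 4, 3, 1, 0, 1, 0, 1, 3, 1, 3, 1, 3, 1]), (104, true, [0, 2, 4, 0, 4, 3, 4, 3, 4, 0, 4]), (69, false, [3, 4, 0, 4, 0, 4, 3, 4, 3, 1]), (179, false, [0, 4, 0, 1, 3, 1, 3, 1, 0, 1, 3, 4, 0, 4]), (116,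 true, [2, 4, 3, 4, 3, 1, 0, 1, 0, 1, 3, 1, 0, 4, 3]), (180, false, [2, 0, 1, 0, 4, 0, 4, 0, 4, 3, 4, 0, 4, 3, 4, 3, 1]), (43, true, [3, 1, 3, 1, 3, 4, 3, 4, 3, 4]), (276, false, [0, 1, 3, 4, 3, 4, 0, 4, 0, 1, 3, 4, 3]), (112, true, [3, 1, 3, 1, 0, 4, 0, 4, 3, 1, 0, 1, 3, 4, 3]), (112, true, [0, 1, 0, 1, 3, 4, 0, 4, 3, 1, 3]), (30, true, [1, 0, 2, 4, 3, 4, 0, 1, 0, 1, 3, 4, 0, 4]), (115, false, [1, 0, 1, 0, 2, 4, 0, 4, 3, 4, 3, 1, 0, 4, 0]), (183, true, [2, 4, 0, 1, 0, 1, 3, 4, 3, 1, 0, 1, 3, 4, 0]), (27, true, []), (46, true, [2, 4, 0, 1, 0, 1, 0, 4, 0, 4, 0, 1]), (155, false, [0, 1, 0, 1, 3, 4, 0, 4, 0, 4, 3, 4, 0, 4, 3, 4]), (95, true, [0, 1, 0, 1, 0, 1, 2, 0, 1, 0, 1, 0, 1, 3, 4]), (110, true, [0, 1, 3, 1, 3, 1,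 0, 1, 0, 1, 0, 4, 0, 4, 3, 4]), (136, true, [1, 3, 1, 3, 4, 0, 1, 0, 1, 0]), (23, true, [3, 4, 3, 4, 3, 4, 3, 1, 0, 4, 0]), (87, true, [1, 0, 1, 0, 1, 0, 1, 2, 0, 4, 0, 4, 3, 4, 0]), (87, false, [1, 3, 4, 3, 4, 3, 1, 0, 1, 0, 1, 0]), (255, false, [0, 1, 0, 2, 4, 3, 4, 3, 4, 0, 1, 0, 1, 3, 1]), (67, true, [0, 1, 3, 1, 3, 4, 3, 4, 3, 4, 0, 4, 3, 1, 0, 4]), (46, true, [1, 3, 4, 0, 4, 3, 4, 0, 1, 0, 1, 3, 1, 0]), (276, false, [4, 3, 1, 3, 4, 0, 4, 0, 4]), (199, true, [0, 4, 0, 4, 3, 4, 0, 1, 0, 1, 0, 1, 3, 4, 0]), (176, true, [0, 4, 3, 1, 3, 1, 0, 1, 0, 4, 3, 1, 3]), (161, true, [0, 1, 3, 1, 3, 1, 0, 4, 0, 4, 3]), (183, true, [0, 2, 4, 3, 4, 0, 4, 0, 1, 3, 1, 3, 4, 0, 4]), (78, false, [3, 4, 3, 4, 0]), (28, true, [1, 2,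 0, 1, 3, 1, 0, 4, 3, 4, 0, 4, 3, 4, 3]), (78, false, [3, 4, 0, 4, 3, 4, 0, 1, 3, 1, 3, 4, 3]), (41, true, [1, 2, 0, 1, 3, 1, 0, 4, 3, 4, 0, 4, 3, 4, 3]), (179, false, [1, 0, 4, 3, 1, 0, 1, 3, 1, 0, 4, 0, 4]), (260, true, [0, 1, 0, 1, 2, 0, 4, 3, 4, 0, 1, 3, 4, 3]), (78, false, [2, 4, 0, 4, 3, 4, 0, 4, 3, 1, 0, 1, 3]), (131, true, [1, 2, 0, 4, 3, 1, 3]), (255, false, [0, 1, 2, 0, 1, 3, 4, 3, 4, 0, 4, 3, 1, 3, 1]), (176, true, [0, 1, 0, 2, 4, 0, 4, 3, 1, 3, 4, 0, 4, 0]), (153, true, [2, 4, 3, 4, 0, 4, 3, 4, 3, 1, 0, 4, 0]), (42, true, [3, 4, 0, 4, 3, 1, 3, 1, 0, 4, 3, 1, 3, 4]), (23, true, [0, 1, 2, 0, 1, 3, 1, 0, 1, 0, 4, 0, 4, 3, 1, 0]), (201, true, [4, 3, 4, 0, 1, 3, 1, 3, 4, 0]), (43, true, [3, 1, 3, 1, 3, 4, 3, 4,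 3, 4]), (115, false, [1, 0, 1, 2, 0, 1, 3, 1, 3, 4, 0, 4, 3, 4]), (87, false, [1, 0, 4, 0, 1, 3, 1, 3, 1, 3, 4, 0, 1, 0, 1, 3, 1]), (182, true, [0, 1, 3, 4, 0, 4, 0, 1, 3, 4, 0, 4]), (118, false, [0, 4, 3, 1, 0, 1, 0, 4, 3, 1, 3, 4]), (104, true, [1, 3, 4, 3, 4, 0, 4, 0, 4, 3, 4, 3, 4, 3, 1, 0]), (231, false, [0, 2, 4, 3, 1, 3, 1]), (87, true, [2, 4, 3, 4, 3, 4, 0, 1, 3, 1, 3, 1, 0, 4, 3, 1]), (180, true, [0, 2, 4, 0, 4, 3, 4, 3, 1, 0, 1, 0, 1, 0, 1]), (231, false, [3, 1, 0, 1, 3, 1, 0, 1, 3, 4, 0, 4, 0, 1, 3]), (131, true, [0, 1, 0, 1, 0, 1, 0, 4, 3, 1, 0]), (78, false, [4, 0, 4, 3, 4, 0, 4, 0, 1, 3, 1, 0]), (37, false, [1, 0, 4, 0, 4, 3, 1, 0, 1, 3, 1, 0, 1, 3]), (248, false, [1, 3, 1, 3, 1, 0, 4, 3, 4, 3, 1, 0]),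 (253, false, [0, 4, 3, 4, 0, 4, 3, 4, 0, 4, 0, 4, 3, 1, 0]), (30, true, [0, 4, 0, 1, 3, 4, 3, 1, 0]), (136, true, [3, 1, 0, 4, 3, 1, 0, 1, 3, 4, 3, 4, 0, 4, 3]), (136, false, [0, 1, 0, 4, 3, 4, 3, 4, 0, 4, 0, 4, 0, 4, 3, 1]), (236, true, [0, 1, 2, 0, 1, 3, 1, 3, 1, 0, 1, 0, 1, 0]), (268, false, [0, 4, 0, 1, 0, 1, 0, 1, 3, 4, 3, 4, 3, 1]), (23, false, [1, 0, 1, 0, 1, 2, 0, 4, 3, 1, 0, 1, 0]), (181, true, [2, 0, 4, 0, 4, 0, 4, 3, 4, 0, 4, 3, 4, 3, 1, 0]), (92, true, [2, 0, 1, 0, 4, 3, 4, 0, 1, 3, 1, 3, 4, 3, 4, 3, 1]), (92, true, [2, 0, 1, 3, 4, 0, 4, 0, 1]), (34, true, [1, 3, 4, 3, 1, 0, 1, 0, 1, 0, 4, 0, 4, 0]), (34, true, [0, 4, 3, 4, 3, 4, 0, 4, 3, 1, 3, 1, 0]), (254, true, [2, 0, 4, 3, 1, 0, 4, 0, 4, 3, 1, 3, 1]),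 (126, true, [0, 1, 0, 1, 0, 1, 3, 1, 3, 4, 0, 4, 0]), (180, false, [0, 2, 4, 0, 4, 0, 1, 3, 1, 0, 1, 0, 4, 3, 1]), (155, true, [0, 4, 3, 4, 3, 1, 0, 1, 3, 4, 0, 1]), (233, false, [1, 3, 1, 3, 1, 0, 1, 3, 4, 0, 1, 3]), (233, false, [0, 2, 4, 0, 4, 0, 4, 3, 4, 3, 1]), (9, true, [4, 0, 1, 3, 4, 3, 4, 3, 1, 0, 4]), (16, true, [2, 0, 4, 0, 4, 0, 4, 0, 1, 3, 4, 3])]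
def r28 : List (ℕ × Bool × List ℕ) := [(103, false, [0, 1, 3, 1, 0, 1, 0, 1, 3, 1]), (59, false, [0, 1, 3, 4, 0, 1, 3, 1, 3, 1, 3, 1, 0, 4, 3]), (151, false, [4, 0, 4, 0, 1, 3, 4, 3, 4, 0, 4, 3, 4]), (199, false, [0, 4, 3, 4, 3, 4, 3, 1, 3]), (92, false, [0, 2, 4, 0, 4, 3, 4, 3, 4, 3, 4, 0, 1]), (110, false, [2, 4, 3, 4, 3, 4, 3, 4, 0, 4, 0, 4, 0]), (215, true, [1, 0, 1, 0, 1, 3, 1, 0, 4, 0, 4, 0, 1]), (28, true, []), (261, false, [0, 1, 0, 2, 4, 0, 1, 0, 1, 0, 1, 3, 1, 0, 4, 0, 4]), (78, true, [1, 2, 0, 4, 3, 4, 3, 4, 3, 1]), (182, false, [0, 1, 3, 4, 0, 1, 3, 1, 3, 1, 0, 4, 3, 4, 3]), (92, false, [0, 1, 2, 0, 1, 3, 4, 0, 4, 0, 4, 0, 4, 3, 1]), (47, false, [1, 0, 1, 3, 4, 0, 1, 3, 1, 0, 1, 0, 4]), (123, true, [1, 2,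 0, 1, 0, 1, 0, 4, 3, 1, 3, 1, 0, 1, 3, 4, 0]), (225, false, [4, 0, 1, 0, 4, 3, 1, 3, 1, 0, 4, 3]), (182, false, [2, 4, 0, 1, 3, 4, 0, 4]), (234, false, [2, 0, 4, 3, 4, 3, 1, 0, 4, 0, 4, 3, 4, 0, 1, 0, 1]), (125, true, [1, 0, 1, 2, 0, 1, 3, 1, 0, 1, 0, 4, 0]), (110, false, [1, 2, 0, 1, 0, 4, 0, 4, 0, 4, 3, 4, 3, 4, 3]), (171, true, [1, 0, 4, 3, 1, 0, 1, 3, 1, 3, 1, 3, 4, 3]), (105, true, [0, 1, 0, 4, 0, 4, 0, 4, 3, 4, 3, 4]), (260, false, [4, 0, 1, 3, 4, 3, 4, 0, 1, 3, 4, 3]), (82, true, [4, 0, 4, 3, 1, 0, 1, 0, 4, 3, 4, 0, 1, 3, 4, 0]), (23, true, [1, 0, 1, 2, 0, 1, 0, 1, 0, 4, 0, 4, 0, 4, 3, 4, 3]), (168, false, [4, 3, 4, 0, 4, 3, 4, 3, 4, 0, 1, 3]), (254, false, [1, 2, 0, 1, 3, 1, 0, 1, 0, 1, 0, 4, 0, 4, 0, 1, 3]),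 (25, true, [2, 0, 1, 3, 1, 0, 4, 3, 1, 3, 1, 0, 4, 3, 1, 3]), (24, true, [0, 1, 0, 1, 0, 1, 0, 1, 0, 1, 0, 1, 0, 1]), (248, true, [0, 4, 3, 1, 3, 4, 0, 1, 3, 1, 3, 4, 0, 4]), (182, false, [1, 2, 0, 1, 0, 1, 3, 4, 3, 4, 3, 1, 0, 1, 3, 4, 0]), (226, true, [0, 1, 2, 0, 1, 3, 4, 3, 4, 3, 4, 0, 4, 3, 1]), (234, false, [1, 2, 0, 1, 0, 4, 3, 4, 3, 4, 0, 4, 3, 1, 3, 1, 3]), (178, true, [2, 0, 1, 3, 4, 0, 4, 3, 1, 0, 1, 0, 1, 3]), (47, false, [0, 1, 0, 2, 4, 0, 4, 0, 1, 3, 4, 0]), (111, false, [0, 1, 2, 0, 1, 0, 1, 3, 4, 0, 4, 3, 1, 0, 4]), (67, false, [1, 0, 1, 2, 0, 1, 3, 1, 0, 4, 0, 4, 3, 1, 0]), (260, false, [3, 1, 3, 1, 3, 1, 3, 1, 0, 4]), (126, false, [2, 0, 1, 0, 1, 3, 1, 3, 4, 0, 1, 0, 1, 3, 1]), (59, false, [4, 3, 1,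 0, 1, 3, 4, 0, 4, 3, 1, 3, 1, 3]), (22, true, [3, 1, 0, 1, 3, 4, 0, 4, 3]), (138, false, [1, 3, 1, 3, 4, 0, 1, 3, 1, 0, 1]), (172, true, [2, 4, 3, 1, 3, 1, 3, 4, 3, 4, 3, 4]), (64, true, [2, 4, 3, 4, 3, 1, 0, 1, 3, 1, 3, 1, 0, 4, 3, 4, 0]), (64, true, [1, 2, 0, 1, 3, 1, 3, 1, 0, 1, 3, 1, 0, 1]), (69, false, [1, 3, 4, 3, 4, 0, 4, 3, 4, 0, 1, 0, 1, 3]), (181, false, [0, 1, 0, 1, 0, 4, 0, 4, 0]), (110, true, [2, 0, 1, 0, 4, 0, 4, 3, 4, 3, 4, 0, 1]), (46, true, [1, 0, 1, 0, 2, 4, 0, 4, 3, 4, 0, 1, 3, 1]), (27, true, [0, 1, 0, 1, 2, 0, 1, 3, 1, 0, 4, 3, 4, 0, 4]), (59, true, [3, 1, 0, 1, 3, 4, 0, 4, 0, 1, 3]), (125, true, [1, 0, 1, 0, 2, 4, 0, 1, 0, 4]), (215, true, [0, 1, 2, 0, 4, 0, 1, 3, 4, 3, 4, 0, 1, 0, 1]), (209, true,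 [3, 4, 0, 4, 3, 4, 3, 4, 3, 4, 0, 1, 3, 1]), (24, true, [0, 1, 0, 1, 3, 4, 0, 1, 0, 1, 3, 4, 0, 1, 3]), (38, false, [0, 1, 0, 4, 3, 4, 0, 1, 0, 1, 0, 4, 3, 4, 0]), (73, false, [1, 3, 1, 3, 4, 3, 4, 0, 1, 3, 1, 3, 1, 0, 1, 3, 4]), (268, true, [1, 3, 1, 3, 4, 3, 4, 3, 1, 0, 1, 3, 1, 0]), (182, false, [3, 1, 0, 4, 3, 1, 0, 1, 0, 1, 3, 4, 0, 4, 0]), (8, false, [1, 3, 1, 0, 1, 3, 4, 0, 4, 3]), (172, true, [0, 1, 2, 0, 4, 0, 4, 3, 1, 0, 1, 0]), (28, true, []), (199, true, [3, 1, 0, 1, 3, 4, 3, 4, 0, 4, 3, 4]), (46, true, [2, 4, 0, 1, 3, 1, 3, 4, 0, 1, 0, 1]), (110, true, [1, 0, 2, 4, 0, 1, 0, 1, 0, 4, 0, 4, 3, 1]), (104, false, [2, 0, 4, 0, 1, 3, 4, 3, 1, 0, 1, 3, 1]), (28, true, []), (104, false, [3, 4, 3, 4, 3, 4, 3, 4,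 0, 1, 0, 1, 3, 1]), (28, true, [0, 1, 0, 1, 0, 2, 4, 0, 4, 3, 1, 3, 1, 3, 1, 0, 1, 0]), (126, false, [0, 1, 0, 2, 4, 0, 4, 0, 1, 3, 1, 3, 4, 0, 4, 0]), (105, true, [4, 0, 1, 0, 1, 3, 4, 0, 4, 3, 1, 0, 4]), (46, true, [0, 4, 3, 4, 0, 1, 0, 1, 3, 4, 0, 1, 0, 1]), (59, true, [0, 4, 0, 4, 3, 4, 3, 4, 3, 4, 0, 1, 0]), (268, true, [3, 1, 3, 4, 3, 4, 3, 4, 3, 1, 0, 4, 3, 4]), (199, true, [3, 1, 0, 4, 3, 4, 3, 4, 3, 4, 0, 4, 3]), (82, true, [2, 0, 1, 0, 1, 0, 1, 3, 4, 0]), (22, true, [0, 1, 0, 1, 2, 0, 1, 3, 1, 0, 4, 3, 4, 0, 4]), (28, true, [0, 1, 0, 1, 3, 4, 0, 1, 0, 1, 3, 4, 0, 1, 3]), (43, true, [2, 0, 4, 3, 1, 0, 1, 3, 4, 3, 4, 0, 4, 0]), (22, true, [0, 1, 0, 1, 2, 0, 4, 3, 1, 3, 1, 0, 4, 3, 1, 0]), (181, false, [1, 3,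 1, 0, 4, 0, 4, 3, 1, 0, 1, 0, 1]), (73, false, [3, 4, 0, 4, 3, 4, 3, 1, 0, 4, 3, 4, 0, 4, 3]), (78, true, [0, 4, 0, 4, 3, 4, 0, 4, 3, 1, 3, 4, 0]), (151, false, [4, 0, 4, 0, 4, 3, 4, 3, 4, 3, 4, 0, 4, 3]), (67, false, [1, 0, 2, 4, 0, 4, 0, 4, 3, 1, 3, 4, 0, 1, 0]), (255, true, [1, 0, 1, 3, 4, 3, 1, 0, 1, 3, 1, 0, 1, 0, 1, 3, 1]), (38, false, [2, 4, 0, 1, 0, 1, 0, 4, 3, 4, 3, 1]), (111, false, [2, 0, 4, 3, 1, 3, 1, 0, 4, 3, 4, 3, 4]), (255, true, [1, 3, 4, 3, 1, 0, 1, 3, 1, 3, 1, 3, 4]), (59, true, [3, 1, 0, 1, 3, 4, 0, 4, 0, 1, 3]), (46, true, [4, 3, 4, 3, 1, 0, 4, 0, 4, 3]), (103, false, [3, 1, 0, 1, 3, 1, 3, 1, 0, 1]), (199, false, [1, 3, 1, 0, 1, 0, 1, 0, 1, 3, 1, 3, 4, 3, 4]), (226, true, [2, 4, 3, 4, 0, 1, 3, 1,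 3, 4, 3, 4, 0]), (69, false, [4, 3, 4, 3, 4, 0, 1, 3, 1, 3, 1, 0, 4]), (209, false, [3, 4, 0, 4, 0, 4, 0, 4, 3, 1, 3, 1, 0, 1]), (178, true, [0, 1, 2, 0, 4, 3, 4, 0, 1, 3, 1, 3, 1, 0]), (123, true, [2, 0, 4, 3, 4, 0, 1, 3, 1, 3, 1, 0, 1, 3, 4]), (168, false, [0, 1, 3, 4, 0, 1, 0, 1, 3, 1, 0, 1]), (261, false, [0, 2, 4, 0, 1, 0, 1, 3, 4, 3, 4, 0, 1]), (171, true, [1, 0, 1, 3, 4, 3, 4, 3, 4, 3, 1, 0, 1, 3]), (13, true, [0, 4, 3, 4, 0, 4, 3, 1, 3, 4, 0]), (13, true, [0, 1, 0, 1, 0, 1, 3, 1, 0, 1, 0]), (37, true, [4, 3, 4, 3, 4, 0, 1, 3, 1]), (37, true, [1, 3, 1, 0, 1, 0, 4, 0, 4, 0, 1, 0]), (225, false, [0, 1, 3, 4, 3, 4, 0, 1, 3, 1, 3, 1, 0, 1, 3, 1, 0]), (254, false, [0, 1, 0, 1, 0, 1, 2, 0, 1, 0, 4, 0, 4, 0, 4, 3]),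 (22, true, [0, 1, 3, 1, 0, 4, 3, 4, 0]), (59, true, [0, 4, 0, 4, 3, 4, 3, 4, 3, 4, 0, 1, 0]), (56, true, [0, 1, 0, 4, 3, 1, 3, 4, 0, 4, 3, 4, 3, 4, 3]), (56, true, [1, 3, 4, 0, 4, 0, 4, 3, 1, 0, 1, 3, 4, 3, 4, 0]), (248, true, [2, 4, 0, 4, 3, 4, 3, 4, 0, 4, 3, 4, 3]), (28, true, [0, 1, 0, 1, 3, 4, 0, 1, 0, 1, 3, 4, 0, 1, 3])]
def r29 : List (ℕ × Bool × List ℕ) := [(272, false, [0, 2, 4, 0, 4, 0, 4, 0]), (125, true, [0, 4, 0, 4, 3, 1, 3, 4, 0, 4, 0, 1, 3, 4, 3]), (122, true, [1, 0, 2, 4, 3, 4, 3, 4, 3, 4, 0, 1, 3, 4, 0]), (86, false, [2, 4, 3, 1, 0, 1, 0, 1, 3, 1, 3, 1, 0, 4, 3, 4]), (165, true, [1, 2, 0, 1, 3, 1, 3, 1, 0, 1, 0, 4, 3, 4]), (273, true, [3, 1, 3, 4, 0, 4, 3, 1, 3, 1, 0, 4, 3, 4, 0]), (118, true, [0, 1,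 0, 1, 2, 0, 4, 3, 4, 0, 4, 3, 1, 3, 1]), (212, true, [1, 2, 0, 4, 0, 4, 3, 4, 0, 4, 0, 4, 3, 4, 3]), (234, false, [3, 1, 3, 1, 3, 1, 3, 4, 0, 4, 3, 1, 3, 1, 3, 4]), (64, true, [4, 3, 1, 0, 1, 0, 1, 0, 1, 3, 4, 0]), (130, true, [2, 0, 4, 0, 4, 3, 4, 3, 4, 3]), (126, false, [1, 3, 1, 0, 1, 0, 4, 0, 4, 3, 4, 3]), (126, false, [0, 1, 0, 4, 3, 4, 0, 1, 0, 1, 3, 1, 0, 1]), (122, true, [1, 0, 2, 4, 3, 4, 3, 4, 3, 4, 0, 1, 3, 4, 0]), (50, true, [0, 2, 4, 0, 1, 3, 4, 3, 1, 0, 1, 0, 4, 3, 4]), (90, true, [4, 0, 4, 3, 1, 3, 1, 0, 1, 3, 4, 3, 4, 3, 4]), (85, false, [0, 1, 0, 1, 0, 2, 4, 0, 1, 0, 1, 3, 4, 3, 1]), (29, false, [0, 1, 0, 4, 3, 1, 0, 4, 0]), (183, true, [1, 3, 4, 3, 4, 3, 4, 0, 4, 3, 1, 3, 1, 3]), (132, false, [2, 0,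 4, 0, 1, 3, 4, 3, 1, 0, 1]), (132, true, [3, 1, 3, 1, 3, 1, 0, 1, 3, 4, 3, 4, 3]), (88, true, [2, 4, 0, 1, 0, 1, 3, 1, 0, 1, 3, 1, 3, 1, 3, 4]), (187, false, [2, 4, 3, 4, 3, 4, 0, 4, 3, 1, 3, 4, 0, 1, 0]), (263, true, [0, 2, 4, 0, 1, 0, 4, 3, 4, 3, 4, 3, 1]), (200, false, [1, 0, 1, 2, 0, 1, 0, 1, 3, 4, 0, 1, 3, 1, 3]), (198, false, [0, 4, 0, 4, 3, 1, 0, 1, 0, 4, 3]), (219, false, [4, 0, 4, 3, 4, 0, 1, 3, 1, 3, 4, 0, 4, 0]), (29, false, [0, 4, 0, 4, 3, 1, 0, 1, 0, 4, 3, 1]), (72, false, [0, 1, 0, 1, 2, 0, 4, 3, 4, 3, 4, 0, 4, 3, 4]), (72, false, [0, 1, 0, 1, 0, 4, 0, 4, 0, 4, 3, 4, 0, 1]), (24, true, [0, 4, 0, 4, 3, 4, 0, 1, 0, 1, 0, 4, 3, 4, 0, 1]), (121, true, [1, 0, 1, 0, 2, 4, 0, 1, 0, 1, 3, 1, 0, 4]), (187, true,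 [1, 3, 1, 3, 4, 3, 4, 3, 1, 0, 1, 3, 1]), (67, false, [0, 2, 4, 3, 1, 0, 1, 3, 4, 0, 4, 0, 4, 3, 1]), (64, false, [2, 0, 1, 0, 4, 0, 4]), (64, true, [2, 0, 1, 3, 1, 3, 1, 0, 1, 3, 1, 0, 1]), (88, true, [3, 1, 3, 1, 0, 1, 0, 1, 3, 1]), (234, false, [0, 2, 4, 3, 4, 0, 4, 0, 4, 3, 1, 3]), (98, true, [4, 3, 4, 0, 4, 3, 1, 3, 1, 3, 4, 0, 4, 3, 1, 3]), (72, false, [1, 0, 4, 3, 4, 3, 1, 0, 4, 3, 4, 0, 1, 0, 1, 3]), (49, false, [0, 1, 3, 1, 0, 4, 3, 4, 0, 4, 0, 4, 3, 1, 3, 4]), (113, true, [2, 0, 4, 3, 1, 0, 1, 3, 1, 3, 1, 3, 1]), (81, true, [2, 4, 0, 4, 3, 4, 3, 1, 0, 1, 0, 4, 3]), (47, false, [1, 0, 2, 4, 0, 4, 0, 4, 0, 1, 3, 4, 3, 4, 0, 4]), (71, true, [1, 2, 0, 4, 3, 1, 3, 1, 0, 1, 0, 1, 3]), (263, false, [2, 0, 1, 3, 1,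 0, 4, 0, 4, 0, 4, 3, 1, 0]), (176, false, [0, 1, 0, 4, 3, 4, 0, 4, 0, 1, 3, 1, 0, 1, 3]), (16, false, [3, 4, 3, 4, 3, 4, 3, 1, 0]), (29, true, []), (180, false, [0, 4, 3, 4, 0, 4, 0, 1, 3, 4, 0, 4]), (72, false, [0, 1, 2, 0, 1, 3, 1, 3, 1, 3, 4, 0, 4, 3, 1, 3, 1, 3]), (180, false, [2, 0, 4, 0, 4, 3, 1, 3, 4, 0, 4, 0, 1]), (119, true, [2, 0, 4, 3, 4, 0, 4, 3, 4, 3, 1, 0]), (135, false, [3, 4, 0, 1, 3, 4, 3, 1, 0, 1, 3, 4, 0, 4, 0]), (221, false, [2, 0, 4, 0, 4, 3, 1, 3, 1, 0, 4, 3, 1, 3, 4]), (122, true, [3, 4, 0, 4, 0, 1, 3, 4, 0, 4, 0, 4, 0, 1, 3]), (67, true, [2, 4, 0, 1, 3, 1, 3, 4, 0, 4, 3, 1, 3, 1, 3, 1, 3]), (130, false, [4, 0, 4, 3, 4, 3, 1, 0, 1, 0, 4]), (53, false, [0, 1, 2, 0, 1, 0, 4, 3, 4, 0, 4, 3, 1, 0,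 1]), (215, false, [1, 3, 4, 0, 4, 0, 1, 3, 1, 0, 1, 3, 4]), (209, false, [0, 1, 2, 0, 4, 3, 4, 3, 1, 0, 1, 3, 1]), (266, false, [0, 4, 0, 4, 3, 4, 0, 4, 3, 1, 0, 4]), (35, false, [0, 1, 3, 4, 3, 4, 0, 1, 3, 1, 3, 4]), (1, true, [0, 1, 2, 0, 1, 3, 4, 3, 4, 0, 1, 0, 4]), (235, true, [0, 1, 3, 4, 3, 4, 3, 4, 0, 4, 3, 4, 0, 4]), (50, false, [1, 0, 1, 3, 4, 0, 4, 3, 4, 3, 4, 0, 1, 0, 4]), (235, true, [2, 4, 0, 4, 0, 1, 3, 1, 0, 1, 0, 4, 0]), (2, true, [0, 1, 0, 1, 0, 1, 3, 4, 0, 4, 0, 1, 0]), (193, true, [0, 2, 4, 3, 4, 3, 4, 3, 4, 3, 4, 3, 4]), (235, false, [4, 3, 4, 0, 4, 0, 1, 3, 4, 3, 4, 0, 1, 3]), (125, true, [0, 1, 0, 2, 4, 3, 4, 0, 4, 3, 4, 0, 4, 0, 1]), (212, true, [1, 3, 1, 3, 4, 3, 4, 3, 4, 0, 1, 0, 1, 3, 1]),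 (266, false, [0, 1, 3, 4, 0, 4, 3, 1, 3, 1, 3, 1, 0, 1, 0]), (67, true, [0, 4, 3, 1, 0, 1, 3, 1, 0, 1, 3, 4, 3]), (78, true, [0, 4, 0, 1, 0, 1, 0, 1, 3, 1, 3, 4]), (263, true, [1, 3, 1, 3, 4, 0, 4, 0, 4, 3, 4, 0, 1, 3, 1, 0]), (139, true, [0, 1, 0, 2, 4, 0, 4, 3, 4, 0, 1, 3, 1, 3, 1, 0]), (30, true, [1, 3, 1, 0, 1, 3, 4, 0, 4, 3, 4, 0, 4]), (219, false, [1, 0, 2, 4, 0, 1, 3, 1, 3, 4, 0, 4, 0]), (263, false, [4, 3, 1, 3, 4, 0, 1, 0, 1, 0, 1, 0]), (250, false, [4, 0, 1, 3, 4, 3, 4, 3, 4, 0, 1, 0]), (277, false, [1, 0, 1, 2, 0, 1, 3, 1, 3, 1, 0, 1, 0, 1, 3]), (250, false, [4, 3, 4, 0, 1, 3, 1, 3, 1, 3, 4]), (277, false, [1, 0, 1, 3, 4, 3, 1, 0, 1, 0, 1, 3]), (165, true, [1, 0, 1, 0, 4, 3, 4, 0, 1, 3, 1, 3, 1]), (272, true,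 [0, 1, 0, 4, 0, 4, 3, 4, 3, 4, 0, 4, 3]), (86, false, [1, 3, 4, 3, 1, 0, 1, 3, 4, 0, 4, 0, 1, 0]), (126, false, [0, 2, 4, 0, 4, 3, 1, 3, 1, 0, 1, 0, 4, 3]), (209, true, [3, 4, 3, 1, 0, 1, 0, 1, 3, 4, 0, 4]), (98, true, [2, 0, 1, 0, 1, 0, 4, 3, 1, 0, 1, 3, 4, 3, 1, 0, 1]), (221, false, [0, 4, 3, 4, 3, 1, 0, 4, 0, 4, 3, 1]), (64, false, [4, 3, 1, 0, 1, 0, 4, 0, 4]), (24, true, [0, 1, 2, 0, 4, 0, 1, 3, 1, 0, 1, 0, 1, 3, 1, 3]), (71, true, [1, 0, 1, 0, 1, 0, 1, 3]), (108, true, [4, 0, 1, 0, 1, 3, 1, 3, 4, 0, 4, 0, 4]), (257, false, [0, 4, 0, 1, 3, 1, 0, 4, 3, 1, 0, 1, 0, 1, 3]), (122, true, [3, 4, 0, 4, 0, 1, 3, 4, 0, 4, 0, 4, 0, 1, 3]), (200, false, [4, 0, 1, 0, 1, 3, 1, 3, 1, 3, 1, 0, 1, 0]), (193, false, [1, 3, 1, 0,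 1, 0, 1, 3, 1, 3, 4, 0]), (235, false, [1, 0, 1, 2, 0, 4, 0, 4, 3, 1, 3, 1, 0, 4, 0]), (273, true, [0, 2, 4, 0, 4, 3, 4, 0, 1, 0, 4]), (183, true, [2, 4, 3, 1, 3, 4, 0, 1, 0, 1, 0, 4, 3, 1, 3]), (67, false, [0, 1, 3, 1, 3, 1, 3, 1, 3, 1, 0, 1, 0, 4, 3, 4, 0]), (126, false, [1, 2, 0, 4, 3, 4, 0, 1, 0, 1, 0, 1, 3, 1, 3]), (216, false, [1, 2, 0, 4, 3, 1, 3, 1, 0, 4, 0, 4, 0]), (186, false, [4, 0, 1, 3, 4, 0, 4, 0, 1, 3, 4, 3, 4]), (29, false, [0, 1, 0, 1, 3, 1, 0, 1, 3, 1, 0, 1, 3, 1, 3]), (118, true, [4, 0, 1, 3, 1, 3, 4, 0, 4, 3, 4, 3]), (121, true, [2, 0, 1, 3, 4, 0, 4, 3, 1, 0, 1, 3]), (85, false, [4, 3, 1, 0, 1, 0, 4, 3, 4, 0, 4, 3, 4, 0, 4]), (90, true, [1, 2, 0, 4, 0, 1, 3, 4, 0, 4, 3, 1, 3, 4]), (173, true, [0,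 1, 0, 2, 4, 0, 1, 0, 1, 0, 4])]
def r30 : List (ℕ × Bool × List ℕ) := [(181, false, [1, 3, 1, 3, 1, 0, 4, 3, 4, 3, 4, 0, 1, 3, 1]), (197, false, [0, 4, 0, 1, 3, 1, 3, 1, 0, 1, 0, 4, 0, 4, 3]), (133, true, [1, 0, 1, 0, 4, 0, 4, 0, 4, 0, 1, 3, 4]), (90, false, [0, 1, 0, 1, 0, 2, 4, 0, 4, 0, 1, 3, 1, 3, 1, 0, 1, 0, 1]), (276, false, [2, 0, 4, 3, 4, 0, 1, 0, 1, 3, 1, 0, 4, 3, 1]), (262, false, [4, 0, 4, 3, 4, 3, 4, 3, 4, 3, 4, 0, 1]), (262, false, [1, 3, 4, 0, 1, 3, 1, 0, 1, 0, 4, 3, 4, 0, 4, 0]), (213, true, [0, 4, 0, 4, 3, 1, 3, 1, 0, 1, 3, 4, 3, 1, 0, 4, 0]), (108, true, [0, 1, 3, 1, 3, 1, 0, 4, 3, 1, 0, 1, 0, 1, 0]), (213, true, [1, 3, 1, 0, 1, 0, 1, 3, 1, 3, 4, 3, 4, 3, 4, 0, 4]), (221, true, [1, 3, 1, 3, 1, 3, 1,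 0, 1, 0, 1, 0, 4, 3, 4, 0]), (86, false, [2, 0, 1, 3, 4, 3, 4, 3, 4, 3, 1]), (57, false, [2, 0, 4, 0, 1, 3, 1, 3, 4, 3, 4, 0]), (241, true, [4, 0, 1, 0, 1, 0, 1, 3, 1, 3, 4, 3, 4, 0]), (9, true, [4, 0, 4, 0, 4, 3, 1, 3, 1, 0, 4, 0, 4, 3, 1]), (83, true, [0, 1, 3, 4, 3, 1, 0, 1, 3, 1, 0, 1, 0, 1, 3]), (86, false, [2, 4, 3, 1, 0, 1, 3, 4, 0, 4, 3, 1, 3, 4, 0]), (229, true, [1, 0, 2, 4, 0, 4, 3, 4, 0, 1, 0]), (189, false, [0, 1, 3, 1, 0, 1, 3, 1, 3, 4, 3, 4, 3, 4, 0]), (148, false, [2, 0, 4, 0, 1, 3, 1, 3, 4, 3, 4, 0]), (224, true, [0, 1, 2, 0, 1, 3, 4, 0, 4, 0, 4, 0, 4, 3, 1, 3]), (262, false, [0, 1, 0, 1, 0, 2, 4, 0, 1, 3, 4, 3]), (235, false, [0, 1, 3, 4, 3, 4, 3, 4, 0, 4, 3, 4, 0, 1, 0]), (185, true, [0, 4, 3, 1, 3,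 4, 0, 4, 3, 1, 3, 1, 0, 4, 3, 1]), (36, true, [0, 1, 3, 1, 0, 1, 3, 1, 0, 4, 0, 4, 3, 4]), (191, true, [1, 0, 1, 2, 0, 4, 3, 1, 3, 1, 3, 1, 0, 4, 3, 4]), (30, false, [0, 1, 2, 0, 1, 0, 4, 0, 4, 3]), (177, false, [0, 1, 3, 4, 3, 1, 0, 4, 3, 4, 3, 4, 0, 1]), (86, false, [3, 1, 3, 1, 0, 1, 0, 1, 3, 4, 3, 4, 0, 1, 0]), (6, false, [2, 0, 1, 0, 4, 3, 4, 3, 4, 3, 1, 0, 4, 0, 4, 3, 4]), (258, false, [4, 3, 1, 3, 4, 0, 1, 0, 1, 3]), (268, false, [0, 4, 3, 4, 0, 1, 0, 1, 3, 1, 0, 4, 3]), (268, false, [2, 0, 4, 0, 4, 0, 1, 3, 1, 3, 1, 3, 4, 3, 4, 0]), (25, true, [2, 0, 1, 3, 1, 3, 4, 0, 4, 3, 1, 3, 1, 3, 4, 0]), (197, false, [4, 0, 1, 3, 1, 0, 1, 0, 1, 3, 1, 0, 1, 0]), (268, true, [1, 0, 4, 3, 4, 3, 4, 0, 4, 0, 4, 3, 1, 0, 1,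 3, 1]), (270, false, [2, 4, 0, 1, 0, 1, 3, 1, 0, 4, 0, 4, 0, 1, 0]), (0, false, [1, 2, 0, 1, 3, 1, 3, 1, 3, 4, 3, 4, 0, 4]), (262, false, [0, 4, 0, 4, 3, 4, 0, 4, 3, 4, 0, 4]), (262, false, [2, 4, 0, 4, 3, 4, 3, 4, 3, 4, 3, 4, 0, 1]), (50, false, [3, 1, 3, 1, 3, 4, 0, 4, 3, 1, 3, 1, 3, 1, 0, 1]), (181, true, [2, 0, 4, 0, 1, 3, 4, 3, 1, 0, 1, 0, 1, 0]), (140, true, [2, 4, 0, 4, 0, 1, 3, 1, 0, 1, 0]), (235, false, [2, 4, 0, 4, 0, 1, 3, 1, 0, 1, 0, 4, 0, 4, 0]), (113, true, [2, 0, 4, 0, 4, 3, 1, 3, 1, 3, 1, 0, 4, 0, 4]), (270, false, [3, 4, 3, 4, 3, 1, 0, 4, 3, 4, 0, 1, 0, 1, 0]), (253, false, [0, 4, 3, 4, 3, 4, 3, 1, 0, 1, 3, 4, 0, 4, 0, 1]), (9, false, [0, 1, 0, 1, 3, 1, 3, 1, 0, 1, 0, 1, 3, 4, 3, 1, 0, 1]), (36, false,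 [0, 4, 0, 4, 3, 1, 0, 1, 3, 1, 0, 1, 0]), (25, true, [1, 3, 1, 0, 1, 3, 1, 0, 4, 0, 4]), (88, false, [0, 1, 0, 1, 0, 4, 0, 4, 0, 4, 3, 1, 3, 1, 0, 1]), (109, false, [4, 0, 1, 3, 1, 3, 1, 0, 1, 3]), (114, true, [2, 0, 1, 3, 1, 3, 1, 3, 4, 3, 4, 3, 4, 3]), (70, true, [1, 2, 0, 1, 3, 1, 0, 1, 0, 1, 3, 4, 0, 4, 0, 1]), (21, true, [0, 1, 0, 1, 0, 4, 0, 4, 3, 1, 0, 1, 3, 1, 0, 4]), (63, false, [1, 0, 1, 0, 4, 0, 4, 3, 4, 0, 4, 3, 4, 0]), (86, false, [3, 1, 0, 1, 3, 4, 3, 1]), (19, false, [1, 0, 1, 3, 4, 3, 4, 3, 1, 0, 4, 0, 1]), (29, true, [1, 3, 1, 0, 1, 3, 1, 0, 4, 3, 4, 0, 4]), (253, false, [1, 2, 0, 4, 0, 4, 3, 4, 0, 4, 3, 4, 0, 4, 0]), (21, true, [1, 0, 1, 0, 1, 0, 2, 4, 0, 1, 3, 4]), (27, true, [0, 2, 4, 0, 1, 3, 1,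 0, 4, 0, 4, 0, 1, 3]), (3, false, [3, 1, 3, 1, 0, 1, 0, 1, 3, 4, 3, 4, 0, 1, 0, 1]), (181, true, [0, 1, 3, 1, 0, 1, 3, 1, 0, 4, 0, 4, 3, 4, 0, 1]), (19, false, [1, 2, 0, 4, 3, 4, 3, 4, 0, 1, 3, 4, 3]), (16, false, [2, 0, 1, 0, 1, 3, 1, 3, 4, 0, 4]), (221, true, [1, 0, 1, 0, 1, 0, 1, 0, 2, 4, 0, 1]), (16, true, [4, 3, 4, 3, 4, 0, 4, 3, 1, 3, 4, 0, 1, 0]), (120, true, [4, 3, 4, 3, 4, 3, 1, 0, 1, 3]), (224, true, [1, 3, 1, 3, 4, 0, 4, 0, 1]), (181, true, [2, 0, 4, 0, 1, 3, 1, 0, 4, 0, 4, 3, 4, 3, 1]), (181, false, [2, 0, 4, 0, 1, 0, 1, 3, 1, 3, 1, 0, 1, 0, 1, 0]), (276, false, [4, 0, 1, 3, 1, 0, 4, 0, 4, 3, 4, 3]), (6, false, [0, 1, 0, 1, 0, 2, 4, 3, 4, 0, 1, 0, 1, 3, 4]), (140, true, [0, 1, 0, 1, 3, 1, 0, 1, 3, 4, 0,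 4, 0, 1, 3]), (134, false, [0, 1, 0, 4, 3, 1, 3, 4, 0, 4, 3, 1, 0, 1, 3]), (70, true, [3, 1, 0, 4, 0, 4, 3, 4, 3, 4, 0, 1, 0, 1]), (20, false, [1, 3, 4, 3, 4, 0, 1, 3, 1, 3, 4, 0]), (281, false, [2, 0, 4, 3, 1, 0, 1, 0, 4, 3, 1, 3, 4, 0]), (262, false, [3, 1, 0, 1, 0, 4, 0, 4, 3, 1]), (30, false, [0, 4, 3, 4, 0, 4, 3, 1, 3, 1, 0, 1, 3, 1]), (213, true, [0, 1, 0, 1, 0, 2, 4, 3, 4, 0, 4, 0, 4, 0, 4, 3, 1]), (63, true, [2, 4, 0, 1, 3, 4, 0, 4, 3, 4, 3, 4, 3, 4]), (268, true, [0, 1, 2, 0, 1, 0, 4, 3, 4, 0, 1, 0, 1, 0]), (27, true, [0, 4, 3, 1, 3, 4, 0, 1, 3]), (213, true, [2, 4, 0, 4, 3, 1, 3, 1, 3, 1, 0, 4, 3, 4, 0, 1, 3]), (262, false, [0, 2, 4, 3, 1, 3, 1, 3, 1, 0, 4, 3, 4, 0, 1, 0]), (6, false, [0, 4, 0, 1, 3, 1, 0,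 1, 3, 4, 3, 1]), (221, true, [1, 0, 1, 0, 1, 0, 1, 0, 1, 3, 1, 3, 4]), (90, false, [1, 3, 4, 3, 1, 0, 1, 3, 1, 3, 1, 0]), (221, true, [1, 2, 0, 4, 3, 4, 0, 1, 3, 1, 3, 4, 3, 4, 0]), (181, true, [3, 1, 0, 1, 0, 1, 3, 1, 0, 4, 3, 4, 0]), (258, false, [2, 0, 1, 3, 1, 0, 4, 0, 4, 0, 4]), (228, false, [0, 4, 3, 1, 0, 1, 3, 1, 3]), (204, true, [2, 4, 0, 4, 3, 1, 0, 4, 0, 4, 3, 1, 3]), (268, false, [1, 0, 4, 3, 1, 0, 1, 0, 1, 3, 1, 0, 1]), (241, true, [0, 1, 0, 1, 0, 4, 3]), (281, true, [0, 4, 3, 1, 0, 1, 0, 4, 3, 1, 3, 4, 0]), (174, true, [1, 3, 1, 3, 4, 0, 4, 3]), (148, false, [4, 0, 4, 3, 1, 0, 1, 3, 4, 3, 1, 0]), (88, false, [2, 4, 3, 4, 3, 1, 0, 1, 3, 4, 3, 4, 3, 1, 3]), (229, true, [1, 3, 1, 0, 4, 3, 4, 3, 4, 0, 4]),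 (109, false, [2, 4, 3, 4, 3, 1, 0, 1, 3]), (262, false, [1, 0, 2, 4, 3, 4, 0, 4, 0, 1, 3, 4]), (133, false, [0, 1, 0, 1, 2, 0, 4, 3, 1, 3, 1, 0, 4]), (191, true, [3, 1, 0, 4, 3, 4, 3, 4, 0, 4, 3, 1, 3, 4]), (189, false, [0, 1, 0, 2, 4, 0, 1, 0, 1, 3, 4, 0]), (57, false, [0, 1, 3, 1, 0, 1, 0, 1, 0, 1, 3, 1, 3, 4]), (83, true, [0, 4, 3, 4, 0, 1, 0, 1, 0]), (6, false, [0, 4, 3, 4, 3, 4, 0, 4, 3, 1, 3, 4, 0, 4, 0, 1]), (268, false, [1, 0, 1, 2, 0, 1, 0, 1, 0, 4, 0, 4, 0, 4, 3]), (177, false, [0, 4, 0, 4, 3, 1, 0, 1, 0, 4, 3, 4])]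
def r31 : List (ℕ × Bool × List ℕ) := [(255, true, [1, 0, 1, 0, 1, 0, 4, 3, 1, 0]), (168, false, [0, 4, 3, 4, 0, 4, 3, 1, 3, 4, 0, 4, 0, 4]), (79, true, [3, 4, 3, 4, 0, 4, 0, 1, 3, 1, 0, 4, 3]), (125, true, [2, 4, 3, 4, 3, 4, 0, 1, 0, 1, 0, 4, 0]), (52, false, [0, 1, 0, 2, 4, 0, 4, 0, 1, 3, 1, 0]), (217, false, [1, 2, 0, 4, 0, 4, 0, 4, 3, 4, 3]), (111, false, [0, 2, 4, 3, 1, 0, 4, 0, 4, 0, 4, 3, 1, 3, 4, 0, 1]), (267, false, [1, 3, 4, 0, 4, 3, 1, 3, 1, 3, 4, 0, 4, 3, 4]), (271, true, [0, 1, 3, 4, 3, 4, 0, 1, 0, 1, 3, 4, 0, 4]), (129, true, [0, 1, 0, 4, 3, 4, 3, 4, 0, 4, 3, 4, 0, 4]), (128, false, [0, 2, 4, 3, 1, 0, 1, 3, 1, 3, 1, 0, 4, 3, 4, 0, 4]), (52, false, [0, 1, 0, 4, 3, 1, 3, 1, 0, 1, 3, 1, 0, 1]), (78, true,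 [1, 3, 1, 3, 1, 0, 1, 0, 4]), (186, false, [1, 3, 1, 0, 1, 0, 1, 0, 1, 3, 1, 3, 4, 0, 4]), (204, true, [1, 2, 0, 1, 0, 4, 3, 1, 3, 4, 0, 4, 0, 4, 0, 4]), (145, true, [3, 4, 3, 4, 0, 4, 0, 1, 3, 1, 3]), (196, true, [2, 4, 0, 1, 3, 1, 0, 1, 0, 4]), (172, true, [0, 4, 0, 1, 0, 1, 0, 4, 3, 4, 0, 1, 0, 1]), (217, false, [0, 1, 3, 4, 3, 1, 0, 4, 3, 4, 0, 4, 3]), (259, true, [1, 0, 1, 3, 4, 0, 4, 3, 4, 3, 4, 3, 1, 3]), (198, false, [3, 4, 3, 1, 0, 4, 0, 4, 0, 4, 3]), (50, false, [3, 4, 3, 4, 3, 1, 0, 1, 3, 1, 3, 4, 3, 4]), (128, false, [0, 1, 0, 1, 3, 1, 0, 1, 3, 4, 3, 4, 0, 4, 3, 1, 0]), (39, true, [4, 3, 1, 3, 1, 3, 4, 3, 4, 3]), (204, true, [3, 4, 0, 4, 0, 4, 0, 4, 3, 4, 3, 4]), (186, false, [2, 0, 4, 3, 1, 3, 1, 3, 1,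 0, 1, 0, 1]), (31, true, [4, 0, 1, 0, 1, 0, 4, 0, 4, 0, 1]), (9, false, [4, 0, 1, 3, 1, 0, 4, 3, 1, 0, 1, 0, 1]), (240, true, [1, 0, 1, 3, 4, 3, 4, 0, 1]), (145, true, [3, 1, 0, 1, 3, 4, 3, 4, 0, 1]), (236, true, [1, 0, 1, 0, 1, 2, 0, 4, 3, 4, 3, 1, 0, 1]), (196, true, [2, 4, 3, 1, 0, 1, 3, 1, 3, 4]), (236, true, [1, 0, 1, 3, 1, 0, 4, 3, 1, 3, 4, 0, 4, 3, 1, 0]), (78, true, [4, 0, 1, 3, 1, 3, 4]), (217, false, [0, 1, 2, 0, 1, 0, 4, 3, 4]), (239, false, [2, 4, 0, 4, 0, 1, 3, 1, 3, 1, 3, 1, 3]), (50, false, [4, 3, 1, 3, 4, 0, 4, 3, 4, 3, 4, 0, 4, 0]), (52, false, [2, 0, 4, 3, 4, 0, 1, 3, 4, 3, 1]), (168, false, [0, 1, 0, 4, 3, 4, 3, 1, 0, 4, 3]), (168, false, [1, 2, 0, 4, 3, 4, 3, 1, 0, 4, 3, 1]), (17, false, [4, 0, 1,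 3, 1, 3, 1, 0, 1, 3, 4, 0, 4]), (50, false, [0, 1, 3, 1, 0, 4, 0, 4, 3, 1, 0, 1, 3, 4, 0]), (188, false, [0, 2, 4, 0, 1, 3, 1, 0, 1, 0, 4, 3, 1, 3, 1]), (188, false, [2, 0, 4, 0, 1, 3, 1, 0, 4, 0, 4, 0, 1, 3, 1, 3]), (188, false, [3, 4, 0, 1, 0, 1, 3, 4, 0, 1]), (230, true, [4, 3, 1, 0, 1, 0, 1, 3, 1, 3, 4, 0, 4, 0, 4]), (230, true, [2, 4, 0, 1, 0, 4, 3, 4, 0, 1, 0, 1, 3]), (19, false, [0, 1, 0, 1, 2, 0, 4, 0, 1, 3, 4, 0, 4, 0, 4, 3]), (19, false, [1, 3, 1, 3, 1, 3, 4, 3, 4, 3]), (267, false, [1, 3, 4, 0, 4, 3, 1, 3, 1, 0, 1, 0, 1, 0]), (172, true, [0, 1, 3, 4, 0, 4, 0, 1, 3, 4, 3, 4, 3, 1]), (111, false, [2, 4, 3, 4, 0, 4, 0, 4, 3, 4, 3, 1, 0, 1]), (188, false, [2, 4, 3, 1, 3, 4, 0, 1, 0, 1, 3, 4, 0, 1]), (133, true,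 [2, 4, 0, 4, 0, 1, 3, 4, 3, 4, 0, 1]), (78, true, [4, 3, 4, 3, 4, 0, 4, 0, 1, 3, 1, 0, 4, 0]), (51, true, [0, 1, 0, 2, 4, 0, 1, 0, 1, 0, 4, 0, 4, 3]), (198, false, [1, 0, 2, 4, 0, 1, 0, 1, 3, 1, 3, 4, 0, 1]), (128, false, [1, 2, 0, 1, 3, 1, 3, 1, 3, 1, 0, 4, 3, 4]), (16, false, [0, 1, 0, 1, 0, 1, 0, 1, 0, 1, 0, 1, 0, 1]), (50, false, [0, 1, 0, 1, 0, 2, 4, 0, 4, 0, 4, 0, 1, 0]), (267, false, [0, 1, 2, 0, 1, 0, 1, 3, 4, 0, 4, 0, 4]), (259, true, [0, 4, 0, 4, 3, 1, 0, 1]), (21, true, [1, 0, 1, 2, 0, 1, 0, 1, 0, 4, 0, 4, 0, 4, 3, 4, 3]), (230, true, [0, 1, 2, 0, 4, 3, 1, 0, 1, 0, 4, 3, 4]), (188, false, [0, 1, 0, 1, 3, 4, 0, 4, 0, 1, 3, 1, 0]), (133, true, [2, 4, 0, 4, 0, 1, 3, 4, 3, 4, 0, 1]), (188, false, [0, 1, 3, 1,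 3, 1, 3, 1, 3, 1, 0, 4, 0, 4, 3, 4, 0, 1]), (36, true, [1, 3, 1, 3, 4, 0, 1, 0, 1, 0, 1, 3, 4, 0]), (52, false, [4, 3, 4, 0, 4, 3, 4, 0, 4, 3, 4, 3, 1]), (198, false, [0, 1, 2, 0, 4, 0, 4, 0, 4, 3, 4, 0, 1, 0, 4]), (172, true, [2, 4, 0, 1, 3, 4, 3, 4, 3, 1]), (111, false, [0, 1, 0, 4, 3, 4, 0, 1, 0, 1, 3, 4, 0]), (198, false, [4, 0, 1, 3, 4, 3, 4, 0, 4, 0, 1, 3, 4]), (259, true, [3, 1, 0, 4, 0, 4, 3, 4, 3, 4, 0, 1, 0, 4]), (128, false, [4, 0, 1, 3, 1, 0, 1, 0, 1, 3, 1, 3, 1]), (159, false, []), (36, true, [1, 3, 1, 3, 4, 0, 1, 0, 1, 0, 1, 3, 4, 0]), (21, true, [0, 1, 0, 1, 3, 1, 3, 1, 3, 4, 3, 4, 3, 4, 0, 4]), (31, true, []), (230, true, [1, 0, 4, 0, 1, 3, 4, 0, 4, 0, 4, 3]), (51, true, [3, 4, 0, 1, 3, 1, 3, 4, 3, 4,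 0, 1, 3]), (129, true, [1, 0, 4, 3, 1, 3, 4, 0, 4, 0]), (79, true, [3, 4, 0, 4, 0, 4, 0, 1, 3, 1, 0, 4, 3, 4]), (239, false, [0, 4, 3, 4, 0, 1, 0, 1, 3]), (238, true, [4, 3, 4, 3, 1, 0, 1, 3, 1]), (78, true, [1, 0, 1, 0, 4, 0, 4, 0, 1, 3, 4, 3]), (217, false, [1, 0, 1, 0, 1, 0, 1, 0, 1, 0, 2, 4, 3, 4, 3]), (238, true, [0, 1, 0, 1, 3, 4, 0, 1, 0, 1, 3, 4, 3]), (111, false, [3, 4, 0, 4, 0, 4, 3, 1, 3, 4, 0, 1]), (172, true, [2, 4, 3, 4, 3, 1, 0, 1, 0, 4, 0, 4, 0, 1]), (255, true, [0, 1, 3, 4, 0, 4, 3, 4, 3, 4, 0, 1, 3, 4, 3, 1]), (125, true, [2, 4, 3, 1, 0, 1, 0, 4, 0, 4, 3, 4, 3]), (236, true, [0, 2, 4, 3, 1, 0, 4, 0, 4, 3, 4, 0, 1, 3]), (188, false, [0, 1, 0, 1, 0, 1, 3, 4, 3, 4, 0, 1, 3, 1, 0, 1]), (188, false, [2,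 0, 1, 0, 4, 3, 1, 0, 1, 3, 4, 3, 1, 0, 1, 3, 4]), (236, true, [4, 3, 1, 0, 4, 0, 4, 3, 4, 0, 1, 3, 4]), (186, false, [0, 1, 0, 4, 3, 4, 0, 1, 0, 1, 3, 1, 0, 4]), (204, true, [4, 0, 1, 3, 4, 0, 4, 3, 4, 0, 1, 0]), (271, true, [0, 1, 0, 4, 3, 4, 3, 4, 0, 1, 3, 4]), (259, true, [3, 1, 3, 1, 3, 4, 3, 4, 0, 1, 0, 1, 0]), (125, true, [0, 1, 0, 4, 3, 4, 3, 4, 0, 4, 3, 1, 0, 1, 0]), (125, true, [0, 1, 3, 1, 3, 4, 3, 4, 3, 4, 0, 4, 3, 1, 0, 1]), (255, true, [1, 0, 1, 2, 0, 4, 0, 4, 3, 4, 0, 1, 3, 4, 0]), (255, true, [1, 2, 0, 4, 0, 4, 3, 4, 0, 4, 3, 4, 3, 4, 3, 1, 0]), (204, true, [1, 0, 1, 0, 4, 3, 4, 3, 1, 0, 1, 3, 4]), (186, false, [1, 3, 4, 3, 4, 0, 1, 3, 4, 3, 4, 3, 1]), (168, false, [1, 0, 1, 0, 4, 3, 1, 0, 1, 0, 4, 3,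 1]), (267, false, [4, 3, 1, 3, 1, 3, 4, 0, 1, 3, 4]), (243, false, [0, 1, 0, 4, 3, 1, 0, 1, 3]), (243, false, [0, 1, 0, 1, 2, 0, 1, 3, 1, 0, 1, 3, 1]), (240, true, [3, 1, 0, 1, 3, 4, 0, 4, 0, 4, 0]), (17, false, [0, 1, 3, 4, 0, 4, 3, 4, 0, 1, 3, 1])]
def r32 : List (ℕ × Bool × List ℕ) := [(37, false, [3, 1, 0, 1, 0, 1, 0, 1, 0, 4, 0, 4, 0]), (161, true, [0, 4, 0, 1, 3, 4, 3, 1, 0, 1, 3, 4]), (37, false, [0, 1, 0, 4, 3, 4, 0, 4, 0, 4, 0, 1, 3, 4, 3, 1]), (37, false, [1, 0, 1, 3, 4, 0, 4, 0, 1, 3, 1, 3, 4]), (37, false, [0, 4, 3, 1, 0, 1, 3, 4, 3, 4, 3, 1]), (161, true, [0, 1, 3, 1, 0, 4, 3, 1, 3, 1, 3, 1]), (37, false, [0, 1, 3, 4, 0, 4, 3, 1, 0, 1, 0, 1, 0]), (37, false, [0, 1, 3, 1, 3, 1, 3, 1, 3, 4, 3, 4, 0]), (37,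 false, [1, 0, 1, 0, 4, 0, 4, 3, 4, 0, 4, 3, 4, 3]), (37, false, [3, 4, 0, 1, 3, 1, 0, 4, 3, 4, 0, 4]), (37, false, [4, 0, 4, 3, 1, 0, 1, 3, 1, 0, 4, 0]), (161, true, [0, 4, 0, 1, 3, 1, 3, 4, 0, 1, 3, 1]), (37, false, [4, 3, 1, 3, 4, 0, 4, 0, 1, 3, 4, 0]), (161, true, [0, 1, 0, 4, 3, 1, 3, 4, 0, 1]), (161, true, [4, 3, 1, 0, 1, 0, 4, 3, 1]), (37, false, [4, 0, 1, 0, 4, 3, 4, 3, 1, 0, 4, 0]), (161, true, [3, 1, 0, 1]), (37, false, [0, 1, 0, 4, 3, 4, 3, 4, 3, 1, 0, 4, 0]), (37, false, [3, 1, 3, 4, 0, 4, 0, 4, 0, 1, 3, 4, 0]), (37, false, [1, 0, 4, 3, 4, 0, 1, 0, 1, 3, 1]), (37, false, [4, 0, 4, 0, 4, 3, 4, 0, 1, 0, 1, 3, 1]), (37, false, [1, 3, 4, 0, 4, 3, 1, 3, 1, 0, 1, 3]), (161, true, [0, 1, 0, 1, 0, 4, 0, 4]), (161,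 true, [3, 1, 0, 1, 0, 4, 3, 1, 3, 1, 0, 4]), (161, true, [1, 0, 4, 3, 4, 0, 1, 3, 1, 0, 1, 0]), (37, false, [4, 3, 1, 3, 1, 0, 4, 3, 4, 3, 4, 0, 1, 3, 4]), (161, true, [1, 3, 4, 0, 4, 3, 1, 0, 1, 3, 1, 0]), (37, false, [0, 4, 3, 4, 3, 1, 0, 4, 3, 4, 3, 1, 0, 4, 0, 4]), (37, false, [1, 3, 1, 3, 1, 3, 4, 0, 4, 3, 4, 3]), (37, false, [4, 3, 4, 0, 1, 0, 1, 0, 4, 3, 4, 0, 4]), (161, true, [1, 0, 1, 0, 4, 3, 1, 0, 4, 0, 4, 0]), (37, false, [3, 1, 0, 4, 3, 4, 0, 1, 3, 1, 3, 1, 0]), (161, true, [4, 0, 4, 3, 1, 0, 1, 3, 1, 0, 4]), (161, true, [0, 1, 3, 1, 3]), (37, false, [3, 4, 3, 1, 0, 1, 3, 4, 0, 4, 3]), (37, false, [3, 1, 3, 1, 0, 1, 3, 1, 0, 4, 3, 4]), (37, false, [0, 1, 0, 1, 3, 1, 0, 4, 3, 4, 0, 1, 0, 4]), (37, false,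 [1, 3, 1, 3, 4, 3, 4, 0, 4, 3, 4, 0, 4]), (37, false, [0, 1, 0, 1, 3, 1, 0, 1, 0, 4, 3, 4]), (37, false, [3, 4, 0, 1, 3, 4, 3, 1, 0, 1, 0, 1, 0, 4]), (37, false, [3, 4, 3, 4, 0, 1, 3, 1, 3, 4]), (161, true, [1, 0, 1, 0, 1, 0, 4, 0, 4, 0, 1]), (32, true, []), (161, true, [3, 1, 3, 1, 3, 4, 3, 4, 3]), (161, true, [0, 1, 3, 1, 3, 4, 0, 1, 0, 1, 3, 4, 3]), (37, false, [4, 0, 1, 3, 4, 0, 4, 0, 1, 3, 4, 0]), (161, true, [4, 0]), (32, true, []), (37, false, [0, 4, 0, 4, 0, 4, 0, 1, 3, 4, 3, 1]), (37, false, [1, 0, 1, 0, 1, 0, 4, 3, 4, 0, 4]), (37, false, [0, 4, 0, 4, 0, 1, 3, 4, 0, 4, 0, 4, 3, 1]), (37, false, [4, 0, 4, 3, 1, 3, 1, 3, 4, 0, 4, 3, 4, 3]), (37, false, [0, 1, 3, 4, 3, 4, 0, 1, 3, 1, 3, 1, 0]), (161, true, [4,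 3, 4, 0, 1, 3, 1, 0, 1, 3, 4, 3]), (37, false, [1, 0, 1, 0, 1, 3, 4, 0, 4, 3, 1, 3, 1, 0, 4]), (37, false, [0, 1, 0, 1, 0, 1, 3, 1, 3, 1, 3, 4, 0, 4, 0]), (37, false, [0, 4, 0, 1, 3, 1, 0, 4, 3, 4]), (37, false, [0, 1, 0, 1, 3, 1, 0, 1, 3, 4, 0, 4, 3]), (37, false, [0, 4, 0, 1, 0, 1, 0, 1, 3, 1, 3, 4]), (32, true, []), (161, true, [1, 0, 4, 0, 4, 0, 4, 0, 4, 3, 1, 0]), (37, false, [4, 0, 4, 0, 1, 3, 1, 0, 1, 3, 4, 0]), (37, false, [0, 4, 0, 4, 3, 1, 0, 1, 0, 4, 3]), (161, true, [0, 4, 0, 4, 3, 1, 0, 1, 0, 4, 0]), (37, false, [0, 1, 3, 4, 0, 4, 0, 4, 3, 1, 0, 4, 3]), (37, false, [0, 1, 3, 4, 3, 4, 3, 4, 0, 1, 3, 4]), (37, false, [1, 0, 4, 3, 1, 3, 1, 0, 4, 0, 4, 3, 1, 3]), (37, false, [3, 4, 0, 1, 3, 1, 3, 1, 3, 4, 0,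 4, 0]), (37, false, [0, 1, 0, 1, 3, 4, 0, 1, 3, 1, 3, 4]), (37, false, [4, 3, 1, 0, 4, 3, 4, 3, 1, 0, 4, 0]), (161, true, [3, 4, 0, 4, 0, 4, 0, 4, 0, 4]), (37, false, [1, 3, 1, 0, 1, 3, 1, 0, 4, 0]), (37, false, [1, 3, 4, 3, 4, 3, 1, 0, 1, 3, 4, 0]), (37, false, [0, 4, 0, 1, 3, 1, 3, 4, 0, 4, 3]), (161, true, [1, 0, 4, 0, 4, 0, 4, 0, 1, 3, 4]), (161, true, [1, 0, 1, 3, 4, 0, 4, 3, 4, 3, 1, 0]), (37, false, [4, 0, 4, 3, 4, 0, 4, 3, 1, 3, 1, 0, 1, 3]), (32, true, []), (161, true, [3, 1, 0, 4, 3, 4, 0, 4, 0, 1, 3]), (37, false, [4, 3, 4, 3, 4, 0, 4, 3, 1, 3, 4, 0, 4, 0, 4]), (37, false, [4, 0, 1, 3, 4, 3, 1, 0, 1, 0, 4, 3, 4]), (37, false, [1, 3, 4, 0, 1, 0, 1, 3, 4, 3, 4, 0, 1]), (37, false, [4, 0, 1, 3, 4, 3, 1, 0, 1,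 3, 4, 0, 4, 3]), (37, false, [3, 1, 0, 4, 3, 4, 3, 4, 0, 1, 3, 4]), (37, false, [1, 0, 4, 3, 1, 0, 1, 3, 4, 3, 4, 0, 1]), (37, false, [1, 0, 1, 3, 1, 0, 1, 3, 4, 0]), (37, false, [0, 1, 3, 4, 0, 4, 0, 4, 3, 4, 3, 4, 3, 4]), (161, true, [0, 4, 3, 4, 3, 4, 3, 4, 3, 4, 3]), (161, true, [0, 1, 3, 1, 0, 1, 0, 4, 0, 4, 0, 4, 0]), (37, false, [1, 0, 4, 0, 4, 0, 1, 3, 1, 0, 4, 0]), (37, false, [3, 4, 0, 1, 3, 4, 0, 4, 3, 4, 3, 4, 3, 1]), (37, false, [3, 4, 3, 1, 0, 1, 0, 4, 3, 4]), (161, true, [1, 0, 1, 3, 4, 3, 4, 0, 4, 0, 1]), (161, true, [1, 3, 1, 0, 4, 3, 4, 0, 4, 0, 1, 0]), (161, true, [4, 3, 4, 3, 1, 0, 4, 0, 4]), (37, false, [4, 3, 4, 0, 4, 3, 4, 0, 1, 0, 1, 3, 1]), (161, true, [0, 4, 0, 1, 3, 1, 3, 4, 0, 4, 3, 1, 0,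 1]), (161, true, [0, 1, 3, 4, 0, 4, 3, 4, 3, 1]), (37, false, [1, 0, 1, 0, 1, 0, 4, 0, 4, 3, 4, 0, 1, 0, 1]), (37, false, [1, 3, 4, 0, 4, 3, 4, 3, 4, 0, 4, 3, 1, 3, 4]), (161, true, [4, 0, 1, 0, 1, 3, 1, 0]), (37, false, [3, 4, 0, 4, 0, 1, 3, 4, 0]), (161, true, [0, 1, 0, 1, 0, 4, 0, 4, 3, 4, 0, 4, 0]), (37, false, [1, 3, 4, 0, 4, 3, 1, 3, 4, 0, 4, 0, 4]), (37, false, [3, 1, 0, 4, 0, 4, 0, 4, 3, 4, 3, 4, 3, 4]), (161, true, [4, 0, 1, 3, 4, 0, 4, 0, 1, 3, 4]), (37, false, [0, 4, 3, 4, 3, 1, 0, 4, 0]), (37, false, [1, 0, 1, 0, 1, 3, 1, 3, 4, 0, 4, 0]), (37, false, [0, 4, 0, 1, 3, 4, 3, 4, 0, 1, 0, 4]), (161, true, [3, 1, 0, 1, 0, 1, 3, 1, 3, 4, 3, 4]), (37, false, [1, 0, 4, 0, 4, 3, 1, 3, 4, 0, 4, 3, 4, 3]), (161, true,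 [4, 3, 1, 0, 4, 3, 4, 3, 1, 0, 4, 3])]
def r33 : List (ℕ × Bool × List ℕ) := [(68, true, [2, 4, 0, 1, 0, 1, 3, 4, 0, 4, 3, 1, 3, 1, 3, 4, 3]), (256, false, [1, 0, 4, 3, 4, 3, 1, 0, 4, 0, 4, 0]), (68, false, [0, 1, 3, 1, 3, 1, 3, 4, 3, 4, 3, 4, 0, 4]), (87, false, [0, 1, 2, 0, 1, 3, 1, 3, 1, 3, 4, 3, 4, 3, 1, 3]), (117, true, [3, 4, 3, 4, 0, 4, 0, 4, 0, 4, 3, 1, 3, 4]), (256, true, [1, 0, 2, 4, 3, 4, 3, 4, 3, 1, 0, 4, 0, 1]), (71, true, [3, 4, 3, 4, 0, 4, 0, 4, 3, 4, 3, 1]), (68, true, [2, 0, 4, 3, 4, 3, 1, 0, 1, 0, 4, 3]), (71, true, [1, 3, 4, 3, 4, 3, 1, 0, 1, 0, 4, 0, 4, 0, 1]), (202, false, [0, 4, 0, 1, 3, 4, 0, 4, 3, 1, 3, 1, 0, 4]), (202, false, [1, 0, 1, 0, 1, 3, 1, 3, 1, 0, 4, 3, 1]), (58, false, [0, 1, 0, 1,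 2, 0, 4, 3, 4, 0, 4, 3, 4, 3, 1, 3]), (179, true, [3, 1, 3, 1, 3, 4, 3, 4, 0, 1, 0]), (156, true, [1, 2, 0, 4, 3, 4, 0, 4, 3, 1]), (71, true, [3, 1, 0, 4, 3, 4, 0, 1, 3, 1, 3, 1, 3, 4, 0, 4]), (117, true, [0, 4, 3, 1, 0, 1, 0, 1, 0, 4, 3, 1, 3, 1]), (252, false, [3, 1, 3, 4, 0, 4, 3, 1, 3, 4, 0, 1]), (58, false, [0, 1, 0, 2, 4, 3, 4, 0, 1, 3, 4, 3, 4]), (117, true, [0, 4, 3, 1, 0, 1, 0, 1, 0, 4, 3, 1, 3, 1]), (68, false, [1, 0, 1, 0, 4, 3, 1, 3, 1, 0, 4, 3, 1, 3, 1]), (87, false, [0, 2, 4, 0, 4, 0, 1, 3, 4, 0, 4, 0, 1, 3, 4, 0]), (202, false, [0, 4, 0, 4, 0, 4, 3, 4, 3, 1, 0]), (109, true, [0, 4, 3, 1, 0, 4, 3, 4, 3, 4, 3, 4, 0, 4, 0, 4, 3]), (256, false, [0, 1, 3, 4, 3, 1, 0, 4, 3, 4, 3, 4, 0, 4, 3, 4]), (267, true,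 [0, 2, 4, 3, 4, 0, 4, 3, 1, 0, 1, 3, 4, 3]), (179, false, [2, 0, 4, 0, 4, 0, 4, 3, 1, 3, 1, 0, 1]), (256, false, [4, 3, 1, 3, 4, 0, 1, 0, 1, 3, 4, 0, 1, 0]), (253, true, [4, 0, 4, 3, 1, 0, 1, 0, 1, 0, 4, 0]), (117, true, [0, 4, 3, 1, 3, 1, 0, 1, 3, 1, 0, 4, 3, 4]), (252, false, [0, 4, 3, 1, 0, 1, 3, 1, 0, 4, 3, 4]), (156, true, [1, 0, 4, 3, 4, 3, 4, 0, 1, 3, 4]), (117, true, [3, 4, 3, 4, 0, 4, 0, 4, 0, 4, 3, 1, 3, 4]), (183, true, [1, 0, 1, 0, 4, 0, 4, 0, 4, 3, 1, 3, 1, 0, 4, 0]), (276, true, [0, 1, 3, 4, 3, 4, 0, 1, 3, 4, 3, 4, 3]), (179, true, [4, 0, 4, 3, 4, 0, 4, 3, 1, 0, 4, 0, 4, 3, 4, 0]), (183, false, [2, 0, 1, 3, 1, 0, 1, 3, 4, 0, 4, 3, 4]), (70, false, [0, 2, 4, 0, 4, 0, 4, 3, 4, 0, 4, 3, 4, 0, 4, 0, 4, 3,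 4]), (68, false, [3, 4, 0, 1, 0, 1, 3, 4, 0, 1, 0, 1, 3, 4, 0]), (253, true, [4, 3, 4, 0, 4, 3, 4, 3, 1, 0, 1]), (68, true, [0, 1, 2, 0, 1, 0, 1, 0, 4, 3, 1, 0, 1, 0, 4]), (267, true, [0, 1, 3, 1, 3, 1, 0, 1, 0, 4, 3, 4, 0, 1]), (89, false, [1, 0, 1, 0, 1, 2, 0, 4, 0, 4, 3, 4, 3, 4, 3, 4]), (71, true, [0, 1, 0, 1, 3, 1, 3, 4, 0, 4, 0, 1, 3, 1, 0, 4, 3]), (70, false, [2, 4, 3, 1, 3, 1, 3, 4, 3, 4, 0]), (267, true, [2, 4, 0, 4, 3, 1, 3, 1, 3, 4, 0, 1, 0, 4]), (89, false, [1, 0, 2, 4, 3, 1, 0, 1, 0, 1, 3, 1, 3, 4]), (70, false, [2, 0, 1, 3, 4, 3, 4, 3, 4, 0, 4, 0, 4, 0, 4]), (267, true, [0, 2, 4, 3, 1, 0, 4, 3, 4, 0, 4, 0, 4, 3, 4, 3]), (179, false, [1, 0, 2, 4, 3, 1, 0, 1, 0, 1, 0, 4, 3, 4, 0, 4]), (253, true, [1, 3,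 4, 3, 4, 3, 1, 0, 4, 3, 4, 3, 1, 0, 1, 0]), (252, true, [2, 0, 1, 0, 1, 3, 4, 3, 1, 0, 1, 3, 4, 3]), (156, true, [1, 0, 1, 3, 4, 3, 1, 0, 4, 0, 4, 0, 1, 0]), (71, true, [3, 1, 0, 1, 3, 1, 3, 4, 3, 4, 0, 1, 3, 1, 3, 4]), (253, true, [0, 1, 0, 1, 0, 1, 3, 1, 3, 4, 3, 4, 3]), (117, true, [4, 0, 1, 3, 1, 0, 4, 3, 4, 3, 4, 3, 1, 3]), (71, true, [1, 3, 1, 0, 4, 0, 4, 3, 1, 0, 4, 0, 4]), (117, true, [0, 4, 3, 1, 3, 1, 0, 1, 3, 1, 0, 4, 3, 4]), (70, false, [0, 2, 4, 0, 4, 0, 4, 0, 1, 3, 1, 0, 4, 0, 4, 3]), (183, true, [1, 3, 4, 0, 4, 0, 4, 3, 4, 0, 1, 0, 1, 0]), (109, true, [3, 1, 0, 1, 3, 4, 3, 1, 0, 1, 3, 1, 3]), (158, true, [1, 3, 1, 3, 4, 0, 4, 0, 1, 3, 1, 3, 1, 0]), (256, true, [1, 0, 2, 4, 0, 4, 0, 1, 3, 1, 3, 4, 0, 1]),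 (179, false, [2, 4, 3, 1, 0, 4, 0, 4, 3, 4, 0, 4, 3, 1, 3]), (71, true, [0, 4, 0, 4, 0, 4, 3, 4, 0, 1, 3, 1]), (89, false, [1, 2, 0, 4, 3, 1, 0, 1, 3, 1, 3, 4, 0, 4]), (183, true, [4, 3, 4, 3, 1, 0, 4, 0, 4, 3, 4, 3, 4]), (183, false, [2, 0, 4, 3, 4, 0, 1, 0, 1, 3, 1, 0, 4, 0, 4, 0]), (267, true, [4, 3, 1, 0, 1, 0, 1, 3, 1, 3, 1, 0, 4, 3, 4]), (109, true, [3, 1, 0, 4, 0, 4, 3, 1, 0, 4]), (202, false, [4, 0, 1, 0, 1, 0, 4, 3, 1, 3, 1, 0]), (71, true, [1, 0, 4, 3, 1, 0, 1, 3, 4, 0, 4]), (252, false, [0, 1, 0, 1, 2, 0, 4, 0, 4, 3, 1, 0]), (252, true, [3, 1, 0, 1, 0, 1, 3, 4]), (252, true, [0, 2, 4, 0, 1, 3, 4, 0, 4, 3, 4, 3, 4, 3, 1]), (89, false, [0, 2, 4, 0, 4, 0, 4, 0, 4, 0, 4, 3, 1, 3, 1]), (87, false, [1, 0, 2, 4,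 0, 4, 0, 4, 3, 4, 0, 4, 3, 1]), (112, true, [1, 2, 0, 1, 3, 1, 3, 1, 3, 1, 0, 4, 0, 4]), (267, true, [2, 0, 4, 3, 4, 0, 1, 3, 4, 3, 4, 0, 1]), (87, false, [0, 2, 4, 3, 4, 3, 1, 0, 4, 3, 4, 0, 1, 3]), (183, false, [0, 1, 2, 0, 4, 3, 4, 3, 1, 0, 1, 0, 4, 3, 4, 3, 4]), (87, false, [0, 2, 4, 0, 4, 3, 4, 3, 4, 0, 1, 3, 1, 0, 1]), (87, false, [0, 1, 2, 0, 1, 0, 4, 3, 4, 3, 4, 0, 4, 0, 1, 3, 4]), (109, true, [3, 4, 3, 4, 0, 4, 3]), (68, false, [3, 4, 0, 4, 3, 4, 3, 1, 0, 1, 3, 1, 0, 1, 3]), (252, true, [0, 4, 0, 4, 0, 4, 3, 4, 0, 1, 3, 4]), (256, true, [1, 0, 1, 0, 2, 4, 3, 4, 0, 1, 3, 1, 3, 4, 3, 4]), (276, true, [0, 4, 3, 4, 0, 4, 3, 4, 3, 4, 3, 1, 0]), (117, true, [4, 0, 1, 3, 1, 0, 4, 3, 4, 3, 4, 3, 1, 3]), (58, false,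 [0, 2, 4, 3, 1, 0, 4, 0, 4, 0, 1]), (156, true, [1, 0, 1, 3, 4, 3, 4, 3, 1, 0, 1, 0, 1, 0, 4]), (158, true, [3, 4, 0, 4, 3, 4, 3, 4, 0]), (112, true, [1, 2, 0, 1, 0, 4, 0, 4, 3, 1, 3, 4, 0]), (179, true, [3, 1, 3, 1, 0, 1, 0, 4, 0, 4, 3, 1, 0, 4, 0]), (267, true, [1, 0, 1, 2, 0, 1, 3, 1, 0, 1, 3, 1, 3, 1]), (276, true, [4, 3, 4, 3, 4, 3, 1, 0, 1, 3, 1]), (179, false, [2, 0, 1, 0, 1, 0, 4, 0, 4, 3, 1, 3, 4, 0, 1]), (179, true, [4, 0, 4, 3, 1, 0, 1, 0, 1, 3, 1, 0, 1, 3]), (267, true, [0, 2, 4, 0, 4, 3, 1, 3, 1, 0, 1, 3, 4, 0, 1, 3]), (87, false, [2, 0, 1, 3, 1, 0, 4, 3, 4, 3, 4, 0, 4, 0, 4, 3]), (183, false, [1, 2, 0, 1, 3, 4, 0, 4, 0, 4, 3, 4, 0, 4, 3, 4, 0, 4]), (68, true, [0, 2, 4, 0, 1, 3, 1, 3, 4, 3, 4, 3, 4, 0,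 1]), (158, true, [3, 1, 0, 1, 0, 1, 3, 1, 3, 1, 3, 1, 3]), (87, false, [2, 0, 4, 3, 4, 0, 1, 3, 4, 3, 1, 0]), (112, true, [2, 4, 3, 4, 0, 4, 3, 4, 3, 4, 3, 1]), (276, true, [3, 4, 0, 1, 3, 4, 0, 4, 0, 4, 3, 4, 3, 4, 0]), (183, true, [0, 1, 3, 4, 0, 4, 3, 4, 0, 4, 0]), (158, true, [3, 1, 0, 1, 0, 4, 0, 4, 3, 1, 0, 1, 3]), (256, false, [3, 4, 0, 1, 0, 1, 3, 1, 0, 4, 0]), (252, true, [0, 2, 4, 3, 1, 0, 4, 0, 4, 3, 1, 3, 4, 0]), (256, true, [0, 2, 4, 0, 1, 3, 4, 0, 4, 3, 4, 3, 1, 0, 1]), (58, false, [2, 4, 0, 4, 3, 4, 3, 4, 0, 4, 3, 1, 3, 4]), (112, true, [0, 1, 2, 0, 1, 3, 4, 3, 4, 3, 4, 0, 4])]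
def r34 : List (ℕ × Bool × List ℕ) := [(56, true, [3, 1, 3, 4, 0, 4, 0, 4, 0, 4, 3, 1, 0]), (180, false, [0, 4, 0, 4, 0, 1, 3, 4, 0, 4, 0, 4, 3, 4, 0, 4]), (73, true, [0, 1, 2, 0, 4, 3, 4, 3, 1, 0, 4, 3, 4, 0, 1, 0]), (56, true, [3, 1, 0, 4, 3, 4, 3, 4, 3, 4, 0, 1, 3]), (136, false, [2, 0, 1, 0, 1, 0, 4, 0, 4, 0]), (27, true, [3, 4, 0, 1, 3, 1, 0, 1, 0, 1, 3, 4, 3, 1, 0]), (103, true, [1, 2, 0, 1, 3, 1, 3, 1, 0, 1]), (180, false, [0, 2, 4, 3, 4, 3, 1, 0, 4, 3, 4, 3, 4, 0, 4, 3, 4]), (126, false, [0, 2, 4, 0, 1, 3, 1, 3, 4, 0, 4, 0, 4, 0, 4, 0]), (73, true, [0, 1, 3, 4, 0, 4, 0, 1, 3, 4, 0, 4, 3, 1, 3]), (3, false, [0, 1, 0, 1, 0, 1, 3, 4, 3, 1, 0, 4, 0, 4, 0]), (136, false, [3, 1, 3, 1, 3, 4, 3, 4, 3]), (27, true, [2,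 0, 4, 3, 1, 0, 1, 3, 1, 0, 1, 3, 4, 3, 1, 0]), (55, true, [4, 3, 1, 0, 4, 3, 4, 0, 4]), (180, false, [2, 0, 1, 0, 1, 0, 1, 3, 4, 0, 4]), (216, false, [0, 4, 0, 4, 3, 4, 0, 4, 3, 4, 0, 1, 0]), (38, false, [2, 4, 3, 4, 0, 1, 3, 1, 3, 4, 0, 1, 0, 1]), (103, true, [1, 3, 1, 0, 1, 0, 1, 3, 1]), (27, true, [3, 4, 0, 4, 0, 1, 3, 1, 0, 1, 0, 1, 3]), (126, false, [0, 4, 3, 1, 0, 1, 0, 4, 3, 4, 3, 4, 3, 4, 3]), (153, true, [3, 4, 3, 4, 0, 1, 3, 1, 0, 1, 0, 1]), (118, true, [2, 0, 1, 0, 4, 3, 4, 3, 1]), (250, false, [0, 1, 3, 1, 3, 1, 3, 1, 0, 1, 0, 1, 3, 4, 0, 4]), (138, true, [1, 3, 1, 3, 4, 0, 1, 3, 1, 0, 1]), (55, true, [2, 4, 0, 1, 3, 4, 0, 4, 3, 4]), (180, false, [3, 1, 3, 1, 3, 1, 0, 4, 3, 4]), (34, true, []), (34, true,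 [0, 1, 0, 1, 3, 4, 0, 4, 3, 4, 0, 4, 3, 1, 3, 4]), (49, false, [4, 0, 1, 0, 4, 3, 4, 3, 1, 0, 1]), (216, false, [4, 0, 1, 3, 1, 0, 1, 0, 1, 3, 4, 0, 4, 3, 4, 0]), (43, false, [1, 3, 4, 0, 1, 0, 1, 0, 1, 3, 4, 0, 4]), (38, false, [4, 0, 4, 3, 1, 0, 1, 0, 4, 3, 1, 3, 1]), (92, false, [3, 4, 0, 1, 0, 1, 3, 1, 0, 4, 0, 4, 3, 1]), (27, true, [2, 0, 4, 3, 4, 3, 1, 0, 1, 3, 1, 3, 1, 0]), (199, true, [2, 0, 1, 0, 4, 3, 1, 0, 1, 3, 4, 3, 4, 3, 4, 3]), (88, true, [3, 4, 0, 4, 3, 1, 0, 4, 0, 4, 3, 1, 0]), (118, true, [3, 1, 3, 4, 0, 4, 0, 1]), (153, true, [2, 0, 4, 0, 4, 3, 1, 0, 1, 3, 1, 3, 1]), (180, false, [0, 4, 0, 4, 3, 4, 0, 4, 3, 4, 0]), (199, false, [2, 0, 4, 0, 4, 0, 1, 3, 4, 0, 4, 0, 4, 3, 4, 0]), (23, false, [1, 0,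 1, 2, 0, 1, 0, 1, 0, 4, 0, 4, 0, 4, 3, 4, 3]), (231, true, [1, 0, 4, 0, 4, 0, 1, 3, 4, 3, 4, 0, 1]), (166, true, [1, 2, 0, 1, 3, 4, 0, 1, 3, 1, 3, 1, 0, 4, 3]), (166, true, [1, 3, 1, 0, 4, 3, 1, 0, 1, 0, 1, 3, 4, 0]), (43, false, [1, 2, 0, 4, 3, 1, 3, 1, 3, 1, 0, 4, 3, 4]), (49, true, [1, 3, 1, 0, 1, 0, 1, 3, 1, 3, 1, 3, 1, 0, 4, 3]), (131, true, [1, 3, 4, 3, 4, 3]), (36, true, [4, 3, 4, 3, 1, 0, 4, 3, 4, 3, 1, 0, 4, 0]), (133, true, [0, 1, 0, 1, 0, 4, 0, 4, 0, 4]), (199, false, [3, 4, 3, 4, 3, 1, 0, 4, 3, 4, 3, 4, 0, 4, 3]), (103, true, [0, 1, 0, 1, 3, 1, 3, 1, 0, 1]), (103, true, [0, 1, 0, 1, 2, 0, 1, 0, 1, 3, 1]), (92, false, [2, 0, 4, 3, 1, 3, 1, 0, 1, 3, 4, 3, 4, 0, 1]), (13, true, [1, 0, 1, 3, 4, 0, 4, 3, 1, 3,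 4, 0, 1]), (199, true, [3, 1, 3, 4, 0, 1, 3, 1, 0, 4, 0, 4, 0, 4, 0]), (88, true, [2, 0, 4, 3, 4, 0, 1, 3, 4, 3, 4, 0, 1, 3]), (167, true, [0, 1, 0, 1, 0, 1, 3, 4, 0, 4, 3, 1, 3, 1, 0, 4]), (3, false, [3, 1, 0, 4, 3, 4, 3, 4, 0, 4, 3, 1, 3, 4, 0, 4]), (23, false, [1, 0, 1, 3, 1, 3, 1, 3, 4, 3, 4, 3, 4, 0, 4, 0]), (231, true, [1, 0, 2, 4, 3, 4, 3, 1, 0, 4, 0, 4, 3, 1]), (180, false, [0, 2, 4, 3, 4, 0, 4, 3, 4, 0, 4, 3]), (205, false, [4, 3, 1, 3, 1, 3, 1, 3, 1, 0, 4, 0, 1]), (17, false, [1, 0, 4, 0, 4, 3, 1, 0, 1, 0, 4, 0, 4]), (131, true, [1, 3, 1, 0, 4, 3, 1, 0, 1, 0, 4, 0]), (143, false, [0, 4, 0, 1, 0, 1, 3, 1, 0, 4]), (27, false, [2, 4, 3, 4, 3, 1, 0, 4, 0, 4, 3, 1]), (143, false, [0, 2, 4, 3, 1, 3, 1, 0, 1, 3,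 4]), (27, false, [4, 0, 4, 0, 1, 3, 4, 3, 4, 0, 1]), (153, true, [1, 2, 0, 4, 0, 4, 0, 4, 3, 4, 0, 4, 3, 4, 0, 4]), (153, true, [1, 3, 4, 3, 4, 3, 4, 0, 4, 3, 4, 0, 4, 3, 4]), (116, true, [0, 4, 0, 1, 3, 4, 0, 4]), (116, true, [0, 2, 4, 3, 1, 0, 4, 3, 4]), (167, true, [0, 1, 0, 4, 3, 1, 0, 1, 3, 4, 3, 4, 0, 1, 0]), (205, false, [0, 1, 3, 1, 3, 1, 0, 1, 3, 1, 0, 1, 0]), (250, false, [0, 1, 3, 4, 0, 1, 0, 1, 3, 4, 3, 1, 0, 1, 3, 1]), (45, true, [3, 1, 3, 1, 3, 4, 3, 4, 3]), (161, false, [1, 0, 4, 0, 4, 0, 4, 0, 1, 3, 4, 3, 1]), (16, false, [3, 1, 0, 1, 3, 4, 0, 1, 0, 1, 3, 4, 0, 1, 0]), (37, true, [0, 1, 3, 1, 0, 1, 3, 4, 0, 4, 3, 4, 0, 4]), (49, true, [3, 1, 3, 1, 0, 1, 0, 4, 3, 4, 0, 1, 3, 1]), (88, true, [1, 2, 0,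 4, 3, 4, 0, 1, 3, 1, 0, 4, 0, 4, 0, 1, 3]), (73, true, [1, 3, 4, 3, 4, 3, 1, 0, 4, 0, 4, 0]), (73, true, [1, 2, 0, 4, 0, 4, 0, 1, 3, 4, 3, 4, 3]), (88, true, [1, 3, 4, 0, 4, 3, 1, 0, 1, 3, 4, 3, 4, 3, 1, 0]), (103, false, [1, 0, 1, 0, 2, 4, 0, 1, 0, 1, 0, 1, 3, 1]), (199, true, [3, 1, 0, 1, 3, 1, 3, 4, 0, 1, 0, 1]), (199, true, [2, 0, 1, 3, 1, 0, 1, 0, 4, 3, 1, 3, 1]), (103, false, [1, 0, 1, 0, 4, 3, 1, 3, 1, 3, 1, 0, 1]), (116, false, [2, 4, 3, 4, 0, 4, 0, 4, 3, 1, 0, 1, 0, 4, 0, 4]), (116, false, [4, 0, 4, 3, 4, 3, 4, 0, 1, 3, 1, 3, 4, 3, 4]), (56, true, [1, 0, 4, 3, 1, 3, 1, 0, 1, 0, 4, 3, 1, 0]), (56, true, [0, 1, 0, 4, 3, 1, 3, 1, 0, 1, 0, 4, 3, 1, 3]), (43, false, [3, 4, 0, 1, 0, 1, 3, 1, 3, 1, 0, 1, 0]), (43,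 false, [2, 0, 4, 3, 1, 3, 1, 0, 1, 0, 1, 3, 1, 3]), (92, false, [1, 0, 1, 2, 0, 4, 0, 1, 3, 4, 0, 4, 3, 4]), (92, false, [1, 0, 1, 3, 4, 3, 1, 0, 4, 3, 4, 0, 4]), (55, true, [2, 4, 0, 4, 3, 1, 0, 4, 3]), (55, true, [4, 3, 4, 0, 1, 3, 4, 0]), (126, false, [2, 4, 0, 1, 0, 4, 3, 4, 3, 4, 3, 1, 0, 4, 3]), (126, false, [4, 3, 1, 3, 4, 0, 4, 0, 4, 0, 1, 3, 4, 0]), (116, false, [1, 2, 0, 4, 0, 4, 0, 4, 3, 4, 0, 4, 3, 4, 0]), (116, true, [0, 2, 4, 0, 1, 0, 4, 3, 1, 0, 1, 3, 4, 3, 1, 0, 1]), (116, false, [0, 4, 0, 4, 0, 4, 3, 4, 3, 4, 3, 4, 0, 4, 0, 1]), (116, false, [1, 3, 4, 3, 4, 3, 4, 0, 4, 3, 4, 0, 4, 3]), (180, false, [0, 2, 4, 0, 1, 0, 1, 0, 1, 3, 4, 3, 1, 0, 1, 3, 1]), (180, false, [0, 4, 3, 1, 3, 1, 0, 1, 3, 4, 3, 1,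 0, 1, 0, 1]), (199, false, [2, 0, 1, 3, 1, 3, 1, 0, 4, 3, 4, 0, 4]), (199, false, [3, 1, 0, 1, 0, 1, 3, 4, 0, 4, 3, 4]), (97, true, [4, 3, 4, 3, 1, 0, 1, 3, 4]), (97, true, [2, 4, 0, 4, 0, 1, 3, 1, 0, 4]), (49, false, [0, 1, 3, 4, 3, 4, 0, 4, 0, 1, 3, 4, 0, 4, 3, 1]), (34, true, [])]
def r35 : List (ℕ × Bool × List ℕ) := [(220, true, [1, 0, 4, 0, 4, 0, 4, 3, 4, 3, 4, 0, 4, 0, 4, 3]), (67, false, [2, 0, 1, 0, 4, 3, 4, 3, 1, 0, 4, 0, 4, 3, 1]), (192, false, [0, 1, 3, 1, 3, 4, 0, 4, 0, 4, 3, 4, 0]), (254, true, [2, 0, 1, 0, 1, 3, 1, 0, 1, 0, 4, 3, 4]), (77, true, [1, 3, 1, 3, 1, 3, 1, 3, 4, 3, 4, 0, 4, 0]), (215, true, [1, 0, 2, 4, 3, 4, 3, 1, 0, 1, 3, 1, 3, 1, 3, 4]), (254, true, [1, 3, 4, 0, 1, 3, 1, 3, 4, 0, 4, 0, 4,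 0, 4, 0]), (111, false, [2, 0, 4, 0, 1, 3, 4, 3, 1, 0, 1, 0, 1]), (275, true, [3, 4, 3, 1, 0, 4, 3, 4, 3, 1, 0, 4]), (234, false, [2, 4, 3, 4, 3, 1, 0, 1, 3, 4, 0, 1, 0, 4]), (7, false, [0, 1, 3, 4, 3, 1, 0, 1, 3, 1, 0, 4]), (81, true, [1, 3, 1, 3, 4, 0, 4, 3, 1, 0, 1, 0, 1, 3, 4]), (65, false, [2, 4, 3, 4, 0, 4, 3, 4, 0, 4, 3, 1, 3]), (122, false, [0, 2, 4, 0, 1, 0, 4, 3, 4, 3, 1, 0, 1, 0, 1, 0]), (94, false, [1, 0, 1, 3, 1, 3, 4, 0, 1, 0, 1, 0, 1, 3, 4, 3, 1]), (226, true, [1, 2, 0, 4, 3, 4, 3, 1, 0, 1, 3, 4, 0, 4, 0, 4, 3]), (81, true, [2, 0, 1, 0, 1, 3, 1, 3, 1, 0, 1, 0, 1, 0, 1, 3]), (220, true, [2, 4, 3, 1, 3, 1, 0, 4, 0, 4, 3, 4, 3, 4, 3, 4]), (111, false, [4, 0, 1, 0, 4, 3, 4, 0, 4, 0, 4, 3, 1, 0, 1]), (261,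 false, [0, 1, 0, 1, 3, 1, 0, 1, 3, 4, 3, 4, 3, 1]), (261, false, [1, 0, 2, 4, 0, 1, 0, 4, 3, 4, 3, 4, 3, 4, 0, 1]), (127, false, [0, 1, 0, 4, 3, 1, 3, 1, 0, 1, 3, 4, 0, 1]), (250, true, [3, 1, 3, 1, 3, 4, 3, 4, 3, 4, 0]), (217, false, [4, 0, 4, 0, 1, 3, 1, 3, 1, 0, 1, 0, 1]), (200, true, [1, 0, 4, 3, 4, 0, 1, 3, 1, 0, 4, 0, 4, 0, 4]), (81, false, [1, 2, 0, 1, 3, 1, 0, 4, 3, 4, 3, 4]), (217, false, [2, 0, 1, 0, 4, 3, 4, 3, 4]), (204, true, [4, 0, 1, 3, 1, 3, 4, 0, 1, 0, 1, 0, 1]), (64, true, [2, 4, 3, 4, 3, 1, 0, 1, 0, 4, 3, 1, 3, 1, 0, 1, 0]), (64, true, [3, 4, 3, 1, 0, 1, 3, 1, 0, 1, 0, 1, 3, 4]), (122, false, [1, 0, 1, 0, 1, 0, 4, 3, 1, 0, 1, 0, 4, 3, 4, 0]), (77, false, [0, 1, 2, 0, 4, 3, 4, 0, 4, 3, 1, 0, 1]), (176,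 true, [4, 3, 4, 0, 4, 3, 1, 3, 1, 0, 1, 3, 4]), (67, false, [0, 1, 0, 1, 3, 4, 3, 4, 0, 4, 0]), (73, true, [2, 0, 1, 3, 1, 0, 1, 3, 1, 0, 1, 3, 1, 3, 1, 3]), (234, false, [1, 0, 1, 0, 1, 3, 4, 3, 4, 0, 4, 0, 1]), (127, false, [0, 2, 4, 0, 4, 0, 1, 3, 1, 3, 4, 0, 1, 0, 1]), (275, true, [3, 4, 0, 1, 3, 1, 3, 4, 0, 4, 0, 4, 3, 4, 0]), (65, false, [0, 4, 0, 4, 0, 4, 0, 4, 3, 4, 3, 4, 0, 4, 3]), (225, false, [2, 4, 3, 1, 0, 1, 3, 4, 3, 4, 0, 4]), (3, false, [0, 2, 4, 0, 4, 3, 4, 0, 4, 3, 4, 0, 4, 3]), (187, false, [0, 1, 0, 1, 0, 2, 4, 0, 1, 0, 1, 3, 4, 3]), (279, true, [0, 4, 0, 4, 3, 1, 0, 1, 0, 4, 3]), (187, false, [1, 0, 1, 3, 1, 0, 1, 0, 4, 3, 1, 3, 4]), (200, true, [2, 0, 1, 3, 4, 3, 4, 0, 1, 0, 1, 3, 4]), (7, false,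 [2, 0, 4, 0, 1, 3, 1, 3, 4, 0, 4, 0, 4, 0, 4]), (275, false, [0, 1, 0, 1, 0, 1, 2, 0, 4, 0, 4]), (20, true, [1, 0, 1, 0, 1, 3, 4, 3, 4, 3, 1, 0, 1, 3, 1, 3, 1, 0, 1]), (29, false, [1, 0, 4, 3, 1, 0, 1, 0, 1, 0, 4, 3, 4, 0]), (73, true, [3, 1, 3, 4, 3, 4, 0, 4, 0, 4, 0, 4, 3, 4]), (225, false, [0, 4, 3, 4, 0, 1, 3, 1, 0, 4, 0, 4, 0, 4]), (73, true, [0, 2, 4, 0, 4, 0, 1, 3, 1, 0, 1, 3, 1, 0, 4]), (146, false, [0, 1, 0, 1, 3, 1, 3, 4, 0, 4, 3, 4]), (114, true, [0, 1, 0, 4, 3, 4, 0, 4, 0, 1, 3, 1, 0]), (225, false, [0, 4, 3, 4, 3, 1, 0, 4, 0, 4, 3, 1, 3]), (192, false, [2, 4, 3, 4, 0, 1, 3, 1, 3, 4, 3, 4, 0, 1]), (64, true, [3, 4, 3, 1, 0, 1, 0, 4, 3, 4, 3, 4, 3, 4, 0, 4]), (7, false, [2, 0, 4, 0, 1, 3, 1, 0, 1, 3, 1, 3,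 1, 3]), (50, false, [0, 1, 2, 0, 1, 0, 4, 3, 4, 0, 4, 3, 1, 0, 1]), (279, true, [1, 2, 0, 4, 3, 4, 3, 4, 0, 4, 3]), (215, true, [3, 1, 0, 1, 0, 4, 3, 4, 3, 4, 3, 4, 0, 1]), (226, true, [3, 1, 3, 1, 3, 1, 0, 1, 3, 1, 0, 1, 3, 1, 0, 1]), (29, false, [0, 1, 3, 4, 3, 4, 0, 1, 3, 1, 3, 4]), (250, true, [3, 1, 3, 4, 0, 1, 0, 1, 0, 1, 3]), (127, false, [2, 0, 1, 3, 1, 3, 4, 0, 4, 3, 1, 0, 1]), (50, false, [1, 0, 1, 3, 4, 0, 1, 0, 1, 3, 4, 0, 1, 0]), (127, false, [4, 0, 1, 0, 1, 0, 1, 3, 1, 3, 1, 0, 4, 3, 4, 0]), (3, false, [3, 4, 3, 1, 3, 1, 0, 4, 3, 4, 3, 4, 0, 4]), (192, false, [2, 4, 0, 1, 3, 1, 3, 1, 3, 4, 0, 1, 0, 1]), (234, false, [4, 3, 4, 3, 4, 0, 1, 0, 1, 3, 4, 0, 1]), (67, false, [1, 3, 4, 3, 4, 0, 1, 0, 1, 3, 4,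 0]), (111, false, [3, 4, 3, 1, 0, 1, 3, 1, 3, 1, 0, 1, 0, 1]), (226, true, [0, 1, 0, 2, 4, 0, 4, 0, 1, 3, 1, 3, 1, 0, 1, 0, 1, 0, 1]), (64, true, [2, 0, 1, 0, 1, 0, 4, 3, 4, 0, 1, 3, 1, 0, 1, 0]), (275, false, [1, 3, 4, 3, 4, 0, 4, 3, 1]), (217, false, [2, 0, 1, 3, 1, 0, 1, 0, 1, 0, 1, 0]), (204, true, [2, 4, 3, 4, 3, 1, 0, 4, 0, 4, 3, 1, 0, 1]), (20, true, [1, 3, 1, 0, 1, 3, 4, 0, 4, 3, 4, 0, 4]), (217, false, [2, 4, 3, 1, 3, 1, 0, 1, 0, 4, 3, 4, 3]), (7, false, [4, 0, 4, 3, 1, 3, 4, 0, 4, 0, 4, 3]), (275, true, [0, 1, 2, 0, 4, 0, 1, 3, 1, 0, 1, 3, 1, 0, 4]), (261, false, [0, 1, 0, 1, 0, 1, 3, 4, 3, 4, 0, 1, 0, 4]), (275, true, [1, 2, 0, 4, 3, 1, 3, 1, 0, 1, 0, 1, 3, 1]), (261, false, [1, 0, 2, 4, 0, 1, 3, 1, 0, 1,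 0, 1, 3, 1]), (77, true, [2, 0, 1, 0, 4, 3, 1, 3, 1, 0, 1, 3, 1]), (220, true, [2, 0, 1, 0, 1, 0, 1, 3, 4, 0, 4, 0, 1, 3, 1]), (254, true, [1, 3, 4, 0, 1, 3, 1, 0, 1, 3, 1, 3, 1]), (81, true, [2, 0, 1, 0, 1, 3, 1, 0, 4, 3, 4, 3, 4, 0]), (215, true, [1, 0, 1, 2, 0, 1, 0, 4, 3, 4, 0, 4, 0, 1]), (65, false, [1, 2, 0, 4, 0, 4, 0, 4, 3, 4, 0, 4, 3, 4, 0, 4, 0, 4]), (225, false, [2, 4, 0, 1, 3, 4, 3, 4, 0, 1, 0, 1, 3, 4]), (73, true, [3, 1, 3, 4, 0, 1, 3, 1, 3, 1, 0, 4]), (122, false, [0, 1, 0, 2, 4, 3, 4, 3, 1, 0, 1, 3, 1, 0, 1, 0]), (200, true, [1, 0, 4, 3, 4, 3, 1, 0, 4, 0, 4, 3, 1, 3]), (94, false, [4, 3, 4, 0, 4, 3, 4, 3, 4, 0, 1, 3, 1, 0, 4, 0]), (81, false, [1, 2, 0, 1, 3, 1, 3, 1, 0, 1, 0, 1, 0, 1, 0]), (122, false,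 [3, 4, 3, 1, 0, 1, 0, 1, 3, 1, 3, 4, 0, 4, 0]), (200, true, [0, 1, 2, 0, 1, 3, 4, 3, 4, 0, 4]), (192, false, [3, 4, 0, 4, 0, 1, 3, 1, 3, 1, 3, 4, 0]), (234, false, [2, 0, 1, 0, 1, 0, 4, 3, 4, 0, 1, 3, 4, 3]), (215, true, [3, 1, 0, 1, 3, 1, 0, 1, 0, 1, 3, 1]), (111, false, [2, 0, 1, 3, 1, 3, 4, 3, 4, 0, 4, 3, 4, 3, 4]), (67, false, [2, 4, 3, 4, 3, 4, 3, 1, 0, 1, 3, 4, 0, 4, 3, 1]), (65, false, [1, 3, 1, 3, 1, 0, 4, 3, 4, 0, 4, 3]), (146, false, [0, 1, 3, 4, 0, 4, 0, 1, 3, 1, 3, 4, 0, 4]), (176, true, [1, 0, 2, 4, 0, 1, 0, 1, 3, 4, 0, 1, 0, 1, 3]), (220, true, [4, 0, 1, 3, 4, 0, 4, 0, 4, 3, 1, 0, 1, 0]), (254, true, [1, 0, 2, 4, 0, 4, 3, 1, 3, 4, 0, 4, 0, 4]), (77, true, [0, 4, 0, 4, 0, 1, 3, 4, 0, 4, 0]), (81, true,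 [0, 2, 4, 0, 1, 0, 4, 3, 1, 3, 1, 3, 1, 0, 1, 3, 1]), (226, true, [4, 0, 1, 3, 1, 0, 1, 3, 1, 0, 4, 0, 4, 3, 1]), (114, true, [1, 3, 4, 3, 1, 0, 1, 3, 4, 0, 4, 0, 1, 3])]

theorem q24 : closeb 18 ps18 base7 rgR om xs x24 orb r24 = true := by decide +kernel
theorem q25 : closeb 18 ps18 base7 rgR om xs x25 orb r25 = true := by decide +kernel
theorem q26 : closeb 18 ps18 base7 rgR om xs x26 orb r26 = true := by decide +kernel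
theorem q27 : closeb 18 ps18 base7 rgR om xs x27 orb r27 = true := by decide +kernel
theorem q28 : closeb 18 ps18 base7 rgR om xs x28 orb r28 = true := by decide +kernel
theorem q29 : closeb 18 ps18 base7 rgR om xs x29 orb r29 = true := by decide +kernel
theorem q30 : closeb 18 ps18 base7 rgR om xs x30 orb r30 = true := by decide +kernel
theorem q31 : closeb 18 ps18 base7 rgR om xs x31 orb r31 = true := by decide +kernel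
theorem q32 : closeb 18 ps18 base7 rgR om xs x32 orb r32 = true := by decide +kernel
theorem q33 : closeb 18 ps18 base7 rgR om xs x33 orb r33 = true := by decide +kernel
theorem q34 : closeb 18 ps18 base7 rgR om xs x34 orb r34 = true := by decide +kernel
theorem q35 : closeb 18 ps18 base7 rgR om xs x35 orb r35 = true := by decide +kernel

theorem c2 : Rows xc2 :=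
  Rows.cons q24 (Rows.cons q25 (Rows.cons q26 (Rows.cons q27 (Rows.cons q28 (Rows.cons q29 (Rows.cons q30 (Rows.cons q31 (Rows.cons q32 (Rows.cons q33 (Rows.cons q34 (Rows.cons q35 Rows.nil)))))))))))

end Cfsg.Agent.H698.U33.Clo
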