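import Cfsg.Agent.H698.U33.Clo.Rows

/-!
# S5525: the closure certificate, rows 240 to 251 (helper698; data of helper819, helper763)
-/

set_option autoImplicit false
set_option maxRecDepth 100000
set_option Elab.async false

namespace Cfsg.Agent.H698.U33.Clo

def r240 : List (ℕ × Bool × List ℕ) := [(189, true, [0, 1, 3, 4, 3, 1, 0, 1, 0, 1, 0, 1, 0]), (147, true, [1, 0, 1, 0, 1, 0, 4, 0, 4, 3, 4, 0, 4, 0]), (241, false, [1, 0, 4, 3, 1, 3, 4, 0, 4, 3, 4, 3, 4]), (197, true, [4, 3, 1, 3, 1, 3, 1, 3, 4, 0]), (196, true, [4, 3, 1, 3, 4, 0, 4, 3, 4, 3, 4, 0, 1, 0]), (144, true, [2, 4, 3, 1, 0, 4, 3, 1, 3, 1]), (189, true, [3, 4, 3, 1, 3, 1, 3, 1, 3, 1, 3, 1]), (259, true, [2, 4, 0, 1, 0, 4, 3, 4, 3, 1, 0, 4, 0]), (245, false,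 [4, 3, 4, 3, 4, 0, 4, 3, 4, 0, 1, 0, 1, 3]), (256, true, [1, 0, 1, 0, 1, 0, 2, 4, 0, 4, 3, 1, 3, 4]), (259, false, [1, 3, 4, 3, 4, 0, 4, 3, 1, 3, 1, 3, 4]), (129, true, [3, 1, 3, 4, 0, 4, 0, 1, 3, 1, 3, 1, 0]), (31, true, [2, 4, 0, 1, 3, 1, 0, 4, 3, 4]), (147, false, [4, 0, 1, 3, 1, 0, 4, 0, 4, 3, 1, 0, 1, 0, 1]), (238, true, [3, 1, 0, 1, 0, 1, 3, 1, 0, 1]), (50, false, [0, 1, 0, 1, 2, 0, 4, 3, 1, 3, 1, 3, 1]), (79, true, [0, 1, 0, 4, 3, 4, 0, 1, 0, 1, 0, 1, 3, 1, 3]), (245, true, [1, 3, 4, 0, 4, 3, 1, 3, 1, 0, 4, 0, 4]), (150, false, [0, 1, 2, 0, 1, 0, 1, 3, 1, 0, 1, 0, 4]), (140, false, [0, 4, 0, 1, 3, 1, 3, 4, 0, 4, 0, 4, 0, 4, 0]), (189, true, [0, 1, 2, 0, 4, 3, 1, 0, 1, 0, 1, 0, 1, 0]), (129, true, [4, 3, 1, 0, 4]),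 (189, true, [4, 0, 1, 3, 1, 3, 4, 0, 1, 0, 1, 0, 1]), (196, true, [1, 0, 1, 3, 4, 0, 4, 0, 1, 3, 1, 3, 1, 3, 1, 0]), (259, false, [1, 2, 0, 4, 0, 4, 3, 4, 0, 1, 3, 1, 3, 4]), (169, false, [0, 4, 0, 4, 3, 4, 3, 4, 0, 1, 3, 1, 0]), (256, true, [1, 0, 1, 0, 1, 0, 1, 0, 1, 0, 4, 0]), (245, false, [4, 0, 4, 3, 1, 0, 1, 0, 1, 3, 4, 0, 4, 3, 1]), (134, false, [0, 1, 0, 1, 3, 4, 0, 4, 3, 4, 0, 4, 0, 4]), (189, true, [0, 1, 0, 1, 3, 1, 3, 1, 3, 4, 3]), (189, true, [2, 4, 3, 1, 0, 1, 0, 4, 3, 4, 0, 1]), (140, false, [3, 1, 0, 1, 0, 1, 3, 4, 3, 1, 0, 1, 3, 1, 3, 4]), (108, false, [1, 0, 4, 3]), (79, true, [4, 0, 4, 0, 4, 0, 1, 3, 1, 0, 1]), (216, false, [0, 4, 0, 1, 3, 1, 0, 1, 3, 1, 0, 4, 0, 1]), (189, true, [0, 1, 0, 2, 4, 0,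 1, 0, 1, 3, 4, 3, 4, 0, 4]), (256, true, [2, 0, 4, 3, 4, 0, 4, 0, 1, 3, 4, 3, 4]), (169, false, [1, 0, 4, 3, 4, 0, 4, 0, 1, 3, 1, 3, 1, 3]), (189, true, [3, 1, 0, 1, 3, 4, 3, 4, 0, 4]), (241, false, [1, 3, 4, 3, 1, 0, 1, 0, 1, 0, 4, 0, 4]), (128, false, [1, 3, 1, 3, 1, 3, 4, 0, 4, 3, 4, 3, 4]), (147, false, [4, 3, 1, 0, 1, 3, 4, 3, 4, 0, 4, 0, 1]), (228, false, [0, 1, 0, 1, 3, 1, 0, 4, 0, 4, 0, 1]), (134, false, [3, 4, 3, 1, 0, 1, 3, 1, 3, 1, 0, 4, 0]), (197, true, [0, 2, 4, 3, 1, 3, 1, 3, 1, 3, 4, 0]), (31, true, [4, 3, 1, 0, 1, 0, 4, 3, 4]), (62, true, [4, 0, 4, 0, 1, 3, 4, 3, 1, 0]), (230, false, [3, 1, 3, 1, 0, 4, 0, 4, 3, 1, 0, 1, 3]), (241, false, [0, 1, 0, 2, 4, 0, 1, 0, 4, 3]), (189, true, [2, 0, 4, 0, 1, 0, 1,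 3, 1, 3, 1, 3, 1, 0, 4, 0]), (144, false, [0, 1, 0, 1, 3, 4, 0, 4, 0, 4, 3, 4, 3, 4, 3]), (241, false, [1, 3, 4, 0]), (62, true, [0, 4, 0, 4, 3, 1, 3, 4, 0, 4, 0, 1, 3, 4, 3, 1, 0]), (144, true, [0, 4, 3, 1, 3, 1]), (169, false, [0, 1, 3, 1, 0, 1, 3, 1, 0, 4, 0]), (189, true, [0, 4, 0, 4, 3, 1, 3, 1, 0, 1, 0, 1, 3]), (128, false, [1, 2, 0, 1, 0, 1, 0, 4, 3, 4, 0, 1, 0, 1, 3, 4]), (259, true, [0, 1, 3, 1, 0, 4, 3, 1, 3, 1, 3, 1]), (62, true, [3, 1, 0, 1, 0, 1, 3, 1, 3, 4, 0, 4, 3, 1, 0, 4]), (131, true, [1, 3, 1, 3, 1, 3, 1]), (238, true, [1, 3, 4, 3, 4, 0, 1, 3]), (256, true, [3, 4, 3, 1, 0, 1, 3, 1, 0, 1, 0, 1, 0]), (216, false, [1, 0, 1, 3, 4, 0, 1, 0, 1, 3, 4, 3, 1, 0]), (128, false, [1, 2, 0, 1, 0, 1, 0, 4, 0, 4,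 3, 4, 3, 4]), (197, true, [0, 4, 0, 1, 3, 1, 3, 4, 0, 1, 0, 1, 3, 1]), (133, false, [0, 2, 4, 3, 4, 3, 4, 3, 4, 3]), (196, true, [4, 3, 4, 0, 4, 0, 1, 3, 1, 0, 4, 0]), (189, true, [2, 0, 4, 3, 1, 0, 1, 3, 4, 3, 4, 0, 4, 3, 1]), (128, false, [1, 2, 0, 1, 0, 1, 0, 4, 3, 1, 3, 4]), (150, true, [2, 4, 0, 4, 3, 1, 3, 4, 0, 4, 0, 4, 3, 4, 3, 4]), (129, true, [0, 1, 0, 1, 0, 4, 0, 4, 3, 1, 3, 1, 0, 4]), (189, true, [0, 1, 2, 0, 1, 0, 4, 0, 4, 0, 4, 0, 4, 0, 1]), (259, false, [1, 0, 1, 0, 1, 0, 4, 3, 4, 0, 1, 0, 1, 3]), (147, false, [1, 3, 1, 0, 4, 3, 1, 3, 4, 0, 4, 0, 1]), (133, false, [4, 0, 4, 3, 1, 0, 1, 0, 1, 0]), (197, true, [0, 1, 3, 4, 3, 1, 0, 4, 0, 4, 0, 1, 3, 4]), (241, false, [1, 2, 0, 1, 3, 1, 0, 4, 3, 1, 3, 1, 0]),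 (144, true, [2, 0, 1, 0, 1, 3, 4, 3, 4, 3, 4, 0]), (129, true, [4, 3, 1, 3, 1, 0, 1, 0, 1, 3, 4]), (50, false, [1, 0, 4, 3, 4, 3, 1, 0, 4, 3, 4, 3, 1, 0]), (144, false, [2, 0, 4, 0, 1, 3, 4, 3, 1, 0]), (245, true, [1, 0, 4, 3, 1, 3, 1, 0, 4, 3, 1, 0]), (241, false, [2, 0, 4, 3, 1, 0, 1, 3, 4, 0, 4, 0, 4, 3, 4, 0, 4]), (150, false, [2, 0, 4, 3, 4, 3, 4, 0, 4, 3, 4, 0]), (245, true, [0, 4, 0, 1, 0, 1, 3, 1, 0, 4, 0, 1]), (140, false, [1, 0, 4, 3, 4, 0, 4, 3, 4, 0, 1, 0, 1, 0]), (150, true, [4, 0, 4, 3, 1, 3, 4, 0, 4, 0, 4, 3, 4, 3, 4]), (129, true, [1, 0, 1, 0, 4, 0, 4, 3, 4, 0, 4, 0]), (230, false, [1, 0, 1, 3, 4, 0, 4, 0, 4, 0, 1, 3]), (259, true, [3, 1, 3, 1, 3, 1, 0, 4, 3, 4, 3, 1, 0]), (245, false, [0, 4, 3, 4, 0,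 4, 0, 4, 0, 4, 3, 1, 3, 1, 0]), (128, false, [3, 1, 0, 1, 0, 1, 0, 4, 0, 4, 3, 1, 3]), (134, false, [0, 1, 0, 1, 3, 4, 3, 1, 0, 1, 0, 4, 3, 4, 3, 1]), (50, false, [1, 0, 1, 0, 1, 2, 0, 4, 3, 4, 3, 1, 0]), (108, false, [1, 0, 4, 3, 1, 0, 1, 0, 1, 0, 1, 3, 4]), (144, false, [1, 0, 1, 0, 1, 0, 1, 0, 1, 2, 0, 1, 0, 4, 0]), (128, false, [1, 3, 4, 0, 4, 0]), (256, true, [2, 0, 4, 3, 4, 0, 4, 0, 4, 0, 1, 3, 4]), (216, false, [3, 4, 0, 1, 3, 4, 0, 4, 0, 4, 0, 4, 3, 1, 3]), (197, true, [0, 1, 2, 0, 4, 0, 1, 3, 4, 0, 4]), (108, false, [0, 1, 3, 4, 0, 1, 3, 1, 3, 4, 3, 4]), (31, true, [0, 1, 0, 1, 0, 1, 3, 1, 0]), (228, false, [0, 1, 0, 1, 3, 1, 0, 4, 0, 4, 0, 1]), (150, true, [4, 3, 4, 0, 1, 0, 1, 0, 1, 0, 4, 0]), (133, false,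 [1, 3, 4, 3, 4, 3, 4, 3, 4, 3, 4, 3]), (238, true, [4, 3, 4, 3, 1, 0, 1, 0, 1, 3, 1]), (150, true, [0, 4, 0, 1, 0, 1, 0, 4, 3, 4, 0, 4]), (256, true, [3, 4, 0, 4, 3, 4, 0, 4]), (129, true, [0, 4, 0, 1, 0, 1, 3, 4, 3, 4]), (79, true, [0, 4, 3, 1, 0, 1, 0, 4, 0, 4, 0, 1]), (197, true, [1, 0, 4, 0, 1, 3, 4, 0, 4]), (230, false, [0, 1, 3, 1, 3, 1, 3, 4, 3, 4, 3, 4, 3])]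
def r241 : List (ℕ × Bool × List ℕ) := [(124, false, [1, 2, 0, 4, 3, 1, 3, 1, 0, 1, 3, 1, 3]), (226, true, [2, 0, 1, 0, 1, 0, 1, 3, 4, 3, 4, 0, 4, 3]), (266, false, [0, 1, 3, 1, 0, 1, 0, 1, 3, 1, 0, 1, 3, 1, 3]), (177, true, [2, 0, 4, 3, 1, 0, 1, 0, 4, 0]), (47, false, [1, 3, 1, 3, 1, 0, 1, 0, 1, 3, 4, 0, 4, 0, 4]), (181, false, [2, 4, 3, 4, 3, 4, 3, 1, 0, 4, 3, 4, 3, 4, 0]), (65, false, [2, 0, 1, 0, 1, 3, 4, 3, 4, 0, 1, 0, 4]), (270, true, [1, 2, 0, 1, 0, 1, 0, 1, 0, 1, 3, 1]), (145, false, [3, 1, 0, 1, 0, 1, 0, 1, 3, 4, 3, 1, 0, 4]), (182, false, [2, 4, 0, 4, 0, 4, 0, 1, 3, 1, 0, 1, 0, 1, 0]), (56, true, [3, 4, 0, 4, 3, 1, 3, 4, 0, 4, 0, 1, 3, 4, 0]), (209, false, [3, 4, 0, 1, 0, 1, 3, 1, 0, 1, 3]), (151, false, [1,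 3, 1, 0, 4, 3, 4, 0, 1]), (17, true, [1, 0, 1, 0, 4, 0, 4, 0, 4, 0, 1, 3, 1, 0, 4]), (253, false, [0, 2, 4, 0, 1, 3, 4, 3, 1, 0, 1, 0, 1, 0, 4]), (66, true, [2, 4, 3, 4, 3, 1, 0, 1, 3, 1, 0, 1, 0, 4, 0]), (95, false, [0, 1, 2, 0, 4, 3, 4, 3, 1, 0, 4, 3, 1]), (145, false, [4, 0, 1, 3, 4, 0, 1, 0, 1, 0, 4]), (111, true, [0, 1, 2, 0, 1, 3, 1, 0, 1, 0, 1, 3, 1, 3, 1]), (87, true, [1, 0, 1, 3, 4, 3, 4, 0, 1, 3, 4, 3, 4, 3, 1]), (111, true, [4, 3, 1, 3, 1, 0, 1, 3, 4, 3, 1, 0, 1, 0, 1]), (146, true, [3, 4, 0, 1, 3, 1, 0, 4, 0, 4, 3, 4, 3, 4]), (241, false, [0, 4, 3, 4, 0, 4, 0, 1, 3, 1, 0, 1, 3, 4]), (258, false, [0, 4, 3, 1, 0, 1, 3, 1, 3, 1, 3, 4, 0, 4]), (17, true, [3, 4, 0, 1, 3, 1, 0]), (63, true, [1, 0, 4, 0, 4, 0, 1,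 3, 4, 0, 4, 0, 4]), (188, true, [0, 1, 0, 2, 4, 0, 1, 0, 1, 0, 1, 3, 1, 0, 4, 0]), (259, true, [0, 1, 0, 1, 3, 1, 0, 4, 0, 4, 0, 4, 3, 1, 3]), (68, false, [3, 1, 0, 1, 0, 1, 3, 1, 0, 1, 3, 1, 0, 1, 3, 1, 3]), (164, false, [0, 4, 3, 1, 0, 1, 0, 1, 3, 1, 3, 1, 0]), (61, true, [0, 4, 0, 1, 0, 1, 0, 1, 3, 4, 3, 4, 3]), (170, false, [1, 0, 1, 3, 4, 0, 4, 3, 4, 0, 4, 0, 4]), (152, true, [1, 3, 4, 0, 1, 0, 1, 3, 4]), (87, true, [2, 4, 0, 4, 3, 4, 0, 4]), (216, true, [0, 4, 0, 4, 0, 4, 3, 4, 3, 4, 0, 1, 0, 1]), (273, true, [0, 1, 3, 4, 3, 4, 0, 4, 0, 1, 3, 4, 0]), (136, true, [0, 4, 3, 1, 0, 1, 3, 4, 3, 4, 0, 4, 0, 4]), (110, false, [1, 3, 1, 0, 1, 0, 4, 3, 4, 0, 1, 3, 4, 0]), (273, true, [3, 1, 3, 1, 0, 1, 3, 4, 0, 1, 0]), (245,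 true, [0, 4, 3, 1, 0, 1, 3, 4, 3, 4, 0, 1, 0]), (136, false, [0, 1, 3, 1, 3, 1, 3, 1, 0, 1, 0, 4, 0, 4, 0]), (188, true, [1, 3, 4, 3, 1, 0, 1, 3, 1, 3, 1, 0, 1]), (258, false, [3, 1, 3, 1, 0, 4, 0, 4, 0, 4, 3, 1, 3, 4]), (233, true, [2, 0, 4, 0, 1, 3, 1, 0, 4, 3, 1]), (258, false, [4, 3, 4, 3, 4, 3, 4, 0, 1, 0, 1, 3]), (136, false, [0, 1, 2, 0, 1, 0, 1, 3]), (13, true, [4, 0, 1, 0, 1, 3, 1, 0, 4, 3, 4]), (233, true, [4, 3, 4, 3, 4]), (171, true, [2, 4, 3, 1, 0, 1, 3, 1, 0, 4, 3, 4, 3, 4, 0]), (269, true, [1, 0, 1, 3, 4, 3, 1, 0, 1, 3, 4, 0, 1, 0, 1, 3, 1]), (269, true, [2, 0, 1, 0, 4, 3, 4, 0, 4, 0, 1, 3, 1, 3, 1]), (240, false, [3, 1, 0, 4]), (66, true, [0, 1, 0, 1, 3, 1, 0, 4, 0, 4, 3, 4, 0, 1, 0]), (154, true, [0,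 4, 3, 1, 0, 1, 3, 4, 0, 1, 0, 4]), (152, true, [0, 1, 0, 1, 0, 1, 0, 1, 0, 2, 4, 3, 4, 3, 1, 0, 1]), (192, true, [1, 0, 2, 4, 3, 4, 0, 4, 3, 4, 0, 4]), (63, true, [3, 1, 3, 1, 0, 4, 3, 4, 3, 4, 0]), (220, false, [1, 2, 0, 1, 3, 1, 0, 4, 0, 4, 0, 1, 3, 1, 0]), (247, true, [4, 0, 1, 3, 4, 3, 4, 0, 4, 3, 1, 0]), (30, true, [3, 1, 0, 1, 0, 4, 0, 4, 3, 4, 3, 4, 3, 1]), (182, false, [4, 0, 4, 0, 1, 3, 1, 0, 4, 3, 4, 3, 1, 3]), (218, true, [1, 3, 1, 3, 4, 0, 4, 3, 4, 0, 4]), (154, true, [2, 4, 3, 4, 0, 4, 0, 4, 0, 4, 3, 4, 3, 4, 0]), (52, true, [1, 0, 1, 0, 1, 3, 4, 0, 4, 3, 4, 0, 4, 3]), (244, true, [1, 0, 1, 2, 0, 1, 3, 1, 3, 4, 0, 1, 0]), (56, true, [4, 0, 1, 3, 1, 0, 4, 0, 4, 3, 1]), (202, false, [0, 1, 3, 1, 0, 1, 3, 1,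 3, 4, 3, 4, 3, 4, 0]), (220, false, [1, 3, 1, 0, 1, 3, 4, 3, 4, 0, 1, 3, 1, 0]), (151, false, [0, 1, 2, 0, 4, 0, 4, 0, 1, 3, 4, 0, 4, 0, 1, 0]), (98, true, [0, 1, 0, 1, 3, 4, 3, 1, 0, 1, 0, 1, 0, 1]), (154, true, [1, 2, 0, 1, 0, 1, 3, 1, 0, 1, 0, 4, 0, 4, 3]), (181, false, [0, 1, 0, 2, 4, 0, 4, 0, 4, 0, 4, 3, 1, 3, 4, 0, 4, 0]), (171, true, [1, 2, 0, 4, 3, 1, 3, 1, 0, 4, 3, 1, 3, 1, 0, 4]), (253, false, [0, 4, 3, 4, 0, 4, 3, 1, 0, 1, 0, 1, 3, 1, 3]), (241, true, []), (233, true, [0, 1, 2, 0, 1, 0, 4, 3, 4, 3, 1, 3]), (167, false, [0, 4, 0, 1, 0, 1, 0, 4, 3, 1, 0, 1]), (61, false, [1, 0, 4, 3, 4, 3, 4, 0, 4, 3, 1]), (30, true, [0, 1, 3, 4, 3, 4, 3]), (247, true, [0, 2, 4, 3, 4, 0, 1, 0, 1, 0, 4, 3, 4, 0]), (270, true,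 [0, 1, 0, 1, 3, 4, 3, 4, 0, 4, 0, 4, 3]), (154, true, [0, 1, 3, 1, 3, 4, 3, 4, 0, 4, 3, 1]), (226, true, [4, 3, 1, 3, 4, 0, 1, 3, 1, 3, 1, 0, 1, 3, 4]), (181, false, [1, 3, 1, 0, 1, 0, 1, 3, 1, 0, 4, 0, 4, 0, 4]), (209, true, [0, 1, 0, 1, 0, 1, 0, 1, 0, 1, 2, 0, 1, 0, 1]), (100, false, [0, 1, 0, 1, 2, 0, 1, 0, 1, 3]), (124, false, [0, 1, 0, 4, 3, 4, 0, 1, 3, 1, 3, 4, 0, 4, 0, 4]), (97, true, [1, 0, 4, 0, 1, 3, 4, 3, 4, 0, 4, 0, 4, 3, 1]), (266, false, [1, 0, 1, 0, 1, 0, 2, 4, 3, 4, 3, 4, 3]), (192, true, [0, 4, 3, 1, 0, 4, 3, 4, 3, 4, 3, 4, 0, 1]), (240, false, [1, 3, 1, 3, 4, 3, 4, 3, 4, 0, 1, 0, 4]), (152, true, [3, 1, 0, 4, 3, 4, 0, 1, 3, 1, 3, 1, 3, 4]), (258, false, [3, 1, 3, 1, 0, 1, 3, 4, 3, 4, 0, 4, 3, 1]), (61,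 false, [0, 4, 3, 4, 3, 4, 0, 1, 3, 1, 3, 4]), (68, false, [0, 2, 4, 0, 4, 3, 4, 0, 4, 3, 4, 3, 4, 0, 4, 3]), (164, false, [0, 2, 4, 0, 4, 0, 4, 0, 1, 3]), (49, true, [1, 3, 4, 0, 4, 3, 4, 0, 1, 3, 1, 3, 4, 3]), (17, true, [4, 0, 1, 3, 1, 3, 1, 0, 4, 3, 4, 3, 4]), (181, false, [3, 1, 0, 1, 3, 1, 3, 4, 3, 4, 0, 1, 0, 1, 0]), (92, false, [0, 2, 4, 0, 4, 3, 4, 0, 4, 3, 4, 0, 4, 0, 1, 0]), (92, false, [4, 0, 4, 3, 4, 0, 4, 3, 4, 0, 4, 0, 1, 0]), (110, false, [2, 0, 1, 3, 1, 0, 4, 3, 1, 3, 1, 3, 1, 3, 4]), (145, false, [0, 1, 0, 1, 3, 4, 3, 1, 0, 1, 0, 1]), (98, true, [2, 0, 1, 0, 4, 3, 4, 0, 1, 0, 1, 3, 4, 0, 1, 0]), (171, true, [3, 4, 3, 1, 0, 1, 0, 1, 0, 4, 3, 4, 0]), (218, true, [1, 0, 1, 0, 1, 0, 2, 4, 0, 4, 0, 1, 3, 1,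 3, 1, 3]), (65, false, [1, 3, 4, 0, 4, 3, 1, 3, 1, 3, 1, 3]), (95, false, [0, 1, 2, 0, 4, 3, 4, 3, 1, 0, 4, 3, 1]), (146, false, [1, 0, 1, 3, 1, 3, 1, 3, 1, 3, 1]), (170, false, [2, 0, 1, 3, 4, 0, 4, 3, 4, 0, 1, 3]), (152, true, [0, 2, 4, 0, 1, 0, 4, 3, 1, 0, 1, 3, 4, 3, 4, 0, 1]), (171, true, [0, 4, 3, 4, 0, 4, 3, 1, 3, 4, 0])]
def r242 : List (ℕ × Bool × List ℕ) := [(112, false, [3, 1, 0, 4, 3, 4, 3, 1, 0, 4, 3, 4, 0, 1]), (223, true, [0, 1, 0, 1, 2, 0, 1, 0, 4, 0, 4, 3, 4, 3, 4, 3, 1]), (223, false, [1, 0, 4, 3, 1, 3, 1, 3, 4, 0, 4, 3, 4, 3]), (249, true, [0, 1, 0, 1, 3, 4, 3, 4, 0, 1, 0, 1, 3, 1]), (257, true, [0, 4, 3, 1, 3, 1, 0, 1, 3, 1, 3, 4]), (66, true, [1, 0, 1, 0, 2, 4, 0, 4, 0, 4, 0, 4, 3, 1, 3, 4]), (40,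 true, [3, 4, 3, 4, 0, 4, 0, 4, 3, 4, 0, 1]), (253, true, [1, 2, 0, 4, 3, 1, 3, 1, 3, 4, 3, 4]), (218, true, [0, 4, 0, 1, 3, 1, 3, 4, 0, 1, 3]), (98, false, [2, 0, 1, 3, 4, 0, 4, 0, 4, 3, 4, 3, 1, 0, 1]), (263, false, [2, 4, 0, 1, 0, 1, 0, 4, 3, 1, 0, 1]), (58, true, [1, 3, 1, 0, 1, 0, 1, 3, 4, 0, 4, 3, 1, 3]), (256, true, [0, 1, 0, 1, 2, 0, 1, 0, 1, 3, 1, 3, 4, 3, 4, 3, 4, 0]), (245, false, [0, 1, 0, 4, 0, 4, 0, 1, 3, 1, 0]), (190, true, [2, 4, 3, 1, 3, 1, 0, 4, 0, 1]), (196, true, [2, 4, 0, 4, 3, 4, 0, 4, 3, 1, 0, 1, 0, 1]), (84, false, [1, 2, 0, 1, 3, 1, 0, 1, 3, 1, 0, 1, 3]), (247, false, [0, 1, 0, 1, 3, 4, 3, 4, 0, 1, 3, 4, 3]), (10, true, [0, 1, 2, 0, 4, 3, 4, 3, 4, 0, 4, 0, 1, 0]), (189, false, [0, 4, 3, 1, 3, 1,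 0, 1, 0, 1, 3, 4, 0, 4, 0]), (10, true, [1, 3, 4, 0, 1, 3, 1, 3, 1, 0, 1, 0, 1, 3, 4]), (215, false, [0, 2, 4, 0, 4, 3, 4, 3, 1, 0, 4, 3, 4, 3, 1]), (97, false, [1, 3, 1, 3, 1, 3, 4, 0, 4, 3, 4, 3, 4]), (189, true, [0, 1, 3, 4, 0, 4, 3, 1, 3, 1, 3, 4, 0, 4, 0]), (250, false, [4, 0, 4, 3, 1, 0, 4, 0, 4, 3]), (237, true, [1, 2, 0, 1, 3, 1, 0, 1, 3, 4, 3, 1, 0, 1, 0, 1, 0]), (245, false, [1, 0, 1, 3, 4, 3, 1, 0, 1, 3, 1, 3, 4, 0]), (228, false, [1, 0, 1, 0, 1, 2, 0, 4, 3, 4, 3, 4, 0]), (115, true, [0, 1, 3, 1, 3, 4, 0, 4, 0, 4, 0, 1, 3]), (89, false, [2, 4, 0, 4, 0, 1, 3, 4, 0, 4, 0, 1, 3, 4, 3]), (84, true, [1, 3, 4, 0, 1, 3, 1, 0, 4, 3]), (224, false, [1, 3, 1, 3, 4, 0, 1, 0, 1, 3, 1, 3, 4]), (237, true, [0, 1, 2, 0, 1,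 3, 1, 0, 4, 0, 4, 0, 1, 3, 1]), (189, false, [2, 4, 3, 1, 3, 1, 0, 1, 0, 1, 0, 1, 0]), (177, true, [1, 0, 1, 3, 1, 3, 1, 0, 1, 0, 1, 3, 1, 3, 4, 0]), (96, false, [1, 0, 1, 2, 0, 1, 0, 1, 0, 1, 3, 4, 0, 4]), (169, true, [0, 2, 4, 0, 4, 3, 1, 0, 1, 3, 1, 3]), (4, true, [2, 4, 0, 1, 0, 1, 0, 1, 0, 1, 3, 4, 3, 1, 0, 1]), (96, false, [1, 3, 1, 3, 1, 3, 1, 0, 1, 3, 4, 3, 1, 0, 4]), (169, false, [1, 2, 0, 4, 3, 1, 3, 1, 3, 4, 3, 4, 0, 1, 3]), (91, false, [4, 0, 4, 3, 4, 3, 4, 0]), (245, false, [0, 1, 3, 4, 0, 4, 3, 4, 0, 4]), (189, true, [0, 1, 2, 0, 4, 3, 4, 0, 1, 0, 1, 3, 4, 0, 4, 0]), (124, true, [0, 1, 2, 0, 4, 0, 4, 0, 4, 3, 1, 0, 1, 3, 4]), (86, true, [1, 0, 1, 3, 1, 3, 1, 3, 4, 0, 4, 3, 1, 0]), (91, false, [2, 0, 4, 0,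 4, 3, 4, 0, 1, 3, 4, 3, 4]), (231, true, [4, 0, 4, 3, 1, 0, 1, 0, 1, 0, 4, 3, 1]), (198, true, [3, 4, 3, 4, 0, 4, 0, 4, 3, 1, 0, 1, 3, 4, 0]), (154, false, [1, 2, 0, 1, 3, 1, 0, 1, 3, 4, 0]), (256, false, [2, 0, 4, 3, 4, 0, 1, 3, 1, 3, 1, 3, 4, 0, 1]), (256, false, [1, 0, 4, 3, 1, 0, 1, 0, 1, 0, 1]), (147, true, [1, 0, 4, 3, 4, 0, 1, 0, 1, 0, 4, 0, 4]), (196, true, [1, 0, 4, 3, 1, 0, 1, 0, 4, 0, 4, 0, 4]), (223, true, [3, 1, 0, 1, 3, 4, 3, 1, 0, 1, 3, 4, 0, 4]), (137, false, [0, 2, 4, 0, 1, 3, 1, 0, 4, 0, 4, 0, 4, 3, 1, 3]), (261, true, [2, 4, 3, 1, 3, 1, 0, 1, 0, 1, 3, 1, 3, 4, 0, 4]), (237, true, [0, 4, 3, 1, 3, 4, 0, 4, 0, 1, 3, 4, 3, 4, 0, 1]), (235, true, [2, 0, 1, 0, 4, 3, 4, 0, 4, 3, 4, 0, 1, 0, 1]), (128, false,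 [0, 1, 3, 4, 3, 4, 3, 4, 0, 4, 0, 4, 0, 4, 3, 4, 0]), (251, true, [4, 3, 4, 3, 1, 0, 1, 0, 1, 0, 1, 3, 1, 0]), (98, false, [4, 0, 4, 3, 1, 0, 1, 3, 1, 0, 1, 3]), (150, false, [0, 4, 3, 1, 0, 4, 3, 4, 0, 1, 0, 1]), (223, true, [0, 1, 2, 0, 1, 0, 1, 3, 1, 0, 1, 3, 1, 3, 1, 3, 4]), (202, false, [4, 0, 4, 0, 1, 3, 4, 3, 4, 0, 4, 0, 1]), (108, false, [4, 3, 1, 3, 4, 0, 1, 0, 1, 3, 1, 0]), (263, false, [0, 1, 0, 4, 3, 1, 0, 1, 3, 4, 0, 4, 0, 4, 0]), (79, false, [3, 1, 0, 1, 0, 4, 0, 4, 0, 1, 3, 1, 0, 1, 0]), (235, true, [4, 0, 1, 0, 1, 3, 1, 3, 1, 0, 4, 0, 4, 3, 1]), (256, true, [3, 1, 0, 1, 3, 4, 0, 4, 0, 4, 3, 4, 3, 1, 0]), (213, true, [0, 1, 0, 1, 2, 0, 4, 0, 4, 3, 1, 3, 1, 0, 1, 0, 1]), (152, false, [2, 4, 3, 4, 0, 1]),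 (208, false, [1, 0, 4, 0, 4, 0, 4, 3, 1, 3, 1, 0, 1, 0, 1, 0]), (62, true, [1, 0, 1, 0, 4, 3, 4, 0, 4, 3, 4, 0, 1, 0, 1, 3, 4]), (190, true, [0, 1, 0, 4, 3, 1, 0, 1, 3, 1, 3, 1, 0, 4, 0, 4]), (144, false, [0, 4, 0, 4, 0, 1, 3, 4, 3, 1, 0]), (124, true, [3, 1, 3, 1, 3, 1, 3, 1, 0, 4, 3, 1, 3]), (95, true, [0, 1, 3, 1, 0, 4, 3, 4, 0, 1, 3, 4]), (119, true, [3, 4, 3, 4, 3, 4, 0, 4, 3, 4, 0, 4]), (251, true, [3, 1, 3, 1, 0, 1, 3, 4, 0, 4, 0, 1, 3]), (128, false, [0, 1, 2, 0, 1, 0, 1, 3, 4, 0, 1, 0, 1, 3, 1]), (253, true, [4, 0, 1, 3, 1, 3, 4, 3, 4, 0, 4, 0, 4]), (152, false, [1, 0, 1, 3, 4, 0, 1, 3, 1, 3, 1, 3, 1, 0]), (223, true, [3, 4, 0, 1, 0, 1, 0, 1, 3, 1, 3, 1, 0, 4, 0]), (208, false, [1, 3, 1, 0, 1, 3, 4, 0, 4, 3,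 1, 3, 1, 0, 1]), (58, true, [1, 2, 0, 1, 3, 1, 3, 4, 3, 4, 3, 4, 0, 4, 3, 1, 3]), (245, false, [0, 4, 3, 4, 0, 4, 0, 1, 3, 4, 3, 4, 0, 1, 0]), (112, false, [0, 1, 2, 0, 4, 3, 1, 0, 1, 3, 4, 3, 1, 0, 1, 0]), (139, true, [2, 4, 0, 1, 3, 1, 0, 4, 0, 4, 3, 1, 3, 4, 0]), (223, false, [1, 2, 0, 1, 0, 4, 3, 1, 3, 4, 0, 4, 0, 1, 3, 1]), (261, true, [1, 0, 1, 0, 4, 0, 4, 3, 1, 0, 1, 3, 1, 0, 1, 0]), (120, true, [0, 4, 0, 1, 3, 1, 3, 4, 0, 1, 3]), (137, false, [3, 4, 0, 4, 3, 4, 3, 1, 0, 4, 0, 4, 3]), (86, true, [1, 2, 0, 4, 3, 4, 3, 1, 0, 4, 0, 4, 3]), (249, false, [0, 1, 3, 1, 0, 4, 3, 1, 0, 1, 0, 1, 3, 1]), (115, false, [0, 1, 0, 1, 2, 0, 4, 3, 4, 3, 4, 0, 4, 3, 1, 3, 1]), (89, false, [0, 1, 3, 1, 3, 1, 3, 1, 0, 1, 0, 1, 0,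 4, 3]), (80, false, [2, 4, 3, 4, 0, 1, 0, 1, 0, 1, 3, 4, 3, 4]), (245, false, [0, 1, 0, 2, 4, 3, 4, 0, 1, 3, 1, 0]), (66, true, [0, 4, 3, 4, 0, 4, 0, 4, 3, 4, 0, 1, 3]), (276, true, [0, 1, 3, 1, 3, 1, 0, 4, 0, 4, 3]), (276, true, [2, 4, 0, 1, 0, 1, 3, 4, 3, 4, 3, 4]), (4, false, [4, 3, 4, 3, 4, 0, 4, 3, 4, 0, 4, 0, 1]), (218, true, [0, 2, 4, 3, 4, 3, 1, 0, 1, 0, 1, 0, 4, 3, 1, 3]), (213, true, [3, 4, 0, 4, 3, 1, 3, 4, 0, 4, 0, 1, 3, 1, 0, 1]), (62, true, [0, 4, 0, 1, 3, 4, 3, 4, 0, 4, 3, 1, 3, 1]), (150, true, [1, 0, 2, 4, 0, 4, 3, 1, 0, 1, 0, 1, 3, 4]), (40, true, [1, 2, 0, 1, 3, 1, 0, 1, 3, 4, 0, 4, 3, 4]), (257, false, [1, 3, 1, 0, 1, 3, 4, 0, 1, 0, 1, 3, 1]), (1, true, [4, 3, 1, 0, 4, 3, 4, 0, 1, 0, 1, 0, 4]), (224,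 false, [2, 4, 3, 1, 0, 4, 3, 4, 3, 1, 0, 1, 0]), (237, true, [0, 1, 0, 1, 3, 1, 3, 1, 3, 1, 0, 4, 0, 4, 3]), (154, false, [0, 1, 0, 4, 0, 4, 3, 1, 0, 1, 3, 1])]
def r243 : List (ℕ × Bool × List ℕ) := [(252, true, [4, 0, 1, 0, 1, 0, 1, 0, 4]), (151, false, [2, 0, 4, 0, 4, 0, 1, 3, 1, 0, 4, 3, 4, 0, 4, 0]), (183, false, [4, 0, 4, 0, 4, 3, 1, 0, 1, 0, 4, 0, 4, 3]), (156, true, [2, 4, 3, 4, 0, 1, 0, 1, 3, 4, 0, 1, 3]), (117, false, [3, 1, 0, 1, 3, 4, 3, 4, 0, 4, 0, 1, 3]), (124, true, [2, 4, 0, 1, 0, 4, 3, 4, 3, 4, 0, 4, 3]), (183, false, [3, 4, 0, 4, 3, 1, 3, 1, 0, 1, 3]), (112, false, [2, 0, 1, 0, 1, 3, 4, 3, 1, 0, 1, 0, 1, 0, 1, 3, 1, 3]), (222, false, [1, 0, 4, 0, 4, 3, 1, 0, 1, 0, 4, 0, 4, 0, 1]), (171, true, [0, 2,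 4, 3, 4, 0, 4, 0, 1, 3, 4, 0, 4, 0, 4, 0]), (183, false, [3, 4, 0, 4, 3, 1, 3, 1, 0, 1, 3]), (257, true, [0, 2, 4, 3, 1, 3, 1, 0, 1, 0, 1, 0, 1, 3, 4, 0, 4]), (53, true, [1, 0, 2, 4, 0, 1, 3, 1, 0, 1, 0, 1]), (237, true, [0, 2, 4, 3, 1, 0, 4, 0, 4, 0, 4, 3, 1, 3, 1]), (253, true, [0, 1, 0, 1, 0, 1, 3, 4, 3, 4, 0, 4, 3, 1, 3, 1, 3, 1]), (150, true, [0, 1, 0, 2, 4, 0, 1, 0, 1, 0, 4, 3]), (133, true, [0, 1, 3, 4, 0, 4, 0, 1, 3, 4, 0, 1]), (243, false, [0, 4, 3, 4, 0, 4, 0, 1, 3, 1, 0, 1, 3, 4]), (232, true, [0, 1, 3, 1, 3, 1, 0, 1, 3, 4, 3, 4, 3, 4]), (254, true, [0, 4, 0, 4, 3, 1, 3, 1, 3, 4, 0, 4]), (232, true, [3, 4, 3, 4, 3, 1, 0, 1, 3, 1, 3, 1, 0, 1]), (136, false, [0, 4, 0, 4, 3, 1, 3, 1, 0, 1, 3, 4, 0]), (243, false,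 [0, 4, 3, 4, 0, 4, 0, 1, 3, 1, 0, 1, 3, 4]), (126, true, [0, 4, 3, 4, 0, 1, 3, 1, 3, 4, 0, 1]), (52, false, [1, 2, 0, 4, 3, 4, 0, 4, 3, 4, 0, 1, 3, 1]), (63, false, [2, 0, 4, 3, 4, 3, 4, 0, 1]), (23, false, [1, 3, 4, 3, 1, 0, 1, 3, 4, 0, 1, 0, 1, 0]), (167, true, [0, 1, 3, 1, 3, 4, 0, 4, 3, 4, 3]), (4, false, [2, 4, 0, 4, 0, 4, 3, 4]), (259, true, [1, 2, 0, 4, 3, 4, 0, 1, 3, 1, 3, 1, 3, 1]), (78, true, [1, 0, 4, 3, 1, 3, 1, 3, 4, 0, 1, 3, 1]), (72, false, [0, 1, 2, 0, 1, 3, 1, 0, 1, 0, 1, 3, 4, 0, 4, 3, 4]), (276, true, [0, 1, 3, 4, 0, 4, 0, 4, 0, 4, 0, 1]), (254, true, [2, 4, 0, 4, 3, 4, 0, 1, 0, 1, 3, 1, 3, 1]), (198, true, [1, 3, 4, 0, 4, 3, 4, 0, 1, 0, 1, 3]), (127, false, [0, 1, 3, 4, 0, 1, 3, 1, 3, 4, 0]), (146,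 false, [3, 4, 3, 4, 0, 1, 0, 1, 3, 1, 0, 4, 3]), (232, true, [1, 0, 4, 3, 4, 3, 4, 3, 4, 0, 4, 3]), (127, false, [0, 1, 0, 2, 4, 0, 4, 3, 1, 3, 1, 0, 1, 3, 1]), (0, true, [3, 1, 3, 1, 3, 4, 0, 4, 3, 1, 0, 1, 0]), (188, false, [2, 0, 1, 3, 4, 0, 4, 3, 4, 0, 4, 0, 4, 3, 4]), (23, false, [1, 0, 2, 4, 3, 4, 0, 4, 3, 1, 0, 1, 0]), (126, true, [2, 0, 4, 0, 1, 3, 1, 3, 1, 0, 4, 3, 1, 3, 4, 0, 4, 0]), (200, true, [0, 1, 2, 0, 4, 3, 4, 3, 4, 3, 4, 0, 4, 0, 4, 3, 1]), (153, false, [1, 0, 2, 4, 3, 4, 0, 4, 0, 4, 3]), (188, false, [1, 3, 1, 3, 4, 0, 1, 3, 1, 3, 1, 0, 1, 3, 4, 0]), (39, true, [4, 3, 1, 3, 4, 0, 1, 0, 1, 0]), (230, false, [3, 1, 0, 1, 3, 4, 3, 1, 0, 1, 3, 4, 0, 1]), (87, true, [1, 2, 0, 4, 3, 1, 3, 1, 0, 1, 0, 1, 3,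 4, 3]), (252, false, [1, 0, 1, 0, 2, 4, 0, 4, 0, 1, 3, 1, 3]), (252, true, [0, 4, 3, 4, 3, 1, 0, 4, 0, 4]), (121, false, [1, 3, 4, 0, 1, 0, 1, 0, 4, 3, 1, 3, 1]), (150, false, [3, 1, 3, 4, 0, 4, 0, 1, 3, 1, 0, 4]), (237, true, [0, 4, 3, 4, 0, 4, 0, 4, 0, 1, 3, 1, 3]), (212, true, [0, 1, 2, 0, 4, 3, 4, 0, 1, 3, 1, 3, 1, 0, 1, 3, 1]), (243, false, [0, 2]), (63, false, [0, 4, 3, 4, 0, 1, 0, 1, 3, 4, 0, 4, 3]), (122, false, [1, 2, 0, 1, 0, 1, 0, 4, 3, 4, 0, 1]), (24, true, [0, 1, 2, 0, 1, 0, 1, 3, 1, 0, 1, 3, 4, 0]), (68, false, [0, 1, 0, 1, 0, 1, 0, 2, 4, 3, 4, 3, 4, 0, 4, 3]), (171, true, [3, 1, 0, 1, 0, 1, 0, 4, 3, 4, 0, 4]), (172, true, [0, 4, 3, 4, 3, 4, 0, 4, 3, 4, 0, 4, 0, 1, 3]), (237, true, [1, 2, 0, 4, 3, 1, 3,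 1, 0, 1, 0, 1, 3, 4]), (2, false, [0, 4, 3, 1, 0, 1, 0, 1, 0, 1]), (246, true, [0, 1, 3, 1, 0, 1, 0, 1, 0, 1, 3, 4, 3, 4, 0, 1]), (183, false, [0, 2, 4, 0, 4, 3, 4, 3, 4, 0, 1, 3, 1, 0, 4, 0, 1]), (97, false, [0, 1, 0, 1, 3, 4, 0, 1, 3, 1, 3]), (122, false, [0, 4, 0, 4, 3, 4, 0, 1, 0, 1, 0, 4, 0, 4, 3]), (53, false, [0, 4, 0, 1, 0, 1, 3, 1, 3, 1, 0, 1, 0, 4]), (71, true, [1, 0, 1, 0, 4, 0, 4, 3, 1, 3, 1, 3, 1]), (152, true, [1, 0, 4, 3, 1, 3, 4, 0, 4, 3, 4, 3, 4]), (58, true, [1, 2, 0, 4, 3, 1, 0, 1, 0, 1, 0, 4]), (230, true, [1, 3, 4, 0, 4, 3, 1, 0, 4, 0]), (253, true, [0, 1, 0, 1, 2, 0, 1, 3, 1, 0, 4, 0, 4, 3, 4, 0]), (243, true, []), (200, true, [3, 1, 0, 4, 3, 4, 3, 4, 3, 4, 0, 4, 0, 4, 3, 1]), (108, false, [0, 4,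 0, 4, 0, 1, 3, 4, 3, 4, 3, 1, 3]), (94, true, [3, 1, 3, 1, 0, 4, 3, 4, 0, 4, 3, 1]), (68, false, [1, 3, 4, 3, 1, 0, 4, 3, 4, 3, 4, 0, 1]), (24, true, [0, 4, 0, 4, 0, 4, 3, 1, 0, 1, 3, 1]), (112, false, [0, 1, 3, 4, 0, 4, 0, 4, 3, 4, 0, 4]), (152, true, [2, 4, 0, 4, 3, 1, 3, 4, 0, 4, 0, 4, 0, 1, 3, 1]), (151, false, [0, 1, 0, 1, 0, 1, 3, 4, 3, 1, 0, 4, 3, 4, 3]), (58, true, [1, 0, 1, 0, 4, 3, 1, 0, 1, 0, 1, 3, 1, 3]), (257, true, [1, 2, 0, 1, 3, 4, 0, 4, 0, 4, 0, 4, 3, 4, 3, 1, 3]), (52, false, [4, 0, 4, 0, 4, 3, 4, 3, 4, 0, 4, 3, 4, 0]), (252, false, [2, 0, 4, 3, 1, 0, 1, 3, 1, 0, 1, 0, 4]), (17, true, [1, 0, 4, 0, 4, 0, 4, 3, 1, 0, 1, 3, 1, 3]), (183, false, [1, 2, 0, 4, 0, 1, 3, 1, 3, 4, 3, 4, 3]), (243, false, [3,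 1, 0, 1, 0, 4, 0, 4, 0]), (117, true, [0, 2, 4, 3, 4, 0, 4, 0, 1, 3, 4, 3]), (212, true, [3, 1, 0, 4, 3, 1, 3, 1, 0, 1, 3, 4, 0, 4]), (153, false, [0, 1, 0, 1, 3, 1, 3, 1, 3, 1, 3, 1, 3, 4]), (31, false, [0, 4, 3, 4, 0, 1, 3, 4, 3]), (4, true, [0, 1, 0, 4, 3, 1, 0, 1]), (259, true, [0, 4, 0, 4, 0, 4, 0, 1]), (259, false, [4, 3, 1, 3, 1, 0, 1, 0]), (237, true, [4, 0, 4, 0, 4, 3, 1, 3, 4, 0, 4, 3, 4, 3]), (124, true, [3, 1, 0, 4, 3, 1, 3, 4, 0, 4, 3, 4, 0, 4]), (213, false, [1, 0, 2, 4, 0, 1, 0, 4, 3, 4, 3, 4, 3, 4, 0, 4]), (213, false, [3, 1, 3, 1, 0, 1, 3, 4, 0, 4, 0, 1]), (232, true, [1, 3, 1, 0, 4, 3, 1, 3, 1, 3, 1]), (222, false, [2, 0, 4, 3, 4, 0, 4, 3, 1, 0, 1, 0, 4, 3, 4]), (71, true, [0, 1, 0, 1, 0, 1, 2]), (230,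 true, [2, 4, 3, 1, 3, 1, 3, 4, 0, 4, 0, 4]), (172, true, [1, 2, 0, 4, 0, 1, 3, 1, 3, 4, 3, 4, 0, 1]), (183, false, [0, 2, 4, 0, 4, 3, 4, 3, 4, 0, 1, 3, 1, 0, 4, 0, 1]), (165, false, [1, 0, 1, 3, 1, 0, 1, 0, 4, 3, 1, 3, 4, 0]), (165, true, [1, 0, 4, 3, 4, 0, 1, 0, 1, 0, 4, 3, 1, 3, 1]), (72, false, [0, 4, 0, 4, 0, 1, 3, 1, 3, 1, 3, 1, 0, 1, 3]), (276, true, [0, 2, 4, 0, 1, 0, 1, 0, 1, 3, 4, 0, 4, 0]), (87, true, [0, 4, 0, 1, 3, 4, 3, 4, 0, 1, 3, 4])]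
def r244 : List (ℕ × Bool × List ℕ) := [(164, true, [0, 4, 0, 4, 3, 1, 0, 1, 0, 1, 3, 1, 3, 1, 3]), (19, false, [2, 0, 4, 0, 1, 0, 1, 3, 1, 0, 1, 3, 1, 3, 1]), (98, true, [0, 1, 0, 4, 0, 4, 0, 4, 3, 1, 3]), (79, true, [1, 3, 4, 0, 4, 3, 4, 3, 1, 0, 4, 0, 4, 3, 4]), (274, true, [1, 0, 2, 4, 0, 1, 0, 4, 3, 4, 0, 1, 3, 4, 3]), (259, true, [0, 1, 3, 1, 3, 4, 0, 1, 0, 1, 3, 4, 0]), (224, false, [3, 4, 3, 4, 3, 1, 0, 1, 0, 1, 0, 1, 3]), (89, false, [0, 1, 2, 0, 4, 3, 4, 3, 1, 0, 1, 3, 1, 3, 4, 3]), (253, false, [2, 4, 0, 4, 0, 4, 3, 4, 3, 4, 3, 4, 3, 4]), (191, false, [0, 1, 2, 0, 1, 3, 4, 0, 1, 0, 1, 0, 4]), (262, false, [4, 0, 1, 0, 1, 3, 4, 3, 1, 0, 4, 3, 4, 3, 4, 0, 1]), (172, false, [0, 1, 0, 1, 3, 1, 3, 1, 3, 1, 0, 4,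 3]), (123, true, [0, 4, 0, 4, 0, 1, 3, 1, 0, 1, 0, 1, 3, 1, 0]), (188, true, [2, 0, 1, 3, 1, 0, 1, 3]), (124, false, [2, 4, 0, 1, 3, 1, 0, 4, 3, 1, 0, 1]), (177, true, [0, 1, 3, 4, 3, 1, 0, 4, 0, 4, 3, 1, 0]), (17, true, [3, 1, 3, 4, 0, 4, 3, 1, 3, 1, 3, 1]), (238, false, [1, 0, 2, 4, 3, 4, 0, 4, 0, 4]), (236, false, [2, 0, 1, 3, 4, 3, 4, 0, 1, 3, 4, 3, 4, 3]), (109, false, [1, 2, 0, 4, 0, 1, 3, 1, 3, 4, 0, 1]), (236, false, [0, 4, 3, 1, 3, 1, 0, 4, 0, 4, 3, 1, 0, 1, 3]), (47, false, [4, 3, 1, 0, 1, 3, 4, 0, 1, 0, 1]), (202, false, [1, 2, 0, 4, 3, 1, 0, 1, 3, 4, 3, 4]), (79, false, [1, 0, 4, 0, 4, 0, 4, 3, 1, 0]), (204, true, [0, 1, 0, 1, 2, 0, 1, 3, 4, 3, 4, 3, 1, 0]), (236, false, [1, 0, 2, 4, 0, 1, 3, 1, 0, 1, 0, 1,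 3, 4, 0, 1, 3]), (208, true, [1, 0, 2, 4, 3, 4, 3, 4, 0, 4, 3, 1, 3, 4, 0, 4]), (136, true, [0, 1, 3, 1, 3, 1, 0, 1, 3, 4, 3, 4, 3, 1, 0, 1, 0]), (7, false, [0, 1, 2, 0, 1, 0, 1, 3, 1, 3, 4, 0, 1, 0, 1, 0, 1, 3]), (6, true, [0, 1, 0, 1, 0, 2, 4, 3, 4, 3, 1]), (216, true, [2, 4, 0, 1, 0, 4, 3, 4, 3, 4, 3, 4, 3, 4]), (226, true, [1, 2, 0, 1, 3, 4, 0, 4, 0, 4, 3, 4, 0, 4, 3, 4]), (124, false, [0, 1, 0, 1, 3, 1, 3, 4, 0, 4, 0, 4, 0, 4]), (109, false, [4, 3, 1, 3, 1, 0, 1, 0, 1, 3, 1, 3, 1, 0, 1]), (36, true, [3, 1, 3, 4, 3, 4, 0, 1, 0, 1, 3, 4, 3, 1]), (270, false, [3, 1, 0, 4, 3, 4, 3, 4, 3, 4, 0, 1, 0, 1]), (186, false, [0, 1, 2, 0, 1, 3, 4, 0, 4, 3, 4, 0]), (94, true, [1, 3, 4, 0, 4, 3, 4, 3, 1, 0, 4, 0, 4, 3, 4]), (270,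 false, [0, 2, 4, 0, 4, 3, 4, 0, 4, 3, 4, 3, 4]), (238, false, [3, 4, 3, 1, 3, 1, 3, 1, 0, 4, 0]), (96, true, [1, 3, 1, 0, 4, 3, 4, 0, 4, 0, 4, 3, 1]), (208, true, [2, 4, 0, 4, 3, 4, 3, 4, 0, 4, 0, 1, 3, 4, 3, 1]), (79, false, [0, 1, 3, 1, 0, 1, 0, 4, 0, 4, 3, 1, 0]), (262, false, [3, 1, 0, 1, 3, 4, 3, 4, 0, 1, 3, 1]), (191, true, [1, 0, 1, 3, 1, 0, 1, 0, 4]), (96, true, [2, 0, 1, 3, 1, 0, 1, 0, 4, 0, 4, 0, 4]), (74, false, [4, 3, 4, 0, 1, 0, 1, 3, 1, 0, 4, 3]), (273, false, [2, 4, 3, 1, 0, 1, 3, 1, 0, 1, 3, 4, 3]), (183, false, [0, 2, 4, 0, 4, 3, 4, 0, 1, 3, 4, 3, 4, 0, 4]), (189, false, [0, 2, 4, 3, 1, 3, 1, 3, 1, 0, 1, 0, 1, 3, 1, 0, 4]), (189, false, [0, 4, 0, 4, 3, 4, 3, 1, 0, 1, 0, 4]), (129, false, [0, 1, 0, 1,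 0, 4, 3, 1, 3]), (177, true, [1, 0, 2, 4, 0, 1, 3, 4, 3, 4, 3, 1, 0]), (79, false, [3, 1, 3, 4, 0, 4, 3, 4, 3, 1, 0, 4, 0, 4, 3, 4]), (53, true, [3, 4, 3, 1, 3, 1, 0, 4, 3, 4, 3, 4, 0]), (281, true, [2, 4, 3, 4, 3, 1, 0, 4, 3, 4, 0]), (236, false, [0, 4, 0, 4, 0, 1, 3, 4, 3, 4, 0, 1, 0, 1]), (281, false, [0, 4, 0, 4, 3, 1, 3, 1, 0, 4, 0, 4, 3, 1]), (172, false, [0, 1, 2, 0, 1, 3, 1, 0, 1, 0, 4, 3, 1, 3, 4]), (60, true, [3, 4, 0, 4, 0, 4, 0, 4, 3, 1, 3, 4, 0, 1, 0]), (191, false, [1, 0, 4, 3, 1, 3, 1, 3, 4, 3, 4, 0, 4, 3, 1]), (166, false, [0, 1, 3, 1, 0, 1, 3, 1, 0, 1, 3, 1]), (79, false, [0, 1, 3, 4, 0, 4, 3, 4, 3, 1, 0, 4, 0, 4, 3, 4]), (79, true, [1, 3, 4, 0, 4, 3, 4, 3, 1, 0, 4, 0, 4, 3, 4]), (14, true, [4, 0, 4,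 3, 4, 3, 4, 0, 1, 3, 4, 3, 1]), (262, false, [0, 1, 0, 2, 4, 0, 4, 3, 1, 0, 1, 0, 1, 3, 1, 0, 1, 0]), (80, false, [0, 1, 3, 4, 3, 4, 0, 1, 0, 1, 3, 4, 0, 4]), (281, false, [0, 4, 3, 1, 0, 4, 3, 4, 3, 1, 0, 1, 0, 4, 0]), (123, true, [0, 2, 4, 0, 4, 0, 4, 3, 4, 0, 4, 3, 4, 0, 1]), (1, true, [2, 4, 3, 1, 3, 1, 0, 1, 0, 4, 3, 4, 3]), (137, false, [0, 4, 3, 4, 0, 1, 0, 1, 3, 1, 0, 1, 3, 4]), (269, true, [4, 3, 4, 3, 4, 3, 1, 0, 4, 0, 4, 3, 4, 0]), (105, false, [0, 4, 0, 4, 3, 4, 0, 4, 3, 4, 3]), (124, false, [3, 1, 0, 1, 3, 4, 0, 1, 0, 1, 3, 1, 0]), (244, false, [0, 4, 3, 4, 0, 4, 0, 1, 3, 1, 0, 1, 3, 4]), (262, false, [0, 1, 2, 0, 1, 0, 1, 3, 4, 3]), (241, true, [2, 0, 4, 0, 1, 3, 4, 3, 4, 0, 4, 3, 4]), (278, true, [3, 4,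 3, 1, 0, 1, 0, 4, 3, 4, 3, 1, 0]), (60, true, [1, 0, 4, 0, 4, 3, 1, 3, 1, 0, 1, 0, 4]), (172, false, [0, 4, 0, 4, 3, 4, 0, 4, 3, 1, 0, 1]), (89, false, [3, 4, 3, 1, 0, 1, 3, 1, 0, 1, 3, 4, 3, 4, 0, 1]), (137, true, [1, 2, 0, 1, 0, 4, 3, 1, 3, 1, 0, 1, 0, 4, 3]), (19, false, [3, 1, 0, 1, 3, 1, 3, 4, 3, 4, 3, 4, 3]), (269, true, [0, 1, 2, 0, 1, 3, 1, 3, 4, 3, 4, 3, 1, 0, 1, 0]), (172, false, [0, 1, 0, 1, 0, 1, 2, 0, 1, 0, 1, 0, 1, 3, 4, 3, 1, 0]), (185, false, [4, 3, 4, 3, 4, 0, 1, 3, 1, 0, 4, 3]), (164, true, [1, 0, 2, 4, 0, 1, 3, 1, 0, 4, 3, 4]), (228, false, [0, 2, 4, 3, 1, 3, 1, 0, 4, 3, 1, 0, 1]), (98, true, [2, 4, 3, 4, 0, 4, 0, 1, 3, 4, 0, 4, 3]), (281, true, [1, 0, 1, 3, 4, 3, 1, 0, 4, 3, 4, 0]), (174, true, [3,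 1, 0, 1, 0, 1, 3, 1, 3, 4, 0, 4]), (53, false, [2, 0, 4, 0, 4, 3, 1, 3, 1, 0, 1, 0, 1]), (191, true, [0, 1, 0, 1, 2, 0, 4, 3, 4, 3, 4, 0, 1, 3]), (15, true, [1, 0, 1, 3, 1, 0, 4, 3, 4, 3, 4, 0, 1]), (7, false, [1, 0, 4, 3, 4, 0, 1, 3, 1, 3, 1, 0, 1, 0]), (6, true, [0, 1, 3, 1, 3, 1, 0, 4, 3, 1, 3, 4, 0, 4, 0, 4]), (81, false, [2, 0, 4, 0, 1, 3, 4, 3, 1, 0, 1, 3, 1]), (188, true, [1, 0, 1, 3, 4, 0, 4, 0, 4, 3, 1, 0, 1, 0, 4]), (259, true, [3, 1, 3, 1, 3, 1, 0, 1, 0, 1, 3, 4, 0, 4, 3]), (158, true, [3, 1, 0, 4, 3, 4, 3, 4, 0, 4, 0, 4, 0, 1, 0]), (158, true, [1, 2, 0, 1, 3, 4, 0, 4, 3, 1, 0, 1, 0, 4, 0, 4]), (94, true, [3, 4, 0, 1, 0, 1, 3, 4, 0, 4, 3, 1, 3, 4, 0]), (253, false, [1, 3, 1, 0, 1, 0, 4, 0, 4, 0, 1, 3, 1, 3,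 4]), (1, true, [0, 2, 4, 0, 4, 3, 4, 0, 1, 3, 1, 0, 1, 3]), (105, false, [2, 0, 4, 0, 4, 0, 4, 0, 4, 3, 1, 3, 1, 0, 1]), (166, false, [0, 1, 2, 0, 1, 0, 4, 3, 4, 3, 1, 0, 1, 3, 4, 0]), (224, false, [1, 2, 0, 4, 0, 1, 3, 4, 0, 4, 3, 1, 3, 4, 0, 4, 3]), (75, false, [0, 1, 3, 4, 0, 1, 3, 1, 0, 1, 0]), (198, true, [1, 2, 0, 1, 0, 1, 3, 4, 0, 1, 0, 1, 3, 1]), (226, true, [4, 3, 1, 3, 4, 0, 4, 0, 4, 3, 4, 0]), (124, false, [2, 0, 4, 3, 1, 0, 1, 0, 4, 0, 4, 0, 1, 3, 1, 0, 4]), (183, false, [0, 4, 0, 1, 0, 1, 3, 1, 3, 1, 0, 1, 0, 1, 0, 1])]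
def r245 : List (ℕ × Bool × List ℕ) := [(170, true, [2, 4, 3, 1, 3, 1, 3, 1, 0, 4, 0, 4, 3, 4, 3]), (154, true, [2, 0, 4, 3, 4, 0, 1, 0, 1, 0, 4, 3, 4, 0, 4, 0, 4]), (10, true, [0, 1, 3, 4, 3, 4, 0, 1, 3, 4, 3, 1]), (247, true, [3, 1, 0, 4, 0, 4, 0, 4, 0, 4]), (133, true, [0, 2, 4, 0, 4, 3, 4, 3, 1, 3]), (60, true, [0, 1, 0, 2, 4, 0, 4, 3, 4, 3, 1, 0, 4, 0, 4, 3]), (185, true, [4, 0, 1, 0, 1, 3, 4, 3, 1, 0, 1, 3, 1, 3]), (224, false, [2, 0, 1, 0, 4, 3, 4, 3, 4, 0, 4, 3, 4, 0, 4, 3]), (205, false, [2, 0, 4, 0, 4, 3, 1, 3, 1, 3, 4, 3, 4]), (227, false, [1, 0, 4, 3, 1, 0, 1, 3, 1, 3, 1, 0]), (191, true, [1, 0, 1, 0, 1, 3, 4, 0, 4, 0, 4, 3, 1, 0, 1]), (62, false, [0, 1, 2, 0, 4, 3, 4, 3, 4, 0, 4, 0, 1, 3]), (245, false, [1,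 0, 4, 3, 4, 0, 1, 3, 1, 0, 1, 0, 1]), (158, false, [1, 2, 0, 1, 0, 1, 0, 4, 3, 1, 0, 1, 0, 1, 0, 4]), (157, false, [0, 1, 0, 2, 4, 3, 4, 0, 4, 3, 4, 0]), (70, true, [4, 0, 4, 0, 4, 0, 1, 3, 4, 3, 4]), (211, true, [1, 3, 1, 3, 1, 0, 1, 0, 1, 0, 4, 0]), (240, false, [0, 4, 3, 4, 3, 1, 0, 1, 3, 1, 0, 1, 0, 1]), (112, true, [1, 3, 1, 0, 4, 0, 4, 0, 4, 3, 1, 3, 1, 0]), (108, true, [0, 4, 0, 1, 3, 1, 3, 1, 3, 1, 0, 1, 0, 1, 3]), (112, true, [1, 2, 0, 1, 3, 4, 3, 4, 0, 1, 0]), (217, true, [1, 0, 2, 4, 0, 1, 3, 1, 3]), (246, true, [1, 3, 1, 0, 4, 0, 4, 3, 1, 0, 1, 0, 1]), (79, false, [1, 3, 4, 0, 1, 0, 1, 0]), (197, false, [0, 1, 0, 1, 3, 4, 3, 1, 0, 1, 0, 1, 0, 4, 0]), (72, false, [2, 0, 4, 0, 1, 0, 1, 3, 1, 3, 1, 3, 1]), (242,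 false, [0, 2, 4, 0, 1, 3, 1, 3, 4, 0, 4, 0, 4, 0, 4, 3]), (205, false, [0, 4, 3, 1, 0, 1, 3, 4, 3, 4, 0, 4, 0, 4]), (152, true, [3, 4, 0, 1, 0, 1, 3, 4, 3, 1, 0, 4, 3, 4]), (221, false, [0, 2, 4, 3, 4, 0, 1, 0, 1, 3, 1, 3, 1, 3]), (174, true, [1, 0, 1, 2, 0, 1, 3, 1, 0, 1, 3, 1, 3, 1]), (262, false, [0, 1, 0, 1, 3, 1, 3, 1, 3, 4, 3, 4, 0, 1, 3, 4]), (124, false, [3, 4, 3, 1, 0, 1, 3, 4, 3, 4, 0, 4, 0, 4]), (108, true, [3, 4, 0, 1, 3, 1, 3, 1, 3, 1, 0, 1, 0, 1, 3]), (83, false, [1, 3, 1, 0, 1, 0, 4, 0, 4, 3, 1, 0, 4, 3]), (221, true, [0, 1, 2, 0, 4, 3, 4, 0, 1, 3, 1, 3, 4, 3, 4, 3, 4]), (203, true, [1, 0, 2, 4, 0, 4, 3, 4, 3, 1, 0, 1, 3]), (262, true, [0, 4, 3, 1, 0, 4, 3, 4, 3, 4, 3, 1]), (221, true, [0, 1, 0, 1, 0, 1,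 0, 1, 0, 1, 3, 1, 3, 4, 0, 4]), (76, false, [0, 4, 3, 1, 3, 4, 0, 4, 3, 1, 0, 1, 0]), (181, true, [2, 4, 3, 1, 0, 1, 3, 4, 0, 4, 0, 4, 3]), (242, false, [3, 4, 0, 4, 3, 1, 3, 1, 3, 4, 3]), (79, false, [3, 1, 3, 4, 0, 1, 0, 1, 0]), (86, false, [2, 0, 1, 0, 1, 0, 4, 0, 4, 0, 4, 0, 4, 0]), (19, false, [0, 1, 2, 0, 4, 3, 1, 3, 1, 0, 1, 0]), (181, true, [4, 3, 4, 0, 4, 0, 4, 0, 4, 3, 4, 3, 1, 0]), (240, true, [3, 4, 0, 1, 3, 4, 0, 4, 0, 1, 3, 4]), (206, true, [4, 0, 1, 3, 1, 0, 4, 0, 4, 3, 4, 3, 4]), (260, true, [2, 0, 4, 3, 4, 3, 1, 0, 1, 3, 1, 3, 4, 0]), (237, true, [2, 4, 0, 4, 0, 4, 3, 4, 0, 4, 3, 4, 0]), (237, true, [1, 3, 1, 0, 4, 0, 4, 3, 4, 0, 4, 3, 4, 0]), (208, false, [0, 2, 4, 3, 4, 0, 1, 0, 1, 0, 1, 3, 4, 3, 1]),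 (70, true, [1, 2, 0, 4, 3, 1, 0, 1, 0, 1, 3, 4, 0, 4, 0, 1]), (212, true, [1, 0, 1, 0, 2, 4, 3, 4, 0, 4, 3, 4, 0, 4, 3]), (197, true, [0, 2, 4, 3, 1, 0, 4, 3, 4, 3, 4, 3, 4]), (130, true, [1, 0, 1, 0, 1, 3, 1, 3, 1, 3, 4, 0, 4]), (72, false, [1, 0, 1, 0, 1, 0, 4, 3, 4]), (185, false, [0, 2, 4, 0, 4, 3, 4, 0, 4, 0, 1, 0]), (203, false, [0, 2, 4, 3, 4, 3, 4, 3, 1, 0, 4, 3, 4, 3, 1]), (128, true, [0, 4, 0, 1, 3, 1, 0, 4, 3, 1, 3, 4, 0]), (227, false, [0, 1, 2, 0, 4, 0, 1, 3, 4, 3, 1]), (242, false, [1, 3, 1, 0, 1, 3, 1, 0, 4, 3]), (212, true, [0, 1, 0, 1, 3, 1, 3, 4, 0, 4, 3, 1, 0, 4]), (16, true, [0, 4, 3, 1, 3, 1, 0, 1, 3, 1, 0, 1]), (79, false, [4, 0, 1, 3, 1, 0, 1, 0, 1, 3, 4, 3, 1]), (191, true, [0, 2, 4, 3, 4, 3, 4,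 3, 1, 0, 4, 3, 4]), (108, false, [0, 4, 0, 4, 3, 1, 0, 1, 0, 1, 3, 1, 3, 4, 3]), (185, false, [4, 0, 1, 3, 1, 0, 1, 3, 1, 0, 1, 0, 1, 0]), (245, false, [0, 1, 3, 4, 0, 1, 3, 1, 0, 1, 3, 1]), (96, true, [0, 4, 0, 4, 0, 1, 3, 4, 3, 4, 0, 4, 3, 4]), (172, false, [1, 2, 0, 1, 0, 1, 3, 4, 0, 1, 3, 1, 3, 4, 0, 1]), (213, false, [0, 4, 3, 1, 3, 1, 0, 1, 3, 4, 0, 1]), (224, true, [1, 3, 4, 0, 4, 3, 4, 0, 4, 3, 1, 3, 1, 0, 4]), (157, false, [1, 3, 4, 3, 4, 0, 4, 0, 1, 3, 4, 0, 4, 0]), (140, false, [0, 1, 0, 2, 4, 0, 4, 3, 1, 0, 1, 0, 1, 3]), (86, false, [3, 4, 0, 4, 0, 1, 3, 4, 0]), (61, false, [0, 4, 3, 1, 0, 4, 3, 4, 3, 4, 0, 1, 3, 4]), (75, true, [1, 2, 0, 4, 3, 4, 0, 4, 3, 1, 3, 1]), (128, true, [2, 0, 1, 0, 1, 3, 4, 0, 1,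 3, 1, 3, 4, 0]), (203, false, [1, 0, 1, 0, 1, 2, 0, 1, 3, 4]), (224, false, [3, 4, 3, 4, 3, 4, 0, 4, 0, 4, 0, 4, 3, 1, 3, 4]), (172, false, [0, 4, 3, 1, 3, 4, 0, 4, 0, 4, 0, 4, 3, 1]), (154, true, [1, 3, 4, 3, 4, 0, 4, 0, 1, 3, 4, 0, 4, 3, 1]), (213, false, [1, 0, 1, 2, 0, 4, 0, 1, 3, 1, 0, 1, 3, 1, 0, 4, 3]), (62, false, [4, 3, 1, 3, 1, 3, 1, 0, 1, 0, 1, 3, 1, 3, 4]), (241, true, [3, 4, 3, 1, 0, 1, 0, 4, 3, 4, 0, 1, 3]), (170, true, [1, 0, 1, 3, 1, 0, 1, 3, 1, 0, 1]), (205, false, [0, 1, 0, 1, 0, 4, 0, 4, 0, 4, 3, 4, 3, 4]), (10, false, [0, 1, 3, 1, 0, 4, 3, 4, 3, 1, 0, 1, 3, 1]), (130, false, [1, 2, 0, 1, 0, 1, 0, 1, 3, 1, 3]), (44, true, [1, 0, 1, 0, 4, 0, 4, 0, 4, 3, 1, 0]), (197, true, [0, 2, 4, 3, 4, 0, 4, 3, 4,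 0, 1, 3, 4]), (19, false, [4, 0, 4, 3, 1, 3, 1, 0, 4, 3, 1, 0, 1]), (208, false, [0, 2, 4, 3, 4, 0, 1, 0, 1, 0, 1, 3, 4, 3, 1]), (152, true, [1, 0, 1, 2, 0, 1, 0, 4, 0, 4, 3, 1, 0, 1, 0, 4]), (221, false, [0, 1, 0, 1, 3, 1, 0, 1, 3, 4, 3, 1, 0, 4, 3]), (184, false, [4, 0, 4, 3, 4, 3, 4, 0, 4, 0]), (158, false, [0, 1, 0, 4, 3, 1, 3, 1, 3, 1, 0, 4, 3, 4, 3]), (60, true, [0, 1, 0, 2, 4, 0, 4, 0, 4, 3, 4]), (209, true, [0, 1, 0, 4, 3, 1, 3, 1, 0, 1, 0, 1, 3, 4, 3, 4]), (209, true, [0, 1, 2, 0, 1, 0, 1, 0, 1, 3, 4, 3, 4]), (262, true, [0, 1, 2, 0, 1, 0, 1, 3, 1, 3, 4, 0, 4, 0, 1]), (205, false, [1, 3, 1, 3, 4, 3, 4, 0, 4, 0, 4]), (96, true, [2, 4, 0, 1, 3, 4, 3, 4, 0, 1, 3, 4, 3, 1, 0]), (224, true, [2, 4, 3, 1, 0, 1, 0, 4,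 3, 4, 0, 4, 0, 1]), (242, false, [3, 1, 0, 4, 0, 4, 0, 4, 3, 1, 3, 4, 0, 4]), (185, true, [1, 0, 1, 2, 0, 4, 3, 1, 3, 1, 0, 4, 3]), (242, false, [3, 4, 3, 1, 0, 1, 0, 4, 3, 1, 3, 1, 0, 1, 3]), (251, false, [4, 0, 1, 3, 1, 0]), (262, false, [2, 4, 0, 4, 3, 4, 0, 4, 3, 1, 0, 4, 0, 4, 3, 4]), (124, false, [2, 4, 0, 4, 3, 1, 3, 1, 0, 1, 3, 4, 0]), (260, true, [3, 4, 0, 4, 0, 1, 3, 1, 0, 1, 3, 1, 0, 4, 0, 4, 0])]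
def r246 : List (ℕ × Bool × List ℕ) := [(112, true, [0, 1, 3, 1, 0, 4, 0, 4, 3, 4, 3, 4, 0, 4]), (140, false, [4, 0, 4, 0, 4, 0, 1, 3, 1]), (189, true, [4, 0, 4, 0, 1, 3, 1, 3, 1, 3, 1]), (140, false, [2, 4, 3, 4]), (38, true, [1, 0, 1, 0, 4, 0, 4, 0, 4, 0, 1, 3, 1, 0]), (203, false, [1, 2, 0, 1, 0, 1, 0, 1, 0, 4, 3]), (237, false, [2, 4, 0, 1, 3, 1, 3, 4, 0, 4, 3, 4, 0, 4, 3, 4]), (89, false, [1, 2, 0, 4, 3, 4, 3, 4, 0, 4, 3, 4, 3]), (158, true, [1, 3, 4, 0, 1, 0, 1, 3, 1, 0, 1, 3, 1, 3, 1]), (218, true, [1, 0, 1, 0, 4, 3, 4, 3, 4, 3, 4, 0, 4, 0, 4, 0]), (221, true, [4, 0, 4, 0, 1, 3, 1, 3, 1, 0, 1, 0, 1, 0]), (186, true, [2, 0, 4, 0, 1, 3, 1, 0, 1, 0, 1, 0, 4, 0, 4]), (268, false, [4, 0, 1, 3, 1, 0, 4, 3, 4, 3]), (218,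 true, [0, 4, 0, 1, 0, 1, 0, 4, 0, 4, 0, 4]), (255, false, [2, 0, 1, 3, 1, 0, 4, 0, 4, 3, 4, 3, 4, 3]), (170, true, [2, 4, 0, 1, 0, 4, 3, 1, 0, 1, 3, 4, 3, 1, 0, 1, 3, 4]), (107, true, [3, 4, 0, 4, 3, 4, 3, 4, 3, 1, 0, 1, 3]), (208, true, [0, 4, 0, 1, 3, 1, 3, 1, 3, 1, 3, 1, 0, 4, 0]), (114, false, [0, 1, 0, 1, 3, 4, 3, 1, 0, 1, 0, 1, 0, 4, 3, 4, 3]), (91, false, [4, 0, 4, 3, 1, 3, 1, 0, 1, 3, 4]), (114, false, [2, 4, 0, 1, 3, 1, 0, 1, 0, 1, 3]), (279, true, [2, 0, 4, 0, 1, 3, 1, 0, 4, 3, 4, 3]), (249, false, [0, 1, 3, 1, 0, 1, 3, 4, 0, 4, 3, 4, 0, 4]), (64, false, [2, 4, 0, 4, 0, 4, 3, 4, 0, 4, 3, 4, 3, 4, 0]), (177, true, [1, 3, 1, 3, 4, 3, 4, 0, 4, 0, 4, 3, 4, 3, 4]), (58, false, [2, 4, 3, 1, 3, 1, 3, 1, 0, 1, 0, 1,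 0, 4, 3, 4, 0]), (50, true, [1, 3, 4, 0, 1, 3, 4, 3, 4, 3, 4]), (38, true, [0, 1, 0, 4, 3, 4, 0, 1, 0, 1, 0, 1, 3]), (172, false, [0, 2, 4, 0, 4, 3, 1, 0, 1, 3, 1, 3, 1]), (177, true, [3, 1, 3, 4, 3, 4, 0, 1, 0, 4]), (121, false, [3, 4, 0, 4, 3, 4, 3, 4, 0, 1, 0, 1]), (204, false, [3, 4, 0, 4, 3, 4, 3, 4, 0, 4]), (64, false, [1, 0, 2, 4, 3, 1, 0, 1, 0, 1, 3, 1]), (91, false, [0, 1, 2, 0, 1, 0, 1, 3, 4, 3, 4, 0, 1, 3, 1, 3]), (271, false, [0, 1, 0, 1]), (76, false, [4, 0, 1, 3, 4, 3, 4, 0, 4, 0, 1]), (231, false, [0, 1, 0, 1, 0, 1, 3, 1, 3, 4, 0, 4, 3, 1, 3]), (212, false, [4, 3, 4, 0, 1, 3, 1, 3, 4, 0, 4, 3, 1, 0, 4]), (76, false, [0, 4, 0, 1, 0, 1]), (257, false, [3, 4, 3, 1, 0, 1, 0, 4, 3, 1, 3, 1, 0, 1, 3]), (169,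 false, [3, 1, 3, 4, 3, 4, 0, 4, 0]), (50, true, [1, 3, 1, 0, 4, 3, 1, 0, 1, 0, 1]), (64, false, [0, 4, 3, 4, 0, 4, 3, 1, 3, 1, 0, 1, 0, 1]), (230, false, [4, 3, 1, 3, 1, 3, 1, 0, 1, 0]), (170, true, [0, 1, 3, 4, 0, 4, 0, 1, 3, 1, 0, 4, 3, 1]), (169, false, [2, 0, 1, 0, 4, 3, 4, 0, 4, 0]), (16, true, [0, 4, 3, 1, 0, 1, 3, 4, 3, 4, 0, 1, 3, 4]), (243, true, [2, 0, 4, 0, 1, 3, 1, 3, 4, 3, 4, 0, 1, 3, 4, 0]), (234, true, [1, 0, 1, 3, 4, 3, 1, 0, 1, 0, 1, 3, 1]), (40, true, [1, 3, 1, 3, 1, 0, 1, 3, 1, 0, 1, 0]), (40, true, [2, 0, 4, 0, 1, 3, 1, 3, 4, 0, 1, 0, 1, 0, 1]), (247, false, [1, 3, 4, 3, 4, 0, 4, 3, 1, 0, 1, 0, 1, 0, 1]), (170, true, [4, 3, 1, 3, 1, 0, 1, 0, 1, 0, 1, 3, 4, 0]), (183, true, [1, 0, 1, 0, 4, 0, 4, 3,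 4, 3, 4, 0, 4, 3]), (76, false, [0, 4, 0, 4, 0, 4, 0, 1, 3, 1, 0, 4, 3, 1]), (3, true, [2, 0, 1, 0, 4, 0, 4, 0, 4, 3, 1, 3, 1, 0, 4, 3]), (58, false, [4, 0, 4, 0, 4, 3, 1, 3, 1, 0, 4, 3, 1, 0]), (224, false, [1, 0, 1, 3, 1, 3, 1, 3, 1]), (91, true, [0, 1, 0, 4, 3, 1, 3, 1, 3, 4, 3]), (179, false, [0, 1, 2, 0, 1, 3, 1, 0, 1, 0, 4, 3, 1, 3, 1]), (218, true, [1, 0, 1, 0, 2, 4, 0, 1, 3, 1, 3, 4]), (234, true, [0, 4, 0, 4, 3, 4, 3, 1, 0, 4, 0, 4, 3, 1, 0]), (183, true, [0, 2, 4, 0, 1, 0, 4, 3, 4, 3, 1, 0, 1, 3]), (238, false, [4, 3, 4, 3, 4, 0, 1, 3, 1, 0, 1, 3]), (15, true, [0, 4, 0, 1, 0, 1, 3, 4, 3, 1, 0, 4]), (221, true, [0, 1, 2, 0, 1, 0, 1, 0, 1, 3, 4, 3, 1, 0, 4, 0, 4]), (51, false, [1, 0, 4, 0, 4, 0, 4, 3, 1, 3, 1,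 0, 4, 0, 4]), (224, false, [0, 2, 4, 3, 4, 3, 4, 3, 4, 3, 1, 0]), (268, false, [0, 1, 2, 0, 4, 3, 4, 0, 1, 3, 1, 3, 4, 0, 4, 0]), (40, true, [0, 4, 3, 4, 3, 4, 3, 1, 0, 4, 3, 1]), (221, true, [0, 1, 0, 2, 4, 0, 4, 0, 4, 3, 4, 3, 1, 3]), (181, true, [1, 2, 0, 4, 0, 4, 0, 4, 3, 4, 0, 1, 3]), (123, false, [4, 3, 1, 0, 4, 0, 4, 0, 4, 3, 4, 0, 4, 3, 1]), (255, false, [1, 0, 1, 3, 1, 3, 1, 0, 4, 0, 4, 3, 1, 0, 1, 0]), (245, true, [1, 3, 1, 0, 4, 0, 4, 3, 1, 0, 1, 0, 1]), (230, false, [1, 0, 2, 4, 3, 1, 0, 4, 0, 4, 0, 4, 3]), (81, false, [1, 3, 1, 0, 1, 0, 1, 3, 1, 0, 4, 3, 1, 3]), (146, false, [0, 4, 0, 1, 3, 1, 0, 1, 3, 1, 0, 4, 3]), (179, false, [0, 1, 0, 1, 3, 4, 0, 4, 3, 1, 3, 1, 3, 1, 0, 4]), (91, true, [0, 2, 4, 0, 4,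 0, 1, 3, 1, 3, 4, 0, 4, 0, 4, 0, 4, 3]), (89, false, [0, 1, 0, 1, 0, 4, 0, 4, 0, 4, 3, 4, 0, 4, 3, 1]), (221, true, [1, 3, 1, 3, 1, 0, 1, 0, 1, 3, 4]), (140, false, [1, 2, 0, 1, 0, 1, 3, 4, 3, 1, 0, 1, 3, 4, 0]), (181, true, [3, 1, 3, 1, 3, 4, 3, 4, 3, 4, 0, 4, 3, 4, 0, 1]), (186, true, [1, 0, 1, 0, 1, 0, 4, 0, 4, 3, 1, 0, 4, 3]), (9, true, [3, 4, 3, 4, 0, 4, 3, 1, 3, 1, 3, 1]), (112, true, [2, 4, 0, 4, 3, 4, 0, 4, 3, 4, 3, 4, 3, 1, 0]), (173, false, [4, 3, 1, 3, 1, 3, 1, 0, 1, 0, 1]), (189, true, [0, 2, 4, 3, 1, 3, 1, 0, 4, 0, 4, 0, 1]), (3, true, [4, 0, 4, 3, 1, 3, 4, 0, 4, 3, 4, 0, 4, 0, 1]), (119, true, [0, 2, 4, 3, 1, 0, 4, 0, 4, 3, 4, 0, 1]), (76, false, [3, 1, 0, 1, 3, 4, 3, 4, 0, 4, 0, 4, 3, 4]), (170, true, [2,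 4, 0, 4, 0, 4, 3, 4, 3, 1, 0, 1, 0, 1, 0]), (76, true, [0, 2, 4, 3, 1, 0, 1, 0, 1, 3, 1, 3, 4, 0, 1]), (172, false, [4, 3, 4, 3, 1, 0, 1, 0, 4, 0, 4, 3, 4, 3]), (177, true, [0, 4, 3, 1, 3, 1, 3, 4, 3, 4, 3, 4, 3, 1]), (280, true, [3, 4, 0, 4, 0, 4, 3, 4, 3, 4, 3, 4, 0]), (218, true, [0, 1, 0, 2, 4, 0, 4, 3, 4, 3, 1, 0, 1, 3, 1, 0, 1]), (203, false, [1, 2, 0, 4, 0, 4, 0, 4, 3, 1, 0, 1, 3, 1, 3]), (151, true, [2, 0, 4, 3, 4, 3, 1, 0, 1, 3, 4, 3, 4, 3, 4]), (151, true, [3, 4, 0, 1, 0, 1, 0, 4, 0, 4, 3, 1, 0, 1, 3, 1, 0]), (212, false, [2, 0, 4, 0, 1, 0, 1, 3, 1, 3, 1, 3, 1, 0, 4, 3]), (158, true, [1, 2, 0, 1, 0, 1, 3, 1, 3, 4, 3, 4, 3, 4, 3]), (40, true, [2, 0, 1, 3, 4, 0, 1, 3, 1, 0, 4, 0]), (123, false, [1, 0, 2, 4, 0,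 1, 3, 1, 0, 1, 0, 4, 3, 4]), (234, true, [2, 4, 0, 4, 3, 4, 0, 1, 3, 4, 3, 4, 0, 1, 0]), (237, false, [1, 0, 1, 0, 1, 0, 1, 3, 4, 0, 4, 3, 1, 3, 4, 0]), (76, true, [0, 2, 4, 3, 1, 0, 1, 0, 1, 3, 1, 3, 4, 0, 1]), (275, false, [1, 0, 1, 0, 1, 0, 1, 0, 1, 3, 4, 3, 1, 0, 1]), (204, false, [4, 3, 1, 0, 4, 3, 4, 3, 4, 0, 1, 3, 1, 0]), (64, false, [0, 4, 0, 1, 3, 4, 3, 1, 0, 1, 0, 1, 3, 1, 3]), (234, true, [0, 1, 2, 0, 4, 0, 1, 3, 1, 0, 1, 3, 1, 3])]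
def r247 : List (ℕ × Bool × List ℕ) := [(191, true, [1, 0, 1, 3, 1, 0, 1, 0, 1, 3, 4, 3, 1, 0]), (271, true, [1, 0, 1, 2, 0, 4, 0, 1, 3, 1, 3, 4, 0]), (152, true, [3, 4, 3, 1, 0, 4, 3, 4, 0, 1, 0, 1, 0, 1]), (6, false, [3, 1, 0, 4, 0, 4, 3, 4, 0, 1, 0, 1, 0, 1]), (169, false, [4, 3, 4, 0, 4, 3, 4, 3, 4, 0, 4, 0, 4]), (207, true, [4, 0, 1, 0, 1, 0, 4, 0, 4, 3, 4, 0, 1]), (153, true, [0, 1, 3, 1, 0, 1, 3, 4, 3, 4, 0, 4, 3, 1, 0]), (247, false, [0, 4, 3, 1, 3, 1, 0, 1, 3, 4, 0, 4, 0]), (56, true, [0, 4, 3, 1, 3, 1, 3, 1, 0, 4, 0, 4, 3, 1, 3, 4]), (169, false, [0, 4, 0, 4, 3, 4, 3, 4, 0, 4, 3, 4, 3, 1]), (97, true, [1, 0, 1, 0, 1, 0, 4, 0, 4, 3, 4, 3, 4]), (76, true, [1, 0, 2, 4, 0, 1, 3, 1, 0, 4, 0, 4]), (150, false, [2,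 0, 4, 0, 1, 3, 4, 3, 4, 3, 4, 3, 1]), (256, false, [2, 0, 4, 0, 4, 0, 1, 3, 4, 0, 1]), (169, false, [3, 1, 3, 1, 3, 1, 3, 4, 0, 1, 3, 1]), (149, false, [2, 4, 3, 4, 0, 1, 3, 1, 0, 1, 0, 1, 0, 4, 0, 4]), (108, true, [0, 1, 3, 4, 3, 4, 3, 1, 0, 4, 0, 4, 0, 1, 0]), (220, true, [0, 4, 3, 1, 0, 1, 3, 1, 3, 4, 0, 4, 3, 1]), (55, true, [1, 2, 0, 4, 3, 1, 3, 1, 0, 1, 3, 1, 3]), (153, true, [0, 1, 3, 1, 3, 4, 0, 4, 0, 4]), (191, true, [2, 0, 1, 3, 4, 3, 4, 0, 4, 0, 4, 3, 4, 3, 1]), (91, true, [4, 3, 4, 3, 1, 0, 1, 3, 1, 3, 4, 0, 4, 3, 4]), (98, false, [0, 1, 0, 1, 0, 2, 4, 0, 1, 3, 1, 3, 4]), (189, false, [1, 3, 4, 3, 4, 0, 1, 0, 1, 3, 4, 3, 4, 0, 4]), (156, true, [0, 1, 0, 4, 3, 4, 3, 1, 0, 4, 3, 4, 0, 4, 3]), (239, true, [3,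 4, 0, 4, 0, 1, 3, 4, 0, 4, 3, 1]), (153, true, [1, 0, 2, 4, 0, 1, 3, 1, 3, 4, 3, 4, 3, 4]), (177, false, [0, 1, 3, 1, 0, 1, 3, 1, 3, 4, 3]), (86, false, [0, 1, 2, 0, 4, 0, 4, 3, 4, 3, 1, 0, 4, 3, 4, 3, 1]), (231, true, [2, 0, 1, 0, 1, 0, 4, 3, 1]), (231, true, [0, 1, 0, 4, 3, 4, 3, 4, 0, 1, 3, 1, 3, 4, 3]), (143, false, [3, 4, 0, 4, 0, 1, 3, 1, 0]), (226, true, [1, 2, 0, 1, 3, 1, 0, 1, 3, 4, 3, 4, 0, 4, 3, 1, 3]), (176, true, [2, 4, 0, 1, 3, 1, 0, 4, 3, 4, 0, 4, 0]), (7, false, [1, 0, 1, 3, 1, 3, 1, 3, 1, 0, 1, 0]), (153, true, [2, 0, 1, 0, 1, 3, 1, 0, 1, 3, 1, 3, 1, 0, 4, 0]), (153, true, [1, 0, 4, 0, 4]), (261, true, [1, 0, 4, 3, 1, 3, 4, 0, 4, 0, 4]), (72, false, [1, 2, 0, 1, 0, 4, 3, 1, 3, 1, 0, 1, 0, 4, 3, 1, 3]),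 (241, true, [3, 4, 3, 1, 0, 1, 3, 4, 0, 4, 0, 4, 0, 1, 3]), (236, true, [2, 0, 1, 0, 1, 0, 4, 3, 4, 0, 4, 3, 4, 0, 1]), (245, true, [1, 3, 1, 3, 1, 3, 1, 3, 4, 0]), (257, false, [1, 3, 1, 3, 1, 3, 1, 0, 1, 0, 1, 3, 4, 0]), (242, false, [0, 1, 0, 4, 3, 1, 0, 1, 0, 4, 3, 4, 3]), (188, false, [0, 4, 3, 1, 3, 1, 0, 4, 3, 1, 3, 4]), (147, false, [1, 0, 4, 3, 1, 0, 1, 3, 4, 3, 4, 3, 4, 0, 1]), (128, false, [0, 4, 0, 1, 3, 1, 0, 1, 0, 4, 3, 4, 0, 4, 0]), (95, true, [0, 4, 3, 1, 3, 4, 0, 1, 3, 1, 0, 1]), (56, true, [1, 0, 1, 0, 1, 3, 4, 3, 4, 0, 1, 3]), (253, true, [2, 4, 3, 4, 3, 4, 3, 4, 0, 1, 0, 1, 3, 4, 0]), (111, false, [1, 0, 1, 3, 1, 3, 4, 0, 4, 0, 4, 3, 4, 0, 1]), (152, true, [2, 4, 3, 4, 0, 4, 0, 1, 3, 4, 3, 4, 0, 1,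 0, 4]), (121, false, [2, 0, 4, 3, 1, 3, 1, 0, 4, 3, 1, 3, 1]), (213, false, [0, 2, 4, 0, 4, 3, 1, 3, 1, 0, 4, 3, 1, 3]), (261, true, [0, 2, 4, 3, 1, 3, 1, 3, 4, 3, 4, 0, 4, 0, 4, 0, 1]), (253, true, [0, 1, 0, 4, 3, 4, 3, 1, 0]), (50, false, [4, 3, 4, 0, 4, 3, 1, 0, 4, 0, 4]), (144, true, [3, 1, 0, 4, 3, 1, 3, 1, 0, 1, 0, 4]), (128, false, [2, 4, 0, 4, 3, 1, 0, 1, 0, 1, 3]), (82, true, [4, 0, 4, 0, 1, 3, 1, 0, 4, 0]), (76, true, [2, 4, 0, 4, 3, 4, 0, 4, 0, 4, 0, 1, 0]), (249, true, [4, 0, 1, 3, 1, 3, 1, 0, 1, 0, 4]), (146, false, [3, 4, 0, 4, 0, 1, 3, 1]), (236, true, [1, 3, 4, 3, 1, 0, 1, 0, 1, 0, 1, 3, 4, 3, 1, 0]), (204, true, [4, 0, 4, 3, 4, 0, 4, 0, 4, 3, 1, 0, 1, 3, 4, 3]), (236, true, [0, 2, 4, 0, 1, 3, 1, 3, 4,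 0, 1, 0, 1, 3, 4]), (189, false, [0, 2, 4, 3, 4, 3, 4, 3, 1, 0]), (98, false, [0, 1, 3, 1, 0, 4, 3, 1, 3, 4, 0, 4, 3, 4]), (181, true, [2, 4, 0, 4, 0, 4, 3, 4, 3, 4, 0, 4, 0, 4, 0, 1, 3]), (111, false, [2, 0, 1, 3, 4, 3, 4, 0, 4, 0, 4]), (60, true, [3, 1, 0, 1, 0, 1, 0, 4, 3, 1, 3]), (72, false, [1, 0, 4, 0, 4, 0, 1, 3, 1, 0, 1, 0, 4, 3]), (156, true, [0, 1, 3, 1, 0, 4, 3, 1, 3, 1]), (256, false, [1, 0, 1, 3, 1, 3, 1, 0, 4, 3, 4, 3, 4, 0, 1, 3]), (236, true, [0, 4, 3, 1, 0, 1, 3, 1, 3, 4]), (204, true, [2, 4, 0, 4, 3, 4, 0, 1, 0, 1, 3, 1, 0, 4]), (75, false, [3, 1, 3, 1, 3, 1, 0, 1, 0, 4, 3, 4]), (213, false, [3, 4, 0, 4, 3, 1, 3, 1, 0, 4, 3, 1, 3]), (91, true, [2, 0, 4, 3, 4, 0, 1, 3, 1, 3, 1, 3, 4, 3]), (273, true,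 [4, 0, 1, 0, 1, 3, 1, 3, 1, 3, 1, 0]), (111, false, [2, 0, 4, 3, 1, 0, 4, 0, 4, 3, 1, 3, 4, 0, 4]), (220, true, [2, 4, 3, 4, 3, 4, 0, 1, 3, 4, 3, 4, 3]), (241, true, [3, 4, 0, 1, 3, 1, 0, 1, 0, 4, 3, 1]), (52, true, [4, 3, 4, 3, 4, 0, 1, 3, 1, 3, 4, 0]), (194, false, [3, 1, 3, 1, 0, 4, 0, 4, 3, 4, 3, 4, 0, 1]), (153, true, [2, 4, 3, 4, 3, 4, 3, 4, 0, 1, 3, 1, 0, 1, 3, 1]), (111, false, [4, 0, 4, 0, 4, 3, 1, 0, 1, 3, 1, 0, 1, 3]), (76, true, [0, 4, 3, 1, 0, 4, 0, 4, 3, 1, 3, 4, 0, 4, 3, 4]), (136, true, [0, 1, 3, 4, 0, 1, 0, 1, 3, 4, 0, 4]), (247, false, [1, 0, 2, 4, 3, 4, 3, 4, 0, 4, 3, 4, 0, 1, 0, 4]), (56, true, [3, 1, 3, 4, 0, 4, 0, 1, 3, 4, 3, 4, 0, 4, 3]), (181, true, [0, 4, 3, 4, 0, 1, 3, 1, 3, 4, 0, 4]), (86, false,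 [4, 0, 1, 3, 1, 3, 4, 0, 4, 0, 4, 0, 4]), (149, false, [0, 1, 0, 1, 0, 4, 3, 1, 0, 1, 0, 4, 3, 4, 3, 4]), (226, true, [4, 0, 4, 3, 1, 3, 1, 3, 1, 0, 4, 0, 1]), (217, false, [0, 1, 0, 2, 4, 0, 1, 3, 1, 3, 1, 0, 1, 0]), (50, false, [1, 0, 1, 3, 4, 0, 1]), (249, true, [1, 3, 1, 3, 1, 0, 1, 3, 1, 0, 1, 3]), (7, false, [2, 0, 1, 0, 4, 3, 4, 0, 1, 0, 1, 3, 1, 3, 1]), (6, false, [1, 0, 2, 4, 0, 4, 3, 4, 3, 4, 0, 4, 3, 1]), (228, true, [2, 0, 1, 0, 4, 3, 1, 3, 1, 3, 4, 0]), (150, false, [0, 1, 0, 4, 3, 1, 3, 4, 0]), (246, false, [4, 0, 4, 3, 1, 0, 1, 0, 1, 3, 4, 0, 4, 3, 1]), (55, true, [0, 2, 4, 3, 1, 3, 1, 0, 1, 0, 1, 3, 1, 3]), (60, false, [0, 1, 2, 0, 1, 0, 1, 0, 4, 0, 4, 3, 1, 0]), (169, false, [0, 1, 3, 4, 0, 4, 0, 1, 3,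 4, 0, 4, 3]), (52, true, [0, 1, 3, 1, 0, 1, 3, 4, 0, 4, 3, 4, 0, 4]), (169, false, [2, 4, 0, 1, 3, 4, 3, 1, 0, 1, 3, 4, 0, 1, 0, 4]), (251, true, [0, 1, 3, 1, 3, 4, 3, 4, 0, 1, 3, 1, 0, 4]), (108, true, [3, 1, 3, 1, 0, 4, 0, 4, 0, 1, 3, 1, 0, 4, 0, 4]), (188, false, [0, 2, 4, 0, 1, 0, 1, 3, 4, 3, 4, 0, 1, 0, 1, 3, 4]), (95, true, [0, 1, 3, 4, 3, 1, 0, 1, 0, 1, 0, 4, 3])]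
def r248 : List (ℕ × Bool × List ℕ) := [(178, false, [4, 3, 4, 0, 1, 0, 1, 3, 4, 3, 1, 0, 1, 0]), (95, true, [0, 1, 3, 4, 0, 4, 0, 1, 3, 4, 0]), (90, false, [3, 4, 0, 4, 0, 1, 3, 1, 3, 4, 3, 4, 0, 4]), (199, true, [1, 3, 4, 0, 4, 3, 1, 3, 1, 3, 1, 0, 4, 0]), (37, false, [0, 4, 0, 1, 3, 1, 3, 1, 0, 1, 0, 4, 3]), (197, true, [0, 2, 4, 3, 1, 0, 1, 3, 4, 0, 4, 0, 4]), (248, true, []), (65, true, [1, 0, 1, 0, 2, 4, 0, 1, 0, 4, 3, 4, 0, 1, 0, 1]), (199, false, [4, 0, 4, 0, 1, 3, 1, 3, 4, 0, 4, 0]), (22, false, [0, 4, 3, 1, 0, 4, 3, 4, 3, 4, 3, 4]), (120, false, [2, 4, 3, 4, 0, 4, 3, 1, 3, 1, 0, 4, 0, 1]), (126, true, [0, 2, 4, 3, 1, 3, 1, 0, 1, 3, 4, 3, 1, 0, 1]), (112, true, [1, 3, 1, 3, 1, 3, 4, 0, 4, 3, 4, 3, 1, 0, 4]),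 (86, false, [0, 1, 2, 0, 1, 0, 4, 3, 4, 0, 1, 0, 1, 0, 4, 3, 4]), (199, true, [0, 2, 4, 3, 1, 0, 4, 3, 4, 3, 4, 0, 4, 3, 1, 0, 4]), (3, true, [2, 4, 0, 4, 3, 4, 3, 1, 0, 1, 3, 1, 0]), (234, true, [3, 1, 3, 4, 0, 1, 3, 1, 3, 4, 3, 4, 0, 4, 3]), (182, true, [1, 3, 4, 3, 1, 0, 1, 0, 4, 3, 1, 0, 1, 0, 4, 0]), (95, true, [0, 2, 4, 0, 4, 3, 4, 0, 4, 0, 4, 3, 1, 3, 4]), (263, true, [0, 4, 3, 1, 0, 1, 3, 1, 0, 1, 3]), (178, false, [0, 2, 4, 3, 4, 3, 4, 3, 4, 0, 4, 0, 4, 3, 1, 0, 1]), (73, false, [1, 2, 0, 1, 0, 4, 3, 1, 0, 1, 0, 1, 0, 4]), (261, true, [1, 2, 0, 4, 3, 1, 3, 1, 0, 1, 0, 1, 3, 4, 3]), (168, true, [0, 4, 3, 4, 0, 1, 0, 1, 0, 1, 3, 1, 0, 1]), (200, false, [1, 0, 1, 0, 1, 0, 1, 0, 1, 2, 0, 4, 0, 4, 3, 4, 0]), (205,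 true, [0, 2, 4, 0, 1, 0, 1, 3, 4, 0, 1, 3, 1]), (182, true, [2, 0, 4, 3, 1, 3, 1, 0, 4, 3, 1, 3, 1, 3, 1]), (49, true, [1, 0, 1, 3, 4, 0, 1, 0, 1, 3, 4, 3, 1]), (7, false, [0, 1, 2, 0, 1, 0, 1, 3, 1, 3, 4, 0, 4, 3, 1, 0, 4]), (148, false, [2, 0, 4, 0, 1, 3, 1, 0, 4, 0, 4, 3]), (148, false, [1, 0, 1, 0, 4, 0, 4, 3, 1, 3, 1, 3, 1]), (37, false, [1, 0, 1, 3, 1, 0, 1, 3, 4, 3, 1, 0, 1, 0]), (28, true, [1, 0, 4, 0, 1, 3, 1, 0, 1, 0, 1, 0, 4, 0]), (146, false, [3, 4, 0, 4, 3, 1, 0, 1, 0, 1, 0, 1]), (69, false, [2, 0, 4, 3, 1, 3, 1, 0, 4, 3, 4, 0, 1, 3, 1]), (248, true, []), (182, true, [0, 1, 3, 4, 0, 4, 0, 1, 3, 4, 0, 4, 3, 1, 3, 1]), (155, false, [4, 0, 4, 3, 1, 0, 1, 3, 4, 3, 1, 0, 4, 3, 4]), (261, false, [0, 4, 0, 4, 3,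 1, 0, 1, 0, 1, 3, 1, 3, 1, 3, 4]), (116, true, [2, 0, 1, 0, 4, 0, 4, 3, 4, 3, 4, 3, 4, 3, 4, 3]), (95, true, [1, 2, 0, 1, 3, 4, 0, 4, 0, 4, 0, 4, 3, 4]), (78, false, [1, 0, 4, 3, 4, 0, 4, 0, 1, 3, 1, 0, 4]), (3, false, [0, 2, 4, 0, 1, 0, 1, 3, 1, 3, 4, 0, 4]), (265, false, [1, 2, 0, 4, 3, 4, 0, 4, 0, 1, 3, 4, 3, 4, 0]), (170, true, [0, 1, 2, 0, 1, 0, 1, 0, 4, 3, 4, 0, 1, 3, 4, 3]), (8, true, [0, 1, 0, 1, 3, 1, 3, 1, 3, 4, 0, 1]), (115, false, [1, 0, 1, 2, 0, 1, 3, 1, 0, 1, 3, 4]), (180, true, [0, 2, 4, 0, 4, 3, 4, 0, 1, 0, 1, 0, 4, 3, 4, 0, 4, 3]), (176, true, [0, 4, 3, 1, 3, 1, 0, 4, 3, 1, 3, 1, 0]), (222, true, [2, 4, 3, 1, 0, 1, 3, 1, 3, 1, 0, 1, 3, 1, 0]), (27, false, [0, 1, 2, 0, 4, 0, 1, 3, 1, 0, 1, 0, 1, 3, 4,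 0]), (90, false, [0, 2, 4, 0, 4, 0, 1, 3, 1, 3, 4, 3, 4, 0, 4]), (145, true, [4, 3, 1, 0, 4, 3, 1, 3, 1, 3, 1]), (56, true, [0, 1, 3, 1, 3, 1, 0, 1, 0, 1, 3, 4, 0, 4, 3]), (155, false, [0, 1, 0, 1, 0, 1, 0, 1, 0, 1, 2, 0, 1]), (222, true, [3, 1, 0, 1, 0, 1, 0, 1, 3, 4, 3, 1, 0, 4]), (103, true, [0, 1, 2, 0, 4, 3, 1, 0, 1, 3]), (248, true, []), (115, false, [1, 0, 1, 3, 1, 3, 1, 0, 1, 3, 4]), (59, true, [0, 1, 0, 4, 0, 4, 3, 1, 3, 1, 0, 4, 3, 1, 0, 1]), (249, true, [0, 1, 2, 0, 4, 3, 4, 3, 1, 0, 1, 0, 4, 0, 4]), (92, false, [0, 1, 3, 4, 0, 4, 3, 1, 3, 1, 3, 1, 0, 4, 0, 1]), (95, true, [0, 4, 0, 1, 3, 1, 0, 1, 3, 1, 0, 4, 3]), (95, true, [1, 0, 1, 0, 1, 2, 0, 4, 0, 4, 0, 1, 3, 1, 0]), (64, false, [4, 0, 4, 3, 4, 0, 1, 3,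 1, 3, 4, 3, 4, 3, 4]), (248, false, [3, 1, 0, 4, 3, 1, 0, 1, 3, 1, 0, 1]), (168, true, [0, 4, 0, 4, 3, 1, 0, 1, 0, 4, 0]), (261, true, [3, 1, 3, 1, 3, 1, 3, 4, 3, 4, 3, 4, 3, 1]), (115, false, [1, 0, 1, 0, 1, 0, 1, 2, 0, 1, 0, 1, 3, 4, 3, 4, 0]), (201, true, [1, 3, 1, 0]), (257, false, [0, 1, 0, 1, 3, 4, 0, 4, 3, 1, 3, 1, 0, 1]), (261, false, [1, 2, 0, 1, 3, 4, 0, 4, 0, 1, 3, 1, 0, 4, 3]), (200, false, [1, 0, 1, 0, 1, 3, 1, 3, 1, 0, 4, 0, 4, 3, 4, 0]), (86, false, [4, 0, 1, 0, 1, 0, 4, 3, 1, 3, 1]), (248, false, [0, 2, 4, 0, 4, 3, 4, 3, 1, 0, 1, 0, 1, 3, 1]), (64, false, [2, 4, 3, 4, 0, 4, 0, 4]), (81, false, [1, 3, 4, 0, 1, 3, 1, 3, 1, 3, 1, 0, 4, 0, 1]), (56, true, [0, 1, 3, 4, 0, 4, 3, 4, 3, 1, 0, 4, 0, 4, 3, 1]),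 (73, false, [3, 4, 3, 1, 0, 1, 3, 4, 0, 4, 0, 1, 3, 1, 3]), (56, false, [0, 4, 0, 1, 0, 1, 3, 1, 0, 1, 3, 4, 3, 1, 0, 1]), (27, false, [0, 4, 0, 1, 3, 1, 3, 1, 3, 1, 0]), (182, true, [1, 0, 2, 4, 0, 1, 3, 1, 3, 4, 0, 4, 0, 4, 3, 4, 0]), (116, true, [0, 1, 3, 4, 3, 1, 0, 4, 0, 4, 0, 1, 0]), (92, false, [0, 1, 2, 0, 4, 0, 4, 0, 1, 3, 1, 0, 1, 0, 1, 3, 1]), (233, true, [1, 0, 1, 3, 1, 3, 1, 0, 1, 0, 1, 3, 4, 0]), (263, true, [1, 2, 0, 1, 0, 1, 3, 4, 3, 4, 0, 4, 0, 4]), (201, true, [0, 2, 4, 0, 4, 0, 1, 3]), (126, true, [4, 3, 1, 0, 1, 3, 1, 3, 1, 3, 4, 0]), (145, true, [4, 3, 1, 0, 4, 3, 1, 3, 1, 3, 1]), (65, true, [4, 3, 1, 3, 4, 0, 4, 0, 1, 3, 1, 3, 4]), (199, false, [2, 0, 4, 0, 1, 3, 1, 0, 4, 0, 4, 0, 1, 3, 4]), (115,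 true, [3, 1, 0, 1, 0, 4, 0, 4, 0, 1, 3, 1, 0, 4, 3]), (7, false, [1, 0, 1, 3, 4, 3, 1, 0, 1, 0, 1, 0, 1]), (3, true, [0, 4, 3, 4, 0, 1, 3, 1, 3, 4, 0]), (28, true, [0, 1, 0, 1, 2, 0, 1, 3, 1, 3, 1, 0, 1]), (36, true, [3, 1, 3, 4, 0, 4, 3, 4, 0, 1, 0, 4]), (103, true, [2, 0, 1, 0, 1, 3, 1, 3, 1, 0, 1, 0, 1]), (92, false, [1, 2, 0, 1, 3, 4, 0, 4, 3, 1, 3, 1, 3, 4, 3, 4]), (69, false, [0, 4, 0, 4, 3, 1, 3, 4, 0, 4, 0, 4, 0, 1, 0]), (199, true, [0, 2, 4, 0, 4, 3, 4, 3, 4, 0, 1, 3, 1, 3, 4]), (121, false, [3, 1, 3, 4, 0, 1, 0, 1, 0, 1, 3]), (112, true, [2, 4, 3, 1, 0, 1, 3, 1, 0, 4, 0, 4, 3]), (56, false, [0, 4, 0, 1, 0, 1, 3, 1, 0, 1, 3, 4, 3, 1, 0, 1]), (95, true, [1, 3, 4, 0, 4, 0, 4, 3, 4, 0, 1, 0, 1, 0, 1]), (211, false,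 [2, 0, 4, 0, 1, 3, 1, 3, 1, 0, 1, 3, 1, 0]), (199, true, [4, 0, 4, 0, 4, 0, 4, 3, 1, 3, 1, 0]), (92, false, [1, 0, 4, 0, 4, 0, 1, 3, 1, 0, 1, 0, 1, 3, 1]), (22, false, [0, 2, 4, 0, 1, 3, 1, 3, 4, 3, 4]), (103, false, [3, 1, 0, 1, 3, 4, 0, 4, 3, 4, 0]), (234, true, [2, 0, 1, 3, 1, 3, 4, 0, 1, 0, 1, 0, 4]), (170, true, [1, 0, 1, 3, 4, 3, 1, 0, 4, 3, 4, 0]), (180, true, [1, 3, 4, 0, 1, 3, 1, 0, 4, 0, 1])]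
def r249 : List (ℕ × Bool × List ℕ) := [(68, false, [2, 4, 0, 1, 0, 4, 3, 4, 0, 4, 3, 1, 0, 4]), (121, false, [0, 1, 2, 0, 4, 0, 1, 3, 1, 0, 1, 0, 1, 3, 1]), (141, false, [0, 1, 0, 4, 3, 1, 0, 1, 0, 1, 0, 4, 3, 1, 0]), (111, false, [2, 4, 3, 1, 0, 4, 0, 4, 0, 1, 3, 1, 0, 4, 0, 4]), (279, true, [1, 0, 1, 3, 1, 0, 4, 3, 4, 3]), (217, false, [0, 1, 3, 4, 3, 4, 0, 1, 0, 1, 3, 4, 3, 4, 0]), (122, false, [1, 0, 4, 3, 1]), (226, false, [2, 4, 0, 1, 0, 4, 3, 1, 3, 1, 3, 4, 0, 4, 3, 1]), (214, true, [4, 0, 4, 0, 4, 3, 1, 0, 4, 0]), (141, false, [1, 2, 0, 1, 0, 1, 3, 1, 0, 4, 0, 4]), (246, false, [0, 1, 3, 1, 0, 1, 3, 4, 0, 4, 3, 4, 0, 4]), (188, false, [3, 1, 3, 4, 0, 1, 0, 1, 3, 4, 3, 1, 0, 4, 3]), (111, false, [1, 2, 0, 4, 3,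 4, 0, 4, 3, 4, 0, 4, 0, 4, 3, 1, 3]), (128, false, [0, 4, 0, 1, 0, 1, 3, 4, 3, 1, 0, 1, 3, 4]), (52, true, [0, 1, 2, 0, 4, 0, 1, 3, 4, 3, 4, 0, 4, 3, 4]), (76, true, [3, 1, 0, 1, 0, 1, 0, 4, 0, 4, 3, 1, 0, 1, 3]), (247, true, [1, 3, 4, 3, 4, 0, 4, 0, 4, 3, 1]), (203, false, [1, 0, 4, 3, 1, 0, 1, 3, 1, 3, 1, 0, 4, 3, 1, 3]), (124, true, [1, 3, 1, 0, 4, 3, 4, 0, 4, 0, 1, 0]), (261, false, [0, 4, 3, 1, 0, 1, 0, 1, 0, 1, 3, 1, 3, 4, 3, 4, 0]), (68, false, [0, 4, 3, 4, 0, 1, 3, 1, 0, 1, 3, 1, 3, 1]), (70, false, [0, 2, 4, 3, 1, 3, 1, 0, 1, 3, 4, 3, 4, 0, 4, 0, 1, 3]), (157, true, [1, 2, 0, 4, 3, 1, 0, 4, 0, 4, 3, 1]), (268, false, [0, 2, 4, 0, 4, 3, 4, 0, 1, 3, 1, 3, 1, 0, 1, 3, 4]), (185, true, [1, 2, 0, 1, 3, 1, 3, 4, 0,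 1]), (76, true, [0, 2, 4, 3, 1, 0, 1, 3, 4, 0, 4, 0, 4]), (91, false, [3, 4, 0, 4, 3, 1, 3, 4, 0, 4, 0]), (97, true, [0, 2, 4, 3, 1, 0, 1, 0, 4, 0, 4, 0, 1]), (236, true, [0, 2, 4, 0, 1, 3, 4, 3, 1, 0, 1, 0]), (65, false, [0, 1, 0, 1, 2, 0, 1, 0, 1, 3, 4, 0, 4, 0, 4]), (65, false, [0, 4, 3, 4, 0, 1, 0, 1, 3, 4, 3, 1, 0, 4, 0]), (207, true, [4, 0, 1, 3, 1, 3, 1, 3, 1, 0, 1, 0, 4, 0]), (235, false, [2, 4, 0, 1, 3, 1, 3, 1, 3, 1, 0, 1, 0, 4, 0, 4, 3]), (206, false, [1, 0, 1, 0, 4, 3, 1, 3, 1, 0, 1, 3, 4, 0, 1]), (50, false, [0, 4, 0, 4, 3, 1, 0, 1, 0, 1, 3, 1, 0]), (122, false, [1, 0, 1, 2, 0, 1, 0, 1, 0, 4, 0, 4, 0, 1, 3, 1]), (91, false, [2, 0, 1, 0, 1, 3, 1, 3, 4, 3, 4, 3, 4, 0, 4, 3, 4]), (194, true, [2, 0, 4, 0, 1,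 3, 1, 0, 1, 3, 1, 3, 4]), (128, false, [4, 0, 4, 3, 4, 0, 4, 0, 4, 3, 1, 0, 4, 0, 1]), (2, true, [2, 0, 1, 0, 4, 3, 4, 0, 4, 0, 4, 0]), (249, false, [2, 4, 3, 1, 3, 4, 0, 4, 0, 1, 3, 1, 3, 4, 3]), (242, true, [4, 0, 4, 3, 4, 3, 1, 0, 1, 0, 4, 3, 4, 3]), (242, false, [0, 1, 3, 4, 0, 1, 0, 1, 0, 4, 3, 1, 3, 1]), (257, false, [0, 1, 0, 4, 0, 4, 3, 1, 3, 1, 0, 4, 3]), (149, true, [3, 1, 3, 1, 3, 4, 3, 4, 0, 1, 3, 4, 0]), (266, true, [0, 2, 4, 0, 4, 0, 4, 0, 4, 3, 1, 0, 4, 3]), (107, false, [1, 0, 4, 0, 1, 3, 1, 3, 1, 0, 1]), (104, false, [4, 3, 4, 0, 1, 3, 4, 3, 4, 3]), (44, false, [3, 4, 0, 1, 3, 1, 3, 4, 0, 4, 0, 1, 0]), (6, false, [0, 1, 3, 4, 0, 1, 0, 1, 3]), (213, false, [0, 2, 4, 3, 1, 0, 1, 0, 4, 3, 4, 0, 1, 0, 1,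 0, 1, 3]), (141, false, [1, 2, 0, 1, 3, 1, 3, 1, 3, 4, 0, 4, 3, 1]), (60, true, [4, 0, 1, 0, 1, 3, 1, 3, 1, 0]), (258, false, [4, 0, 1, 0, 1, 3, 4, 0, 1, 3, 1, 0, 1]), (194, true, [1, 2, 0, 1, 0, 4, 3, 4, 3, 4, 3, 1, 0, 1, 3]), (6, false, [0, 2, 4, 3, 4, 3, 1, 0, 1, 3, 1, 0, 1, 3, 4, 3, 4]), (141, false, [0, 1, 3, 1, 0, 4, 0, 4, 3, 4, 3, 4, 0, 1]), (140, true, [3, 4, 0, 4, 3, 4, 0, 4, 3, 1, 3, 1, 0, 4]), (107, false, [1, 0, 1, 3, 4, 0, 4, 3, 1, 3, 1, 3, 4, 3]), (250, true, [1, 3, 1, 3, 4, 3, 4, 0, 4, 0, 4, 3, 1]), (203, false, [1, 0, 1, 0, 1, 3, 1, 3, 4, 3, 4, 3, 4, 0, 4, 3]), (202, false, [3, 1, 0, 4, 3, 1, 3, 1, 3, 4, 0]), (95, false, [0, 4, 0, 1, 3, 4, 0, 4, 3, 1, 3, 1, 0, 4, 3, 1]), (249, false, [0, 1, 0, 2, 4, 3,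 4, 0, 1, 0, 1, 3, 4, 3, 1]), (224, true, [2, 4, 0, 4, 0, 1, 3, 1, 3, 1, 3, 4, 0, 4, 0, 1]), (204, true, [3, 1, 3, 1, 3, 1, 0, 1, 3, 1, 0, 1, 0, 1, 3]), (268, false, [4, 0, 4, 3, 4, 0, 4, 3, 1, 0, 1, 3]), (157, false, [1, 3, 4, 0, 1, 0, 1, 3, 4, 0, 4]), (203, false, [0, 4, 3, 1, 3, 1, 3, 4, 3, 4, 0, 4, 3, 4, 0]), (152, true, [1, 3, 1, 3, 1, 0, 1, 3, 4, 0, 1, 3]), (147, false, [4, 0, 4, 3, 1, 3, 4, 0, 4, 3, 1, 0, 1, 3, 4]), (128, false, [2, 0, 1, 0, 4, 3, 4, 3, 4, 0, 4, 0, 4, 0, 4]), (185, true, [1, 0, 1, 0, 1, 0, 1, 3, 1, 3, 4, 3, 4, 0]), (128, false, [0, 2, 4, 3, 1, 3, 1, 0, 4, 3, 1, 0, 1, 3, 4]), (204, true, [0, 4, 0, 1, 3, 1, 3, 4, 3, 4, 3, 1, 0, 4]), (224, true, [3, 1, 3, 1, 0, 4, 3, 1, 3, 1, 0, 1, 0, 4]), (167, false,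 [3, 1, 3, 4, 0, 1, 0, 1, 0, 1, 0, 1]), (258, false, [0, 1, 2, 0, 1, 0, 1, 3, 4, 0, 1, 0, 4]), (70, false, [3, 4, 0, 4, 3, 1, 0, 1, 0, 4, 0, 4, 3, 1, 0]), (238, true, [1, 3, 4, 3, 4, 3, 4, 3, 4, 3]), (213, false, [3, 1, 0, 4, 3, 4, 0, 4, 0, 1, 3, 1, 0, 4]), (203, false, [3, 4, 0, 1, 3, 1, 0, 4, 3, 4, 3, 4, 3, 1]), (2, true, [0, 2, 4, 0, 1, 0, 1, 0, 4, 3, 1, 3, 1]), (86, false, [1, 2, 0, 4, 3, 4, 0, 4, 3, 4, 0, 1, 3, 1, 3, 4]), (184, false, [3, 4, 0, 4, 3, 4, 3, 4, 0, 4, 3, 1, 0]), (261, false, [0, 2, 4, 0, 1, 0, 1, 3, 1, 3, 4, 0, 1]), (152, true, [1, 0, 1, 0, 1, 0, 1, 2, 0, 1, 0, 1, 3, 1, 0]), (188, false, [2, 0, 4, 0, 4, 0, 4, 3, 1, 0, 1, 3, 1, 0, 1]), (145, false, [1, 3, 4, 0, 4, 0, 1, 3, 1]), (226, false, [0, 1, 0,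 1, 3, 1, 3, 1, 3, 1, 0, 1, 0, 1, 0, 4]), (214, true, [0, 1, 2, 0, 4, 3, 4, 0, 4, 0, 4, 3, 1, 0, 4, 0]), (203, false, [0, 4, 3, 4, 0, 4, 0, 1, 3, 4, 3, 4, 0, 1, 0, 1]), (236, true, [3, 1, 0, 1, 0, 1, 3, 4, 3, 1, 0, 4, 0, 4, 0]), (76, true, [2, 0, 4, 0, 1, 0, 1, 3, 1, 0, 1, 3, 4, 0, 1]), (235, false, [1, 0, 1, 3, 4, 0, 4, 3, 1, 0, 1, 0]), (174, false, [2, 0, 1, 3, 1, 3, 4, 3]), (141, false, [1, 0, 2, 4, 0, 1, 3, 1, 3, 4, 3, 4, 0, 1, 0, 4]), (202, false, [4, 0, 1, 3, 1, 3, 1, 3, 1, 0, 1, 3]), (50, false, [1, 3, 1, 0, 4, 0, 4, 3, 4, 3, 1]), (111, false, [0, 4, 3, 1, 3, 1, 0, 4, 3, 1, 0, 1, 0, 4, 3, 4]), (166, true, [0, 4, 0, 1, 3, 1, 0, 4, 3, 4, 0, 4, 0]), (111, false, [1, 0, 4, 3, 4, 3, 1, 0, 1, 3, 4, 0, 1, 0, 1, 0]), (248,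 true, [0, 2, 4, 0, 1, 3, 1, 3, 1, 3, 4, 3, 4, 0, 1]), (124, true, [2, 4, 3, 4, 0, 4, 0, 4, 3, 1, 3, 4, 0]), (208, true, [1, 0, 4, 3, 4, 3, 4, 0, 1, 3, 1, 3, 4, 3, 4]), (52, true, [1, 0, 1, 3, 1, 3, 4, 3, 4, 3, 1, 0]), (86, false, [4, 0, 4, 3, 4, 0, 1, 0, 1, 3]), (141, false, [4, 0, 1, 3, 4, 3, 4, 0, 1, 3, 4, 3, 1]), (104, false, [1, 2, 0, 1, 3, 1, 3, 1, 3, 4, 3, 4, 0]), (247, true, [0, 4, 3, 4, 0, 4, 3, 4, 0, 4, 0, 4]), (149, false, [2, 4, 0, 4, 0, 4, 3, 4, 0, 4, 3, 4, 0, 4, 0]), (104, false, [0, 4, 3, 1, 0, 1, 0, 4, 0, 4, 3, 1])]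
def r250 : List (ℕ × Bool × List ℕ) := [(25, true, [0, 4, 3, 1, 0, 1, 0, 4, 0, 4, 0, 4, 0]), (199, true, [4, 0, 4, 3, 4, 0, 4, 3, 1, 0, 1, 0, 1, 3, 1, 0]), (125, false, [3, 1, 0, 4, 3, 4, 3, 4, 3, 1, 0, 1, 0]), (201, true, [4, 3, 1, 3, 1, 0, 1, 3]), (166, true, [1, 0, 1, 0, 1, 0, 4, 0, 4, 0, 4, 3, 1]), (199, true, [0, 1, 3, 1, 3, 1, 3, 4, 0, 4, 3, 1, 3, 1, 3, 1]), (260, true, [0, 1, 3, 1, 0, 4, 3, 4, 3, 4, 3, 1, 0, 1, 3, 1, 3]), (78, false, [0, 1, 3, 1, 0, 1, 3, 4, 3, 1, 0, 1, 0, 1, 0]), (69, false, [2, 0, 4, 0, 1, 3, 4, 3, 4, 0, 1, 0, 4]), (218, true, [3, 1, 0, 4, 3, 4, 0, 1, 0, 1, 3, 4, 0, 4, 0]), (22, false, [4, 3, 1, 0, 4, 3, 4, 3, 1, 3]), (82, true, [1, 3, 4, 3, 4, 0, 1, 0, 1, 3, 1, 3, 1, 0, 4, 3]), (69, false, [1,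 3, 4, 3, 4, 0, 1, 3, 1, 0, 4, 0, 4, 0]), (220, true, [0, 1, 2, 0, 1, 0, 4, 0, 4, 0, 4, 3, 4, 0, 1, 3, 4]), (234, true, [4, 0, 1, 3, 1, 3, 4, 3, 4, 3, 1, 0, 1]), (266, true, [4, 0, 4, 3, 1, 3, 1, 3, 4, 0, 1]), (249, true, [4, 0, 1, 3, 1, 3, 1, 0, 1, 0, 4, 0, 4]), (116, false, [2, 4, 0, 1, 0, 1, 0, 4, 3, 4, 3, 4]), (69, false, [1, 0, 2, 4, 3, 1, 0, 1, 3, 4, 3, 4, 0]), (119, false, [4, 3, 4, 0, 4, 3, 1, 0, 4, 0]), (65, false, [0, 4, 0, 4, 0, 4, 3, 1, 0, 1, 0, 1]), (80, false, [0, 1, 0, 1, 0, 1, 3, 1, 3]), (192, false, [4, 0, 4, 3, 4, 3, 4, 3, 4, 0, 1, 3, 4]), (113, false, [2, 4, 0, 1, 3, 1, 3, 1, 3, 1, 0, 1, 0]), (268, false, [0, 4, 0, 1, 3, 1, 0, 4, 3, 1, 0, 1, 0, 4, 0, 4]), (280, false, [0, 4, 3, 1, 3, 1, 3, 4, 3, 4, 0,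 4]), (34, false, [1, 3, 1, 0, 4, 3, 4, 3, 4, 0, 4, 0, 4, 0, 4, 3]), (233, false, [3, 4, 0, 1, 0, 1, 3, 4, 0, 1, 0, 1, 3, 1]), (49, true, [1, 0, 4, 0, 1, 3, 1, 0, 1, 0, 1, 0, 4, 3]), (266, true, [1, 3, 1, 3, 4, 0, 1, 3, 1, 3, 1, 0, 1, 3]), (204, true, [0, 1, 2, 0, 1, 3, 4, 0, 1, 0, 1, 3, 4]), (184, true, [2, 4, 0, 1, 3, 1, 0, 4, 3, 4, 3, 4, 3, 1, 3]), (29, false, [3, 4, 3, 1, 0, 1, 0, 1, 0, 4, 3, 1]), (199, true, [1, 0, 1, 0, 2, 4, 0, 4, 0, 4, 0, 4, 3, 4, 3, 1, 3]), (23, false, [0, 1, 0, 1, 2, 0, 4, 0, 1, 3, 1, 0, 1, 0, 1]), (180, true, [1, 0, 1, 2, 0, 1, 0, 1, 0, 4, 0, 4, 3, 4, 3, 4, 0]), (250, true, []), (90, true, [0, 2, 4, 3, 1, 3, 1, 0, 1, 0, 1, 3, 1, 3, 1]), (78, false, [0, 4, 3, 4, 0, 4, 0, 1, 3, 1, 0, 4, 3, 1,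 0]), (250, true, []), (116, false, [0, 2, 4, 3, 4, 3, 1, 0, 1, 0, 4, 0, 4, 0, 1, 3]), (250, false, [0, 4, 3, 4, 0, 1, 0, 1, 3, 1, 0, 1, 3, 4]), (104, false, [1, 0, 4, 3, 4, 3, 4, 3, 4, 0, 1, 3, 4, 0]), (99, false, [1, 0, 1, 3, 4, 3, 1, 0, 1, 3, 1, 3, 1, 3, 4, 3]), (194, true, [0, 1, 0, 1, 0, 2, 4, 0, 1, 0, 1, 0, 1]), (180, false, [1, 2, 0, 4, 0, 1, 3, 1, 0, 4, 3, 1, 3]), (42, true, [0, 1, 0, 2, 4, 0, 4, 3, 4, 0, 1, 3, 1]), (20, true, [1, 0, 1, 3, 4, 0, 1, 0, 1, 3, 4, 0, 1, 0, 1]), (146, false, [0, 1, 0, 4, 3, 4, 3, 4, 0, 1, 3, 4, 0]), (16, true, [2, 4, 0, 4, 0, 1, 3, 1, 3, 1]), (260, true, [2, 0, 1, 0, 1, 3, 1, 0, 1, 3, 1, 0]), (116, true, [4, 0, 4, 0, 1, 3, 4, 3, 4, 0]), (255, false, [3, 1, 3, 4, 0, 4, 0, 4, 3, 4, 3,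 4, 3]), (280, false, [2, 4, 0, 4, 3, 4, 3, 4, 3, 1, 0, 4, 0]), (260, false, [3, 4, 0, 4, 3, 1, 3, 1, 0, 4, 3, 1, 3, 4]), (90, false, [0, 2, 4, 0, 1, 0, 1, 3, 4, 3, 4, 0, 4, 0, 4, 0, 4, 3]), (261, true, [0, 1, 0, 1, 3, 4, 3, 1, 0, 1, 0, 4, 3, 4, 0]), (22, false, [0, 1, 2, 0, 4, 0, 4, 3, 4, 3, 1, 0, 4, 0, 4, 0]), (116, false, [0, 4, 3, 4, 0, 4, 3, 4, 3, 4, 3, 1]), (138, true, [1, 0, 4, 0, 1, 3, 4, 3, 1]), (199, true, [0, 2, 4, 3, 1, 0, 4, 0, 4, 0, 1, 3, 1, 0, 1]), (254, false, [1, 2, 0, 4, 3, 4, 3, 4, 0, 4, 0, 4]), (95, true, [1, 2, 0, 4, 3, 4, 0, 1, 0, 1, 3, 1, 0]), (42, true, [0, 1, 3, 1, 0, 4, 3, 4, 0, 4, 3, 4, 3]), (35, true, [0, 4, 3, 4, 3, 4, 3, 1, 0, 4, 0]), (110, false, [3, 4, 3, 1, 3, 1, 3, 4, 3, 4, 0, 1, 3]),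 (251, false, [4, 3, 4, 3, 4, 0, 1, 3, 1, 3, 4, 0]), (110, false, [2, 4, 0, 1, 3, 4, 3, 1, 0, 1, 0, 1, 0, 4, 3, 1, 0]), (65, false, [1, 2, 0, 4, 0, 4, 3, 4, 3, 4, 3]), (90, true, [3, 4, 3, 4, 3, 4, 0, 4, 0, 1, 3, 1, 3, 1, 3]), (67, false, [0, 1, 2, 0, 1, 3, 1, 0, 1, 0, 1, 3, 1, 0, 4, 0]), (125, false, [0, 1, 2, 0, 1, 0, 1, 0, 1, 3, 4, 0, 4, 3, 4]), (261, true, [2, 4, 3, 4, 0, 1, 3, 1, 0, 4, 3, 1]), (254, false, [4, 3, 4, 3, 1, 0, 4, 0, 4, 3, 4, 0, 1, 0]), (192, false, [0, 1, 0, 1, 0, 2, 4, 0, 4, 0]), (131, false, [0, 1, 0, 2, 4, 0, 1, 0, 1]), (168, false, [1, 3, 1, 0, 1, 3, 4, 0, 4, 0, 4, 3, 4, 3]), (168, true, [4, 0, 4, 3, 1, 0, 1, 3, 1, 0, 4, 0, 4]), (48, true, [1, 0, 4, 0, 4, 3, 1, 0, 1, 3, 1, 3, 4]), (180, false, [3,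 1, 3, 1, 0, 4, 0, 4, 3, 4, 3, 4]), (180, true, [4, 3, 4, 0, 4, 0, 1, 3, 1, 3, 1]), (125, false, [1, 2, 0, 1, 0, 1, 3, 1, 3, 1, 0, 1, 3]), (218, true, [1, 2, 0, 1, 0, 1, 3, 1, 3, 1, 0, 1, 0, 1, 0, 4, 3]), (90, false, [0, 1, 0, 1, 3, 1, 0, 1, 3, 1, 0]), (56, false, [1, 0, 4, 3, 1, 0, 1, 3, 4, 3, 4, 3, 1, 0]), (23, false, [0, 1, 3, 4, 0, 4, 0, 1, 3, 4, 0, 4]), (260, false, [2, 0, 4, 3, 1, 3, 1, 0, 1, 0, 1, 3, 4, 3, 1, 0]), (242, false, [0, 1, 3, 1, 3, 4, 0, 1, 3, 1]), (67, false, [1, 3, 1, 0, 1, 0, 1, 0, 1, 3, 4, 3, 1]), (125, false, [4, 3, 1, 0, 4, 3, 4, 3, 4, 0, 1, 3, 1, 0]), (201, true, [0, 1, 0, 2, 4, 0, 1, 3, 1, 0, 1]), (25, true, [2, 0, 1, 3, 1, 0, 4, 3, 1, 3, 4, 0, 4]), (194, true, [0, 2, 4, 3, 1, 0, 1, 0, 4, 3, 4,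 0, 1]), (204, true, [3, 4, 3, 4, 0, 1, 0, 1, 3, 4, 0, 1, 3]), (29, false, [1, 0, 4, 0, 4, 0, 4, 3, 1, 0, 1]), (255, false, [0, 1, 2, 0, 1, 3, 4, 0, 4, 0, 1, 3, 1, 3]), (268, false, [0, 2, 4, 0, 4, 0, 1, 3, 1, 3, 4, 3, 4, 3, 4]), (220, true, [4, 3, 4, 3, 4, 0, 4, 0, 1, 3, 1]), (119, false, [2, 4, 0, 4, 3, 4, 3, 4, 3, 1, 0, 1, 0, 4, 0]), (69, false, [0, 4, 0, 1, 3, 4, 3, 4, 0, 1, 0, 4]), (81, true, [2, 0, 1, 0, 4, 3, 4, 0, 4, 3, 4, 3, 4, 3]), (92, true, [4, 0, 1, 3, 1, 0, 4, 0, 4, 3, 1, 0, 4]), (81, true, [1, 2, 0, 1, 3, 1, 3, 4, 0, 4, 3, 4, 0, 1]), (92, true, [2, 4, 0, 1, 3, 1, 3, 4, 3, 4, 3, 4, 3, 1]), (280, false, [3, 4, 0, 4, 3, 1, 3, 1, 3, 4, 3, 4, 3]), (234, true, [0, 1, 0, 1, 2, 0, 4, 3, 4, 3, 4, 3, 4]), (16, true,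 [0, 4, 0, 4, 3, 4, 3, 4, 0, 4]), (250, true, []), (279, false, [2, 4, 3, 4, 3, 1, 0, 4, 3, 4, 0, 1]), (194, true, [0, 1, 0, 1, 3, 4, 3, 4, 0, 4, 0, 1]), (49, true, [1, 3, 1, 3, 1, 3, 1, 0, 4, 3, 1, 0, 1, 3, 1]), (47, true, [0, 1, 3, 1, 0, 4, 3, 4, 0, 4, 0, 4, 3, 1, 3])]
def r251 : List (ℕ × Bool × List ℕ) := [(6, true, [1, 0, 1, 2, 0, 4, 3, 4, 3, 4, 0, 4, 3, 4, 3]), (125, true, [4, 0, 1, 3, 1, 3, 1, 3, 1, 0]), (62, true, [0, 1, 3, 4, 3, 1, 0, 1, 3, 4, 3, 4, 0]), (6, true, [1, 0, 1, 3, 4, 0, 4, 0, 4, 3, 4, 0, 4, 0]), (139, true, [1, 2, 0, 1, 0, 1, 3, 1, 0, 1, 3, 4, 3, 4]), (120, false, [0, 4, 3, 1, 3, 1, 0, 4, 0, 4, 0, 4]), (209, false, [0, 1, 0, 1, 2, 0, 1, 0, 1, 3, 1, 3, 1, 3, 4, 0, 4]), (125, true, [2, 4, 3, 1, 0, 1,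 0, 1, 0, 1, 3]), (128, false, [4, 0, 4, 3, 4, 0, 1, 3, 4, 3]), (62, true, [1, 0, 1, 0, 1, 0, 4, 0, 4, 0, 1, 0]), (176, true, [1, 3, 1, 3, 4, 0, 4, 3, 1, 0]), (139, true, [1, 3, 1, 3, 1, 0, 1, 3, 1, 0, 4, 0, 4]), (120, false, [0, 2, 4, 0, 1, 0, 1, 3, 4, 3, 4, 3, 4]), (242, true, [0, 2, 4, 0, 1, 0, 1, 3, 4, 0, 4, 3, 4, 3]), (91, true, [0, 1, 0, 1, 2, 0, 4, 3, 1, 3, 1, 3, 1, 3, 4, 0]), (207, true, [1, 0, 4, 0, 4, 0, 4, 3, 4, 0, 1, 3, 4, 0]), (270, false, [0, 1, 0, 1, 2, 0, 1, 3, 1, 3, 1, 0, 4, 3, 4, 0, 1]), (209, false, [0, 1, 0, 1, 3, 1, 3, 1, 0, 1, 0, 1, 0, 4, 3, 4]), (199, false, [2, 0, 1, 3, 4, 0, 4, 3, 1, 3, 1, 0, 4, 3]), (128, false, [2, 4, 3, 4, 0, 4, 3, 1, 0, 4, 0]), (181, false, [2, 4, 3, 1, 3, 4, 0, 4, 0, 4, 3]),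 (115, true, [3, 1, 3, 1, 0, 4, 3, 4, 3, 4]), (197, true, [3, 1, 3, 1, 3, 1, 3, 4, 0, 1, 3, 4]), (250, false, [3, 1, 0, 4, 0, 4, 3, 1, 0, 1, 0, 1]), (242, true, [0, 4, 3, 1, 3, 1, 0, 4, 3, 4, 0, 4, 0]), (91, true, [0, 1, 0, 1, 3, 4, 0, 1, 0, 1, 0, 1, 0, 4, 3]), (49, false, [3, 1, 0, 1, 0, 1, 0, 4, 0, 4, 0, 4]), (280, true, [0, 4, 0, 4, 3, 4, 3, 4, 3, 4, 0, 4, 0, 4, 0]), (44, false, [3, 1, 0, 1, 3, 4, 0, 4, 3, 1, 0]), (133, false, [1, 0, 4, 3, 1, 3, 1, 0, 1, 3, 4, 0, 4]), (257, false, [1, 3, 1, 3, 4, 0, 1, 0, 1, 0, 4, 3, 1]), (270, false, [0, 1, 0, 1, 3, 1, 0, 1, 0, 1, 3, 4, 0, 4, 3, 1]), (237, true, [0, 1, 0, 1, 3, 4, 3, 4]), (199, false, [3, 1, 0, 4, 3, 4, 0, 1, 0, 1, 3, 4, 0]), (123, true, [1, 3, 1, 3, 1, 3, 1, 0, 4,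 3, 4, 0, 1, 3, 1]), (86, false, [3, 1, 0, 1, 3, 4, 3, 4, 3, 4, 0, 1]), (115, true, [2, 0, 1, 0, 1, 3, 4, 0, 4, 0, 4]), (181, false, [4, 0, 1, 0, 4, 3, 4, 3, 4, 0]), (92, false, [3, 1, 0, 1, 0, 1, 3, 1, 0, 1, 3, 4, 3, 1, 0, 4]), (191, false, [2, 4, 0, 1, 0, 1, 0, 1, 3, 1, 3, 1, 3, 1, 0, 1, 3]), (154, true, [0, 1, 0, 2, 4, 0, 1, 3, 1, 3, 1, 3, 4, 0, 4]), (65, false, [2, 0, 4, 3, 1, 0, 1, 0, 1, 0, 1, 3, 4, 0, 1, 0]), (234, true, [0, 1, 0, 1, 0, 4, 3, 1, 3, 1, 3, 4, 0, 4]), (234, true, [0, 1, 0, 1, 0, 2, 4, 0, 1, 0, 1, 0, 4, 3, 4]), (257, false, [1, 2, 0, 1, 0, 4, 3, 1, 3, 1, 3, 4, 0, 1]), (145, true, [0, 1, 0, 4, 3, 1, 0, 1, 0, 1, 0, 4, 3]), (1, false, [1, 3, 1, 3, 4, 0, 1, 0, 4]), (95, false, [0, 1, 0, 4, 3, 4, 0, 4, 0,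 4, 3, 1, 0, 4, 0, 4]), (107, false, [0, 1, 3, 4, 0, 1, 3, 1, 0, 1, 0, 1, 0, 4, 0]), (191, false, [4, 3, 1, 3, 1, 3, 1, 0, 1, 0, 1, 0, 1, 3, 1, 0]), (137, false, [0, 2, 4, 3, 4, 3, 4, 0, 4, 0, 4, 3, 1, 0, 1]), (137, false, [0, 4, 0, 4, 0, 4, 3, 4, 3, 4, 0, 1, 3, 1]), (237, true, [0, 1, 0, 1, 2, 0, 4, 0, 4]), (94, false, [0, 1, 0, 1, 3, 1, 0, 4, 0, 4, 3, 4, 3, 1]), (123, true, [1, 2, 0, 1, 0, 1, 0, 1, 3, 4, 0, 4, 3, 1, 0, 1]), (86, false, [2, 0, 1, 3, 1, 0, 4, 0, 4, 0, 4, 3, 1]), (245, false, [3, 4, 0, 4, 3, 1]), (215, true, [3, 4, 3, 4, 0, 4, 0, 4, 3, 4, 3, 1, 0, 1]), (154, true, [0, 1, 0, 4, 3, 1, 0, 1, 0, 1, 0, 4, 3, 4]), (65, false, [3, 4, 0, 1, 3, 1, 3, 1, 3, 1, 0, 4, 3, 1, 3]), (92, false, [2, 0, 1, 3, 1, 3, 1, 0,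 1, 0, 1, 3, 4, 3, 1, 0, 4]), (247, true, [1, 3, 4, 0, 4, 3, 1, 0, 1, 0, 4, 0, 4, 3]), (18, true, [0, 4, 0, 4, 0, 1, 3, 4, 0, 4, 3, 4]), (197, false, [1, 0, 1, 3, 1, 3, 4, 0, 1, 3, 1, 3, 1, 0, 1, 0, 1]), (10, false, [3, 4, 3, 1, 0, 1, 0, 1, 0, 4, 0, 4, 3]), (192, false, [0, 1, 3, 1, 0, 1, 3, 4, 0, 4, 3, 4, 0, 4]), (10, false, [2, 0, 4, 0, 1, 3, 1, 3, 1, 3, 4, 3, 4, 0]), (192, false, [0, 1, 2, 0, 1, 3, 1, 0, 4, 3, 4, 0, 4, 3, 4]), (66, false, [3, 4, 3, 1, 0, 4, 3, 4, 3, 4, 0, 4, 0, 4, 3, 1]), (66, false, [2, 0, 4, 0, 1, 3, 4, 0, 4, 0, 4, 3, 4, 3, 4, 0, 1]), (165, true, [3, 4, 0, 1, 3, 1, 3, 4, 0, 1, 0, 1, 0]), (165, true, [0, 1, 3, 4, 3, 1, 0, 4, 0, 4, 0, 1, 3, 1]), (194, true, [1, 0, 1, 3, 1, 0, 1, 0, 1, 0, 4, 0, 4, 3,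 4, 0, 4]), (169, true, [0, 1, 0, 1, 3, 1, 3, 4, 0, 1, 0, 1, 0, 1, 3, 4]), (162, false, [4, 0, 1, 3, 4, 3, 1, 0, 4]), (187, true, [0, 4, 3, 4, 0, 4, 3, 4, 3, 4, 0, 1, 0]), (50, false, [3, 1, 0, 1, 3, 1, 0, 1, 3, 4, 3, 4, 0, 4, 0]), (61, false, [0, 1, 0, 1, 3, 1, 3, 4, 3, 4, 3, 4, 0, 4, 3, 4, 0, 1]), (80, true, [1, 0, 4, 3, 4, 3, 4, 3, 1, 0, 1, 3, 1, 3, 1, 0]), (146, true, [1, 0, 4, 3, 1, 3, 1, 0, 4, 3, 1, 3, 1, 0]), (83, false, [1, 0, 1, 0, 2, 4, 3, 4, 0, 4, 0, 4, 3, 4]), (92, false, [0, 2, 4, 0, 1, 3, 1, 3, 1, 3, 4, 0]), (92, false, [0, 4, 3, 1, 0, 1, 0, 1, 0, 4, 3]), (83, false, [1, 0, 1, 0, 4, 0, 4, 3, 4, 3, 4, 0, 4]), (268, true, [0, 1, 3, 1, 3, 4, 3, 4, 0, 4, 0, 4, 3, 1]), (4, true, [1, 3, 4, 0, 1, 0, 1, 0, 4, 0,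 4, 3, 1]), (4, true, [1, 2, 0, 4, 3, 1, 3, 1, 3, 4, 3, 4, 0, 1]), (268, true, [0, 1, 2, 0, 1, 0, 4, 0, 4, 3, 4, 3, 4, 0, 1]), (183, false, [2, 0, 1, 0, 4, 0, 4, 3, 1, 0, 1, 0, 4]), (183, false, [3, 1, 3, 4, 3, 4, 0, 1, 3, 1, 3, 4]), (49, false, [4, 3, 1, 3, 1, 3, 4, 0, 4, 3, 1, 3, 1, 3, 4]), (49, false, [1, 3, 1, 3, 1, 3, 4, 3, 4, 3, 4, 0, 4, 0, 1]), (189, true, [1, 0, 1, 0, 2, 4, 3, 4, 3, 1, 0, 4, 0, 4, 0]), (189, true, [1, 0, 1, 0, 4, 0, 4, 0, 1, 3, 4, 3, 4, 3]), (228, false, [4, 3, 1, 0, 4, 0, 4, 0, 4]), (228, false, [2, 4, 0, 1, 3, 4, 3, 4, 3, 4]), (190, true, [3, 4, 0, 1, 3, 1, 0, 1, 0, 1, 3, 1, 3]), (190, true, [2, 0, 4, 3, 1, 0, 1, 3, 1, 3, 1, 0, 1, 0]), (98, false, [0, 1, 0, 1, 0, 1, 3, 4, 3, 4, 0, 4, 0, 1, 3,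 4, 3, 4]), (98, false, [0, 1, 0, 1, 0, 1, 2, 0, 4, 0, 4, 3, 4, 3, 1, 0, 4, 0, 4]), (153, false, [1, 0, 1, 0, 1, 3, 4, 0, 4, 3, 4, 0, 4, 3, 1, 3]), (72, true, [4, 3, 1, 0, 1, 3, 1, 3, 1, 0, 4, 3, 4, 3, 1, 3]), (72, true, [2, 4, 0, 1, 3, 1, 0, 1, 0, 1, 3, 4, 0, 4, 0, 1, 0]), (153, false, [1, 0, 1, 0, 1, 2, 0, 4, 3, 4, 0, 4, 3, 4, 0, 1, 0]), (253, false, [0, 4, 0, 1, 3, 1, 0, 1, 3, 1, 0, 4, 0, 4, 0, 1, 3]), (253, false, [0, 2, 4, 3, 1, 0, 1, 3, 1, 0, 1, 3, 4, 3, 4, 3, 1, 0]), (115, false, [0, 1, 0, 1, 3, 1, 3, 4, 0, 4, 0, 4, 0, 1, 0]), (115, false, [0, 1, 0, 1, 2, 0, 1, 0, 4, 3, 4, 3, 4, 3, 1, 3]), (262, false, [1, 3, 1, 0, 1, 0, 1, 3, 4, 3, 4, 0, 1, 0, 1]), (262, false, [1, 2, 0, 1, 3, 1, 3, 1, 0, 4, 0, 4, 3, 1, 3, 1]),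 (169, false, [1, 0, 1, 3, 1, 0, 1, 0, 4, 0, 4, 0, 1, 3, 1]), (107, true, [0, 4, 0, 4, 3, 1, 3, 1, 0, 1, 3, 4, 3, 1, 0, 1, 3])]

theorem q240 : closeb 18 ps18 base7 rgR om xs x240 orb r240 = true := by decide +kernel
theorem q241 : closeb 18 ps18 base7 rgR om xs x241 orb r241 = true := by decide +kernel
theorem q242 : closeb 18 ps18 base7 rgR om xs x242 orb r242 = true := by decide +kernel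
theorem q243 : closeb 18 ps18 base7 rgR om xs x243 orb r243 = true := by decide +kernel
theorem q244 : closeb 18 ps18 base7 rgR om xs x244 orb r244 = true := by decide +kernel
theorem q245 : closeb 18 ps18 base7 rgR om xs x245 orb r245 = true := by decide +kernel
theorem q246 : closeb 18 ps18 base7 rgR om xs x246 orb r246 = true := by decide +kernel
theorem q247 : closeb 18 ps18 base7 rgR om xs x247 orb r247 = true := by decide +kernel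
theorem q248 : closeb 18 ps18 base7 rgR om xs x248 orb r248 = true := by decide +kernel
theorem q249 : closeb 18 ps18 base7 rgR om xs x249 orb r249 = true := by decide +kernel
theorem q250 : closeb 18 ps18 base7 rgR om xs x250 orb r250 = true := by decide +kernel
theorem q251 : closeb 18 ps18 base7 rgR om xs x251 orb r251 = true := by decide +kernel

theorem c20 : Rows xc20 :=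
  Rows.cons q240 (Rows.cons q241 (Rows.cons q242 (Rows.cons q243 (Rows.cons q244 (Rows.cons q245 (Rows.cons q246 (Rows.cons q247 (Rows.cons q248 (Rows.cons q249 (Rows.cons q250 (Rows.cons q251 Rows.nil)))))))))))

end Cfsg.Agent.H698.U33.Clo
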