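import Cfsg.Agent.H698.U33.Clo.Rows

/-!
# S5525: the closure certificate, rows 264 to 275 (helper698; data of helper819, helper763)
-/

set_option autoImplicit false
set_option maxRecDepth 100000
set_option Elab.async false

namespace Cfsg.Agent.H698.U33.Clo

def r264 : List (ℕ × Bool × List ℕ) := [(264, false, [1, 0, 2, 4]), (219, false, [4, 0, 4, 3, 4, 3, 4, 3, 4, 0, 1, 0, 4]), (94, false, [1, 3, 4, 0, 1, 3, 1, 0, 1, 3, 1, 3, 1]), (219, false, [0, 1, 2, 0, 1, 0, 1, 3, 4, 3, 1, 0]), (187, false, [4, 0, 1, 0, 4, 3, 4, 0, 4, 0, 1, 3]), (202, false, [0, 1, 3, 1, 0, 1, 0, 4, 0, 4, 0, 4, 3, 4, 0, 1]), (94, false, [0, 1, 3, 4, 3, 4, 3, 4, 0, 1, 3, 1]), (281, false, [0, 1, 0, 1, 3, 4, 3, 4, 3]), (219, false, [0, 4, 0, 1, 3,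 1, 3, 4, 0, 4, 0, 1, 3, 1, 0, 4]), (63, true, [3, 4, 3, 4, 0, 4, 0, 1, 3, 4, 0, 4, 0, 4]), (219, false, [2, 0, 1, 3, 1, 0, 4, 3, 1, 0, 1, 0, 1, 3, 4]), (63, false, [2, 0, 4, 3, 4, 3, 4, 3, 4, 3, 1]), (156, true, [3, 1, 3, 1, 0, 1, 0, 4, 0, 4, 3, 1, 3]), (264, false, [1, 0, 2, 4]), (156, true, [2, 0, 4, 0, 4, 0, 1, 3, 1, 3, 4]), (187, false, [1, 0, 1, 2, 0, 1, 3, 4, 0]), (63, false, [0, 1, 0, 1, 0, 1, 0, 4, 0, 4, 0, 4, 0]), (219, false, [1, 0, 1, 2, 0, 1, 3, 4, 3, 4, 0, 4, 3, 1, 0, 4]), (219, false, [2, 0, 1, 3, 4, 0, 4, 0, 4, 3, 4, 0, 4, 3, 4, 0, 1]), (202, false, [0, 4, 3, 4, 3, 4, 3, 4, 0, 1, 0, 1, 3, 4]), (219, false, [1, 3, 4, 3, 1, 0, 1, 0, 4, 3, 1, 3, 4]), (202, false, [4, 0, 4, 3, 1, 0, 4, 0, 4]), (156, true, [1,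 0, 1, 0, 1, 3, 4, 0, 1, 0, 1, 0, 1, 0, 4]), (219, false, [4, 3, 4, 3, 4, 0, 1, 3, 1, 0, 4]), (219, false, [1, 0, 2, 4, 3, 1, 0, 4, 3, 4, 3, 1, 0, 1, 3]), (219, false, [1, 0, 1, 2, 0, 4, 0, 1, 3, 1, 0, 4, 0, 4, 0, 1]), (281, true, [2, 4, 0, 4, 3, 4, 0, 1, 3, 1, 0, 4, 0]), (281, true, [1, 3, 4, 3, 4, 0, 4, 3, 4, 0, 1, 3, 1, 0]), (219, false, [0, 1, 0, 1, 0, 1, 2, 0, 1, 3, 1, 0, 4, 0]), (63, true, [2, 0, 1, 0, 1, 0, 1, 3, 4, 3, 4, 0, 1, 0, 1]), (219, false, [1, 0, 2, 4, 3, 1, 0, 1, 0, 1, 3, 1, 0]), (156, true, [4, 0, 4, 3, 1, 0, 1, 0, 4, 3]), (187, false, [0, 1, 0, 4, 0, 4, 3, 1, 0, 1, 3, 4, 3, 1, 0]), (63, true, [0, 1, 0, 1, 0, 2, 4, 0, 4, 3, 1, 0, 1, 3]), (94, false, [3, 1, 0, 1, 3, 1, 0, 4, 0, 4, 0, 1, 3, 1, 0]), (281,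 false, [2, 4, 0, 4, 3, 1, 0, 1, 3, 4, 3, 1, 0, 1, 3]), (156, true, [1, 0, 1, 3, 1, 0, 4, 0, 4, 3, 1, 0, 4]), (63, true, [0, 1, 0, 1, 0, 4, 3, 4, 3, 1, 0, 1, 3]), (94, false, [0, 1, 0, 1, 3, 1, 0, 4, 0, 4, 0, 1, 3, 1, 0]), (281, true, [3, 1, 3, 1, 0, 1, 3, 1, 0, 1, 0, 4]), (219, false, [1, 0, 1, 2, 0, 4, 0, 4, 3, 1, 0, 1, 0, 1, 3, 1, 0]), (219, false, [3, 4, 3, 1, 3, 1, 0, 4, 3, 4, 3, 4, 0, 4]), (94, false, [1, 2, 0, 1, 3, 1, 3, 4, 3, 4, 3, 4, 0]), (219, false, [0, 2, 4, 3, 1, 0, 1, 0, 1, 0, 1, 3, 4, 0, 1, 0]), (187, false, [1, 0, 4, 0, 1, 3, 1]), (202, false, [2, 4, 0, 1, 0, 4, 3, 1, 0, 1, 3, 4, 0, 1]), (63, false, [3, 1, 0, 1, 3, 4, 3, 1, 0, 4, 3, 4]), (281, false, [1, 0, 1, 3, 1, 3, 1, 0, 4, 3, 4, 3, 4, 0, 4, 3]), (219,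 false, [1, 3, 1, 0, 1, 3, 1, 0, 1, 3, 1, 0, 1]), (94, false, [3, 1, 3, 4, 3, 4, 3, 4, 0, 1, 3, 1]), (202, false, [2, 4, 0, 4, 3, 4, 0, 4, 0, 4, 3, 4]), (281, true, [4, 0, 1, 3, 1, 3, 4, 0, 4, 0, 4, 0, 4]), (219, false, [2, 4, 3, 4, 0, 4, 3, 1, 3, 1, 0, 4, 3, 1, 3]), (219, false, [3, 1, 0, 1, 0, 1, 0, 1, 3, 4]), (281, false, [1, 3, 4, 0, 1, 3, 1, 3, 1, 0, 1, 3, 4, 0, 1]), (187, false, [4, 0, 1, 0, 1, 3, 4, 3, 1, 0, 1, 3, 4]), (156, true, [3, 1, 0, 1, 0, 1, 3, 1, 3, 1, 0, 1, 3, 4]), (281, false, [3, 1, 3, 1, 0, 1, 3, 4, 3, 4, 3, 1, 0, 4]), (202, false, [3, 4, 3, 1, 0, 1, 0, 4, 3, 4, 0, 1, 0, 4]), (281, true, [3, 4, 0, 1, 3, 1, 0, 1, 0, 4, 3, 4, 3]), (187, false, [0, 4, 0, 1, 3, 4, 0, 4, 0, 1, 3, 1, 0, 4, 0]), (219, false,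 [0, 1, 0, 2, 4, 3, 4, 3, 1, 0, 4, 3, 4]), (219, false, [1, 2, 0, 1, 3, 1, 3, 1, 0, 1, 0, 1, 3, 1, 0]), (63, true, [1, 0, 1, 2, 0, 4, 0, 4, 0, 4, 3, 1, 3, 1]), (63, true, [2, 4, 3, 4, 0, 1, 0, 1, 3, 4, 0, 1, 3]), (281, false, [1, 3, 4, 3, 1, 0, 4, 3, 4, 0, 4, 3, 4]), (281, false, [2, 4, 3, 4, 3, 1, 0, 1, 0, 1, 3, 1, 0, 4, 3, 1]), (219, false, [3, 4, 0, 4, 3, 1, 3, 4, 0, 4, 0, 1, 3, 4]), (63, false, [1, 3, 4, 0, 4, 3, 1, 3, 1, 3, 4, 0, 4, 3, 4, 0]), (202, false, [3, 1, 3, 4, 3, 4, 0, 1, 3, 4, 3, 1]), (156, true, [0, 1, 2, 0, 4, 0, 4, 3, 4, 3, 1, 0]), (219, false, [0, 4, 0, 1, 0, 1, 3, 4, 0, 1, 0, 1, 3, 1, 0, 4]), (63, false, [2, 4, 0, 1, 3, 4, 0, 4, 3, 4, 0, 4, 0, 4]), (219, false, [1, 0, 1, 3, 1, 3, 1, 3, 4, 0, 1, 0, 1,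 3, 4]), (187, false, [0, 1, 2, 0, 4, 3, 4, 3, 4, 3, 1]), (94, false, [1, 0, 1, 3, 1, 0, 4, 0, 4, 0, 1, 3, 1, 0]), (94, false, [1, 3, 4, 3, 4, 3, 4, 0, 1, 3, 1]), (202, false, [2, 4, 0, 1, 3, 4, 3, 1]), (219, false, [0, 1, 0, 2, 4, 0, 4, 0, 4, 0, 4, 3, 1, 3, 1, 0, 4]), (219, false, [0, 1, 3, 1, 3, 1, 3, 1, 0, 4, 0, 4, 3, 1, 0]), (156, true, [2, 0, 1, 0, 4, 3, 4, 0, 4, 0, 1, 3, 1]), (281, false, [0, 1, 2, 0, 4, 3]), (219, false, [1, 0, 1, 0, 1, 2, 0, 1, 3, 1, 0, 1, 0, 4, 0]), (219, false, [2, 0, 4, 3, 4, 0, 4, 0, 4, 3, 4, 0, 4, 3, 4, 0]), (63, true, [2, 0, 4, 0, 4, 3, 1, 3, 4, 0, 4, 0]), (219, false, [0, 1, 3, 1, 0, 1, 3, 1, 0, 1, 0, 1, 3]), (281, true, [4, 0, 1, 0, 1, 3, 1, 3, 4, 0, 4, 3]), (187, false, [0, 1, 3, 1, 3,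 1, 0, 4, 0]), (281, false, [3, 1, 0, 4, 3, 1, 0, 1, 3, 1]), (63, true, [1, 3, 4, 0, 4, 0, 1, 3, 1, 0, 1, 3, 1, 3]), (94, false, [4, 0, 4, 3, 4, 0, 4, 3, 1, 0, 4, 0, 1]), (281, true, [0, 4, 0, 1, 3, 1, 0, 1, 0, 4, 3, 4, 0, 4, 3]), (93, false, [1, 0, 4, 0, 4, 0, 4, 3, 4, 3]), (219, false, [1, 0, 1, 0, 1, 3, 1, 3, 1, 3, 1, 0, 4, 3, 4, 0, 4]), (63, true, [3, 1, 0, 4, 3, 4, 3, 4, 3, 4, 3, 1, 3]), (219, false, [1, 0, 1, 3, 1, 3, 1, 0, 1, 0, 4, 3, 1, 3, 4]), (219, false, [1, 3, 1, 3, 4, 0, 4, 3, 4, 0, 1, 3, 4]), (63, false, [2, 0, 4, 3, 4, 0, 4, 0, 4, 0, 4, 3, 4]), (281, true, [0, 1, 0, 1, 2, 0, 4, 3, 4, 3]), (156, true, [0, 4, 0, 1, 3, 1, 0, 4, 3, 4, 0, 1]), (63, false, [3, 4, 0, 1, 3, 1, 0, 4, 0]), (202, false, [4, 3, 4, 3,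 4, 3, 1, 0, 4, 0]), (219, false, [0, 2, 4, 0, 1, 0, 1, 0, 1, 3, 1, 3, 1, 0, 1, 0, 1]), (281, true, [0, 1, 0, 1, 0, 4, 3, 4, 3]), (219, false, [3, 1, 0, 1, 3, 1, 0, 1, 3, 4, 0, 4, 0, 1, 3]), (63, false, [1, 0, 1, 0, 4, 3, 4, 0, 4, 0, 4, 3, 1, 3, 1]), (93, false, [1, 0, 4, 0, 4, 0, 4, 3, 4, 3]), (219, false, [1, 0, 1, 3, 4, 3, 4, 0, 4, 0, 4, 3, 4, 3, 4]), (63, false, [3, 1, 0, 4, 3, 1, 0, 1, 3, 4, 3, 1, 0]), (187, false, [2, 4, 0, 4, 3, 1, 3, 1, 3, 1, 3]), (219, false, [1, 0, 1, 0, 1, 3, 4, 3, 1, 0, 1, 3, 1, 3, 1]), (219, false, [1, 0, 1, 0, 1, 0, 2, 4, 0, 4, 3, 4, 3, 4, 3, 1, 3])]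
def r265 : List (ℕ × Bool × List ℕ) := [(56, true, [4, 0, 1, 0, 4, 3, 4, 0, 4, 3, 4, 0, 1, 0, 4]), (122, false, [0, 1, 0, 2, 4, 3, 4, 0, 4, 3, 1, 3, 4, 0, 4, 0, 1]), (267, true, [3, 4, 0, 1, 3, 4, 3, 4, 0, 1]), (131, false, [0, 1, 0, 1, 3, 1, 3, 4, 3, 4, 0, 4]), (210, false, [0, 4, 0, 4, 3, 4, 3, 1, 0, 1, 3, 4, 0, 1]), (275, false, [4, 3, 4, 3, 4, 0, 1, 3, 1, 3, 4, 3, 4, 3, 1]), (116, true, [0, 1, 3, 4, 3, 1, 0, 1, 0, 4, 3, 4, 3, 1, 0]), (81, false, [0, 1, 0, 1, 3, 4, 0, 4, 3, 1, 3, 4, 0, 4, 0, 1]), (14, true, [4, 3, 1, 0, 1, 0, 1, 0, 1]), (78, true, [4, 3, 1, 0, 4, 0, 4, 3, 1]), (14, true, [1, 0]), (168, false, [0, 4, 3, 4, 3, 1, 0, 1, 3, 4, 0, 1, 0, 4]), (265, true, []), (14, true, [1, 0, 4, 3, 4, 3, 4, 3, 4, 0, 4, 0]),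 (168, true, [1, 3, 1, 3, 1, 3, 1, 3, 1, 0, 1, 0, 4, 3]), (116, true, [2, 0, 4, 3, 4, 3, 4, 3, 1, 0, 1]), (94, true, [3, 4, 0, 1, 0, 1, 0, 4, 3, 1, 3, 1, 0, 1]), (7, false, [0, 2, 4, 3, 4, 3, 1, 0, 4, 0, 4, 0, 1, 3]), (265, false, [0, 1, 3, 1, 0, 1, 3, 4, 0, 1, 3, 1]), (7, false, [1, 2, 0, 4, 0, 4, 3, 4, 0, 1, 3, 4, 0]), (100, false, [0, 4, 0, 4, 3, 4, 0, 1, 0, 1, 0]), (55, false, [0, 1, 0, 4, 3, 4, 3, 1, 0, 1, 3, 1, 0, 1]), (275, false, [2, 4, 0, 1, 3, 4, 0, 4, 3, 1, 0, 4]), (12, false, [0, 1, 0, 1, 3, 1, 3, 4, 0, 1, 0]), (265, false, [0, 4, 3, 1, 3, 1, 3, 1, 0, 1, 3]), (94, true, [0, 1, 0, 2, 4, 0, 4, 0, 1, 3, 1, 0, 4]), (267, true, [0, 4, 0, 1, 3, 1, 0, 1, 0, 1, 3, 1, 3, 1]), (248, false, [1, 3, 4, 0, 4, 3, 4, 3, 4,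 0, 4, 3, 4, 3, 1]), (267, true, [2, 4, 0, 1, 3, 1, 0, 1, 0, 1, 3, 1, 3, 1]), (104, true, [0, 4, 0, 4, 3, 1, 3, 4, 0, 4, 3, 4, 0]), (2, false, [1, 3, 1, 0, 1, 3, 4, 0]), (265, false, [2, 0, 4, 3, 1, 0]), (187, true, [2, 4, 0, 1, 0, 1, 3, 1, 0, 1, 3, 1, 0, 1]), (81, false, [1, 0, 1, 0, 2, 4, 0, 1, 3, 1, 3, 1]), (82, false, [1, 0, 4, 3, 4, 3, 4, 3]), (265, true, []), (168, true, [0, 1, 0, 4, 0, 4, 3, 1, 3, 1, 0]), (26, true, [0, 1, 0, 1, 2, 0, 4, 3, 1, 3, 1, 0, 1, 0]), (116, false, [4, 3, 4, 3, 4, 0, 1, 3, 1, 3, 1, 0, 1, 3]), (168, true, [0, 4, 0, 4, 3, 1, 3, 1, 0, 1, 3, 4, 0]), (2, true, [3, 1, 0, 4, 3, 1, 3, 1, 3, 1, 3]), (122, false, [0, 4, 0, 1, 0, 1, 0, 4, 3, 1, 3, 1, 0]), (210, false, [1, 0, 2, 4, 0, 4, 3, 4, 0, 1,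 3, 1, 3, 1, 3, 1]), (168, true, [1, 3, 1, 0, 4, 3, 1, 0, 1, 3, 4, 0]), (122, false, [1, 3, 1, 0, 4, 0, 4, 3, 1, 3, 1, 3]), (168, false, [2, 4, 0, 1, 0, 4, 3, 1, 3, 1, 3, 4]), (210, false, [2, 4, 0, 1, 3, 1, 3, 4, 3, 4, 3, 4, 0, 4]), (78, false, [1, 0, 1, 0, 1, 0, 4, 0, 4, 0, 4, 0, 4, 3]), (265, true, []), (78, false, [3, 1, 3, 1, 0, 1, 3, 1, 0, 4, 0, 4]), (56, false, [3, 1, 3, 4, 0, 4, 3, 4, 0, 4, 3]), (168, false, [4, 3, 4, 3, 4, 0, 4, 0, 4, 3, 4, 0, 1]), (14, true, [4, 3, 1, 0, 1, 0, 1, 0, 1]), (78, false, [4, 0, 4, 0, 1, 3, 1, 0, 4, 0, 4, 0, 1, 3, 4]), (81, false, [4, 0, 4, 0, 1, 3, 4, 3, 4, 3, 4, 0, 1, 3, 4]), (78, false, [2, 0, 1, 3, 1, 0, 1, 0, 4, 0, 4, 3, 1, 0]), (275, false, [1, 0, 4, 3, 4, 0, 4, 0, 4, 3, 4]),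 (82, false, [1, 3, 1, 3, 1, 3, 1, 3, 1, 3, 1, 3, 1]), (12, false, [1, 0, 1, 0, 4, 3, 1, 0, 1, 0, 4, 0, 4, 3, 4]), (116, false, [2, 4, 0, 4, 0, 4, 0, 1, 3, 4, 3, 1, 0]), (78, true, [0, 2, 4, 3, 1, 3, 1, 3, 4, 0, 1, 3, 4]), (104, false, [1, 0, 1, 0, 1, 3, 1, 3, 4, 0, 4, 0, 1]), (26, true, [1, 3, 1, 0, 4, 0, 4, 3, 4, 0, 4, 3, 1, 0]), (104, true, [0, 2, 4, 0, 4, 0, 4, 3, 4, 0]), (122, false, [1, 3, 4, 0, 4, 0, 1, 3, 4, 0, 4, 0, 1, 3, 4]), (265, true, []), (265, false, [2, 0, 4, 3, 1, 0]), (265, false, [0, 4, 3, 1, 3, 1, 3, 1, 0, 1, 3]), (7, false, [0, 1, 0, 1, 2, 0, 4, 0, 4, 0, 1, 3]), (12, false, [2, 4, 0, 1, 0, 4, 3, 1, 0]), (56, false, [4, 3, 1, 0, 1, 3, 1, 0, 4, 3, 1]), (55, false, [2, 0, 4, 3, 1, 3, 1, 3, 4, 0, 1, 0,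 4]), (210, false, [1, 0, 2, 4, 3, 1, 0, 4, 3, 4, 3, 4]), (187, true, [3, 1, 3, 1, 3, 4, 3, 4, 3, 4]), (116, false, [1, 2, 0, 1, 0, 4, 0, 4, 3, 1, 0, 1, 3, 4]), (187, true, [3, 1, 3, 1, 3, 1, 0, 1, 0, 1, 3, 4, 0, 4, 0]), (78, true, [1, 2, 0, 1, 3, 1, 3, 1, 0, 4, 3, 4, 0, 4]), (7, false, [0, 4, 0, 4, 3, 1, 0, 4, 0, 4, 0, 1, 3]), (265, true, []), (56, true, [1, 0, 1, 3, 1, 0, 1, 3, 4, 0, 4, 0, 4]), (265, true, []), (78, false, [4, 3, 4, 0, 4, 3, 4, 3, 1, 0, 1, 3, 1]), (104, false, [1, 2, 0, 4, 3, 1, 0, 1, 3, 1, 0, 1, 3]), (160, false, [1, 0, 4, 3, 4, 0, 4, 0, 4, 3]), (2, false, [3, 1, 3, 4, 0, 4, 3, 4, 3]), (78, false, [3, 4, 0, 4, 3, 4, 0, 4, 3, 4, 3, 4, 0, 1, 3]), (210, false, [1, 3, 1, 3, 1, 0, 1, 3, 4, 0, 1, 0, 4]), (267,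 true, [3, 4, 3, 1, 0, 1, 0, 4, 0]), (104, true, [0, 1, 3, 1, 0, 1, 0, 4, 0, 4, 0, 4, 0, 4]), (26, true, [1, 0, 1, 2, 0, 1, 0, 1, 3, 4, 0, 1, 0]), (122, false, [2, 0, 4, 3, 1, 0, 4, 0, 4, 0, 4, 3]), (7, false, [0, 4, 3, 4, 3, 1, 0, 4, 0, 4, 0, 1, 3]), (104, false, [3, 1, 0, 4, 3, 1]), (55, true, [3, 4, 3, 4, 0, 4, 3, 1, 3, 1, 3, 4, 3]), (122, false, [1, 2, 0, 4, 0, 4, 0, 4, 3, 1, 3, 1, 0, 4, 0]), (267, true, [0, 1, 3, 4, 3, 4, 0, 4, 0, 4, 0, 4, 3, 4]), (265, false, [0, 1, 3, 1, 0, 1, 3, 4, 0, 1, 3, 1]), (168, true, [0, 1, 0, 4, 3, 4, 0, 1, 3, 1, 0, 1, 0, 1]), (94, true, [0, 4, 0, 1, 0, 1, 3, 4, 3, 1]), (248, false, [2, 0, 1, 3, 1, 3, 4, 0, 1, 0, 1, 3, 1, 0, 4]), (248, false, [1, 0, 4, 0, 1, 3, 1, 3, 1, 0, 1, 3, 4, 3, 1,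 0]), (56, false, [4, 0, 1, 3, 1, 0, 1, 0, 4, 3, 4, 0, 1]), (168, true, [4, 3, 4, 3, 1, 0, 4, 3, 4, 0, 4]), (210, true, [1, 0, 4, 0, 4, 0, 4, 3, 1, 0, 1, 0, 4, 3]), (56, true, [3, 1, 0, 1, 3, 1, 0, 4, 0, 4, 3, 4, 0, 1]), (267, true, [4, 3, 1, 3, 1, 3, 1, 0, 1, 0, 1, 3, 1, 0]), (14, true, [1, 0, 4, 3, 4, 3, 4, 3, 4, 0, 4, 0]), (160, false, [1, 0, 4, 3, 4, 0, 4, 0, 4, 3]), (116, true, [0, 1, 0, 4, 3, 4, 0, 4, 0, 1, 3, 4, 3, 1]), (82, false, [3, 1, 0, 1, 0, 1, 3, 4, 0]), (14, true, [1, 0]), (7, false, [0, 1, 3, 1, 0, 4, 0, 4, 0, 1, 3])]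
def r266 : List (ℕ × Bool × List ℕ) := [(215, true, [3, 1, 3, 4, 0, 4, 3, 1, 0, 1, 0, 1, 3, 1]), (84, true, [3, 1, 3, 1, 0, 4, 0, 4, 0, 4, 3, 4, 0, 1]), (219, true, [2, 0, 1, 0, 1, 3, 4, 3, 1, 0, 4, 0, 4, 3]), (109, true, [1, 0, 4, 0, 4, 0, 1, 3, 4, 0, 4, 0, 4, 3, 4, 3]), (261, true, [0, 4, 0, 1, 3, 1, 3, 1, 0, 1, 0, 4, 0, 4, 0, 4, 0]), (141, true, [2, 0, 1, 0, 1, 0, 4, 3, 4, 0, 1, 3, 1, 0]), (67, true, [4, 0, 1, 3, 4, 3, 1, 0, 1, 3, 4, 3]), (241, false, [0, 1, 0, 1, 0, 1, 0, 2, 4, 3, 4, 3, 4]), (140, true, [1, 0, 4, 0, 4, 3, 1, 0]), (122, true, [2, 4, 0, 1, 0, 4, 3, 1, 3, 1, 3, 1]), (275, false, [1, 0, 2, 4, 0, 1, 3, 1, 3, 4, 3, 4, 3, 1, 0]), (83, false, [1, 0, 1, 0, 4, 3, 1, 3, 1, 0, 4, 3, 1, 0]), (131, false, [1, 3,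 1, 0, 1, 3, 1, 0, 1, 3, 1, 3]), (237, true, [1, 0, 1, 2, 0, 1, 0, 4, 3, 1, 3, 1, 3, 1, 0, 4]), (218, true, [0, 2, 4, 3, 1, 0, 1, 3, 1, 3, 1, 0, 1, 0]), (220, true, [1, 0, 1, 0, 1, 3, 4, 3, 1, 0, 1, 3, 1, 3, 4]), (274, true, [3, 1, 3, 1, 0, 1, 0, 4, 3, 4, 0, 4, 3]), (205, false, [2, 0, 1, 3, 1, 0, 4, 3, 1]), (89, true, [1, 0, 4, 0, 1, 3, 1, 0, 1, 0, 4, 3, 1, 3]), (260, true, [0, 1, 0, 1, 2, 0, 4, 0, 4, 3, 4, 3, 4, 0, 4, 0, 1]), (90, false, [4, 3, 1, 3, 4, 0, 4, 0, 4, 3, 4, 0, 1, 0, 1]), (113, true, [0, 1, 0, 4, 0, 4, 3, 1, 0, 1, 3, 4, 3, 1, 0]), (250, true, [4, 3, 1, 0, 4, 0, 4, 0, 1, 3, 1]), (191, true, [0, 1, 3, 1, 0, 4, 0, 4, 3, 4, 3, 4, 0, 1]), (266, false, [1, 3, 4, 0, 1, 0, 1, 0, 4, 0, 4, 0]), (235, false, [0, 1,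 2, 0, 4, 0, 1, 3, 1, 0, 1, 0, 4, 3, 1]), (67, true, [0, 2, 4, 3, 1, 0, 1, 3, 4, 3]), (62, false, [0, 2, 4, 3, 4, 3, 4, 0, 4, 0, 4, 0, 1, 0]), (65, false, [2, 0, 1, 3, 4, 0, 1, 3, 1, 3]), (241, false, [1, 2, 0, 1, 0, 1, 0, 4, 3, 1, 0, 1, 0, 1, 3, 1]), (144, false, [0, 1, 3, 1, 0, 1, 0, 4, 3, 4, 0]), (280, false, [0, 1, 2, 0, 1, 0, 1, 3, 1, 3, 1, 3, 1, 3]), (219, true, [3, 4, 0, 1, 3, 1, 3, 4, 0, 4, 3, 4, 0, 1]), (218, true, [0, 2, 4, 3, 1, 0, 4, 3, 4, 0, 1, 0, 1, 3, 1, 0]), (109, true, [2, 4, 0, 1, 3, 4, 3, 1, 0, 1, 3, 4, 0, 1]), (65, false, [3, 1, 3, 1, 3, 4, 0, 4, 0, 1, 3, 1, 3]), (7, false, [4, 0, 1, 3, 1, 3, 1, 0, 1, 3, 4, 0, 4, 3]), (235, false, [0, 1, 0, 1, 0, 1, 0, 4, 3, 1]), (137, false, [1, 2, 0, 1, 3, 4, 0, 4,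 0, 1, 3, 1, 0, 1]), (198, false, [0, 1, 0, 4, 3, 4, 3, 4, 0, 4, 3, 1, 0, 4, 0]), (0, false, [0, 1, 2, 0, 1, 3, 4, 0, 1, 0, 1, 3, 4, 0, 1, 3]), (221, true, [3, 1, 3, 1, 3, 1, 3, 1, 0, 4, 3, 1, 3]), (261, false, [0, 4, 0, 4, 0, 4, 0, 4, 3, 4, 3, 4, 0, 1]), (215, true, [0, 2, 4, 0, 1, 0, 4, 3, 4, 3, 4, 3, 4, 0, 4]), (6, true, [0, 4, 3, 4, 0, 1, 3, 1, 3, 1, 3, 4, 0, 1]), (0, false, [3, 4, 3, 1, 0, 1, 3, 4, 3, 4, 3, 4, 0]), (229, false, [1, 0, 4, 0, 1, 3, 1, 0, 1, 0, 1, 0, 1]), (87, false, [2, 0, 4, 3, 1, 3, 1, 3, 4, 3, 4, 0, 4, 3, 4]), (231, true, [0, 2, 4, 0, 4, 3, 1, 0, 1, 3, 4, 0]), (72, true, [4, 3, 4, 3, 4, 3, 1, 0, 4, 3, 4, 3, 4, 0, 4]), (235, true, [1, 2, 0, 1, 0, 4, 3, 4, 3, 4, 3, 4, 0, 4, 0, 1, 0]), (94, true, [1,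 3, 1, 3, 1, 0, 1, 3, 4, 3, 1]), (21, true, [2, 4, 0, 1, 0, 1, 3, 4, 3, 4]), (237, false, [1, 0, 1, 0, 1, 2, 0, 1, 3, 1, 0, 1, 3, 1, 3, 1]), (261, false, [2, 4, 0, 4, 0, 1, 3, 4, 3, 4, 3, 1, 0, 4, 0, 4]), (208, false, [1, 3, 1, 0, 1, 3, 1, 3, 4, 3]), (181, true, [2, 0, 4, 0, 1, 0, 1, 3, 4, 0, 4, 0, 4, 3, 4, 3, 4]), (153, true, [2, 4, 3, 4, 3, 4, 3, 4, 0, 1, 0, 1]), (12, true, [3, 1, 0, 4, 0, 4, 3, 1, 0, 4, 0, 4, 3, 4, 3]), (235, true, [4, 3, 1, 3, 4, 0, 1, 3, 1, 3, 4, 3, 4, 0]), (29, false, [1, 3, 4, 0, 1, 3, 1, 0, 1, 3, 1, 3]), (141, true, [4, 0, 4, 3, 1, 3, 4, 0, 4, 0, 4, 0, 4, 3, 4]), (6, true, [0, 1, 0, 1, 0, 2, 4, 0, 1, 3, 1, 3, 1, 3, 4, 0, 1]), (261, true, [2, 4, 0, 4, 0, 4, 3, 1, 3, 4, 0, 4, 3, 1, 0, 1]), (87, false,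 [1, 0, 4, 3, 1, 3, 4, 0, 4, 3, 1, 0]), (266, true, []), (118, false, [0, 1, 0, 4, 3, 1, 3, 1, 3, 4, 3, 4, 0]), (153, true, [4, 0, 4, 0, 4, 0, 1, 3, 1, 0, 1, 0, 1]), (144, true, [1, 0, 1, 0, 1, 2, 0, 1]), (261, true, [3, 1, 0, 1, 0, 1, 3, 1, 3, 1, 0, 1, 0, 4, 0]), (21, true, [4, 3, 1, 0, 1, 3, 1, 3, 1, 0, 1, 0, 1]), (122, true, [1, 0, 1, 3, 4, 0, 4, 0, 4, 3, 1, 3]), (260, true, [0, 1, 3, 4, 0, 4, 3, 1, 0, 1, 0, 1, 0, 4, 0]), (261, true, [0, 1, 2, 0, 1, 3, 1, 3, 4]), (274, true, [3, 1, 3, 4, 0, 1, 3, 1]), (200, true, [2, 0, 1, 0, 1, 0, 4, 3, 4, 0, 4, 0, 4, 3, 1, 3]), (196, true, [4, 3, 1, 0, 1, 3, 1, 0, 4, 3, 1]), (7, false, [0, 1, 2, 0, 1, 3, 1, 3, 1, 3, 4, 3, 4, 3, 4, 0, 4, 3]), (72, true, [2, 4, 0, 4, 3, 4, 3, 4, 3, 4,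 0, 4]), (215, true, [0, 1, 2, 0, 4, 3, 4, 3, 4, 3, 1, 0, 4, 0]), (263, true, [0, 4, 0, 1, 3, 4, 3, 4, 0, 4, 0, 1, 3, 4, 0, 4]), (220, true, [2, 0, 1, 0, 1, 3, 1, 3, 1, 0, 4, 3, 4, 3, 4]), (249, true, [0, 1, 2, 0, 4, 3, 1, 0, 1, 0, 1, 0, 1, 3]), (29, false, [0, 1, 0, 2, 4, 0, 4, 3, 1, 0, 1, 0, 4, 3, 1]), (120, false, [0, 1, 0, 2, 4, 0, 4, 3, 1, 3, 1, 0, 4, 3, 1]), (280, true, [3, 1, 3, 4, 0, 4, 3, 4, 3, 4, 0, 4, 0, 1]), (200, true, [0, 1, 0, 4, 3, 4, 3, 1, 0, 1, 3, 1, 0, 4]), (229, false, [1, 0, 2, 4, 3, 1, 0, 1, 0, 1, 0, 1, 0, 1]), (192, false, [0, 4, 3, 1, 3, 4, 0, 1, 0, 1, 3, 1, 0]), (217, true, [0, 4, 0, 1, 0, 1, 0, 4, 0, 4, 3, 1]), (232, false, [3, 1, 0, 1, 0, 4, 0, 4, 3, 1, 0, 1, 3, 1]), (191, true, [0, 1, 0, 1, 2,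 0, 4, 0, 4, 3, 4, 0, 1, 0, 1, 0, 1]), (237, false, [1, 3, 1, 3, 1, 0, 4, 3, 4, 0, 4, 3, 4, 3, 1]), (102, false, [0, 4, 3, 1, 3, 1, 3, 4, 3, 4, 3, 1]), (137, false, [1, 3, 1, 0, 1, 0, 1, 3, 1, 0, 1]), (263, true, [0, 1, 2, 0, 1, 0, 4, 3, 4, 3, 4, 3, 4]), (232, false, [0, 1, 3, 1, 3, 1, 3, 4, 0, 4, 3, 1, 3, 4]), (231, true, [0, 1, 0, 2, 4, 0, 4, 3, 4, 0, 1, 3, 4, 3, 4]), (224, false, [3, 1, 0, 1, 3, 1, 3, 4]), (89, true, [2, 4, 3, 4, 0, 1, 3, 1, 0, 1, 0, 1, 3, 1, 0, 1]), (90, false, [2, 0, 1, 0, 1, 3, 4, 0, 4, 3]), (181, true, [3, 1, 0, 1, 0, 4, 0, 4, 3, 4, 0, 4, 3, 1, 3]), (118, true, [2, 0, 1, 3, 1, 3, 1, 0, 1, 3, 4, 3]), (218, true, [4, 0, 1, 3, 4, 0, 4, 3, 1, 0, 4]), (218, true, [1, 0, 1, 0, 4, 3, 4, 0, 1, 3, 1, 3, 4,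 3, 4, 0]), (224, false, [0, 1, 2, 0, 1, 0, 1, 3, 1, 3, 1, 0, 1, 0, 4, 0]), (221, true, [0, 2, 4, 3, 4, 3, 4, 0, 4, 0, 4, 0, 1]), (94, true, [4, 0, 1, 3, 1, 3, 1, 3, 1, 0, 4, 0, 4, 0]), (250, true, [0, 4, 3, 4, 0, 4, 0, 4, 3, 1, 0, 4, 0, 4]), (273, true, [1, 0, 1, 0, 2, 4, 0, 4, 0, 4, 0, 1, 3]), (192, false, [1, 0, 1, 0, 1, 0, 2, 4, 3, 4, 0, 4, 3, 4]), (237, true, [0, 1, 3, 1, 3, 1, 3, 4, 0, 4, 3, 1, 3, 4])]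
def r267 : List (ℕ × Bool × List ℕ) := [(265, true, [2, 4, 3, 4, 3, 4, 0, 4, 0, 4, 3, 4, 0, 1]), (134, false, [3, 1, 3, 1, 3, 1, 0, 4, 0, 4, 3, 4, 3, 4, 0]), (68, false, [0, 4, 0, 4, 0, 4, 0, 4, 3, 1, 3, 4, 0, 4, 3, 1]), (252, false, [1, 0, 1, 0, 2, 4, 3, 4, 3, 4, 0, 4, 0, 1]), (151, false, [2, 0, 4, 0, 4, 0, 4, 3, 1, 3, 1]), (255, true, [1, 0, 2, 4, 0, 4, 3, 1, 3, 1, 3, 4, 0, 4, 3, 4]), (222, false, [1, 0, 1, 2, 0, 4, 0, 1, 3, 4, 0, 4, 3, 4, 0, 4]), (94, true, [0, 1, 0, 1, 2, 0, 1, 0, 1, 3, 1, 0, 1, 3, 1]), (151, false, [0, 1, 3, 4, 0, 4, 0, 4, 3, 4, 0, 1, 3, 4, 0]), (81, true, [1, 0, 1, 0, 4, 0, 4, 3, 4, 0, 4, 3, 4]), (225, false, [0, 1, 0, 1, 3, 4, 0, 4, 3, 1, 3, 4, 0, 1, 0]), (127, false, [1, 0, 2, 4, 0, 4, 3, 4, 0,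 4, 3, 1, 3, 4]), (267, true, [2, 0, 4, 3, 4, 0, 1, 0, 1, 0, 1, 3, 1]), (33, true, [2, 4, 0, 1, 3, 1, 3, 4, 0, 1, 3, 1, 0]), (267, false, [0, 4, 3, 1, 0, 4, 0, 4, 3, 1, 0, 1]), (275, true, [4, 3, 1, 3, 4, 0, 1, 3, 1, 3, 4, 3, 4]), (222, false, [4, 0, 1, 3, 1, 3, 4, 0, 4, 0, 4, 0, 4, 3, 4]), (1, false, [1, 2, 0, 4, 0, 4, 0, 4, 3, 4, 3, 4]), (123, true, [4, 0, 4, 0, 1, 3, 1, 0, 4, 3, 1, 0, 1]), (125, false, [1, 2, 0, 1, 0, 4, 0, 4, 3, 1, 0, 4, 0, 4, 3, 1]), (67, false, [1, 0, 4, 0, 4, 0, 1, 3, 4, 3, 4, 0, 1]), (195, true, [1, 0, 2, 4, 0, 1, 0, 4, 3, 4, 3, 1, 3]), (265, true, [3, 1, 3, 4, 3, 4, 0, 1, 0]), (200, true, [2, 0, 4, 0, 1, 3, 4, 0, 4, 0, 1, 3, 1, 0, 4, 3]), (125, false, [4, 0, 4, 0, 4, 3, 1, 3, 1, 0, 4, 0, 4, 3]),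 (74, false, [4, 0, 4, 3, 4, 0, 1, 0, 1]), (172, true, [2, 0, 1, 0, 1, 3, 1, 0, 4, 3, 1, 3, 4, 0, 4, 3, 1]), (230, true, [2, 0, 4, 0, 4, 0, 4, 0, 1, 3, 4, 3]), (178, true, [1, 0, 1, 0, 2, 4, 0, 4, 0, 1, 3, 1, 0, 4, 3, 1]), (222, false, [1, 0, 1, 2, 0, 4, 0, 1, 3, 4, 0, 4, 3, 4, 0, 4]), (187, true, [0, 4, 0, 1, 0, 1, 3, 4, 0, 1, 0, 1, 3, 1, 3]), (186, false, [4, 0, 1, 3, 1, 3, 4, 3, 4, 0, 1, 3, 1]), (33, true, [4, 3, 1, 0, 1, 3, 4, 3, 4, 0, 4, 0, 4, 3]), (215, true, [1, 0, 2, 4, 3, 4, 3, 4, 0, 1, 3, 1, 0, 4, 3, 4]), (218, false, [0, 2, 4, 3, 4, 3, 1, 0, 1, 0, 4, 0, 4, 0, 1, 0]), (239, true, [2, 0, 4, 3, 1, 3, 1, 3, 4, 0, 1, 0, 1, 0]), (252, true, [0, 2, 4, 0, 1, 3, 1, 3, 4, 0, 1, 0, 4]), (4, true, [0, 1, 3, 4, 3, 4, 3, 1,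 0, 1, 3, 1, 3]), (256, false, [1, 0, 1, 0, 4, 3, 4, 3, 1, 0, 1, 0, 1, 3, 1, 3, 1]), (127, false, [1, 0, 1, 0, 1, 0, 1, 0, 4, 0, 4, 3, 4, 0, 1, 0]), (0, false, [0, 1, 3, 1, 3, 4, 3, 4, 3, 4]), (11, true, [2, 4, 3, 4, 0, 4, 3, 1, 0, 1, 3, 1]), (145, false, [1, 0, 1, 3, 1, 3, 1, 3, 1, 0, 4]), (267, true, []), (122, false, [4, 3, 1, 3, 1, 0, 4, 0, 4, 3, 1, 3, 4]), (170, false, [3, 4, 0, 1, 3, 4, 0, 4, 0, 4, 3, 4, 3, 4, 0, 4]), (4, false, [3, 1, 3, 4, 0, 1, 3]), (267, true, [0, 1, 3, 4, 3, 4, 0, 1, 3, 1, 3, 4]), (126, false, [0, 1, 0, 4, 3, 1, 3, 1, 0, 1, 3, 4]), (200, true, [0, 1, 0, 1, 2, 0, 1, 3, 4, 0, 4, 0, 1, 0]), (225, false, [2, 0, 1, 0, 1, 0, 1, 0, 1, 3, 4, 0]), (200, true, [3, 1, 0, 1, 0, 1, 0, 4, 0, 4, 0, 4, 3, 4,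 0]), (195, true, [2, 0, 4, 3, 1, 0, 4, 3, 4, 3, 1, 0, 4, 3]), (74, true, [4, 0, 4, 0, 1, 3, 1, 3]), (7, false, [4, 0, 1, 0, 1, 0, 4, 0, 4, 3, 1, 3, 1, 0]), (123, true, [0, 2, 4, 3, 1, 0, 4, 0, 4, 3, 1, 3, 1, 0, 4, 0]), (252, false, [0, 4, 3, 1, 3, 4, 0, 4, 0, 4, 0, 4, 3]), (127, false, [0, 2, 4, 0, 1, 0, 4, 3, 4, 0, 4, 3, 4, 0, 1]), (11, true, [2, 0, 1, 0, 1, 3, 4, 3, 1, 0, 1]), (120, true, [2, 4, 0, 1, 3, 1, 3, 1, 0, 1, 3, 4, 0, 1]), (215, false, [4, 3, 4, 0, 1, 0, 1, 0, 4, 3, 1, 3]), (121, true, [1, 3, 4, 0, 1, 3, 1, 3, 1, 0, 4, 3]), (4, true, [1, 0, 2, 4, 0, 4, 0, 1, 3, 1, 3, 4, 0, 1]), (94, true, [0, 1, 0, 2, 4, 0, 4, 3, 4, 3, 1, 0, 4, 3]), (222, false, [3, 1, 3, 4, 0, 4, 3, 1, 3, 1, 3, 1, 0, 1, 0]), (267, true, []),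 (178, true, [3, 4, 0, 4, 3, 4, 3, 4, 0, 1, 3]), (267, false, [0, 4, 3, 1, 0, 4, 0, 4, 3, 1, 0, 1]), (94, false, [0, 1, 0, 1, 0, 1, 0, 1]), (113, true, [1, 0, 4, 0, 4, 0, 4, 3, 4, 0, 1, 0, 1]), (257, true, [4, 3, 4, 3, 4, 0, 4, 0, 4, 3, 4, 3, 1, 0, 1]), (94, false, [1, 2, 0, 1, 0, 1, 0, 1]), (280, false, [0, 1, 2, 0, 1, 0, 1, 3, 4, 3, 1, 0, 4]), (195, true, [0, 4, 3, 1, 0, 4, 0, 4]), (126, false, [2, 4, 3, 1, 3, 1, 3, 4, 0, 4, 3, 1, 3, 1, 3, 1]), (200, true, [0, 4, 0, 4, 3, 1, 0, 1, 0, 4, 3, 4, 0, 1, 3, 1]), (195, false, [0, 1, 0, 4, 3, 4, 3, 4, 3, 1, 0, 4, 0, 1]), (33, true, [1, 2, 0, 4, 0, 1, 3, 4, 3, 4, 3, 1, 0, 1]), (218, false, [1, 0, 4, 3, 4, 0, 4, 3, 4, 0, 4]), (7, false, [1, 0, 1, 0, 1, 2, 0, 1]), (186, false, [3,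 4, 3, 1, 0, 1, 0, 4, 3, 4, 0, 4, 3]), (31, false, [1, 0, 4, 3, 1, 0, 4, 0, 4, 0, 1]), (187, false, [4, 3, 4, 3, 1, 0, 4, 3, 4, 0, 4]), (122, false, [1, 0, 1, 2, 0, 4, 3, 1, 3, 1, 0, 4, 3, 1, 3]), (4, true, [1, 0, 1, 2, 0, 4, 3, 4, 0, 4, 0, 1, 3, 1]), (267, false, [2, 0, 4, 3, 1, 0]), (252, false, [0, 4, 3, 4, 3, 1, 0]), (215, false, [0, 1, 3, 4, 0, 4, 3, 4, 3, 4, 0, 4, 0]), (127, false, [1, 0, 1, 0, 1, 3, 4, 3, 4, 0, 4, 0, 1]), (33, true, [0, 1, 0, 1, 0, 1, 3, 1, 3, 1, 0, 4, 0, 4]), (170, false, [2, 4, 0, 1, 3, 1, 3, 4, 0, 1, 0, 1, 0, 1, 3, 4, 0]), (172, true, [1, 0, 1, 0, 4, 3, 1, 3, 1, 3, 4, 0, 4, 3, 1, 3]), (267, true, [0, 1, 0, 1, 3, 4, 0, 4, 3, 4, 3, 1, 0]), (31, false, [0, 2, 4, 0, 4, 0, 4, 0, 1, 3, 1, 3, 4, 0]),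 (102, true, [0, 4, 0, 4, 0, 4, 3, 1, 0, 1, 0, 4]), (196, false, [1, 2, 0, 1, 3]), (256, false, [2, 0, 4, 3, 4, 0, 1, 3, 1, 3, 1, 0, 1, 3, 4, 3, 4]), (67, false, [2, 0, 1, 0, 1, 3, 1, 0, 1, 0, 4]), (94, true, [1, 0, 4, 0, 1, 3, 1, 0, 1, 3, 1, 3, 4, 0]), (119, false, [1, 3, 1, 0, 1, 3, 4, 0, 4, 0, 1, 3, 1]), (222, false, [2, 0, 4, 0, 4, 0, 4, 3, 4, 0, 1, 0, 1, 0, 4, 3, 1]), (68, false, [0, 1, 0, 1, 2, 0, 4, 3, 4, 3, 4, 0, 4, 0, 4, 3, 1, 0]), (267, false, [2, 0, 4, 3, 1, 0]), (187, true, [0, 2, 4, 3, 1, 0, 1, 0, 1, 3, 1, 0, 4, 0, 4]), (230, true, [1, 0, 1, 3, 1, 0, 1, 0, 1]), (267, true, [1, 0, 1, 3, 1, 0, 4, 3, 4, 0, 4, 0]), (187, true, [3, 1, 0, 1, 0, 1, 3, 1]), (222, false, [3, 1, 3, 4, 0, 4, 3, 1, 3, 1, 3, 1, 0, 1, 0]),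 (187, false, [3, 4, 0, 1, 3, 1, 0, 1, 0, 1, 3, 4, 3, 1]), (255, true, [0, 4, 3, 1, 0, 4, 3, 4, 0, 4, 0, 1, 3]), (215, true, [1, 0, 1, 3, 4, 3, 1, 0, 1, 3, 4, 0, 1, 0, 1]), (79, false, [0, 1, 0, 1, 0, 1, 0, 1])]
def r268 : List (ℕ × Bool × List ℕ) := [(272, false, [0, 2, 4, 3, 4, 3, 4, 3, 1, 0, 1, 3, 4, 3, 4, 3]), (197, true, [1, 0, 1, 2, 0, 4, 0, 4, 0, 1, 3]), (207, false, [1, 3, 1, 0, 4, 0, 4, 3, 1, 0, 1, 3, 4, 3, 1]), (251, true, [4, 0, 1, 3, 1, 3, 1, 0, 1, 0, 4, 0, 4, 3]), (219, true, [2, 0, 1, 0, 1, 3, 1, 3, 4, 0, 1, 0, 1, 0, 1, 3, 1]), (88, false, [0, 1, 2, 0, 1, 0, 4, 0, 4, 0, 4, 3, 4, 0, 1, 0]), (190, false, [4, 0, 4, 0, 1, 3, 1, 3, 1, 0, 1, 3, 4, 3, 1]), (30, false, [0, 1, 3, 4, 0, 4, 3, 4, 3, 1, 0, 1, 3]), (2,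 false, [1, 2, 0, 4, 0, 1, 3, 4, 0, 4, 0, 4, 3]), (6, false, [0, 4, 0, 4, 0, 4, 0, 4, 3, 1, 3, 4, 0]), (198, true, [0, 1, 0, 2, 4, 0, 1, 0, 4, 3, 4, 0, 4, 3, 4]), (224, true, [3, 1, 0, 4, 0, 4, 3, 4, 0, 4, 3, 4, 3, 4, 0]), (97, true, [1, 2, 0, 4, 0, 4, 3, 1, 0, 4, 0, 4, 3, 1, 3]), (204, false, [2, 4, 0, 4, 3, 4, 0, 4, 3, 4, 0, 4]), (213, false, [2, 4, 0, 1, 0, 1, 0, 1, 3, 1, 3, 1, 3, 1, 0, 1, 3]), (96, true, [3, 1, 0, 1, 0, 1, 0, 1, 3, 4, 3, 4, 0, 4, 0]), (105, true, [3, 1, 3, 4, 0, 1, 3, 1, 3, 1, 0, 1]), (273, false, [2, 0, 1, 3, 1, 3, 4, 0, 4, 0, 4, 0, 1, 3, 1]), (73, false, [1, 3, 4, 0, 1, 3, 1, 0, 1, 0, 1, 3, 4, 3]), (258, false, [2, 0, 1, 0, 1, 0, 4, 0, 4, 3, 1, 3, 4]), (274, true, [2, 0, 1, 3, 1, 0, 4, 0, 4, 0, 1,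 3, 4]), (153, false, [4, 3, 1, 0, 4, 0, 4, 0, 1, 3, 1, 0, 1]), (111, true, [1, 3, 1, 3, 4, 3, 4, 3, 4, 0, 4, 3, 1]), (83, false, [2, 4, 3, 1, 3, 4, 0, 4, 3, 1, 0, 1, 3, 1]), (66, true, [0, 1, 0, 1, 2, 0, 4, 3, 1, 3, 1, 0, 1, 3, 4, 0]), (57, false, [2, 0, 4, 3, 1, 0, 4, 3, 4, 3, 4, 0, 4, 3]), (193, true, [0, 4, 3, 1, 3, 4, 0, 4, 0, 4, 0]), (262, true, [1, 2, 0, 4, 3, 4, 3, 1, 0, 1, 0, 1, 0, 4, 0, 4]), (189, true, [4, 0, 4, 0, 1, 3, 4, 0, 4, 0, 4, 3]), (108, false, [4, 3, 1, 3, 1, 3, 4, 0, 4, 3, 1, 3, 1]), (167, true, [0, 1, 0, 1, 3, 1, 3, 4, 0, 1]), (246, false, [0, 1, 0, 1, 3, 4, 0, 4, 3, 1]), (268, false, [3, 1, 0, 1, 0, 1, 0, 4, 0, 4, 0, 4, 3, 4, 3, 1]), (208, false, [0, 1, 2, 0, 4, 3, 4, 0, 4, 3, 1, 3, 4]), (268, false,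 [1, 0, 1, 3, 1, 3, 1, 3, 4, 3, 4, 3, 4, 0, 4, 0]), (128, false, [1, 0, 1, 2, 0, 4, 3, 1, 3, 1, 3, 1, 0, 4]), (236, false, [1, 0, 1, 0, 1, 3, 1, 3, 1, 0, 1, 0, 1]), (98, false, [1, 0, 1, 3, 4, 3, 4, 0, 4, 3, 1, 3, 1, 3]), (268, false, [2, 4, 0, 1, 3, 1, 3, 4, 3, 4, 0, 1]), (42, true, [2, 0, 1, 3, 1, 3, 1, 3, 4, 3, 4, 0, 4, 0]), (184, false, [3, 4, 0, 1, 3, 4, 3, 1, 0, 1, 0, 1, 0, 4]), (30, false, [4, 3, 4, 0, 4, 3, 4, 3, 4, 0, 1, 3, 4]), (98, true, [0, 1, 2, 0, 1, 0, 4, 3, 1, 0, 1, 3, 4, 3, 4, 0, 1]), (191, false, [0, 2, 4, 3, 4, 0, 4, 0, 4, 0, 1, 3, 1, 0, 1]), (85, false, [3, 4, 3, 4, 0, 4, 0, 4, 0, 4, 3]), (28, true, [1, 0, 1, 3, 4, 0, 1, 0, 1, 0, 1, 0, 4, 0]), (86, false, [1, 0, 1, 3, 4, 3, 4, 0, 1, 0, 1, 3, 1, 3]),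 (249, false, [0, 4, 3, 4, 0, 1, 3, 1, 0, 1, 3, 1]), (124, true, [1, 0, 4]), (139, true, [0, 4, 0, 1, 0, 1, 0, 4, 3, 4, 0, 4]), (10, false, [2, 0, 4, 3, 4, 0, 1, 0, 1, 0]), (149, false, [3, 4, 0, 1, 3, 1, 3, 4, 0, 1, 0, 1]), (16, true, [3, 1, 0, 1, 3, 4, 3, 4, 3, 4, 0, 4, 0]), (182, false, [1, 0, 1, 3, 1, 3, 4, 3, 4, 3, 1, 0]), (71, false, [0, 1, 0, 1, 2, 0, 1, 0, 4, 3, 1, 3, 1, 3, 4]), (118, false, [3, 1, 3, 1, 0, 4, 0, 4, 3, 1, 0, 1, 3, 1]), (184, true, [1, 3, 1, 0, 1, 0, 1, 0, 1, 3, 1, 3, 1, 0]), (182, false, [0, 2, 4, 3, 4, 0, 4, 0, 4, 0, 1]), (281, true, [2, 4, 0, 1, 0, 1, 0, 4, 3, 4, 0, 1, 3]), (194, true, [0, 4, 3, 4, 3, 1, 0, 1, 0, 1, 0, 4, 3, 1]), (187, true, [3, 1, 3, 4, 3, 4, 3, 4, 0, 4, 0]), (268, false, [0,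 4, 3, 4, 0, 1, 3, 1, 3, 4, 3, 4, 0, 1, 3, 1, 0]), (281, true, [3, 1, 3, 4, 0, 4, 0, 1, 3, 4, 0, 4]), (258, false, [0, 1, 3, 1, 3, 1, 0, 1, 0, 1, 0, 1]), (143, false, [2, 0, 4, 3, 1, 0, 1, 3, 1]), (152, true, [0, 2, 4, 3, 1, 3, 1, 0, 1, 0, 1, 3, 1, 3, 1, 0, 4, 0]), (64, false, [4, 3, 1, 3, 1, 0, 1, 0, 4, 3, 4, 0, 1, 3]), (226, false, [0, 2, 4, 0, 4, 0, 4, 3, 1, 3, 4, 0, 4, 3, 4, 3]), (263, false, [2, 4, 3, 4, 3, 1, 0, 4, 3, 4, 3, 4, 0, 4, 3, 1, 0]), (96, false, [3, 1, 3, 1, 3, 1, 0, 1, 0, 1, 3, 4, 3, 1]), (108, true, [0, 1, 3, 1, 3, 1, 0, 1, 0, 1, 0, 4, 0, 4, 0]), (220, false, [1, 0, 4, 3, 4, 0, 1, 0, 1, 0, 1, 3, 1, 3]), (68, false, [3, 1, 3, 4, 0, 1, 3, 1, 3, 4, 0, 4, 3, 1, 0]), (70, false, [3, 1, 0, 1, 3, 4, 0, 4, 3,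 1, 3, 4, 0, 1]), (5, true, [0, 1, 0, 4, 0, 4, 0, 1, 3, 1, 0, 4, 3, 4, 3]), (114, true, [1, 0, 4, 0, 4, 0, 4, 3, 4, 0, 1, 0, 1]), (86, false, [4, 3, 4, 0, 4, 0, 4, 3, 1, 3, 4, 0]), (70, true, [0, 1, 2, 0, 4, 3, 4, 0, 1, 0, 1, 0, 1]), (112, false, [1, 3, 1, 0, 1, 3, 1, 0, 1, 3, 1, 0, 1, 0, 1, 3]), (181, false, [4, 3, 1, 0, 1, 0, 4, 0, 4, 0, 1, 3, 1, 0, 1]), (96, false, [3, 4, 0, 1, 3, 1, 0, 4, 0, 4, 3, 1, 0, 4, 0]), (75, true, [1, 0, 1, 0, 2, 4, 0, 4, 3, 1, 0]), (200, false, [0, 1, 0, 4, 3, 1, 3, 1, 3, 4, 3]), (152, false, [2, 4, 3, 1, 0, 1, 0, 4, 3, 1, 3, 1]), (3, false, [0, 1, 0, 1, 3, 4, 3, 4, 0, 1, 0, 1, 3, 4, 0]), (260, true, [3, 1, 0, 1, 0, 1, 3, 1, 0, 4, 0, 4, 0, 1]), (23, false, [3, 1, 0, 4, 3, 4, 3, 4, 0, 4, 3,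 1, 0]), (177, true, [1, 2, 0, 4, 0, 1, 3, 1, 0, 4, 3, 1, 3, 1, 0]), (85, true, [2, 4, 3, 4, 3, 1, 0, 4, 0, 4, 3, 1, 3, 4, 0, 4]), (229, true, [2, 4, 3, 1, 3, 1, 0, 1, 3, 4, 3, 4, 0]), (190, false, [0, 1, 2, 0, 1, 3, 4, 3, 4, 0, 4, 0, 4, 3, 1, 0, 1]), (268, false, [1, 2, 0, 1, 3, 1, 0, 4, 3, 4, 0, 4]), (250, false, [0, 1, 2, 0, 1, 0, 1, 0, 4, 0, 4, 3, 1, 3, 1]), (276, false, [0, 2, 4, 3, 1, 3, 1, 3, 4, 0, 4, 3, 1, 3, 4]), (63, false, [0, 4, 3, 4, 0, 4, 0, 4, 0, 1, 3, 1, 3]), (5, false, [2, 0, 1, 0, 4, 0, 4, 3, 1, 3, 1, 0, 4, 0, 1]), (92, true, [1, 2, 0, 4, 0, 4, 3, 4, 3, 4, 3, 4, 0, 4, 0]), (277, true, [0, 4, 0, 1, 3, 1, 3, 1, 3, 1, 0, 1, 0, 1]), (86, true, [2, 4, 3, 4, 0, 4, 3, 1, 0, 1, 0, 1, 3, 1, 3, 1, 3]), (270, false,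 [1, 0, 4, 3, 4, 0, 1, 0, 1, 3, 4, 0]), (182, true, [1, 0, 4, 0, 4, 3, 1, 3, 4, 0, 4]), (27, false, [1, 3, 4, 0, 4, 3, 4, 3, 4, 3, 4, 0, 1, 3]), (166, true, [1, 2, 0, 4, 3, 4, 0, 1, 3, 1, 3, 4]), (53, true, [0, 1, 0, 1, 3, 4, 0, 1, 0, 1, 3, 1, 0, 4, 3]), (141, false, [3, 4, 3, 4, 0, 4, 0, 1, 3, 1, 0, 4, 3, 1, 3]), (4, false, [0, 1, 2, 0, 1, 3, 1, 3, 4, 0, 4]), (123, false, [3, 4, 3, 1, 0, 1, 3, 4, 0, 4, 0, 4, 0]), (270, false, [0, 1, 3, 1, 3, 4, 0, 1, 3, 4]), (86, true, [1, 0, 1, 2, 0, 1, 3, 1, 0, 1, 3, 4, 3, 4, 0]), (30, true, [2, 0, 4, 0, 4, 0, 1, 3, 1, 0, 4, 0, 4, 3]), (132, false, [2, 4, 0, 4, 0, 4, 3, 4, 0, 1, 3]), (25, false, [2, 0, 1, 3, 1, 3, 1, 3, 4, 3, 4, 0, 4, 0])]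
def r269 : List (ℕ × Bool × List ℕ) := [(17, true, [4, 0, 1, 3, 1, 3, 4, 0, 4, 3, 1, 0, 4]), (202, true, [1, 0, 2, 4, 0, 1, 3, 1, 0, 1, 3, 4]), (108, true, [0, 4, 3, 4, 0, 1, 3, 1, 3, 4, 3, 4, 0, 4, 0]), (71, true, [2, 4, 0, 4, 0, 4, 0, 1, 3, 1, 0, 4, 3, 1]), (222, false, [0, 2, 4, 0, 1, 3, 1, 3, 1, 3, 1, 0, 1, 0, 1, 3, 1]), (115, false, [0, 4, 3, 1, 3, 1, 0, 1, 0, 1, 0, 1, 3, 4]), (254, false, [0, 1, 3, 1, 0, 1, 0, 4, 3, 1, 3, 1, 3, 4]), (91, true, [0, 2, 4, 0, 4, 0, 4, 3, 1, 3, 1, 0, 4, 3, 4]), (126, false, [4, 3, 1, 3, 4, 0, 4, 3, 1, 3, 1, 0, 4, 0]), (151, false, [2, 0, 4, 3, 4, 3, 1, 0, 1, 0, 1, 0, 4, 3]), (273, true, [4, 3, 1, 3, 4, 0, 1, 0, 1, 3, 1, 0, 4, 0]), (79, false, [0, 4, 3, 4, 0, 1, 0, 1, 3, 1, 3, 4]), (156,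 false, [2, 0, 4, 0, 4, 3, 4, 3, 4]), (253, false, [3, 1, 3, 1, 0, 4, 0, 4, 3, 4, 3, 4, 0, 1, 3, 1]), (225, true, [1, 0, 1, 0, 1, 0, 4, 0, 4, 0, 4, 0, 4]), (175, true, [3, 4, 0, 1, 3, 4, 3, 4, 0, 1, 0]), (158, false, [4, 0, 1, 3, 4, 3, 4, 3, 1, 0, 1, 3, 4]), (217, true, [3, 4, 0, 1, 0, 1, 3, 4, 0, 1, 3]), (263, true, [0, 2, 4, 0, 4, 0, 1, 3, 4, 0, 4, 3, 1, 3, 1, 3]), (254, false, [2, 4, 0, 4, 3, 1, 3, 4, 0, 4, 3, 4, 3, 4, 3, 4]), (233, true, [3, 1, 3, 1, 3, 4, 0, 4]), (182, true, [0, 2, 4, 3, 4, 0, 1, 3, 1, 3, 1, 0, 1, 0]), (158, false, [0, 1, 2, 0, 1, 0, 1, 0, 4, 3, 1, 3]), (70, false, [1, 3, 1, 3, 1, 0, 1, 0, 1, 3, 4, 3, 1, 0, 1]), (73, true, [0, 1, 3, 4, 3, 4, 0, 1, 3, 4, 3, 4, 0, 4]), (203, true, [2, 4, 3, 1, 3, 4,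 0, 4, 3, 4, 0, 4, 3]), (281, false, [1, 2, 0, 1, 3, 1, 0, 1, 0, 4, 3, 1, 3, 4]), (52, true, [0, 2, 4, 3, 4, 3, 4, 0, 4, 3, 4]), (269, false, [1, 3, 1, 0, 4, 3, 1, 3, 1, 0, 4, 3, 1]), (36, true, [1, 0, 1, 0, 4, 3, 4, 0, 1, 3, 4, 3, 4, 3, 4]), (277, true, [0, 1, 0, 1, 3, 4, 3, 4, 0, 4, 3, 1, 0, 4]), (281, false, [1, 3, 4, 0, 4, 3, 4, 3, 4, 0, 1, 0, 1]), (88, false, [1, 0, 1, 0, 1, 3, 1, 3, 1, 3, 4, 3, 4, 3, 4, 0]), (188, false, [0, 1, 0, 1, 0, 4, 3, 4, 0, 4]), (236, false, [2, 4, 0, 1, 3, 4, 0, 4, 0, 4, 0, 1, 3, 4]), (83, true, [2, 0, 4, 0, 1, 3, 1, 0, 1, 0, 1, 0, 4, 3, 4]), (236, false, [1, 0, 1, 2, 0, 4, 3, 4, 0, 1, 0, 1, 0, 4, 3, 4]), (75, false, [4, 3, 1, 3, 1, 3, 4, 0, 1, 3, 4]), (189, true, [1, 0, 2, 4, 0, 4, 3, 4,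 3, 4, 0, 4, 0, 1]), (157, true, [4, 3, 1, 0, 4, 0, 4, 0, 1]), (188, true, [0, 1, 0, 1, 0, 4, 3, 1, 0, 1, 0, 1, 3, 1, 3, 1]), (57, true, [3, 1, 0, 4, 3, 4, 0, 1, 3, 4, 0]), (262, true, [3, 4, 0, 4, 3, 4, 3, 4, 0, 4, 3, 4]), (154, false, [3, 4, 3, 4, 3, 1, 0, 1, 3, 1, 3, 1, 3]), (64, true, [2, 0, 1, 0, 1, 3, 4, 0, 4, 3, 1, 3, 1, 3, 1, 0]), (50, true, [0, 4, 3, 4, 3, 4, 0, 4, 3, 1, 3]), (20, false, [0, 4, 0, 4, 3, 4, 0, 1, 0, 1, 3, 1, 3]), (256, false, [1, 2, 0, 1, 3, 1, 3, 1, 3, 1, 0, 1, 0]), (234, true, [2, 4, 0, 1, 0, 4, 3, 1, 3, 1, 3, 1, 0, 4, 0, 1]), (112, true, [0, 4, 0, 1, 0, 1, 3, 4, 3, 1, 0, 4, 0]), (122, true, [0, 4, 3, 1, 0, 4, 3, 4, 3, 4, 0, 4, 3, 1, 0, 4, 3]), (244, true, [3, 1, 0, 1, 3, 1, 3, 4, 0, 1, 0, 1,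 0, 1]), (224, false, [0, 2, 4, 0, 1, 3, 1, 0, 1, 3, 1, 3, 1, 0]), (70, true, [3, 1, 0, 4, 3, 4, 0, 4, 0, 4, 3, 1, 0, 4, 0]), (252, true, [1, 0, 1, 3, 4, 0, 4, 3, 4, 3, 1, 0, 1]), (226, false, [0, 4, 0, 4, 3, 1, 3, 4, 0, 4, 0, 4, 0, 1, 3]), (107, true, [3, 1, 0, 4, 0, 4, 3, 1, 3, 1, 3, 1, 0]), (164, true, [2, 4, 3, 1, 0, 1, 3, 4, 3]), (127, false, [0, 2, 4, 3, 1, 0, 1, 0, 4, 0, 4, 3, 1, 0, 1, 3, 4, 0]), (9, false, [1, 3, 4, 3, 4, 3, 4, 3, 1, 0, 4, 3]), (122, true, [0, 1, 2, 0, 1, 3, 4, 0, 4, 0, 4, 0, 1, 3, 4, 0]), (152, true, [1, 0, 1, 0, 1, 3, 4, 3, 4, 0, 4, 3, 1, 0, 4, 3]), (178, true, [2, 4, 3, 4, 3, 4, 3, 4, 0, 1, 0, 1, 3, 1, 3, 4]), (165, false, [1, 0, 4, 0, 1, 3, 1, 0, 1, 3, 1, 3, 1, 0, 1]), (60, true, [3, 1, 3, 4,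 3, 4, 0, 4, 3, 1, 3, 4, 0]), (56, true, [1, 0, 4, 3, 1, 0, 1, 3, 1, 0, 1, 0, 4, 0, 4]), (82, true, [2, 0, 1, 3, 4, 0, 4, 3, 1, 0, 1, 3, 4]), (212, false, [1, 3, 4, 3, 1, 0, 1, 0, 4, 0, 4, 0, 1, 0]), (186, false, [1, 0, 4, 3, 4, 0, 1, 0, 1, 3, 4, 3, 1]), (149, true, [2, 0, 1, 3, 1, 0, 4, 0, 4, 0, 4, 3]), (7, true, [1, 0, 1, 0, 1, 0, 2, 4, 3, 4, 0, 1, 3, 4, 0]), (117, false, [0, 1, 3, 1, 0, 4, 0, 4, 3, 4, 0, 1]), (20, true, [1, 2, 0, 4, 3, 4, 3, 4, 0, 4, 3]), (209, false, [4, 0, 4, 3, 1, 0, 1, 3, 4, 0, 4, 0, 4, 0]), (219, false, [1, 3, 1, 3, 4, 0, 1, 3, 1, 0, 1, 3, 1]), (152, false, [3, 1, 0, 1, 3, 1, 3, 1, 0, 4, 3, 1, 3, 4]), (177, false, [1, 3, 1, 3, 4, 3, 4, 3, 4, 3]), (121, false, [4, 3, 4, 0, 1, 3, 1, 3, 1, 3, 4, 0,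 4]), (21, false, [3, 1, 0, 1, 3, 1, 3, 4, 3, 4, 0, 1, 0]), (153, false, [1, 0, 1, 2, 0, 4, 0, 4, 0, 4, 3, 1, 3]), (191, true, [0, 1, 0, 1, 0, 1, 0, 1, 0, 1, 3, 1, 3, 4, 3]), (125, true, [1, 2, 0, 1, 0, 1, 3, 1, 3, 1, 0, 4]), (204, false, [4, 0, 4, 3, 1, 3, 1, 3, 4, 0, 4, 3, 1]), (181, true, [0, 4, 3, 1, 0, 1, 0, 4, 3, 1, 0, 4]), (96, false, [3, 4, 3, 4, 3, 1, 0, 1, 0, 1, 0, 1, 3]), (230, true, [4, 3, 1, 0, 1, 3, 1, 3, 4, 0, 4, 0]), (167, false, [0, 4, 3, 1, 0, 1, 0, 1, 3, 1, 3, 4, 0, 1]), (4, false, [1, 2, 0, 1, 3, 1, 0, 1, 0, 1, 0, 4, 0, 4, 3, 1, 3]), (269, false, [0, 4, 3, 1, 0, 1, 0, 1, 0, 4, 0, 4, 0, 4, 3, 1, 0]), (212, true, [1, 3, 1, 3, 4, 3, 4, 0, 1, 3, 1, 0, 4, 3]), (169, false, [3, 4, 0, 4, 3, 4, 3, 1, 0, 4, 0,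 4, 3, 1, 3]), (270, true, [0, 1, 0, 2, 4, 0, 4, 3, 1, 3, 1, 0, 4, 0, 4, 3, 4]), (232, false, [0, 4, 0, 1, 0, 1, 3, 1, 3, 1, 3, 1, 0, 4, 3]), (192, true, [1, 2, 0, 4, 0, 1, 3, 1, 0, 4, 3, 4, 3, 1]), (65, false, [2, 0, 4, 3, 4, 3, 1, 0, 1, 3, 4, 3, 4, 3, 1, 0]), (196, false, [0, 1, 0, 1, 3, 1, 3, 1, 0, 4, 0, 4]), (88, true, [4, 0, 1, 0, 1, 0, 1, 3, 1, 3, 1]), (141, true, [4, 0, 1, 3, 1, 3, 1, 3, 1, 0, 4, 3, 4, 0, 1, 3]), (147, true, [1, 3, 1, 0, 1, 0, 1, 0, 1, 3, 4, 0, 1]), (89, true, [1, 2, 0, 4, 0, 1, 3, 1, 3, 1, 0, 1, 0, 4, 3, 1]), (183, false, [0, 1, 0, 2, 4, 0, 1, 3, 1, 0, 4, 0, 4, 3, 4, 0]), (109, false, [0, 1, 0, 1, 0, 1, 0, 1, 3, 4, 3, 4, 0, 1, 3, 1, 0, 1]), (117, true, [0, 4, 0, 1, 0, 1, 0, 1, 0, 1, 3, 4, 3, 1,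 0, 1]), (158, true, [1, 2, 0, 1, 0, 1, 0, 4, 3, 1, 0, 1, 0, 4, 3, 4, 3]), (231, false, [0, 1, 3, 1, 0, 4, 3, 4, 3, 4, 3, 1]), (63, true, [0, 1, 0, 1, 0, 1, 3, 4, 0, 1, 0, 1]), (191, true, [0, 1, 3, 4, 0, 1, 0, 1, 3, 4, 0, 4]), (200, false, [0, 1, 2, 0, 1, 0, 1, 3, 1, 0, 1, 3, 4, 0, 4]), (202, true, [0, 1, 0, 2, 4, 0, 1, 0, 1, 3, 1, 3, 4, 0, 1]), (58, false, [3, 1, 0, 1, 0, 1, 3, 4, 3, 1, 0, 1, 3, 1, 3]), (241, true, [1, 2, 0, 1, 3, 1, 0, 1, 3, 4, 3, 4, 3, 1, 0]), (253, false, [3, 4, 3, 4, 3, 1, 0, 1, 0, 1, 0, 1, 3, 4, 3])]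
def r270 : List (ℕ × Bool × List ℕ) := [(71, true, [1, 0, 1, 3, 1, 3, 4, 0, 1, 0, 1, 0, 1, 3, 4, 3, 1]), (124, true, [2, 0, 4, 3, 4, 0, 4, 3, 1, 3, 4, 0, 1]), (137, false, [0, 1, 3, 4, 0, 1, 0, 1, 3, 4, 3, 1, 0, 4]), (281, true, [1, 3, 4, 3, 1, 0, 1, 0, 1, 3, 4, 0]), (57, false, [0, 1, 0, 4, 3, 4, 3, 1, 0, 1, 3, 4, 3, 1]), (57, true, [4, 3, 1, 0, 4, 3, 4, 3, 4, 3, 4, 0]), (255, false, [4, 0, 1, 0, 4, 3, 4, 3, 1, 0]), (154, true, [2, 0, 4, 3, 1, 0, 1, 0, 1, 0, 1, 3, 4, 3]), (205, true, [1, 0, 2, 4, 0, 4, 3, 1, 3, 1, 0, 4, 3, 1, 0]), (110, false, [2, 0, 4, 0, 1, 3, 1, 0, 4, 3, 1, 3, 1, 0, 1]), (213, true, [0, 1, 3, 1, 3, 4, 3, 4, 0, 4, 3, 4]), (214, true, [3, 1, 0, 4, 3, 1, 3, 1, 3, 1, 0, 4]), (205, false, [1, 0, 1, 0, 4,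 3, 4, 3, 1, 0, 4, 0, 1]), (6, true, [1, 3, 1, 0, 1, 0, 1, 3, 4]), (92, true, [1, 0, 2, 4, 0, 4, 3, 4, 3, 4, 3, 4, 0, 1, 3, 1]), (196, true, [0, 1, 3, 4, 0, 4, 0, 1, 3, 1, 3, 4, 0]), (214, false, [0, 1, 3, 1, 3, 1, 3, 1, 3, 1, 0, 4, 0, 1]), (1, false, [0, 1, 0, 1, 3, 1, 3, 4, 0, 4, 0, 4, 0, 1, 0]), (191, false, [1, 2, 0, 4, 3, 1, 0, 1, 3, 1, 3, 4, 0, 4, 3, 4, 3]), (253, false, [2, 4, 0, 4, 3, 1, 0, 1, 3, 1, 3, 4, 0, 4]), (165, true, [4, 3, 4, 0, 4, 3, 4, 0, 4, 0]), (89, true, [4, 3, 1, 0, 4, 0, 4, 3, 4, 0, 1, 0, 1, 0]), (66, true, [1, 2, 0, 4, 0, 1, 3, 1, 0, 4, 3, 4]), (96, false, [0, 1, 3, 1, 3, 1, 0, 4, 0, 4, 3, 1, 0, 4, 3]), (5, true, [4, 3, 4, 0, 1, 0, 1]), (222, true, [2, 4, 3, 1, 3, 4, 0, 4, 0, 4, 3, 1]), (152, true,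 [0, 1, 3, 1, 0, 4, 3, 4, 3, 1, 0, 1, 0, 1, 3, 1]), (270, false, [0, 1, 3, 1, 0, 1, 0, 1, 0, 4, 0, 4, 0, 4, 3, 4, 0]), (17, false, [0, 4, 3, 4, 3, 1, 0, 4, 0, 4, 0, 4, 3]), (193, false, [2, 4, 3, 1, 0, 4, 3, 4, 3, 4, 3, 4, 0, 1]), (190, false, [2, 4, 3, 4, 3, 4, 3, 1, 0, 4, 3, 4, 3, 1, 0, 1, 0]), (3, false, [0, 4, 0, 4, 0, 1, 3, 4, 3, 4, 0]), (113, false, [0, 4, 3, 4, 0, 4, 0, 1, 3, 1, 0, 1, 3, 1, 0]), (251, false, [4, 0, 1, 3, 1, 0, 4, 3, 4, 3, 4, 0, 4, 3, 4, 3]), (212, true, [1, 2, 0, 4, 3, 1, 0, 1, 3, 1, 3, 1, 3]), (107, false, [0, 4, 3, 4, 0, 4, 0, 1, 3, 4, 3, 4, 0, 1, 3]), (262, true, [0, 2, 4, 3, 1, 3, 1, 3, 1, 0, 4, 3, 4, 0, 4, 3]), (18, true, [0, 1, 0, 1, 3, 1, 3, 1, 3, 1, 0]), (109, true, [2, 4, 0, 4, 3, 1, 3,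 1, 0, 1, 3, 4, 3, 1, 0]), (110, false, [0, 4, 3, 1, 0, 1, 0, 4, 0, 4, 0, 4, 3, 1]), (73, true, [4, 3, 4, 3, 4, 0, 4, 3, 1, 3, 1, 3, 4]), (19, true, [4, 3, 1, 3, 4, 0, 4, 3, 4]), (66, true, [2, 4, 0, 1, 0, 1, 0, 4, 3, 1, 3, 1, 0, 4]), (30, false, [2, 0, 4, 0, 1, 0, 1, 0, 4, 3, 4, 0, 4, 0, 1]), (66, true, [0, 1, 2, 0, 4, 0, 1, 3, 4, 0, 4, 3, 1, 3, 4, 0, 1, 3]), (97, true, [4, 0, 4, 0, 4, 0, 4, 3, 1, 3, 1, 0, 4, 0, 1]), (224, true, [0, 2, 4, 0, 1, 0, 4, 3, 4, 3, 4, 3, 4, 0, 1, 0, 1]), (218, false, [1, 0, 4, 3, 1, 3, 1, 0, 4, 3, 4, 0, 1, 0]), (90, true, [3, 1, 0, 4, 3, 4, 3, 1, 0, 1, 0, 1, 3, 1, 0, 4]), (158, true, [2, 4, 3, 1, 3, 1, 0, 1, 0, 1, 3, 1, 3, 1]), (71, false, [0, 4, 0, 4, 0, 1, 3, 4, 0, 4, 0, 4, 3, 4, 0, 4, 0]),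 (253, true, [0, 1, 0, 1, 0, 1, 2, 0, 4, 0, 4, 3, 1, 0, 4, 0, 4]), (200, false, [3, 4, 0, 1, 0, 1, 3, 4, 0, 4, 0, 4, 3, 4, 3]), (90, true, [3, 1, 0, 1, 0, 1, 3, 4, 0, 1, 0, 1, 0, 1, 3]), (5, false, [1, 3, 4, 0, 4, 3, 4, 0, 1, 0]), (112, true, [1, 0, 1, 2, 0, 1, 0, 4, 3, 1, 0, 1, 0, 4]), (148, false, [2, 0, 4, 3, 1, 0, 4, 3, 1]), (98, true, [2, 4, 3, 4, 0, 4, 0, 4, 3, 1, 0, 4, 0, 4]), (54, false, [3, 1, 0, 1, 3, 1, 3]), (254, false, [2, 0, 4, 0, 1, 3, 1, 0, 4, 3, 4, 3, 4, 3, 1, 0, 4]), (70, false, [1, 2, 0, 1, 3, 4, 3, 4, 0, 4, 3, 4, 0]), (270, false, [1, 0, 1, 0, 1, 3, 1, 3, 4, 3, 4, 0, 4, 0, 4]), (198, true, [0, 4, 0, 1, 0, 1, 3, 4, 3, 4, 0, 1, 3]), (65, true, [1, 0, 2, 4, 0, 4, 0, 1, 3, 4, 3, 4, 3, 1]), (83, false, [0,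 4, 3, 1, 0, 1, 0, 4, 3, 1, 3, 4, 0, 4]), (70, true, [0, 1, 0, 1, 0, 1, 3, 1, 3, 1, 0, 1, 0]), (57, false, [0, 2, 4, 3, 4, 3, 1, 0, 1, 0, 4, 3, 4, 3, 4, 3, 1]), (232, false, [1, 0, 1, 2, 0, 4, 3, 4, 0, 4, 3, 1]), (269, true, [1, 0, 1, 2, 0, 1, 0, 4, 3, 4, 3, 1, 0, 1, 3, 4, 3]), (25, false, [0, 1, 3, 4, 3, 1, 0, 1, 3, 1, 3, 4, 0, 4, 0]), (268, false, [1, 0, 4, 3, 1, 0, 4, 0, 4, 3]), (20, false, [2, 0, 4, 3, 4, 3, 1, 0, 4, 3]), (109, true, [1, 3, 4, 0, 1, 3, 1, 3, 1]), (175, false, [1, 0, 1, 2, 0, 1, 3, 1, 0, 4, 0, 1]), (65, false, [0, 1, 0, 1, 2, 0, 1, 0, 4, 3, 4, 3, 1, 0, 4, 0, 4]), (223, true, [1, 2, 0, 1, 0, 1, 0, 1, 3, 4, 3, 4, 0, 1, 3, 1, 3]), (209, false, [4, 3, 4, 3, 1, 0, 1, 3, 1, 3, 4, 0, 1, 0]), (255, false, [2,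 0, 4, 0, 1, 0, 1, 0, 4, 3, 4, 0, 1, 3, 1]), (202, false, [0, 2, 4, 0, 4, 3, 4, 0, 4, 3, 4, 3, 4, 0]), (109, true, [1, 0, 1, 0, 1, 3, 1, 3, 4, 0, 4, 0, 4, 0, 1]), (141, false, [2, 0, 4, 3, 4, 3, 4, 3, 1, 0, 1, 3, 4, 3, 4, 3, 1]), (202, false, [0, 1, 3, 1, 3, 1, 0, 1, 0, 1, 0, 4, 0]), (123, true, [1, 3, 1, 3, 4, 0, 4, 0, 4, 0, 4, 3, 4, 3, 4, 3]), (89, false, [2, 0, 4, 0, 1, 3, 1, 3, 4, 0, 1, 0, 1, 3, 4]), (177, true, [2, 0, 4, 3, 4, 3, 4, 0, 4, 3, 1, 3, 4, 0]), (244, false, [1, 0, 1, 0, 1, 2, 0, 1, 3, 1, 0, 1, 3]), (192, false, [4, 3, 1, 0, 1, 0, 4, 3, 4, 0, 4, 0, 1]), (64, false, [0, 1, 2, 0, 1, 3, 1, 0, 1, 0, 1, 0]), (96, false, [1, 0, 1, 2, 0, 1, 3, 4, 3, 4, 0, 4, 3, 1, 0]), (96, true, [2, 4, 3, 4, 0, 4, 0, 4, 3, 1, 0,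 4, 0, 4]), (241, true, [2, 4, 3, 4, 0, 4, 0, 4, 0, 4, 0, 4]), (151, true, [0, 1, 0, 1, 2, 0, 4, 0, 4, 0, 4, 3, 1, 3, 1, 0, 1]), (268, false, [3, 1, 0, 4, 3, 4, 3, 1, 0, 1, 3, 4]), (97, true, [2, 4, 0, 4, 3, 4, 3, 1, 0, 4, 0, 4, 0]), (236, false, [2, 0, 1, 3, 4, 0, 4, 0, 4, 0, 4]), (69, false, [0, 2, 4, 0, 1, 3, 4, 3, 1, 0, 1]), (43, false, [1, 3, 1, 0, 4, 3, 4, 0, 4]), (263, true, [0, 2, 4, 3, 4, 3, 1, 0, 1, 0, 1, 0, 1, 3, 4, 0, 1]), (43, true, [3, 1, 3, 1, 0, 4, 3, 4, 3, 4, 0, 4, 3, 1, 0]), (220, false, [0, 4, 3, 1, 0, 1, 0, 4, 3, 1, 0, 1, 0, 4, 3]), (96, true, [2, 0, 4, 0, 4, 3, 1, 3, 1, 3, 4, 3]), (181, true, [2, 0, 1, 0, 1, 0, 1, 3, 4, 0, 4, 0, 4]), (71, false, [2, 0, 4, 3, 4, 0, 1, 3, 1, 3, 1, 3, 4, 0, 1, 0, 4]),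 (190, false, [1, 2, 0, 1, 0, 4, 0, 4, 0, 1, 3, 1, 0, 1, 3]), (49, true, [4, 3, 4, 3, 4, 0, 1, 3, 1, 0, 1, 3, 4]), (135, true, [0, 4, 3, 1, 0, 1, 0, 1, 0, 4, 0, 4, 3, 4, 3]), (223, false, [1, 0, 2, 4, 3, 4, 3, 1, 0, 4]), (263, false, [2, 4, 3, 4, 3, 4, 0, 4, 3, 4, 0, 4, 3, 4, 3, 4]), (10, false, [3, 4, 3, 1, 3, 1, 3, 4, 3, 4, 3, 4]), (36, false, [3, 1, 0, 4, 3, 4, 0, 4, 3, 4, 3, 1]), (132, true, [4, 3, 1, 0, 1, 3, 4, 0]), (212, false, [0, 1, 2, 0, 4, 3, 1, 0, 1, 3, 4, 3, 1, 0, 1, 3])]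
def r271 : List (ℕ × Bool × List ℕ) := [(187, true, [0, 2, 4, 0, 4, 0, 4, 3, 1, 0, 4, 0, 4]), (79, true, [1, 0, 4, 3, 4, 3, 4, 3, 1, 0, 1, 3, 4, 0, 1]), (259, true, [3, 1, 0, 1, 3, 1, 3, 1, 3, 4, 3, 4, 3, 4, 3]), (206, false, [1, 3, 4, 0, 1, 3, 1, 3, 4, 0, 1, 3, 1]), (247, true, [0, 4, 3, 4, 3, 4, 0, 4, 3, 4, 0, 4, 0, 4]), (144, false, [2, 0, 4, 3, 1, 0, 1, 0, 1, 0]), (188, true, [2, 0, 1, 0, 1, 0, 1, 0, 1, 3, 1, 3, 1, 0, 1, 3, 1]), (271, false, [0, 2, 4, 0, 1, 3]), (79, false, [1, 0, 1, 0, 4, 3, 4, 0, 4, 0, 4, 3, 1, 3, 1]), (159, true, [1, 3, 4, 0, 4, 3, 1, 3, 1]), (271, false, [0, 1, 0, 1, 0, 4, 0, 4, 0, 1, 3, 4]), (228, true, [0, 4, 0, 1, 3, 1, 3, 1, 3, 1, 0, 4]), (140, false, [0, 4, 0, 1, 3, 1, 3, 1, 0, 1, 0, 1, 0,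 1, 0]), (230, true, [1, 0, 1, 3, 1, 0, 4, 3, 1, 3, 4, 0, 4]), (79, true, [1, 0, 1, 0, 1, 0, 4, 3, 4, 0, 1, 3, 4, 3, 4, 3]), (156, true, [4, 0, 1, 3, 4, 3, 4, 3, 4, 0, 1, 3, 1, 3]), (140, false, [1, 0, 1, 0, 4, 0, 4, 0, 1, 0]), (108, true, [4, 3, 1, 0, 1, 0, 4, 3, 1, 3, 4, 0, 4, 0]), (108, true, [3, 1, 0, 4, 3, 4, 0, 1, 3, 1]), (189, true, [0, 1, 0, 4, 3, 4, 0, 4, 3, 1, 3]), (257, false, [1, 3, 1, 0, 1, 3, 1, 3, 1, 0, 4, 3, 1, 3]), (140, false, [0, 1, 0, 1, 2, 0, 1, 0, 1, 0, 4, 0, 4, 3, 1, 0]), (189, true, [4, 0, 1, 0, 1, 0, 4, 3, 4]), (187, true, [0, 1, 0, 4, 3, 1, 0, 4, 0, 4]), (271, false, [0, 1, 2, 0, 4, 0, 4, 3, 4, 0]), (232, true, [0, 1, 0, 1, 2, 0, 4, 0, 1, 3, 4, 3, 4, 0]), (185, false, [0, 4, 0, 1, 0, 1, 0, 1, 0,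 4]), (224, true, [0, 4, 0, 4, 3, 1, 0, 1, 3, 4, 3, 4, 3, 4, 0, 1]), (206, false, [1, 3, 1, 0, 1, 0, 1, 3, 1, 3]), (188, true, [1, 2, 0, 4, 3, 4, 3, 4, 3, 4]), (228, true, [1, 0, 4, 3, 4, 0, 4, 0, 1, 0]), (185, false, [0, 1, 3, 1, 3, 4, 0, 4, 3, 1, 0, 4, 0, 4, 3]), (224, true, [3, 4, 3, 1, 3, 1, 3, 1, 0, 4, 3, 4]), (129, true, [1, 0, 4, 0, 4, 3, 1, 0, 4, 0, 4, 0, 1]), (156, true, [0, 4, 0, 1, 0, 1, 0, 4, 3, 1, 3, 1, 0, 4]), (259, true, [3, 4, 3, 1, 0, 1, 0, 1, 3, 1, 3, 1, 3, 4, 0]), (79, false, [3, 4, 3, 1, 0, 1, 0, 1, 3, 1, 3, 1, 3, 1, 0, 1]), (259, true, [4, 3, 1, 3, 1, 3, 1, 3, 4, 3, 4, 0, 1]), (62, true, [0, 2, 4, 3, 4, 3, 1, 0, 4, 0, 4, 3, 4, 3]), (224, true, [3, 4, 0, 1, 0, 1, 0, 4, 3, 1, 3, 1, 0]), (74, false, [1,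 0, 1, 3, 1, 3, 1, 3, 4, 0, 1, 0, 4]), (79, false, [1, 3, 1, 3, 1, 3, 1, 0, 1, 0, 4, 0, 4, 0]), (134, true, [4, 0, 1, 3, 1, 3, 1, 3, 4, 0, 1, 0]), (204, false, [3, 4, 3, 4, 3, 1, 0, 1, 3, 4, 0, 1, 0, 4]), (185, false, [1, 0, 1, 3, 1, 3, 4, 0, 4, 3, 1, 3, 1, 3, 1, 3]), (140, false, [3, 1, 0, 4, 0, 4, 0, 1, 3, 1, 0, 4, 3]), (189, true, [3, 1, 3, 1, 0, 1, 0, 1, 0, 4, 0, 4, 0, 4]), (188, true, [2, 4, 0, 1, 0, 4, 3, 4, 3, 1, 0, 1, 0, 1, 3]), (129, true, [0, 4, 0, 1, 3, 1, 0, 1, 3, 1, 0, 1]), (247, true, [2, 0, 1, 3, 4, 0, 4, 3, 1, 3, 4, 0, 4]), (62, true, [4, 3, 1, 3, 1, 0, 1, 0, 4, 3, 4, 3, 4, 3]), (74, false, [4, 0, 4, 3, 4, 0, 4, 3, 1, 3, 4, 0, 4]), (246, false, [4, 3, 4, 3]), (93, true, [2, 4, 0, 1, 3, 4, 3, 4, 3]), (108,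 true, [1, 0, 1, 3, 1, 3, 1, 0, 4, 3, 4, 3, 4]), (134, false, [1, 3, 1, 0, 1, 0, 1, 0, 1, 3, 1, 3, 4, 0, 4, 0]), (140, false, [2, 4, 0, 1, 3, 1, 3, 1, 3, 1, 0, 1, 0]), (257, false, [0, 1, 0, 4, 0, 4]), (140, false, [1, 0, 4, 0, 1, 3, 1, 3, 1, 3, 4, 3]), (271, false, [1, 0, 1, 0, 2, 4, 3, 4]), (185, false, [3, 4, 3, 1, 0, 1, 3, 4, 3, 4, 3, 1, 3]), (31, true, [0, 4, 3, 1, 0, 1, 3, 4, 3, 4, 3, 1]), (185, false, [0, 4, 0, 4, 3, 4, 0, 4, 3, 1, 0, 1]), (259, true, [2, 4, 3, 1, 0, 1, 3, 1, 0, 4, 3]), (204, false, [1, 0, 2, 4, 0, 4, 0, 4, 0, 1, 3, 4]), (188, true, [3, 1, 3, 4, 0, 1, 3, 1, 3, 4, 0, 1, 0]), (257, false, [0, 4, 3, 4, 0, 4, 0, 4, 3, 1, 0, 4, 0]), (156, true, [1, 0, 2, 4, 0, 4, 0, 1, 3, 1, 0]), (271, false, [3, 1, 0,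 1, 0, 4, 0, 4, 3, 4, 0, 1]), (189, true, [1, 2, 0, 4, 0, 4, 0, 1, 3, 1, 0, 4, 0, 4, 0, 1]), (185, false, [4, 0, 4, 0, 1, 3, 1, 3, 1, 0, 1, 3, 4, 3]), (62, true, [4, 0, 4, 3, 1, 0, 1, 0, 1, 0]), (74, false, [4, 3, 4, 3, 4, 0, 1, 0, 1, 3, 1, 3, 1, 0]), (230, true, [4, 3, 4, 3, 4, 3, 1, 0, 1, 3, 4, 0]), (259, true, [3, 4, 3, 4, 0, 4, 0, 4, 0, 4, 3, 4, 3, 4, 3]), (224, true, [1, 0, 2, 4, 0, 1, 0, 1, 3, 1, 0, 4, 0, 4, 0, 4, 3]), (185, false, [1, 0, 2, 4, 3, 4, 0, 1, 3, 1, 0, 1, 3, 4]), (140, false, [1, 3, 4, 3, 1, 0, 1, 3, 4, 3, 4, 3, 1, 0]), (232, true, [3, 1, 3, 1, 0, 4, 3, 1, 3, 1, 0, 1, 0]), (134, true, [4, 0, 1, 0, 4, 3, 4, 3, 1, 0, 4, 0, 4, 0]), (189, true, [2, 0, 4, 3, 4, 0, 4, 0, 4, 3, 4, 3, 1, 0]), (259, true, [1,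 0, 4, 0, 4, 0, 4, 3, 1, 0, 1, 3, 1]), (204, false, [3, 1, 0, 4, 3, 4, 3, 1, 0, 1, 0, 4, 3, 4, 0, 1]), (140, false, [2, 4, 3, 4, 0, 4, 0, 4, 0, 1, 3, 4]), (129, true, [4, 3, 4, 3, 1, 0, 4, 3, 4, 0, 4]), (62, true, [1, 3, 4, 0, 1, 3, 1, 0, 1, 3, 1]), (140, false, [0, 2, 4, 3, 4, 0, 4, 0, 1, 3, 1, 0, 1]), (188, true, [3, 4, 0, 4, 0, 1, 3, 4, 0, 4, 0]), (239, true, [3, 1, 0, 1, 0, 1, 3, 4, 0, 4, 0]), (188, true, [0, 4, 0, 4, 3, 4, 0, 1, 0, 1, 0, 4]), (185, false, [3, 1, 3, 4, 3, 4, 3, 4, 0, 1]), (246, false, [4, 3, 1, 3, 4, 0, 4, 0, 4, 3, 4, 0]), (206, false, [1, 0, 1, 3, 1, 3, 1, 3, 4, 3, 4, 3, 4, 0, 4, 3]), (93, true, [0, 1, 0, 4, 3, 1, 0]), (31, true, [1, 2, 0, 4, 0, 1, 3, 1, 0, 1, 0, 1]), (187, true, [1, 2, 0, 1, 3, 1,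 3, 1, 0, 4, 3, 1, 3, 1]), (62, true, [1, 0, 1, 0, 1, 3, 1, 3, 1, 3, 1, 0, 4, 0]), (224, true, [2, 4, 3, 1, 3, 1, 3, 4, 3, 4, 3, 4, 0, 1, 3, 1]), (189, true, [1, 0, 1, 2, 0, 1, 0, 4, 0, 4, 0, 4, 3, 4, 0, 4, 3]), (144, false, [4, 3, 1, 0, 1, 0, 1, 3, 1, 3, 1, 0]), (224, true, [0, 2, 4, 0, 1, 3, 1, 3, 4, 0, 4, 0, 1, 0]), (93, false, [1, 2, 0, 1, 0, 4, 3, 1, 3, 1]), (31, true, [1, 0, 4, 3, 1, 0, 1, 0, 1, 3, 4, 3]), (228, true, [4, 3, 4, 3, 4, 0, 1, 0, 1, 0]), (247, true, [0, 1, 0, 2, 4, 0, 4, 3, 4, 0, 4, 0, 4]), (185, false, [4, 3, 4, 3, 1, 0, 4, 0, 4, 3, 1, 3, 1]), (232, true, [1, 0, 1, 3, 1, 0, 4, 3, 4, 3, 1, 0, 1]), (230, true, [4, 0, 1, 0, 1, 0, 4, 3, 1, 0, 4]), (246, false, [3, 1, 0, 4, 3, 4, 3, 1, 0, 1, 3, 1, 0, 1]),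 (62, true, [4, 3, 1, 3, 1, 3, 1, 3, 1, 3, 1, 0]), (79, true, [1, 0, 1, 0, 1, 3, 4, 3, 4, 0, 4, 0, 4, 3, 1]), (271, false, [0, 4, 3, 4, 0, 1, 0, 1, 3, 1, 0, 1])]
def r272 : List (ℕ × Bool × List ℕ) := [(111, false, [0, 1, 3, 1, 0, 1, 3, 4, 3, 4, 0, 4, 3, 1, 3]), (10, true, [0, 1, 0, 4, 3, 4, 0, 1, 0, 1, 3, 1, 3, 1, 0]), (277, false, [2, 0, 1, 3, 1, 3, 4, 0, 4, 0, 4, 0, 4, 3, 4, 3, 4]), (226, false, [0, 1, 2, 0, 4, 0, 1, 3, 1, 3, 4, 3, 4, 3, 1]), (174, true, [1, 0, 2, 4, 0, 1, 3, 1, 0, 1, 0]), (193, false, [0, 4, 0, 1, 0, 1, 3, 1, 3, 1, 0, 4, 0]), (6, false, [1, 0, 2, 4, 3, 1, 0, 1, 0, 4, 0, 4, 0, 1, 3]), (195, true, [0, 4, 0, 4, 0, 1, 3, 4, 0, 4, 3, 1, 3]), (68, true, [0, 2, 4, 0, 1, 3, 1, 3, 4, 0, 1, 3, 1, 0, 4, 0, 1]),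 (263, false, [4, 0, 1, 0, 4, 3, 1, 0, 1, 0, 1, 3, 1, 0, 1]), (128, true, [4, 0, 4, 3, 1, 0, 1, 0, 1, 0, 4, 0]), (83, false, [1, 3, 4, 0, 1, 0, 1, 0, 4, 3, 4, 3]), (172, true, [0, 1, 0, 4, 3, 4, 0, 4]), (98, true, [0, 1, 2, 0, 1, 0, 1, 0, 4, 0, 4, 0, 4, 3, 4, 0, 4]), (7, false, [1, 3, 1, 0, 1, 3, 4, 0, 1, 3, 1, 3, 1, 0]), (96, false, [1, 0, 1, 0, 4, 0, 4, 0, 4, 0, 1, 3, 4, 0]), (128, false, [4, 0, 1, 3, 1, 3, 4, 0, 4, 0, 4, 3, 4, 0, 1, 0]), (29, true, [0, 1, 3, 1, 0, 1, 0, 1, 3, 1, 3, 4, 3]), (221, false, [0, 1, 3, 1, 0, 4, 3, 1, 3, 4, 0, 4, 3, 1, 0, 4, 0]), (105, false, [0, 1, 0, 1, 0, 4, 0, 4, 0, 4, 3, 1, 3, 1, 0]), (141, false, [2, 4, 0, 4, 0, 4, 0, 4, 3, 1, 3, 4, 0, 4, 3, 4, 0]), (219, true, [0, 1, 3, 1, 3, 1, 3, 1,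 3, 1, 3, 4]), (94, false, [2, 4, 3, 4, 3, 4, 3, 4, 0, 1, 0]), (193, true, [0, 4, 3, 4, 3, 4, 3, 4, 3, 4, 0, 4]), (25, true, [4, 3, 1, 3, 1, 0, 4, 0, 4, 3, 4, 3, 1]), (66, false, [0, 4, 3, 4, 0, 1, 0, 1, 0, 4, 3, 1]), (25, false, [4, 0, 4, 3, 1, 0, 1, 0, 4]), (272, false, [0, 1, 0, 1, 0, 4, 0, 4, 0, 1, 3, 4]), (96, false, [0, 1, 2, 0, 4, 0, 4, 0, 4, 3, 4, 0, 1, 0, 1, 0, 4]), (80, false, [0, 4, 0, 4, 3, 1, 0, 1, 3, 4, 0, 1, 0, 1]), (82, false, [0, 4, 0, 4, 0, 4, 3, 1, 0, 1, 0, 4, 0, 4, 3, 1]), (98, false, [1, 2, 0, 1, 0, 1, 3, 4, 3, 4, 3, 1, 0, 1, 3]), (226, false, [0, 1, 3, 1, 3, 1, 3, 4, 3, 4, 0, 1, 0]), (222, true, [4, 0, 4, 0, 4, 3, 4, 3, 4, 3, 4, 0, 4, 0, 1, 3]), (83, true, [3, 1, 0, 1, 0, 1, 0, 4, 0, 4, 3, 4, 0]),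 (10, false, [1, 3, 1, 0, 1, 3, 1, 3, 1, 3, 4, 0, 4, 3, 1, 3]), (80, true, [1, 0, 2, 4, 0, 4, 3, 4, 0, 4, 3, 1, 0, 1]), (172, false, [1, 0, 1, 3, 1, 0, 1, 3, 1, 0, 1, 0, 1, 3, 4]), (82, true, [0, 1, 0, 2, 4, 0, 1, 3, 1, 3, 4, 3, 4, 3, 4]), (113, true, [2, 4, 3, 1, 0, 1, 3, 4, 3, 1, 0, 1, 0, 4, 3]), (96, true, [3, 1, 0, 1, 3, 4, 0, 4, 3, 1, 3, 4, 0, 4]), (225, false, [2, 0, 4, 3, 4, 3, 4, 0, 4, 3, 1, 0, 4, 3]), (268, true, [1, 2, 0, 1, 3, 4, 3, 4, 0, 1, 3, 1, 0, 4, 3, 4]), (234, true, [1, 3, 1, 0, 1, 0, 1, 3, 1, 0, 4, 3, 4]), (113, false, [1, 2, 0, 1, 0, 4, 3, 1, 3, 1, 0, 4, 0, 1]), (141, true, [2, 4, 0, 1, 0, 1, 0, 4, 0, 4, 0, 4, 0]), (6, true, [2, 4, 0, 4, 3, 4, 0, 4, 0, 4, 3, 4, 3, 1, 3]), (96, true, [0, 1, 0, 1, 3, 1,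 3, 1, 3, 1, 0, 1, 0, 4, 3]), (226, true, [2, 4, 3, 4, 0, 1, 0, 1, 3, 4, 3]), (6, true, [1, 0, 1, 2, 0, 4, 0, 1, 3, 4, 0, 4, 3, 4, 0]), (235, true, [1, 0, 2, 4, 0, 1, 0, 4, 3, 4, 3, 1, 3]), (85, false, [3, 4, 3, 4, 0, 4, 0, 4, 3, 4, 3, 1]), (111, false, [4, 0, 1, 3, 1, 0, 1, 0, 1, 3, 1, 0, 4, 3, 1, 0]), (82, false, [0, 4, 3, 1, 3, 1, 0, 4, 3, 1, 3, 1]), (109, true, [0, 1, 2, 0, 1, 0, 1, 0, 1, 3, 1, 3, 1, 0]), (96, false, [0, 1, 3, 1, 3, 1, 0, 1, 0, 1, 3, 1, 3, 1, 3, 4, 0]), (214, true, [1, 0, 2, 4, 0, 1, 3, 1, 3, 1, 3, 1, 3]), (260, true, [2, 0, 1, 0, 4, 0, 4, 3, 1, 0, 1, 3, 4, 0, 1]), (234, false, [0, 1, 0, 4, 3, 1, 0, 1, 3, 4, 3, 4, 0]), (123, false, [2, 0, 4, 3, 4, 3, 1, 0, 1, 0, 1, 0, 1, 3, 4, 0, 1]), (109, false, [0,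 1, 0, 2, 4, 0, 4, 0, 4, 0, 4, 3, 1, 3, 1, 0, 1, 0]), (268, false, [0, 1, 0, 1, 0, 2, 4, 0, 4, 3, 1, 3, 1, 3, 1, 3]), (153, false, [0, 1, 3, 1, 3, 1, 0, 4, 3, 4, 3, 1, 3]), (7, true, [3, 4, 0, 4, 3, 4, 3, 1, 0, 1, 0, 1, 0, 1, 0, 1]), (214, false, [0, 1, 2, 0, 1, 0, 4, 3, 4, 3, 4, 0, 4, 3, 1, 0, 4]), (225, true, [2, 4, 0, 1, 3, 1, 0, 1, 0, 4, 3, 1]), (219, false, [0, 4, 3, 4, 3, 1, 0, 1, 3, 4, 0, 1, 0, 1, 3]), (212, false, [0, 4, 0, 1, 0, 1, 0, 1, 3, 1, 3, 1, 0, 1, 3]), (60, true, [0, 4, 3, 4, 0, 1, 0]), (166, false, [4, 0, 4, 3, 4, 0, 4, 0, 4, 3, 4, 3, 4, 3]), (222, false, [3, 4, 3, 4, 3, 4, 3, 4, 0, 4, 0, 4, 3, 4, 0]), (226, true, [1, 0, 1, 3, 1, 0, 1, 3, 1, 3, 1, 0, 4, 3, 4]), (212, true, [4, 0, 1, 3, 4, 3, 1, 0, 1, 0,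 1, 0, 1, 3, 1]), (96, true, [0, 1, 0, 2, 4, 3, 4, 0, 1, 3, 1, 0, 1, 3, 1, 3]), (166, true, [4, 3, 1, 3, 1, 3, 1, 3, 1, 3, 1]), (225, false, [0, 1, 2, 0, 1, 0, 1, 3, 4, 0, 1, 0, 1, 0, 1]), (195, true, [3, 1, 0, 4, 0, 4, 3, 4, 0, 4, 3, 4]), (60, false, [1, 0, 2, 4, 0, 1, 0, 4, 3, 4, 3, 4, 3, 4]), (102, true, [1, 0, 1, 0, 2, 4, 0, 4, 3, 4, 0, 4, 0]), (1, false, [1, 3, 4, 0, 4, 3, 4, 0, 4, 3, 1]), (187, false, [2, 0, 1, 0, 4, 3, 1, 0, 1, 0, 4, 3, 4, 3]), (6, false, [2, 0, 1, 3, 4, 0, 4, 0, 1, 3, 4, 0, 4, 3]), (174, false, [4, 0, 4, 3, 1, 0, 1, 0, 4, 0, 4, 3]), (260, false, [1, 2, 0, 4, 3, 4, 0, 4, 0, 1, 3, 1, 0, 4, 3, 1]), (235, true, [0, 1, 0, 1, 0, 1, 2, 0, 4, 3, 4, 3, 1, 0]), (29, false, [2, 0, 1, 0, 1, 0, 1, 3]), (166,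 false, [0, 4, 3, 1, 0, 1, 3, 1, 0, 1, 0, 1, 0]), (1, false, [0, 1, 3, 1, 0, 1, 0, 4, 3, 4, 0, 4, 0]), (102, true, [1, 0, 1, 0, 2, 4, 0, 4, 3, 4, 0, 4, 0]), (187, true, [0, 1, 3, 4, 3, 1, 0, 1, 3, 1, 3]), (214, false, [0, 4, 3, 1, 0, 1, 3, 4, 3, 1, 0, 4, 0, 4, 3]), (105, true, [0, 4, 0, 1, 3, 1, 3, 1, 3, 1, 0, 1, 3]), (235, false, [2, 0, 4, 3, 4, 3, 4, 3, 4, 0, 1, 0, 1, 3, 1, 3]), (225, true, [1, 0, 2, 4, 0, 4, 3, 1, 0, 1, 3, 4]), (94, true, [3, 1, 3, 1, 0, 1, 0, 1, 3, 4, 0, 4, 0]), (66, true, [3, 4, 0, 4, 0, 4, 3, 4, 3, 4, 3, 4, 0, 1, 0, 1]), (222, false, [4, 0, 1, 0, 4, 3, 1, 3, 1, 0, 1, 3, 4, 3, 1]), (214, true, [0, 1, 3, 1, 0, 4, 0, 4, 0, 4, 3, 4, 3, 4]), (111, true, [0, 4, 3, 4, 0, 1, 3, 1, 3, 4, 3, 4, 3, 1, 0]), (263,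 true, [4, 0, 1, 0, 1, 3, 1, 0, 4, 0, 4]), (235, false, [0, 2, 4, 3, 1, 0, 1, 0, 4, 0, 4, 0, 4, 0, 4, 0]), (272, true, [4, 0, 1, 0, 1, 0, 1, 3, 1, 0, 4, 3]), (166, true, [4, 0, 4, 0, 1, 3, 1, 0, 4, 0, 4, 0, 1, 0]), (222, true, [0, 1, 3, 1, 3, 4, 0, 4, 3, 1, 3, 1, 3, 1, 3]), (277, true, [2, 0, 4, 3, 1, 0, 4, 0, 4, 3, 4]), (221, true, [4, 3, 1, 3, 1, 0, 4, 3, 1, 0, 1, 3, 4]), (111, true, [0, 1, 0, 4, 3, 1, 0, 1, 0, 4, 0, 4, 3, 1, 0]), (153, true, [0, 1, 0, 1, 0, 1, 0, 4, 0, 4, 0, 4, 0, 4]), (68, false, [2, 4, 0, 1, 3, 1, 0, 4, 3]), (85, true, [3, 4, 3, 1, 0, 4, 3, 4, 3, 1, 0, 1, 0, 4]), (123, true, [2, 4, 3, 1, 0, 4, 3, 4, 3, 4, 3, 4, 0, 4, 0, 4, 3]), (82, true, [2, 4, 0, 4, 3, 4, 3, 4, 3, 4, 0, 1, 0, 1, 3])]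
def r273 : List (ℕ × Bool × List ℕ) := [(263, true, [1, 3, 1, 3, 4, 0, 4, 3, 1, 0, 1, 0, 4, 3]), (185, true, [0, 4, 3, 1, 3, 1, 3, 4, 3, 4, 0, 1, 3, 1, 0, 4]), (280, true, [1, 3, 4, 0, 4, 0, 4, 3, 4, 0, 1, 3, 1]), (198, false, [1, 0, 4, 3, 1, 0, 1, 3, 1, 0, 1]), (109, false, [3, 4, 3, 1, 0, 1, 0, 4, 0, 4, 0, 1]), (109, false, [2, 0, 1, 3, 4, 3, 4, 3, 4, 3, 1, 0, 4]), (262, true, [0, 4, 0, 1, 3, 4, 3, 1, 0, 1, 0, 1, 3, 1, 3]), (19, false, [1, 0, 1, 3, 1, 3, 4, 0, 4, 3, 4, 0, 4, 0, 4]), (214, false, [0, 4, 3, 4, 3, 1, 0, 1, 0, 1, 0, 1, 3, 1, 3, 1, 0]), (254, false, [2, 4, 3, 1, 0, 1, 0, 1, 0, 4, 3, 1, 3, 4, 0, 4]), (273, true, []), (181, true, [0, 1, 3, 1, 0, 1, 0, 1, 0, 4, 0, 4, 0, 4, 0, 4]), (259, true, [1, 0, 4, 0, 4,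 3, 1, 3, 1, 0, 4, 0, 4, 3]), (66, true, [2, 0, 1, 0, 1, 3, 4, 3, 1, 0, 1, 0, 1, 0, 4, 0, 4]), (112, true, [0, 1, 2, 0, 4, 0, 4, 0, 4, 3, 1, 3, 4, 0, 4]), (202, true, [3, 1, 0, 4, 3, 1, 3, 1, 3, 1, 0, 4, 3, 4]), (216, true, [0, 2, 4, 0, 4, 0, 4, 0, 4, 3, 4, 0, 1, 3]), (268, false, [3, 1, 3, 1, 0, 1, 0, 4, 3, 1, 0, 1, 0, 1, 0]), (151, false, [1, 0, 1, 2, 0, 4, 0, 1, 3, 1, 3, 1, 0, 1]), (277, true, [1, 0, 2, 4, 3, 1, 0, 1, 3, 4, 3, 4, 0, 1, 3, 4]), (148, false, [1, 0, 1, 0, 1, 3, 1, 0, 4]), (84, true, [3, 4, 3, 4, 0, 4, 0, 4, 0, 1, 3, 1, 0, 4]), (184, false, [0, 2, 4, 0, 1, 3, 1, 0, 4, 0, 4, 3, 1, 3, 1]), (67, true, [1, 0, 1, 2, 0, 1, 0, 1, 0, 4, 0, 4, 3, 4, 3, 4, 3]), (232, false, [1, 3, 1, 3, 4, 0, 4, 0, 1, 3, 4, 3, 4,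 0]), (244, false, [0, 1, 0, 2, 4, 0, 4, 3, 4, 0, 4, 3, 1]), (57, false, [3, 4, 0, 1, 0, 1, 3, 1, 3, 1, 0, 4, 3, 4, 0, 4, 3]), (223, true, [3, 4, 0, 4, 3, 4, 3, 4, 0, 4, 3, 1]), (263, true, [0, 2, 4, 3, 1, 0, 1, 3, 4, 3, 4, 0, 1, 3, 4, 3]), (221, false, [0, 1, 0, 1, 3, 1, 3, 1, 0, 4, 0, 4, 3, 1, 0, 1]), (219, false, [0, 1, 0, 4, 0, 4, 0, 4, 3, 1, 0, 1, 3, 4, 3, 1]), (260, false, [2, 4, 0, 4, 3, 4, 3, 1, 0, 4, 3, 4, 3, 4, 3]), (273, true, [1, 0, 2, 4, 0, 4, 0, 1, 3, 1, 0, 4]), (262, true, [0, 2, 4, 3, 1, 0, 1, 3, 4, 0, 4, 0, 1, 3, 1, 3, 1]), (197, true, [1, 2, 0, 1, 3, 4, 3, 4, 0, 4, 0, 4, 0]), (149, false, [0, 1, 2, 0, 4, 0, 4, 3, 1, 0, 1, 3]), (209, true, [0, 1, 0, 1, 2, 0, 1, 0, 1, 3, 1, 3, 1, 0]), (83, false, [3, 4,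 0, 1, 0, 1, 0, 4, 0, 4, 0, 4, 0, 4]), (241, true, [3, 4, 3, 1, 0, 4, 3, 4, 0, 4, 0]), (181, true, [1, 0, 2, 4, 3, 1, 0, 1, 3, 1, 0, 1, 3, 1]), (269, true, [3, 1, 3, 4, 0, 4, 3, 4, 3, 1, 0, 4, 0, 1]), (111, true, [0, 2, 4, 3, 4, 0, 1, 3, 1, 0, 1, 0, 4]), (43, true, [1, 0, 2, 4, 3, 4, 3, 4, 0, 4, 0, 4, 0, 1, 3]), (149, true, [1, 3, 4, 0, 1, 3, 1, 0, 1, 3, 4, 3, 4]), (247, true, [3, 4, 0, 4, 0, 4, 0, 4, 3, 4, 3, 1]), (209, false, [4, 0, 4, 3, 1, 0, 4, 0]), (97, true, [2, 4, 0, 4, 0, 1, 3, 1, 3, 1, 3]), (153, false, [0, 4, 3, 1, 3, 1, 0, 4, 3, 1, 3, 4]), (280, false, [2, 0, 4, 3, 1, 3, 1, 0, 4, 3, 4, 0, 1, 0, 1]), (98, true, [4, 3, 1, 0, 1, 3, 1, 3, 1, 0, 1, 3]), (153, false, [2, 0, 4, 0, 1, 0, 1, 3, 4, 0, 4, 0, 4, 3, 4, 0,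 1]), (49, true, [1, 0, 2, 4, 0, 4, 3, 4, 0, 1, 3, 1, 3]), (200, false, [2, 0, 4, 0, 4, 0, 1, 3, 4, 0, 4, 3, 1]), (124, false, [0, 2, 4, 0, 4, 3, 4, 3, 4, 0, 1, 3, 4, 3, 4, 3]), (202, true, [0, 4, 0, 1, 0, 1, 3, 1, 3, 1, 0, 4, 0]), (112, false, [2, 0, 1, 0, 1, 3, 4, 3, 1, 0, 1, 3, 1, 3]), (109, false, [1, 0, 4, 3, 1, 3, 1, 0, 4, 3, 1, 3, 1]), (29, true, [1, 2, 0, 4, 0, 1, 3, 1, 0, 1, 3]), (207, false, [1, 0, 4, 0, 4, 0, 1, 3, 1, 0, 4, 3, 4, 3]), (277, true, [3, 1, 0, 1, 3, 1, 0, 4, 3, 1, 0]), (165, true, [3, 1, 3, 4, 0, 4, 0, 1, 3, 4, 3, 4]), (196, true, [3, 4, 0, 1, 3, 1, 3, 1, 0, 1, 3, 1]), (174, true, [2, 0, 1, 0, 1, 3, 4, 3, 4, 3, 1, 3]), (148, false, [2, 0, 1, 0, 4, 3, 1, 3, 1, 0, 4, 0, 4]), (29, true, [0, 1, 0, 1,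 0, 2, 4, 0, 4, 3, 4, 3, 4, 3, 1, 0]), (16, false, [1, 2, 0, 1, 0, 4, 3, 4, 3, 1, 0, 1]), (273, true, [1, 2, 0, 4, 3, 4, 0, 1, 0, 1, 3, 4]), (153, false, [1, 2, 0, 1, 3, 1, 3, 4, 3, 4, 3, 4, 0]), (214, false, [2, 4, 3, 1, 0, 1, 0, 4, 0, 4, 0, 4, 0]), (111, true, [1, 0, 4, 3, 4, 3, 4, 0, 4, 3, 1, 3, 4, 0]), (65, true, [2, 0, 4, 0, 4, 3, 1, 3, 1, 3, 4, 3, 4, 0, 1]), (216, true, [4, 0, 4, 0, 4, 0, 4, 3, 1, 3, 1, 0, 1, 0, 1, 3]), (153, false, [1, 3, 1, 0, 1, 3, 1, 0, 4, 3, 4, 3]), (73, false, [0, 1, 2, 0, 1, 3, 1, 3, 1, 3, 4, 3, 4, 3, 4, 3]), (254, false, [1, 0, 1, 3, 4, 0, 4, 3, 4, 3, 1, 0, 1, 0]), (200, false, [0, 4, 3, 4, 0, 1, 0, 1, 3, 4, 3, 1, 0, 4]), (219, false, [1, 0, 2, 4, 0, 4, 3, 4, 3, 1, 0, 4, 0, 4, 0, 4, 3]), (269,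 true, [2, 0, 4, 0, 1, 3, 1, 0, 1, 0, 1, 3, 4, 3, 1, 0]), (112, true, [3, 1, 0, 1, 0, 1, 3, 1, 3, 1, 3, 4, 3, 4, 0]), (8, true, [1, 0, 4, 3, 1, 3, 4, 0, 4, 3, 1]), (266, true, [0, 2, 4, 0, 1, 0, 1, 0, 1, 3, 4, 3, 4]), (43, true, [4, 0, 1, 3, 1, 0, 4, 0, 4]), (112, false, [1, 3, 1, 0, 4, 3, 1, 3, 1, 3, 1, 3, 4, 3, 4]), (184, false, [1, 0, 2, 4, 0, 4, 0, 4, 3, 4, 3, 4, 0, 4, 3]), (268, false, [2, 4, 3, 4, 0, 1, 0, 1, 0, 1, 3, 4, 3, 4, 0]), (260, false, [1, 0, 1, 3, 4, 0, 1, 3, 1, 3, 1, 0]), (65, true, [0, 1, 3, 1, 0, 4, 0, 4, 0, 4, 3, 1, 3, 1, 3, 4]), (151, false, [3, 4, 0, 1, 0, 1, 3, 1, 3, 1, 3, 1, 0, 4]), (221, false, [0, 2, 4, 0, 4, 3, 1, 0, 1, 3, 1, 0, 1, 0, 1]), (258, false, [4, 3, 4, 3, 1, 0, 1, 0, 1, 3, 1, 0]), (260,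 false, [0, 1, 2, 0, 4, 3, 4, 3, 4, 0, 4, 0, 4, 3, 1, 0, 1, 3]), (241, true, [3, 1, 0, 4, 3, 1, 3, 1, 0, 1, 0, 4, 3]), (124, false, [1, 0, 4, 0, 4, 3, 1, 0, 1, 3, 1, 3, 1]), (18, false, [4, 3, 1, 3, 1, 0, 4, 0, 4, 3, 1, 0, 4]), (67, true, [1, 3, 1, 0, 4, 3, 4, 3, 4, 3, 1, 0, 1, 3]), (278, false, [1, 3, 4, 0, 1, 3, 1, 0, 4, 0, 4, 3, 1, 0, 1]), (223, true, [0, 1, 0, 1, 0, 2, 4, 0, 4, 3, 4, 3, 1, 0]), (97, true, [0, 2, 4, 0, 1, 3, 1, 3, 1, 3, 1, 0, 1, 3]), (114, true, [3, 1, 0, 1, 0, 4, 0, 4, 0, 1, 3, 1]), (97, true, [4, 3, 1, 3, 4, 0, 4, 3, 1, 3, 1, 0, 4, 0, 1]), (109, false, [0, 1, 0, 1, 2, 0, 4, 3, 4, 0, 1, 0, 1, 0, 4]), (196, true, [4, 0, 1, 3, 4, 3, 4, 0, 4, 3, 4]), (51, true, [0, 2, 4, 3, 1, 3, 1, 3, 1, 3, 1, 3, 1]),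 (98, true, [2, 0, 1, 3, 1, 0, 1, 0, 1, 0, 1, 3]), (57, false, [1, 0, 2, 4, 3, 1, 0, 4, 3, 4, 0, 1, 0, 1, 3, 4]), (84, true, [2, 4, 0, 1, 3, 4, 0, 4, 3, 1, 0, 4]), (73, false, [4, 0, 1, 3, 4, 3, 1, 0, 1, 3, 4, 0, 1, 3]), (161, true, [3, 4, 0, 4, 0, 4, 3, 4]), (165, true, [3, 1, 3, 4, 3, 4, 0, 1, 0, 1, 3, 4, 0, 1]), (260, false, [4, 0, 4, 3, 4, 0, 1, 3, 1, 3, 1, 3, 4]), (19, false, [1, 2, 0, 4, 3, 1, 3, 1, 3, 1, 0, 4, 0, 1]), (66, true, [1, 3, 1, 3, 4, 0, 4, 3, 1, 3, 1, 0, 4, 0, 4, 3])]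
def r274 : List (ℕ × Bool × List ℕ) := [(212, true, [0, 4, 3, 4, 0, 4, 0, 4, 3, 1, 0, 4, 0]), (170, true, [1, 3, 1, 3, 1, 0, 4, 0, 4, 3, 4, 0, 1]), (90, false, [1, 0, 2, 4, 0, 4, 0, 4, 3, 4, 3, 4, 0, 4, 0, 4, 0, 1]), (152, false, [4, 0, 1, 0, 1, 0, 4, 3, 4, 0, 4, 3]), (17, false, [0, 1, 0, 1, 0, 1, 3, 4, 3, 4, 0, 1, 3, 4, 3]), (274, false, [0, 1, 0, 2, 4, 0, 1, 3, 4, 3]), (198, true, [1, 2, 0, 1, 3, 4, 0, 4, 3, 4, 3]), (110, false, [0, 4, 0, 1, 0, 1, 0, 4, 3, 4, 0, 1, 0, 1, 0]), (214, false, [1, 0, 4, 0, 4, 3, 4, 3, 1, 0, 1, 0, 1, 3]), (229, false, [1, 0, 1, 3, 1, 3, 4, 0, 4, 3, 1, 0, 4, 0, 4]), (274, false, [0, 1, 0, 2, 4, 0, 1, 3, 4, 3]), (135, false, [1, 3, 1, 0, 1, 3, 1, 3, 4, 3, 4, 3, 4]), (3, true, [0, 1, 3, 1, 0,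 1, 0, 4, 3, 1, 0]), (274, false, [1, 3, 1, 3, 4, 3, 4, 0, 4, 3, 1, 0]), (192, true, [3, 1, 3, 1, 3, 1, 3, 4, 3, 4, 0, 4, 0]), (219, false, [0, 1, 0, 1, 0, 4, 3, 1, 3, 1, 3, 4, 3, 4, 0]), (61, true, [2, 0, 1, 3, 1, 3, 4, 3, 4, 0, 1, 3, 4, 3, 1]), (84, true, [2, 0, 1, 3, 1, 0, 1, 0, 4, 3, 4, 3, 4, 3]), (193, true, [1, 0, 1, 0, 1, 0, 4, 0, 4, 0, 4, 0]), (211, true, [0, 4, 3, 4, 0, 1, 3, 1, 3, 1, 0, 4, 3]), (213, true, [3, 1, 0, 1, 3, 4, 3, 1, 0, 1, 0, 4, 3]), (106, false, [0, 1, 0, 1, 0, 1, 3, 4, 0, 1, 3, 1, 3]), (274, true, []), (277, true, [0, 2, 4, 0, 4, 0, 1, 3, 1, 3, 4, 0]), (123, false, [2, 0, 4, 0, 1, 3, 4, 3, 4, 0, 1, 3, 4, 3, 1]), (106, true, [0, 2, 4, 0, 4, 3, 4, 3, 4, 0, 4, 0, 4, 3, 1]), (215, true, [0, 1, 0, 1,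 0, 1, 2, 0, 1, 3, 1, 0, 1, 0, 1, 0]), (118, false, [0, 2, 4, 3, 4, 3, 4, 0, 4, 3, 4, 0, 4, 0, 1, 0]), (211, true, [4, 3, 1, 0, 1, 0, 4, 3, 4, 0, 1, 0, 1, 0, 1, 0]), (7, true, [0, 2, 4, 0, 4, 0, 4, 3, 4, 0, 1, 3, 1, 0]), (170, true, [1, 0, 1, 0, 1, 0, 2, 4, 3, 4, 3, 4, 0, 4, 0, 4]), (41, true, [3, 1, 0, 1, 0, 1, 3, 4, 3, 1, 0, 4, 3, 4]), (63, false, [2, 0, 4, 3, 4, 0, 4, 0, 1, 3]), (200, true, [0, 1, 0, 1, 3, 1, 0, 1, 3, 1, 0, 1, 3, 1, 3, 1, 3]), (200, true, [2, 4, 3, 1, 0, 1, 0, 4, 3, 4, 0, 1]), (166, false, [0, 1, 3, 4, 0, 4, 3, 4, 3, 4, 3, 1, 0]), (111, true, [1, 0, 4, 0, 4, 0, 1, 3, 4, 3, 4, 0, 4, 0, 4]), (213, true, [0, 1, 0, 2, 4, 0, 4, 0, 4, 0, 1, 3, 4, 0, 4, 0, 4, 3, 4]), (274, false, [0, 4, 3, 4, 0, 4, 3, 4, 0,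 4, 3, 1]), (66, false, [1, 0, 4, 0, 4, 3, 1, 3, 1, 0, 4, 3, 4, 0, 1, 3]), (24, false, [0, 2, 4, 0, 4, 3, 4, 3, 4, 0, 4, 3, 1, 3]), (90, false, [0, 1, 0, 1, 0, 4, 3, 1, 0, 1, 3, 1]), (266, true, [0, 1, 3, 1, 0, 1, 3, 4, 3, 4, 0, 4, 0]), (277, true, [1, 0, 1, 2, 0, 1, 0, 1, 3, 4, 3, 4, 0, 4, 3]), (110, false, [2, 4, 0, 4, 3, 1, 0, 1, 0, 1, 0, 4]), (105, false, [0, 1, 0, 1, 3, 4, 3, 4, 3, 1, 3]), (105, true, [0, 2, 4, 3, 4, 3, 1, 0, 4, 0]), (68, true, [0, 4, 3, 4, 0, 4, 3, 4, 0, 4, 0, 4, 3, 4, 3]), (182, true, [2, 0, 1, 3, 4, 0, 1, 0, 1, 0, 1]), (77, true, [1, 0, 2, 4, 0, 1, 3, 1, 3, 1, 0, 4, 3]), (61, true, [2, 0, 1, 3, 1, 3, 4, 3, 4, 0, 1, 3, 4, 3, 1]), (22, false, [0, 4, 3, 4, 0, 1, 0, 1, 3, 4, 0, 4, 3, 1, 0]), (268, true,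 [0, 1, 0, 4, 3, 4, 0, 4, 3, 1, 0, 1, 0, 1, 3, 1, 3]), (5, true, [0, 2, 4, 0, 1, 0, 4, 3, 4, 0, 4, 0, 1, 0]), (193, false, [0, 2, 4, 0, 1, 0, 1, 0, 4, 3, 4, 0, 1, 0, 1, 3]), (104, true, [4, 3, 1, 0, 4, 3, 4, 0, 1, 3]), (182, true, [0, 1, 3, 1, 0, 1, 0, 4, 3, 1, 0, 1, 0, 4, 0]), (274, false, [1, 2, 0, 1, 0, 4, 0, 4, 0, 4]), (71, true, [1, 2, 0, 1, 0, 1, 0, 4, 3, 4, 0, 4, 0, 4, 3, 4]), (229, false, [2, 4, 3, 4, 3, 4, 0, 4, 3, 4, 0, 1, 3, 1]), (235, true, [3, 4, 3, 1, 0, 4, 3, 4, 3, 4, 3, 4, 0, 1]), (84, true, [2, 0, 4, 3, 1, 0, 1, 3, 1, 3]), (7, true, [0, 4, 3, 4, 0, 4, 3, 4, 0, 1, 3, 1, 0]), (45, false, [0, 2, 4, 0, 4, 3, 4, 0, 4, 0, 1, 3]), (211, true, [1, 3, 1, 0, 1, 3, 1, 0, 4, 3, 4, 3, 4, 3]), (41, true, [2, 4, 3, 1,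 0, 1, 3, 4, 0, 4, 0]), (214, false, [0, 2, 4, 0, 1, 3, 4, 3, 1, 0, 1, 3, 4, 0, 4, 0]), (61, true, [0, 4, 0, 4, 3, 4, 0, 4, 0, 4, 3, 1, 0, 1, 3, 4]), (279, false, [2, 4, 3, 4, 3, 1, 0, 1, 0, 4, 3, 1]), (194, true, [3, 4, 0, 1, 0, 1, 0, 4, 0, 4, 3, 4, 3]), (22, false, [1, 0, 2, 4, 0, 4, 0, 4, 0, 1, 3, 4]), (61, true, [0, 4, 0, 4, 3, 4, 0, 4, 0, 4, 3, 1, 0, 1, 3, 4]), (68, true, [1, 2, 0, 4, 3, 4, 0, 4, 0, 4, 0, 1, 3, 1]), (194, false, [3, 1, 0, 1, 3, 1, 3, 1, 0, 1, 0, 1, 0, 1, 3]), (274, false, [1, 2, 0, 1, 0, 1, 0, 4, 0, 4]), (48, true, [0, 4, 0, 4, 0, 4, 3, 4, 0, 1, 3, 1, 3]), (258, true, [1, 0, 4, 3, 4, 0, 1, 3, 1, 0, 4, 0]), (219, false, [1, 0, 2, 4, 3, 4, 0, 4, 0, 1, 3, 1, 3, 1]), (5, false, [1, 3, 1, 0, 1, 3, 1, 0,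 1, 3, 1, 3, 1, 3, 4, 3]), (139, true, [4, 3, 1, 3, 4, 0, 4, 0, 1, 3, 1, 3, 1]), (87, true, [1, 0, 1, 0, 2, 4, 0, 1, 0, 1, 0, 4, 3, 4, 0, 1, 0]), (111, true, [2, 4, 0, 4, 0, 4, 0, 4, 3, 1, 3, 1, 0, 4, 0, 1]), (106, false, [1, 0, 2, 4, 3, 4, 0, 4, 3, 1, 3, 1, 3, 1]), (87, true, [4, 0, 4, 0, 4, 3, 1, 0, 1, 0, 4, 0, 4, 3, 4]), (71, true, [1, 3, 1, 0, 4, 0, 4, 3, 4, 3, 4, 3, 4]), (79, false, [4, 0, 4, 0, 1, 3, 1, 0, 4, 0, 4, 3, 1]), (244, true, [0, 1, 0, 2, 4, 0, 1, 0, 1, 3, 4, 3, 1, 0, 4]), (24, false, [1, 0, 1, 0, 4, 0, 4, 0, 4, 3, 1, 3, 4]), (1, false, [0, 1, 2, 0, 1, 3]), (211, true, [4, 3, 1, 0, 1, 0, 4, 3, 4, 0, 1, 0, 1, 0, 1, 0]), (123, false, [1, 3, 1, 3, 4, 0, 4, 0, 4, 0, 4, 3, 4, 3, 4, 0]), (274, false, [2, 0, 1,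 3, 1, 0, 1, 3, 1, 3, 4, 0, 4]), (77, false, [3, 1, 0, 4, 0, 4, 3, 4, 3, 4, 0, 1, 3]), (66, false, [2, 4, 3, 4, 0, 1, 3, 1, 0, 4, 3, 1, 3, 1]), (274, false, [3, 4, 0, 4, 3, 4, 0, 4, 3, 4, 0, 1]), (235, true, [2, 4, 0, 4, 0, 4, 0, 1, 3, 4, 3, 4, 0, 4]), (132, false, [4, 3, 1, 3, 1, 0, 1, 0, 4, 3, 4, 0, 4, 3]), (66, false, [3, 4, 3, 1, 0, 1, 0, 1, 3, 4, 0, 1, 3]), (277, true, [3, 4, 0, 1, 3, 1, 3, 1, 3, 1]), (266, true, [4, 0, 4, 3, 1, 0, 4, 0]), (106, true, [0, 1, 3, 4, 3, 4, 0, 4, 0, 4, 3, 1]), (66, false, [0, 2, 4, 3, 4, 3, 1, 0, 4, 3, 4, 3, 4, 3]), (132, false, [0, 1, 0, 2, 4, 3, 4, 0, 4]), (192, false, [2, 4, 0, 4, 0, 4, 3, 4, 0, 4, 3, 4, 3, 1, 3]), (152, false, [2, 4, 0, 4, 3, 1, 3, 1, 3, 4, 3, 4, 0, 4]), (212, true,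 [2, 0, 1, 3, 4, 3, 4, 3, 4, 0, 1, 3]), (63, false, [0, 2, 4, 3, 1, 0, 1, 3, 1, 3, 1, 3, 4, 0]), (268, true, [1, 0, 2, 4, 0, 1, 0, 1, 0, 4, 3, 4, 0]), (258, true, [2, 0, 1, 0, 4, 0, 4, 3, 4, 0, 1, 3, 4]), (258, false, [3, 4, 3, 1, 0, 4, 0, 4, 0, 1, 3, 4]), (208, false, [0, 1, 2, 0, 1, 0, 1, 0, 1, 3, 1, 3, 1, 3]), (277, true, [1, 3, 1, 0, 1, 0, 4, 3, 1, 0, 1, 3, 4])]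
def r275 : List (ℕ × Bool × List ℕ) := [(81, true, [3, 1, 3, 1, 3, 4, 0, 4, 3, 1, 0, 4]), (69, true, [1, 2, 0, 1, 3, 4, 0, 1, 3]), (199, false, [0, 1, 0, 1, 0, 4, 3, 4, 3, 1, 0, 1, 0]), (215, false, [0, 1, 3, 1, 0, 1, 3, 4, 3, 4, 0, 4, 0, 4]), (178, false, [1, 0, 1, 0, 4, 3, 1, 3, 1, 0, 4, 3, 1, 0]), (260, true, [4, 0, 1, 3, 4, 3, 1, 0, 1, 3, 4, 0, 4, 3, 1]), (77, true, [2, 0, 4, 3, 1, 3, 1, 0, 1]), (265, false, [1, 0, 1, 3, 1, 3, 1, 0, 1, 3, 4]), (234, true, [0, 1, 0, 1, 0, 1, 3, 4, 0, 1, 0, 1, 3, 1, 3]), (35, true, [1, 3, 4, 0, 1, 0, 1, 3, 4, 0, 1, 0]), (234, true, [2, 0, 4, 3, 4, 3, 1, 0, 1, 0, 1, 0, 4, 0, 4]), (179, false, [3, 1, 3, 1, 3, 1, 0, 4, 0, 4, 3, 4, 0, 1]), (126, true, [0, 1, 3, 4, 3, 1, 0, 1, 3, 1, 0, 1,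 0, 4, 0, 4]), (214, false, [0, 1, 2, 0, 4, 3, 4, 0, 1, 3, 1, 3, 4, 3, 4, 3, 1]), (77, true, [0, 4, 3, 1, 0, 1, 0, 4, 3, 4, 0, 4, 0, 1]), (232, true, [0, 4, 3, 4, 0, 4, 0, 1, 3, 4, 0, 4, 0, 1, 0]), (215, false, [0, 1, 3, 1, 0, 1, 3, 4, 3, 4, 0, 4, 0, 4]), (69, true, [3, 4, 0, 1, 3, 4, 0, 4, 3, 4]), (78, true, [0, 2, 4, 0, 4, 3, 1, 0, 4, 0, 4, 3, 4, 3]), (218, true, [0, 1, 0, 2, 4, 3, 4, 3, 4, 0, 1, 3, 1, 3, 4, 0]), (275, false, [0, 4, 3, 1, 0, 1, 3, 4, 0, 1, 3, 1]), (35, false, [4, 0, 1, 3, 1, 0, 1, 0, 4]), (180, true, [0, 1, 0, 4, 3, 1, 0, 1, 3, 4, 3, 4, 0, 1]), (176, true, [2, 0, 1, 3, 1, 0, 4, 0, 4, 3, 1, 0, 4, 0]), (77, false, [4, 0, 4, 3, 1, 0, 1, 0, 1, 3, 1, 0, 4, 0]), (218, true, [3, 4, 0, 4, 3, 1, 3, 1, 0, 4, 3,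 4]), (211, false, [1, 0, 1, 0, 2, 4, 3, 4, 0, 1, 3, 1, 3, 4]), (176, true, [0, 2, 4, 3, 1, 0, 1, 0, 1, 0, 1, 3, 1, 3, 4]), (81, true, [0, 4, 3, 1, 3, 1, 3, 1, 3, 4, 3, 4, 0, 4]), (278, true, [4, 3, 1, 3, 1, 3, 4, 0, 4, 3, 4]), (21, false, [1, 2, 0, 1, 0, 4, 0, 4, 0, 4, 0, 1, 3, 4, 0, 4, 0]), (82, false, [0, 1, 2, 0, 1, 0, 4, 0, 4, 3, 1, 3, 4, 0, 1]), (275, false, [0, 1, 0, 4, 3, 1, 0, 4, 0, 4, 3, 1]), (21, false, [4, 3, 4, 3, 4, 0, 1, 0, 1, 3, 1, 0]), (7, false, [1, 0, 2, 4, 0, 1, 3, 1, 3, 1, 0, 1, 0, 4]), (168, true, [0, 1, 0, 4, 0, 4, 0, 1, 3, 1, 0, 4, 0, 4, 0, 4]), (110, false, [1, 0, 1, 3, 1, 3, 4, 3, 4, 0, 1, 3, 1, 3, 1, 3]), (85, false, [0, 1, 0, 1, 2, 0, 4, 0, 1, 3, 1, 0, 4, 3, 1, 3, 4]), (15, true, [3, 1, 3, 1,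 0, 4, 3, 4, 3]), (275, true, []), (24, false, [1, 3, 4, 3, 1, 0, 1, 0, 4, 3, 4]), (99, false, [4, 3, 4, 3, 1, 0, 1, 3]), (199, true, [0, 2, 4, 0, 4, 3, 4, 3, 1, 0, 1, 0]), (275, false, [2, 4, 0, 1]), (24, true, [0, 1, 0, 1, 2, 0, 4, 3, 4, 0, 1, 0]), (35, true, [2, 4, 3, 4, 0, 4, 0, 4, 3, 4, 3, 1, 0, 4]), (87, true, [0, 1, 0, 1, 0, 1, 0, 1, 2, 0, 1, 0, 1, 3, 4, 0, 1]), (178, false, [2, 0, 4, 0, 4, 3, 4, 3, 4, 3, 4, 0, 4, 0, 1]), (179, false, [1, 2, 0, 4, 3, 4, 0, 1, 0, 1, 3, 4, 3, 1, 0, 4]), (69, true, [3, 4, 0, 1, 3, 4, 0, 4, 3, 4]), (106, false, [0, 1, 2, 0, 1, 3, 1, 0, 1, 3, 4, 0, 4]), (214, false, [0, 1, 3, 1, 3, 1, 0, 1, 0, 4, 3, 4, 3, 4, 3, 4, 0]), (126, true, [2, 0, 1, 0, 1, 0, 4, 0, 4, 3, 4, 3, 4, 0, 1, 0]), (246,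 false, [4, 0, 4, 3, 1, 3, 4, 0, 4, 3, 4, 3, 4, 3, 4]), (275, false, [1, 3, 4, 0, 1, 0, 1, 3, 4, 0, 4, 0]), (267, true, [1, 0, 1, 0, 4, 0, 4, 3, 1, 0, 4, 0, 1]), (100, false, [2, 4, 3, 1, 3, 1, 0, 4, 0, 4, 3, 4]), (275, true, []), (171, true, [0, 2, 4, 0, 4, 3]), (110, false, [1, 0, 1, 0, 1, 0, 2, 4, 3, 4, 0, 4, 0, 4, 3, 4, 3]), (252, true, [2, 4, 0, 4, 3, 4, 3, 1, 0, 1, 0, 4, 3, 1]), (171, true, [4, 0, 4, 3]), (94, false, [0, 2, 4, 3, 1, 3]), (199, false, [1, 0, 1, 0, 2, 4, 0, 4, 3, 4, 0, 4, 0, 4, 3]), (199, true, [1, 3, 1, 3, 4, 3, 4, 0, 4, 3, 4, 0, 1, 3, 1]), (22, false, [0, 1, 0, 4, 0, 4, 0, 4, 3]), (275, true, []), (81, true, [3, 1, 3, 1, 3, 4, 0, 4, 3, 1, 0, 4]), (280, false, [0, 1, 0, 1, 2, 0, 1, 3, 1, 3]), (85,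 false, [1, 0, 1, 3, 4, 3, 1, 0, 1, 0, 4, 3, 1, 3, 4]), (67, true, [1, 0, 2, 4, 3, 4, 3, 4, 0, 1]), (218, true, [2, 0, 1, 0, 1, 0, 4, 0, 4, 0, 4, 3, 4]), (62, true, [2, 0, 1, 3, 1, 3, 1, 3, 1, 0, 1, 0, 4, 3]), (24, false, [0, 1, 2, 0, 1, 0, 4, 3, 4]), (218, true, [1, 3, 1, 0, 4, 0, 4, 3, 4, 0, 1, 0, 4]), (37, false, [0, 4, 3, 1, 0, 1, 3, 4, 0, 4, 0, 4]), (110, true, [0, 1, 3, 1, 0, 1, 0, 1]), (67, false, [1, 0, 1, 3, 4, 3, 4, 3, 1, 0, 1, 0]), (110, true, [1, 0, 1, 2, 0, 1, 3, 4, 3, 1]), (106, false, [0, 2, 4, 3, 1, 3, 1, 3, 4, 3, 4, 3, 4]), (168, true, [1, 0, 1, 3, 1, 3, 1, 3, 4, 3, 4, 3, 1]), (87, true, [4, 0, 1, 0, 4, 3, 4, 3, 4, 3, 4, 0, 1, 3, 4, 3]), (106, true, [1, 0, 4, 0, 1, 3, 4, 3, 4, 0, 1, 3, 4]), (162, false,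 [1, 0, 1, 3, 1, 0, 1, 0, 1, 3, 4]), (135, true, [1, 0, 1, 3, 1, 0, 4, 3, 4, 3, 4, 3, 1, 0, 1]), (24, true, [0, 4, 3, 1, 0, 1, 0, 1, 0, 4, 0, 4, 0, 1, 3]), (59, false, [3, 1, 3, 1, 0, 1, 0, 1, 3, 1, 3, 1, 3, 4, 0]), (266, false, [2, 0, 4, 3, 1, 3, 1, 3, 4, 3, 4, 0, 1, 3, 4]), (77, false, [0, 2, 4, 3, 1, 3, 1, 0, 1, 0, 1, 3, 1, 0, 4]), (170, false, [1, 3, 1, 3, 4, 0, 1, 3, 1, 3, 4, 0, 4, 3]), (26, true, [0, 2, 4, 3, 4, 3, 4, 0, 4, 3, 4, 0, 4, 0]), (41, true, [1, 0, 1, 3, 1, 0, 1, 0, 4, 3, 4, 0, 1]), (7, false, [0, 1, 0, 1, 0, 4, 0, 4, 0, 4, 0, 1, 3]), (260, true, [2, 0, 4, 0, 1, 3, 1, 3, 4, 0, 1, 3, 1]), (59, false, [3, 4, 0, 1, 3, 4, 3, 4, 0, 4, 0, 1, 3, 1, 0]), (78, true, [1, 3, 4, 3, 4, 0, 4, 3, 1, 0, 1, 0, 4, 3]), (67,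 true, [1, 0, 1, 3, 1, 0, 1, 3, 1, 0, 1, 3, 1, 3, 4, 0]), (69, true, [1, 2, 0, 1, 3, 4, 0, 1, 3]), (180, true, [1, 2, 0, 4, 3, 4, 0, 1, 3, 1, 3, 1, 3, 4, 0, 1, 3]), (275, true, []), (81, true, [0, 4, 3, 1, 3, 1, 3, 1, 3, 4, 3, 4, 0, 4]), (104, false, [1, 3, 1, 3, 1, 3, 1, 0, 1, 0, 1, 3, 1, 0]), (41, true, [2, 0, 4, 3, 1, 3, 4]), (97, false, [1, 3, 1, 3, 1, 3, 1, 0, 4, 0, 4, 0]), (170, false, [1, 2, 0, 1, 3, 4, 0, 1, 0, 4]), (106, true, [0, 4, 3, 1, 3, 1, 3, 4, 0, 1]), (252, true, [3, 1, 3, 1, 0, 4, 0, 4, 0, 1]), (20, false, [1, 2, 0, 1, 3, 4, 0, 1, 3, 1, 0, 1]), (67, false, [0, 1, 2, 0, 1, 3, 1, 0, 4, 0, 4, 0, 1, 3, 1, 0]), (94, false, [0, 4, 0, 4, 0, 1, 3, 4, 0, 4, 3]), (22, false, [0, 1, 0, 2, 4, 0, 4, 0, 4, 3]), (38,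 false, [2, 0, 4, 0, 4, 3, 4, 0, 4, 0, 4, 3, 4, 0])]

theorem q264 : closeb 18 ps18 base7 rgR om xs x264 orb r264 = true := by decide +kernel
theorem q265 : closeb 18 ps18 base7 rgR om xs x265 orb r265 = true := by decide +kernel
theorem q266 : closeb 18 ps18 base7 rgR om xs x266 orb r266 = true := by decide +kernel
theorem q267 : closeb 18 ps18 base7 rgR om xs x267 orb r267 = true := by decide +kernel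
theorem q268 : closeb 18 ps18 base7 rgR om xs x268 orb r268 = true := by decide +kernel
theorem q269 : closeb 18 ps18 base7 rgR om xs x269 orb r269 = true := by decide +kernel
theorem q270 : closeb 18 ps18 base7 rgR om xs x270 orb r270 = true := by decide +kernel
theorem q271 : closeb 18 ps18 base7 rgR om xs x271 orb r271 = true := by decide +kernel
theorem q272 : closeb 18 ps18 base7 rgR om xs x272 orb r272 = true := by decide +kernel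
theorem q273 : closeb 18 ps18 base7 rgR om xs x273 orb r273 = true := by decide +kernel
theorem q274 : closeb 18 ps18 base7 rgR om xs x274 orb r274 = true := by decide +kernel
theorem q275 : closeb 18 ps18 base7 rgR om xs x275 orb r275 = true := by decide +kernel

theorem c22 : Rows xc22 :=
  Rows.cons q264 (Rows.cons q265 (Rows.cons q266 (Rows.cons q267 (Rows.cons q268 (Rows.cons q269 (Rows.cons q270 (Rows.cons q271 (Rows.cons q272 (Rows.cons q273 (Rows.cons q274 (Rows.cons q275 Rows.nil)))))))))))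

end Cfsg.Agent.H698.U33.Clo
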