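import Cfsg.Agent.H698.U33.Clo.Rows

/-!
# S5525: the closure certificate, rows 276 to 281 (helper698; data of helper819, helper763)
-/

set_option autoImplicit false
set_option maxRecDepth 100000
set_option Elab.async false

namespace Cfsg.Agent.H698.U33.Clo

def r276 : List (ℕ × Bool × List ℕ) := [(43, true, [3, 4, 3, 4, 0, 4, 0, 4, 0, 4, 3, 1, 0]), (90, true, [2, 4, 0, 1, 3, 1, 0, 1, 3, 4, 0, 1, 0, 1, 3, 1, 0]), (1, true, [3, 1, 0, 4, 0, 4, 3, 4, 0, 4, 3, 4, 0]), (243, true, [4, 3, 1, 3, 1, 3, 1, 3, 1, 0, 4, 3]), (209, false, [3, 4, 3, 4, 3, 4, 0, 4, 0, 1, 0]), (90, true, [1, 0, 2, 4, 3, 1, 0, 1, 0, 4, 0, 4]), (255, false, [0, 1, 3, 4, 0, 4, 0, 1, 3, 1, 0, 4, 3, 1, 3, 4]), (53, false, [0, 4, 3, 4, 3, 4, 0, 1]), (242,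 true, [0, 1, 3, 1, 3, 4, 0, 4, 0, 4, 3]), (96, false, [1, 3, 1, 3, 4, 0, 4, 3, 1, 0, 4, 0, 1]), (226, true, [3, 1, 3, 4, 0, 1, 0, 1, 0, 1, 0, 4]), (71, false, [2, 4, 3, 1, 0, 1, 0, 1, 0, 1, 3]), (80, true, [4, 0, 1, 3, 1, 0, 4, 0, 4, 0, 1, 3, 1, 0, 4]), (276, false, [1, 3, 1, 0, 1, 3, 4, 0, 4, 3, 4, 0, 4, 0]), (113, false, [1, 2, 0, 4, 0, 4, 3, 4, 3, 1]), (102, false, [1, 0, 1, 0, 1, 2, 0, 1, 3, 4, 3, 4, 0]), (42, false, [4, 0, 1, 0, 4, 3, 1, 3, 1, 0, 1, 0, 1, 3, 4]), (172, true, [1, 2, 0, 4, 0, 4, 0, 4, 0, 1, 3, 1, 0, 4, 3, 4, 0]), (218, false, [2, 0, 1, 0, 1, 3, 1, 0, 1, 0, 4, 0, 4, 3, 1]), (86, false, [1, 2, 0, 1, 0, 1, 3, 4, 0, 4, 0, 4, 3, 1, 3]), (253, false, [0, 2, 4, 0, 4, 3, 1, 0, 1, 3, 4, 3, 1, 0, 1, 0, 4]),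 (65, true, [0, 4, 3, 4, 3, 1, 0, 1, 0, 1, 3, 1]), (223, true, [0, 1, 2, 0, 1, 3, 1, 3, 1, 0, 1, 0, 1, 3, 4, 0, 4, 3]), (57, false, [1, 3, 1, 3, 4, 0, 1, 3, 1, 0, 4, 0, 4, 0, 4, 0]), (234, false, [4, 0, 4, 3, 4, 3, 1, 0, 1, 0, 1, 0, 4, 3, 4]), (261, true, [0, 4, 0, 1, 0, 1, 3, 1, 3, 1, 0, 1, 0, 1, 3, 4, 3]), (27, false, [1, 3, 1, 3, 1, 0, 4, 0, 1]), (233, false, [4, 0, 1, 3, 1, 3, 1, 0, 1, 3, 1, 0, 4]), (276, false, [0, 4, 0, 1, 3, 1, 0, 4, 3, 1, 0, 1, 0]), (123, false, [0, 1, 2, 0, 1, 3, 1, 0, 1, 0, 4, 3, 4]), (226, true, [0, 1, 2, 0, 1, 0, 1, 0, 1, 3, 1, 3, 4, 0]), (235, true, [3, 1, 0, 4, 0, 4, 0, 4, 3, 1, 3, 4, 0, 4]), (111, false, [2, 0, 4, 3, 1, 0, 4, 0, 4, 3, 1, 0, 4, 3]), (75, false, [3, 4, 0, 4, 0, 4, 0, 4, 3,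 1, 3]), (222, true, [1, 0, 1, 0, 1, 2, 0, 1, 0, 1, 3, 4, 0, 1, 0, 1, 3]), (62, true, [1, 3, 4, 3, 4, 3, 4, 0, 4, 3, 1]), (172, true, [1, 0, 4, 0, 1, 3, 1, 3, 1, 0, 1, 3, 4, 3]), (88, true, [1, 0, 1, 2, 0, 1, 0, 4, 0, 4, 0, 1, 3, 1, 0]), (193, true, [1, 3, 1, 3, 4, 0, 1, 3, 1, 3, 4]), (117, false, [1, 0, 2, 4, 0, 4, 3, 1, 0, 1, 0, 4, 3, 1]), (71, true, [1, 3, 1, 0, 4, 3, 4, 3, 4, 0, 4, 3, 4, 3]), (237, false, [1, 0, 1, 2, 0, 4, 0, 1, 3, 1, 3, 4, 0, 4, 3, 1]), (1, false, [0, 4, 0, 1, 0, 1, 3, 1, 0, 4, 0, 4]), (97, false, [1, 0, 2, 4, 0, 4, 0, 4, 3, 4, 3, 4, 3, 4]), (111, true, [1, 0, 1, 2, 0, 1, 0, 4, 3, 4, 3, 1]), (96, false, [1, 0, 1, 0, 4, 3, 1, 3, 1, 0, 1, 0, 4, 3, 4]), (268, false, [1, 0, 2, 4, 3, 1, 0, 1, 3, 4, 3,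 4, 3, 1, 3]), (263, false, [1, 0, 1, 0, 4, 0, 4, 3, 4, 0, 1, 0, 4]), (256, false, [1, 0, 1, 2, 0, 4, 3, 4, 3, 1]), (115, true, [2, 0, 1, 0, 1, 3, 1, 3, 1, 3, 4, 0, 4]), (88, true, [0, 2, 4, 0, 1, 0, 1, 0, 4, 0, 4, 3, 1, 0, 4]), (87, false, [1, 0, 1, 3, 4, 0, 4, 0, 4, 0, 1, 3, 4, 3]), (211, true, [1, 3, 4, 0, 1, 3, 1, 3, 1, 0, 4, 3, 1, 3]), (83, false, [0, 4, 3, 4, 0, 1, 3, 1, 3, 4, 0, 1, 0]), (213, true, [1, 3, 1, 0, 1, 0, 1, 0, 4, 0, 4, 0, 4, 3, 1, 3]), (221, true, [1, 3, 4, 3, 4, 0, 4, 0, 4, 0, 4, 3, 4, 3, 4, 3, 1]), (127, true, [4, 0, 4, 3, 4, 3, 1, 0, 1, 3, 4, 3, 4]), (88, true, [3, 1, 3, 1, 3, 4, 0, 4, 0, 4, 0, 4, 3]), (183, true, [2, 4, 3, 1, 0, 1, 3, 4, 0, 4, 3, 1, 3, 4, 0, 4]), (200, false, [1, 0, 1, 3, 4, 3,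 1, 0, 1, 0, 4, 3, 1, 3, 1, 0]), (190, false, [1, 0, 1, 0, 2, 4, 0, 4, 0, 1, 0]), (276, false, [3, 1, 0, 4, 3, 1, 0, 1, 3, 4, 0, 1]), (237, true, [1, 0, 1, 3, 1, 0, 1, 0, 4, 0, 4, 3, 1, 0, 1]), (84, false, [1, 0, 2, 4, 3, 4, 0, 1, 0, 1, 3, 1, 3]), (223, true, [1, 0, 1, 0, 1, 0, 1, 2, 0, 1, 0, 1, 3, 1, 3, 4, 0, 1]), (200, true, [2, 4, 0, 4, 3, 4, 3, 4, 3, 4, 0, 4, 0, 1]), (154, true, [0, 1, 0, 1, 0, 4, 3, 4, 0, 1, 3, 1, 3, 1, 3]), (33, true, [4, 0, 4, 3, 4, 0, 1, 0, 1, 0, 1]), (167, true, [3, 1, 0, 1, 3, 4, 3, 1, 0, 1, 3, 4, 0, 4]), (5, true, [1, 2, 0, 1, 3, 4, 0, 4, 0, 4, 3, 4, 3, 1, 0]), (187, true, [2, 0, 4, 0, 1, 3, 1, 3, 1]), (198, true, [1, 0, 1, 0, 1, 0, 1, 0, 2, 4, 3, 4, 0]), (23, true, [2, 0, 1, 0, 4, 3, 4, 0,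 4, 0, 4, 3, 4, 3, 4]), (163, true, [1, 0, 1, 0, 1, 2, 0, 1, 3, 1, 0, 1, 0, 4]), (66, false, [0, 1, 3, 4, 3, 4, 3, 1, 0, 4, 3, 4, 3, 4]), (112, false, [1, 3, 1, 0, 1, 3, 1, 3, 4, 0, 1, 0, 1]), (3, false, [0, 4, 3, 1, 0, 1, 3, 4, 3, 4, 0, 4]), (91, true, [0, 1, 0, 1, 3, 1, 0, 4, 3, 4, 3, 4, 3, 1, 0]), (6, false, [1, 2, 0, 1, 0, 4, 3, 4, 3, 4, 3, 4, 0, 1, 3, 1, 0]), (183, true, [3, 4, 3, 4, 3, 4]), (79, true, [0, 1, 0, 1, 0, 1, 3, 4, 0, 4, 3, 4, 3, 1]), (150, false, [2, 4, 0, 4, 0, 4, 3, 4, 3, 1]), (98, false, [1, 0, 2, 4, 3, 4, 0, 1, 3, 1, 0, 4, 3, 1]), (42, true, [0, 2, 4, 0, 1, 3, 4, 0, 4, 0, 4, 0, 4, 0]), (89, false, [3, 1, 0, 1, 0, 4, 3, 4, 0, 1, 0, 1, 3, 4, 3]), (212, false, [0, 2, 4, 3, 4, 3, 1, 0, 1, 0, 1, 0, 4,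 0, 4, 0]), (7, true, [0, 1, 3, 1, 3, 4, 0, 4, 3, 1, 3, 1, 0, 4, 3]), (139, true, [1, 0, 1, 0, 1, 0, 4, 0, 4, 0, 4, 3]), (84, true, [0, 4, 0, 1, 3, 4, 3, 4, 0, 1, 3, 4]), (167, true, [1, 3, 4, 3, 4, 3, 4, 3, 4, 3]), (235, false, [2, 4, 0, 4, 0, 4, 3, 1, 3, 1, 0, 1, 0, 1, 3, 4, 3]), (191, false, [1, 3, 1, 3, 1, 0, 1, 3, 1, 0, 4, 0, 4, 3]), (137, false, [0, 2, 4, 0, 1, 0, 4, 3, 4, 0, 1, 0, 1, 3]), (22, false, [1, 2, 0, 4, 3, 4, 3, 4, 0, 1, 0, 4]), (158, true, [1, 0, 4, 3, 4, 3, 1, 0, 4, 3]), (106, false, [1, 3, 1, 3, 1, 0, 1, 3, 4, 3, 1, 0, 4, 3]), (116, true, [0, 4, 3, 4, 0, 4, 3, 1, 3]), (220, false, [0, 1, 0, 1, 3, 4, 3, 4, 3, 4, 0, 4, 3, 4, 0]), (71, false, [0, 2, 4, 3, 1, 3, 1, 0, 1, 0, 1, 3, 1, 0, 1]), (236, true,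 [3, 1, 3, 4, 3, 4, 0, 4, 3, 4, 0, 1, 3]), (158, false, [2, 0, 1, 3, 4, 0, 4, 3, 1, 3, 1, 0, 1, 0, 1, 0]), (235, true, [0, 1, 0, 1, 3, 4, 0, 4, 0, 4, 0, 1, 3, 1]), (253, false, [2, 0, 1, 3, 1, 0, 1, 3, 4, 3, 1]), (276, false, [0, 4, 0, 1, 3, 1, 0, 4, 3, 1, 0, 1, 0]), (101, false, [0, 1, 0, 2, 4, 0, 4, 3, 4, 0, 4, 3, 1, 0]), (118, false, [0, 1, 0, 4, 3, 1, 3, 4, 0, 4, 0, 1, 3, 1, 0, 4]), (151, true, [0, 2, 4, 0, 1, 3, 4, 0, 4, 3, 4, 3, 1, 0, 4]), (172, true, [1, 0, 1, 2, 0, 4, 0, 4, 3, 4, 3, 4, 3, 4, 0, 4]), (191, false, [0, 4, 0, 4, 0, 4, 3, 1, 3, 1, 3, 4]), (123, true, [1, 2, 0, 1, 0, 4, 3, 4, 0, 4, 3, 4, 0, 1]), (163, false, [2, 0, 1, 0, 4, 3, 4, 3, 1, 0, 1, 0]), (30, false, [0, 1, 0, 1, 3, 1, 3, 4, 0, 4, 3, 1])]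
def r277 : List (ℕ × Bool × List ℕ) := [(148, true, [2, 4, 3, 4, 3, 1]), (84, false, [1, 2, 0, 1, 0, 4, 3, 1, 0, 1, 0, 4, 0, 4]), (181, false, [0, 4, 3, 1, 0, 1, 0, 1, 3, 4, 0, 4, 3, 1, 3, 1, 0]), (273, true, [3, 4, 0, 1, 3, 4, 0, 4, 3, 4, 0]), (217, false, [2, 0, 1, 3, 1, 0, 4, 3, 1, 3, 1, 0, 4]), (22, true, [3, 4, 3, 1, 0, 1, 0, 4, 3, 4, 3, 1, 0, 1]), (220, false, [0, 4, 0, 4, 0, 4, 3, 1, 0]), (211, false, [1, 0, 1, 2, 0, 1, 3, 1, 0, 4, 0, 4, 3, 1]), (151, false, [0, 1, 0, 1, 0, 4, 0, 4, 0, 4, 3, 4, 3, 4, 0, 4]), (69, false, [2, 0, 1, 0, 1, 3, 4, 0, 4, 3, 1]), (231, true, [1, 3, 1, 0, 4, 3, 4, 3, 4, 3, 1, 0, 1, 3, 1]), (262, false, [2, 4, 0, 1, 0, 1, 0, 1, 3, 1, 3, 1, 0, 1, 3, 1]), (5, true, [2, 0, 1, 3, 4, 0, 4, 3,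 1, 3, 1, 3, 4, 3, 4, 3]), (253, true, [2, 0, 1, 3, 1, 0, 1, 0, 4, 3, 4, 3, 4, 3, 4, 0, 4]), (57, true, [0, 2, 4, 3, 1, 3, 1, 3, 1, 0, 4, 3, 4, 0, 4]), (268, true, [4, 3, 4, 3, 4, 0, 4, 0, 4, 0, 4, 3, 1, 3]), (229, true, [0, 1, 2, 0, 1, 0, 1, 3, 1, 0, 4, 3, 1, 0, 1]), (132, true, [4, 0, 1, 3, 4, 3, 1, 0, 1, 3]), (21, true, [0, 1, 3, 1, 3, 4, 0, 4, 0, 4, 0]), (110, true, [1, 0, 1, 2, 0, 1, 3, 1, 0, 1, 0, 1, 3, 1, 3, 4]), (96, false, [4, 3, 4, 0, 4, 3, 4, 3, 4, 0, 4, 0, 4, 0, 4]), (153, true, [0, 2, 4, 3, 1, 0, 1, 0, 4, 0, 4, 3, 4, 3, 4, 3, 4]), (66, true, [0, 4, 3, 1, 3, 1, 3, 1, 0, 4, 0, 4, 3, 4, 3, 1]), (277, false, [0, 1, 3, 4, 3, 1, 0, 1, 3, 1, 3, 1, 0, 4]), (192, true, [2, 0, 1, 0, 1, 0, 1, 0, 1, 0, 4, 0, 4, 0, 1]),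 (87, true, [4, 3, 1, 0, 4, 3, 4, 3, 1, 3]), (46, true, [2, 0, 1, 3, 1, 0, 4, 3, 1, 3, 4, 0, 4, 3, 4]), (89, true, [0, 1, 0, 1, 0, 1, 0, 2, 4, 0, 4, 3, 1]), (154, true, [3, 4, 3, 1, 3, 1, 0, 4, 3, 4, 3, 4, 3]), (225, false, [2, 0, 1, 0, 1, 0, 1, 3, 1, 3, 4, 0, 4, 0]), (277, false, [4, 0, 4, 3, 4, 0, 1, 0, 1, 0, 1, 3, 1, 3]), (7, false, [2, 0, 4, 3, 4, 0, 4, 0, 4, 3, 4]), (61, false, [0, 1, 0, 2, 4, 0, 1, 0, 4, 3, 4, 3, 1, 0, 1]), (152, true, [1, 2, 0, 1, 0, 4, 3, 4, 0, 1, 0, 1, 3, 4, 3, 4]), (115, false, [3, 1, 3, 4, 0, 1, 3, 1, 3, 4, 3, 4, 3]), (98, true, [0, 4, 3, 4, 0, 1, 3, 4, 3, 4, 3, 4, 3]), (269, true, [1, 3, 4, 0, 1, 3, 1, 0, 1, 0, 4, 3, 4, 3]), (88, true, [4, 0, 1, 3, 4, 3, 4, 0, 4, 3, 1, 3, 4, 0, 4]), (60, false,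 [2, 4, 0, 4, 3, 4, 3, 4, 3, 4, 3, 4, 3]), (66, true, [1, 3, 1, 0, 1, 3, 1, 0, 4, 0, 4, 3, 1]), (92, false, [0, 1, 3, 1, 3, 1, 3, 4, 3, 4, 0, 1, 3, 1, 3, 4]), (57, true, [0, 1, 3, 4, 3, 4, 0, 4, 3]), (229, false, [1, 0, 1, 0, 4, 0, 4, 3, 4]), (141, true, [0, 1, 3, 1, 0, 1, 0, 1, 0, 1, 3, 1, 3, 1, 3]), (116, true, [0, 2, 4, 3, 4, 0, 1, 0, 1, 3, 4, 0, 4]), (3, true, [4, 3, 4, 3, 1, 0, 1, 0, 4, 0, 4, 3, 1]), (54, true, [0, 2, 4, 3, 1, 0, 1, 0, 4, 0, 4, 0, 4]), (95, false, [2, 0, 4, 0, 1, 0, 1, 3, 4, 3, 4, 0, 1, 3, 4]), (67, false, [0, 1, 3, 1, 3, 4, 0, 4, 3, 1, 0, 4]), (111, false, [2, 4, 0, 1, 0, 1, 3, 4, 0, 4, 3, 1, 3, 1, 3, 4, 3]), (277, true, []), (277, false, [1, 3, 4, 0, 1, 0, 1, 3, 4, 0, 4, 0]), (166, false, [0, 1,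 3, 4, 3, 4, 0, 4, 3, 4, 0, 4, 3]), (221, false, [0, 4, 0, 1, 3, 1, 0, 4, 3, 4, 3, 4, 0, 1]), (201, false, [1, 3, 1, 0, 4, 0]), (90, true, [0, 1, 2, 0, 4, 0, 1, 3, 4, 3, 4, 0, 4, 3, 1, 3, 4]), (3, false, [1, 0, 4, 3, 1, 3, 1, 0, 1, 0, 4, 3, 4, 0, 1]), (211, false, [4, 0, 4, 3, 4, 3, 4, 3, 4, 0, 4, 0, 4, 0, 4, 3]), (47, false, [0, 1, 0, 4, 0, 4, 0, 1, 3, 1, 0, 1, 0, 1, 0, 4]), (255, true, [4, 0, 1, 0, 1, 0, 1, 3, 4, 0, 4, 3, 1]), (90, false, [0, 1, 0, 1, 2, 0, 1, 0, 4, 0, 4, 3, 1, 0, 1, 3]), (197, false, [0, 2, 4, 0, 4, 0, 4, 3, 4, 3, 4, 0, 4, 0, 1, 0]), (254, true, [0, 1, 2, 0, 4, 3, 4, 3, 1, 0, 4, 0, 4, 0, 4]), (19, false, [1, 2, 0, 1, 0, 4, 3, 4, 0, 1, 3, 1, 3, 1, 3]), (88, true, [3, 4, 0, 4, 0, 4, 3, 4, 0, 4, 3, 4,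 3, 1, 3]), (254, true, [2, 0, 4, 0, 4, 3, 4, 3, 4, 3, 1, 0, 1, 0, 4, 0]), (92, false, [0, 2, 4, 0, 1, 0, 1, 0, 4, 3, 1, 0, 1, 0, 4, 0]), (182, false, [2, 4, 0, 1, 3, 4, 0, 4, 0, 4, 0, 4, 3, 4, 3, 4]), (49, true, [1, 0, 4, 3, 1, 0, 1, 3, 4, 3, 4, 3, 1, 0]), (167, false, [4, 0, 1, 0, 1, 0, 1, 3, 1, 3, 1, 0, 1]), (214, false, [2, 0, 4, 3, 4, 0, 1, 3, 1, 0, 1, 3, 4]), (66, true, [1, 0, 1, 3, 1, 3, 1, 0, 1, 0, 4, 3, 4]), (85, false, [0, 1, 3, 1, 3, 4, 3, 4, 0, 4, 0, 4, 3, 4, 3]), (209, false, [2, 0, 4, 0, 4, 3, 1, 3, 1, 3]), (190, true, [0, 1, 2, 0, 1, 0, 1, 3, 4, 3, 1, 0, 4, 0]), (214, false, [4, 3, 1, 0, 1, 0, 1, 0, 1, 0, 1, 3, 4]), (277, false, [1, 3, 4, 0, 4, 0, 4, 0, 4, 3, 1, 3, 4, 0]), (64, false, [0, 1, 2, 0, 4, 0,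 4, 0, 1, 3, 1, 3, 4]), (89, false, [0, 2, 4, 3, 4, 3, 4, 3, 4, 0, 1, 0]), (57, false, [0, 1, 3, 1, 3, 4, 0, 1, 0, 1, 3, 1, 3]), (73, false, [1, 3, 1, 3, 1, 0, 4, 3, 1, 3, 1, 3, 1, 0]), (277, false, [0, 4, 0, 4, 3, 4, 3, 4, 3, 1, 0, 1, 3, 1]), (61, false, [0, 1, 3, 4, 0, 4, 3, 1, 3, 4, 0, 4, 0, 1]), (223, true, [0, 2, 4, 3, 4, 0, 4, 3, 4, 3, 4, 0, 4, 3, 1, 0, 4]), (148, true, [0, 2, 4, 0, 4, 3, 4, 0, 4, 3, 1, 3, 1]), (29, false, [0, 4, 3, 4, 0, 4, 3, 1, 3, 4, 0, 4]), (88, true, [1, 3, 1, 3, 1, 3, 1, 0, 4, 3, 4, 0, 4, 3, 4, 3]), (154, true, [0, 2, 4, 0, 1, 0, 1, 3, 1, 3, 1, 0, 4, 0, 4, 3, 1]), (235, true, [0, 2, 4, 0, 1, 0, 1, 0, 4, 3, 4, 0, 4, 3]), (274, true, [2, 0, 1, 3, 4, 3, 4, 0, 1, 0, 1, 3]), (90, true, [2, 4, 3,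 4, 3, 1, 0, 1, 0, 4, 3]), (272, true, [1, 0, 1, 2, 0, 1, 0, 4, 3, 1, 0]), (219, true, [0, 1, 0, 1, 3, 4, 3, 4, 3, 1, 0, 1, 3, 4, 3, 1]), (277, false, [1, 0, 1, 0, 1, 3, 1, 3, 4, 3, 4, 3, 4, 0, 4, 0]), (66, true, [3, 4, 0, 1, 3, 1, 0, 1, 0, 1, 0, 4, 0, 4, 3, 1]), (116, true, [1, 2, 0, 4, 3, 4, 3, 4, 0, 1, 3, 1, 0, 4]), (110, false, [2, 0, 4, 3, 1, 0, 1, 3, 1, 3, 4, 0, 4, 3, 4]), (200, true, [0, 1, 2, 0, 4, 0, 1, 3, 1, 0, 4, 0]), (109, false, [3, 1, 0, 1, 0, 1, 3, 4, 0, 1, 0, 1, 3, 1, 0]), (258, false, [4, 3, 1, 0, 1, 0, 1, 0, 1, 3, 1, 3, 1, 3, 4]), (274, true, [4, 0, 4, 0, 4, 0, 4, 3, 1, 0]), (85, false, [1, 2, 0, 4, 0, 4, 3, 4, 3, 4, 3, 4, 0, 1, 3]), (212, false, [1, 0, 4, 3, 4, 3, 4, 3, 4, 3, 4, 0, 4]), (223, true, [1,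 0, 2, 4, 3, 1, 0, 4, 0, 1]), (86, true, [2, 0, 4, 0, 4, 3, 1, 0, 1, 0, 1]), (199, true, [0, 1, 0, 2, 4, 0, 1, 3, 1, 0, 1, 0, 1, 3, 4, 0, 4]), (194, false, [2, 4, 3, 1, 0, 1, 0, 4, 0, 4, 0]), (43, true, [2, 4, 3, 4, 0, 4, 3, 1, 0, 4, 0, 4, 3, 1]), (110, false, [0, 1, 0, 4, 0, 4, 3, 4, 3, 4, 0, 4, 0, 4, 0, 4, 0]), (23, false, [1, 2, 0, 1, 0, 4, 0, 4, 3, 1, 0, 1, 0, 4]), (5, true, [2, 4, 0, 4, 0, 4, 0, 1, 3, 4, 3, 4, 0, 4, 0]), (106, true, [0, 1, 2, 0, 4, 0, 4, 3, 4, 3, 1, 0, 1, 0, 1, 0, 4])]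
def r278 : List (ℕ × Bool × List ℕ) := [(154, false, [2, 0, 4, 3, 1, 0, 1, 3, 4, 0, 1, 0]), (168, true, [3, 1, 3, 1, 3, 1, 0, 1, 3, 1, 3]), (122, false, [2, 4, 3, 4, 3, 4, 0, 1, 3, 4, 0]), (179, true, [1, 2, 0, 1, 3, 1, 0, 4, 3, 4, 3, 1, 0, 1, 0, 1, 0]), (7, false, [1, 3, 4, 3, 1, 0, 1, 3, 1, 0, 1]), (103, true, [0, 1, 0, 4, 3, 4, 0, 1, 3, 1, 3, 4, 0, 4, 0]), (103, true, [0, 1, 0, 1, 3, 1, 3, 4, 3, 4, 3, 4, 3]), (47, true, [1, 0, 2, 4, 3, 1, 0, 1, 3, 4, 0, 1, 3]), (67, true, [1, 0, 1, 0, 1, 3, 4, 0, 1, 0, 1]), (225, true, [3, 4, 0, 1, 3, 1, 3, 4, 0, 1, 3]), (244, true, [1, 0, 1, 0, 1, 2, 0, 1, 0, 4, 3, 1, 3, 1, 3]), (21, false, [4, 0, 1, 3, 4, 3, 4, 0, 1, 3, 4, 3]), (7, false, [1, 2, 0, 1, 0, 1, 3, 1, 0, 4, 0, 4, 0]),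 (62, false, [0, 1, 0, 1, 0, 1, 2, 0, 4, 3, 4, 0, 1, 0]), (183, false, [1, 0, 4, 0, 1, 3, 4, 3, 4, 0, 4, 0, 4, 3, 1]), (47, true, [1, 2, 0, 1, 0, 4]), (168, true, [1, 0, 1, 2, 0, 1, 0, 1, 3, 1, 3, 1, 3]), (21, false, [2, 0, 4, 0, 1, 3, 1, 3, 1, 0, 4, 3, 4, 3, 4]), (7, false, [0, 2, 4, 0, 4, 0, 4, 3, 1, 0, 1, 3, 4, 3, 1]), (78, false, [1, 3, 1, 0, 1, 3, 1, 0, 1, 0, 1, 3, 4, 0, 4]), (67, true, [4, 0, 4, 3, 4, 3, 1, 0, 1, 3, 4, 3, 4, 3, 4, 3]), (278, true, []), (225, true, [3, 1, 3, 4, 3, 4, 0, 4, 0, 4, 3]), (19, true, [1, 0, 2, 4, 3, 4, 3, 4, 0, 1, 3, 1, 3, 4]), (131, false, [4, 3, 4, 3, 1, 0, 4, 0, 4, 0]), (183, false, [2, 0, 1, 3, 1, 3, 4, 3, 4, 0, 4, 3, 4, 3, 4]), (183, false, [1, 2, 0, 1, 0, 4, 0, 4, 0, 1, 3, 4, 3, 4,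 0, 4]), (131, false, [0, 1, 3, 4, 3, 1, 0, 1, 0, 1, 0, 4, 3, 4]), (47, true, [0, 1, 0, 1, 0, 1, 3, 1, 3, 4, 3, 4, 0, 4]), (154, false, [0, 4, 0, 1, 0, 1, 0, 4, 0, 4, 3, 1]), (81, true, [0, 2, 4, 3, 4, 0, 4, 3, 4, 3, 1, 0, 1]), (179, true, [4, 3, 4, 3, 1, 0, 4, 0, 4, 3, 4, 3, 4]), (19, true, [2, 0, 1, 3, 1, 0, 1, 3, 1, 0, 4, 3, 4, 3, 1, 0]), (85, true, [0, 2, 4, 0, 4, 3, 4, 3, 4, 0, 1, 3, 4, 0]), (179, true, [1, 0, 1, 3, 4, 0, 1, 0, 1, 3, 1]), (122, false, [4, 3, 4, 3, 4, 0, 4, 3, 4, 0, 4, 3, 4, 3, 4, 0]), (273, false, [2, 0, 1, 3, 1, 3, 4, 0, 1, 0, 1, 3, 4, 0, 1]), (78, false, [3, 1, 3, 1, 0, 1, 0, 1, 0, 4, 3]), (154, false, [0, 2, 4, 0, 1, 0, 1, 3, 4, 3, 4, 0, 4, 0, 4]), (21, false, [4, 3, 1, 3, 1, 0, 1, 0, 1, 3, 4,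 0, 1, 3]), (275, true, [0, 2, 4, 3, 1, 0, 1, 3, 4, 0, 4, 0, 4, 3, 4]), (78, false, [4, 3, 4, 3, 4, 3, 1, 0, 4, 3, 4, 0]), (122, false, [1, 0, 2, 4, 0, 1, 0, 1, 3, 4, 3, 1, 0, 1, 0, 4]), (122, false, [1, 0, 4, 0, 4, 3, 1, 3, 1, 0, 1, 0, 1, 3, 4, 0]), (167, true, [2, 4, 3, 1, 0, 1, 3, 4, 3, 1, 0, 1, 0]), (273, false, [0, 1, 2, 0, 4, 0, 1, 3, 1, 0, 1, 0, 4, 3, 4, 3]), (67, true, [1, 0, 1, 0, 4, 3, 4, 3, 4, 0, 4, 0, 4, 0, 4, 3]), (100, false, [3, 4, 0, 1, 3, 1, 3, 1, 3, 1, 0, 4, 0]), (11, false, [4, 0, 1, 3, 1, 3, 1, 0, 1, 3, 1]), (103, true, [4, 0, 1, 3, 1, 3, 4, 0, 4, 3]), (85, true, [2, 4, 0, 1, 3, 4, 3, 4, 3, 1, 0, 4, 3]), (21, false, [2, 4, 0, 4, 3, 4, 0, 1, 0, 1, 0, 1, 3, 4, 3, 1]), (19, true, [4, 0, 4, 0, 1, 3, 4,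 0, 4, 3, 1]), (167, true, [3, 4, 3, 1, 0, 1, 3, 1, 3, 4, 0, 1, 0, 1, 3, 1]), (154, false, [0, 1, 3, 1, 3, 1, 0, 1, 3, 4, 0]), (225, true, [0, 1, 3, 1, 3, 1, 0, 1, 3, 4, 3, 1, 0, 4, 0, 4]), (85, true, [1, 0, 1, 2, 0, 4, 0, 1, 3, 1, 3, 1, 0, 1, 3]), (244, true, [4, 0, 4, 3, 4, 3, 1, 0, 4, 0, 4, 3, 4, 0, 1, 3]), (275, true, [1, 0, 1, 3, 1, 0, 4, 0, 4, 0, 1]), (78, false, [0, 1, 0, 2, 4, 0, 1, 0, 1, 3, 4, 3, 1]), (168, true, [0, 1, 0, 1, 2, 0, 4, 0, 4, 0, 1]), (85, true, [1, 3, 4, 0, 4, 3, 4, 3, 4, 0, 1, 3, 1, 0]), (278, true, []), (67, true, [0, 2, 4, 3, 1, 3, 1, 0, 4, 3, 1, 0, 1, 3]), (244, true, [3, 4, 0, 1, 0, 1, 3, 4, 3, 4, 0, 1, 0]), (100, false, [1, 2, 0, 4, 0, 1, 3, 1, 3]), (11, false, [4, 0, 1, 3, 1, 3, 1, 0, 1,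 3, 1]), (100, false, [2, 0, 4, 3, 4, 0, 1, 0, 4]), (67, true, [0, 1, 2, 0, 1, 3, 1, 3, 1, 0, 4, 3, 1, 0, 1]), (78, false, [3, 1, 3, 4, 0, 4, 0, 4, 3, 4, 3, 4, 3, 4, 0, 4]), (154, false, [0, 1, 3, 4, 3, 4, 3, 1, 0, 1, 3, 4, 0, 4, 3]), (168, true, [0, 1, 0, 1, 3, 1, 0, 4, 3, 4, 3, 4, 3, 1, 3]), (103, true, [1, 0, 4, 3, 1, 0, 1, 3, 4, 3, 1, 0, 1, 0]), (103, true, [1, 3, 4, 3, 4, 3, 4, 0, 4, 3, 1, 3, 4, 0, 1]), (225, true, [0, 2, 4, 0, 4, 0, 4, 3, 4, 3, 1, 0, 1, 3, 4, 3]), (19, true, [4, 3, 4, 3, 4, 0, 4, 0, 4, 0, 1]), (81, true, [1, 0, 4, 3, 4, 0, 4, 3, 4, 3, 4, 3, 1]), (275, true, [0, 1, 0, 4, 3, 1, 0, 1, 0, 4, 0, 4, 3, 1, 0]), (183, false, [4, 3, 1, 0, 1, 3, 4, 3, 1, 0, 4, 3, 4, 0]), (273, false, [4, 0, 1, 0, 1, 3, 1,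 0, 1, 3, 1, 0, 1, 0, 1, 3]), (122, false, [3, 1, 3, 4, 3, 4, 0, 1, 3, 4, 3, 1, 0]), (122, false, [0, 1, 2, 0, 4, 0, 1, 3, 4, 3, 4, 3, 1, 0, 4, 3]), (225, true, [0, 1, 0, 1, 2, 0, 1, 0, 1, 3, 4, 0, 1, 0, 1, 0, 4]), (225, true, [0, 1, 0, 1, 2, 0, 1, 0, 4, 3, 4, 3, 4, 0, 4, 0, 1]), (21, false, [2, 4, 3, 1, 0, 4, 0, 4, 0, 1, 3, 1, 0, 1, 3]), (179, true, [0, 1, 3, 4, 0, 4, 3, 4, 3, 1, 0, 4, 0, 4, 0, 4]), (47, true, [0, 1, 2, 0, 1, 3, 4, 3, 4, 0, 4, 0, 1]), (7, false, [0, 2, 4, 0, 1, 3, 1, 0, 1, 3, 1, 3, 1, 3, 4]), (47, true, [0, 1, 2, 0, 4, 0, 1, 3, 1, 3, 4, 0, 4, 3, 4]), (168, true, [2, 0, 1, 0, 1, 3, 1, 0, 1, 3, 1, 3]), (179, true, [0, 1, 0, 1, 2, 0, 1, 0, 4, 3, 4, 0, 1, 0, 4]), (47, true, [3, 4, 0, 1, 0, 1, 3, 1, 0, 4,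 3, 4]), (167, true, [2, 0, 4, 3, 1, 3, 1, 0, 1, 0, 1, 3, 4, 3]), (81, true, [0, 1, 0, 1, 3, 1, 3, 1, 3, 4, 3, 4, 3, 4]), (19, true, [2, 4, 3, 1, 0, 1, 0, 4, 3, 4, 0, 4, 3, 4, 0]), (19, true, [1, 0, 1, 3, 1, 3, 4, 3, 4]), (131, false, [1, 0, 2, 4, 0, 4, 0, 1, 3, 4, 0, 4, 3]), (62, false, [0, 4, 3, 1, 0, 4, 3, 4, 0, 4, 3]), (78, false, [1, 0, 1, 0, 1, 0, 1, 0, 2, 4]), (67, true, [2, 4, 0, 1, 0, 1, 3, 1, 0, 1, 0, 4, 0, 4]), (7, false, [4, 0, 1, 3, 1, 0, 1, 3, 4, 0, 4, 0, 1]), (103, true, [3, 4, 0, 1, 0, 1, 3, 4, 0]), (7, false, [0, 1, 0, 4, 3, 1, 3, 1, 0, 4, 0, 4, 3]), (85, true, [0, 4, 0, 1, 3, 4, 3, 4, 0, 1, 3, 4, 3, 1, 0]), (183, false, [2, 0, 1, 3, 1, 3, 1, 0, 1, 3, 4, 3, 4, 3, 1]), (183, false, [1, 0, 4, 3, 1, 0, 1,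 3, 1, 3, 1, 0, 1, 3, 4, 0]), (85, true, [1, 0, 1, 0, 1, 0, 1, 0, 1, 3, 4, 3, 4, 0, 1, 3]), (21, false, [0, 1, 0, 1, 0, 1, 0, 1, 3, 4, 3, 4, 0]), (168, true, [1, 0, 2, 4, 0, 4, 3, 4, 0, 4, 3, 4, 3, 4, 3]), (179, true, [0, 2, 4, 0, 4, 3, 1, 3, 1, 3, 1, 0, 4, 0, 4, 0]), (154, false, [0, 1, 2, 0, 4, 0, 1, 3, 1, 0, 1, 3, 1, 3, 4, 0]), (62, false, [2, 4, 3, 4, 3, 1, 0, 1, 3, 1, 3, 4, 3])]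
def r279 : List (ℕ × Bool × List ℕ) := [(47, true, [3, 4, 3, 4, 3, 1, 0, 1, 3, 1, 3, 1, 0]), (35, true, [1, 0, 2, 4, 0, 1, 3, 1, 0, 4, 0, 1]), (104, false, [4, 0, 1, 3, 4, 0, 1]), (182, false, [4, 3, 4, 3, 1, 0, 4, 0, 4, 0, 4, 3, 1, 3, 4, 0]), (217, true, [2, 4, 0, 1, 3, 1, 0, 1, 0, 1, 3, 4, 3, 4]), (64, true, [0, 2, 4, 0, 1, 0, 1, 0, 4, 3, 4, 3, 1]), (217, true, [4, 0, 1, 0, 1, 0, 1, 3, 1, 0, 4, 3, 1, 0]), (125, false, [3, 4, 3, 4, 0, 1, 0, 1, 3, 1, 0, 1]), (260, false, [1, 3, 1, 3, 4, 0, 1, 0, 1, 0, 4]), (182, false, [3, 4, 0, 4, 3, 1, 0, 1, 0, 1, 3, 1, 0, 4]), (121, false, [2, 4, 0, 1, 0, 4, 3, 4, 3, 4, 3]), (249, true, [0, 1, 2, 0, 4, 0, 4, 3, 4, 3, 4, 0, 1, 0]), (258, false, [4, 3, 4, 0, 4, 3, 1, 3, 1, 3, 1, 0, 1,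 0]), (176, true, [3, 4, 3, 1, 0, 1, 3, 4, 3, 1]), (260, false, [4, 0, 4, 0, 4, 3, 1, 0, 1, 3, 1, 3, 4, 0]), (156, false, [2, 4, 3, 4, 0, 4, 0, 4, 3, 4, 3]), (47, true, [3, 4, 3, 4, 0, 1, 0, 1, 3, 4, 0, 1, 0, 4]), (222, true, [2, 4, 0, 1, 3, 1, 3, 4, 3, 4, 0, 4, 0, 4, 3, 4, 3]), (258, false, [0, 1, 0, 1, 0, 2, 4, 0, 4, 3, 1, 3, 1, 3, 1, 3]), (249, true, [0, 1, 0, 1, 3, 4, 0, 4, 3, 4]), (222, true, [0, 4, 3, 4, 3, 4, 3, 1, 0, 1, 3, 1, 3, 1, 0]), (274, false, [2, 4, 0, 4, 3, 1, 0, 1, 0, 1, 3, 4, 0, 4, 3]), (125, false, [2, 0, 4, 0, 4, 3, 4, 3, 4, 0, 1, 3, 1, 0, 1]), (103, false, [1, 2, 0, 1, 3, 1, 0, 1, 0, 4, 0, 4, 3, 1, 0]), (250, false, [2, 4, 0, 1, 3, 1, 0, 4, 3, 1, 3, 1]), (222, true, [1, 0, 1, 3, 1, 3, 1, 0, 4, 3, 4,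 0]), (279, true, []), (176, true, [1, 0, 1, 2, 0, 1, 3, 1, 3, 4, 3, 4, 0, 1, 3]), (56, false, [0, 4, 0, 4, 0, 1, 3, 4, 0, 4, 3, 1, 3, 4, 0, 1]), (156, false, [1, 3, 4, 3, 4, 3, 1, 0, 4, 0, 4, 0, 1, 3]), (166, false, [1, 0, 1, 2, 0, 4, 3, 4, 3, 4, 3]), (51, false, [1, 0, 4, 3, 1, 3, 1, 3, 1, 3]), (182, false, [4, 3, 4, 0, 1, 0, 1, 0, 4, 3, 4]), (64, true, [3, 4, 0, 4, 3, 4, 0, 4, 0, 4, 3, 4, 0, 1, 3, 1]), (57, true, [2, 4, 3, 1, 0, 1, 3, 1, 0, 1, 3, 1, 3, 1, 0, 4, 0]), (51, false, [0, 1, 3, 1, 0, 1, 0, 1, 3, 1, 3, 4, 3, 4, 0]), (279, false, [2, 0, 1, 3, 1, 0, 4, 3, 4, 0]), (246, true, [3, 4, 3, 1, 0, 1, 0, 4, 0, 4, 0, 4, 3, 4]), (125, false, [1, 0, 1, 2, 0, 4, 3, 4, 0, 4, 0, 4, 3]), (260, false, [1, 3, 4, 0, 4, 3, 4, 0,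 4, 3, 4, 3, 4, 3, 1]), (274, false, [2, 4, 0, 4, 3, 1, 3, 4, 0, 4, 3, 1, 0, 4]), (194, false, [0, 1, 3, 4, 3, 1, 0, 1, 3, 4, 3, 4, 0]), (156, false, [4, 3, 4, 0, 4, 3, 4, 0, 4, 0, 1, 3, 4]), (56, false, [1, 3, 4, 0, 4, 3, 1, 0, 1, 0, 1, 3]), (194, true, [1, 3, 4, 0, 1, 3, 1, 3, 1, 0, 1, 0]), (82, true, [3, 4, 0, 1, 0, 1, 3, 4, 0, 4, 3, 1, 0, 4]), (64, true, [3, 4, 3, 4, 3, 4, 3, 4, 0, 4, 0, 4]), (121, false, [2, 0, 4, 0, 4, 3, 4, 3, 4, 0, 4, 3, 4, 3]), (250, false, [1, 3, 4, 3, 1, 0, 4, 3, 4, 3, 1, 0]), (97, true, [2, 4, 3, 1, 3, 4, 0, 4, 3, 4, 3, 4, 3]), (217, true, [1, 0, 1, 0, 4, 3, 1, 3, 1, 0, 1, 0, 1, 3, 4]), (222, true, [0, 1, 3, 1, 0, 4, 0, 4, 3, 1, 3, 1, 0, 4, 3]), (57, true, [1, 0, 1, 3, 1, 3, 1, 3, 1, 0, 1,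 0]), (279, false, [2, 0, 1, 3, 1, 0, 4, 3, 4, 0]), (83, true, [3, 1, 0, 1, 0, 4, 3, 1, 3, 1, 3, 4, 0]), (57, true, [4, 0, 4, 3, 4, 3, 4, 0, 4, 0, 4, 3, 4, 3]), (258, true, [0, 2, 4, 0, 1, 0, 1, 3, 4, 0, 4]), (121, false, [4, 0, 1, 0, 4, 3, 4, 3, 4, 3]), (274, false, [2, 4, 3, 1, 0, 4, 0, 4, 3, 1, 3, 1]), (258, true, [0, 4, 0, 4, 0, 1, 3, 1, 0]), (35, true, [0, 1, 2, 0, 1, 3, 1, 3, 1, 0, 4]), (194, false, [3, 1, 3, 1, 3, 1, 3, 1, 0, 4, 3, 1]), (166, false, [4, 3, 4, 0, 1, 3, 1, 3, 4, 0, 1, 0, 1]), (64, true, [1, 0, 1, 2, 0, 4, 3, 4, 0, 1, 3, 4, 3]), (162, false, [3, 1, 0, 1, 3, 1, 3, 4]), (104, false, [0, 4, 0, 4, 3, 4, 0, 4, 0, 4, 3, 1, 0, 4, 0, 1]), (104, false, [2, 0, 1, 0, 1, 0, 4, 0, 4, 0, 4, 3, 1, 3, 4]), (104, false,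 [1, 0, 2, 4, 0, 1, 0, 1, 3, 1, 3, 1]), (222, true, [1, 0, 1, 2, 0, 4, 0, 1, 3, 1, 0, 4, 3, 1, 0, 1]), (246, true, [1, 2, 0, 4, 0, 1, 3, 4, 3, 4, 3, 1]), (125, false, [3, 1, 0, 1, 3, 4, 0, 4, 3, 4, 3, 4, 0, 1, 0, 1]), (103, false, [2, 0, 1, 0, 1, 3, 1, 0, 1, 0]), (258, true, [2, 0, 1, 3, 4, 0, 4, 3, 1, 0, 1, 0, 1]), (194, false, [0, 1, 0, 1, 2, 0, 1, 0, 1, 3, 1, 0, 1, 3, 4]), (125, false, [4, 0, 4, 3, 4, 3, 4, 3, 1, 0, 1, 3, 1]), (35, true, [0, 1, 3, 4, 3, 4, 0, 1, 3, 1, 3]), (194, true, [4, 0, 4, 3, 1, 0, 1, 0, 1, 3, 1, 3, 1]), (82, true, [1, 3, 1, 3, 4, 3, 4, 0, 4, 3, 4, 3, 1]), (258, false, [0, 4, 3, 4, 3, 1, 0, 1, 3]), (82, true, [1, 0, 2, 4, 3, 4, 3, 4, 0, 4, 0, 4]), (51, false, [1, 2, 0, 1, 3, 1, 3]), (104, false,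 [3, 1, 3, 4, 0, 4, 0, 4, 3, 4, 0, 1, 0, 1]), (182, false, [1, 2, 0, 1, 0, 1, 0, 4, 3, 1, 3, 1, 0, 1, 3, 4, 0]), (57, true, [0, 1, 2, 0, 1, 0, 1, 3, 4, 0, 1, 3, 1, 3, 1, 3]), (246, true, [0, 1, 0, 1, 2, 0, 4, 3, 4, 0, 1, 0]), (57, true, [3, 1, 3, 4, 0, 1, 3, 1, 3, 4, 0, 4, 0, 4, 3]), (83, true, [1, 3, 4, 0, 4, 0, 4, 0, 1, 0]), (97, true, [0, 1, 2, 0, 4, 3, 4, 3, 4, 3, 1, 0, 1, 3, 4]), (125, false, [1, 0, 1, 0, 1, 0, 1, 2, 0, 4, 0, 1, 3, 4, 0, 4, 0]), (103, false, [2, 4, 0, 1, 0, 1, 0, 1, 3, 4, 3, 4, 0, 1, 0]), (182, false, [2, 0, 4, 0, 4, 3, 1, 0, 1, 0, 1, 3, 1, 0, 4]), (47, true, [1, 3, 1, 0, 1, 3, 1, 3, 1, 0, 4, 3, 4, 0]), (194, true, [0, 1, 0, 1, 3, 1, 3, 4, 0, 4, 3, 1, 0, 1, 3]), (166, false, [4, 0, 4, 3, 4, 3, 4,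 3]), (182, false, [0, 2, 4, 3, 4, 0, 1, 0, 1, 0, 4, 3, 4]), (57, true, [2, 0, 1, 0, 4, 0, 4, 3, 4, 3, 4, 0, 4, 0, 4, 0, 4]), (250, false, [2, 4, 0, 4, 3, 1, 0, 1, 0, 1, 3, 4, 3]), (176, true, [3, 1, 3, 1, 0, 1, 0, 1, 0, 4]), (249, true, [4, 3, 1, 0, 1, 3, 4, 0, 1, 3, 1]), (260, false, [2, 4, 0, 1, 3, 1, 0, 4, 0, 4, 0, 4, 3, 4]), (279, true, []), (64, true, [0, 1, 3, 4, 3, 4, 3, 1, 0, 1, 3, 1, 0, 1]), (279, true, []), (64, true, [1, 0, 1, 0, 1, 0, 1, 2, 0, 4, 3, 1, 3, 1, 3]), (222, true, [1, 0, 2, 4, 3, 4, 0, 4, 3, 4, 0, 4, 3, 4]), (260, false, [2, 4, 3, 1, 3, 4, 0, 4, 3, 1, 0, 4, 0, 4, 0]), (97, true, [0, 2, 4, 3, 1, 3, 1, 3, 1, 0, 1, 3, 1]), (260, false, [1, 0, 1, 0, 1, 2, 0, 1, 0, 1, 0, 4, 3, 4, 3, 1, 0]), (83, true,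 [0, 1, 0, 1, 0, 1, 3, 1, 3, 4, 0, 4, 0, 4]), (104, false, [3, 1, 3, 1, 3, 4, 3, 4, 3, 4, 0, 1, 0, 1, 3, 1]), (56, false, [3, 1, 0, 4, 3, 4, 0, 4, 0, 4, 3, 1, 0, 4, 3]), (143, false, [4, 3, 1, 3, 4, 0, 4, 0, 4, 3])]
def r280 : List (ℕ × Bool × List ℕ) := [(255, true, [1, 0, 1, 0, 1, 0, 2, 4, 0, 1, 3, 1, 3, 1, 3]), (170, false, [0, 1, 3, 4, 3, 1, 0, 4, 0, 4, 3, 4, 0]), (183, false, [1, 0, 1, 0, 1, 2, 0, 1, 0, 4, 0, 4, 3, 1, 0, 4]), (176, false, [1, 2, 0, 1, 3, 1, 3, 1, 3, 1, 0, 4, 0, 1]), (206, true, [1, 0, 1, 3, 1, 3, 4, 0, 1, 0, 1, 3, 4]), (127, false, [0, 4, 3, 1, 0, 4, 3, 4, 3, 4, 3, 4, 0, 4, 0, 4]), (98, false, [3, 4, 3, 1, 0, 1, 0, 4, 3, 4, 0, 1, 3, 4, 3]), (123, false, [0, 1, 0, 1, 2, 0, 1, 0, 1, 3, 4, 0, 1]), (94,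 false, [1, 2, 0, 4, 3, 4, 3, 4, 0, 4, 3, 4, 0, 1, 0]), (58, true, [0, 1, 0, 1, 0, 1, 2, 0, 1, 0, 1, 0, 1, 0, 1]), (186, false, [3, 4, 3, 4, 3, 4, 0, 4, 3, 1, 3, 4]), (177, false, [0, 1, 0, 4, 0, 4, 0, 4, 0, 1, 3, 1, 0]), (70, false, [1, 0, 4, 0, 4, 3, 1, 0, 1, 0, 4, 0, 4, 0, 4]), (110, true, [1, 2, 0, 4, 0, 4, 3, 4, 0, 4, 3, 4, 0, 4]), (226, false, [1, 2, 0, 4, 3, 1, 0, 1, 0, 4, 3]), (158, false, [2, 0, 1, 3, 4, 3, 4, 3, 4, 0, 4, 0, 4, 3, 1]), (50, false, [1, 0, 4, 3, 1, 3, 1, 0, 4, 3, 1, 3, 1, 0]), (170, false, [4, 0, 4, 0, 1, 3, 1, 0, 1, 3, 1, 3]), (70, false, [2, 4, 3, 4, 0, 1, 3, 1, 3, 4, 3, 4]), (4, false, [4, 3, 4, 0, 4, 0, 4, 3, 4, 0, 4, 3, 4]), (255, true, [1, 2, 0, 4, 3, 4, 3, 4, 0, 4, 3, 4, 0, 4, 3, 4, 3, 4]),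 (232, false, [2, 0, 4, 3, 1, 0, 1, 0, 4, 3, 1]), (219, false, [0, 1, 0, 1, 3, 4, 3, 1, 0, 1, 3, 4, 0, 4, 0, 1]), (114, true, [3, 1, 0, 1, 0, 1, 0, 4, 0, 4, 0, 4, 3, 4]), (222, false, [0, 1, 3, 4, 3, 1, 0, 4, 3, 4, 0]), (191, false, [0, 1, 0, 1, 0, 4, 0, 4, 0, 4, 3, 4, 3, 4, 3]), (232, true, [0, 4, 3, 1, 3, 1, 3, 1, 0, 1, 3, 4]), (120, true, [1, 2, 0, 4, 0, 4, 0, 4, 3, 4, 0, 4, 3, 4]), (122, true, [0, 4, 0, 1, 3, 1, 0, 1, 0, 4, 0, 4, 0]), (158, false, [4, 3, 1, 3, 1, 0, 4, 3, 4, 3, 4, 0, 4]), (90, false, [2, 0, 4, 3, 1, 0, 1, 0, 4, 3, 4, 0, 4, 3]), (198, true, [0, 1, 0, 1, 3, 1, 0, 1, 3, 4, 3, 1, 0]), (178, true, [0, 1, 0, 1, 3, 4, 3, 4, 3, 1, 0, 1, 3, 1, 3, 4]), (127, false, [1, 0, 2, 4, 3, 4, 0, 4, 3, 4, 3, 4]), (98,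 false, [0, 1, 2, 0, 1, 0, 4, 3, 4, 3, 4, 0, 4, 0, 4, 0, 1]), (151, true, [4, 3, 4, 0, 4, 3, 1, 0, 1, 0, 4, 0, 4, 0, 1, 0]), (275, false, [0, 2, 4, 3, 4, 0, 4, 3, 4, 3]), (255, true, [3, 4, 0, 1, 3, 1, 0, 1]), (123, false, [1, 3, 1, 0, 1, 3, 1, 0, 1, 0, 1, 3, 1, 3]), (125, true, [0, 1, 0, 4, 3, 1, 3, 1, 3, 4, 3]), (200, true, [4, 3, 4, 0, 4, 0, 1, 3, 4, 3]), (280, true, []), (205, false, [1, 0, 1, 0, 1, 3, 4, 0, 4, 3, 4, 0, 4, 3, 1, 3]), (26, false, [3, 4, 0, 4, 0, 4, 3, 1, 0, 1, 3, 4, 0]), (227, false, [2, 4, 0, 1, 0, 4, 3]), (235, true, [2, 4, 3, 1, 0, 1, 3, 4, 0, 4, 0, 4, 3]), (67, true, [4, 3, 4, 0, 4, 0, 1, 3, 4, 3, 4, 0, 1, 0, 4]), (121, false, [0, 2, 4, 0, 4, 0, 4, 3, 4, 3, 1, 0]), (250, false, [2, 0, 1, 0, 4, 3,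 1, 3, 1, 3, 1, 0, 1]), (250, false, [2, 4, 0, 4, 0, 4, 3, 4, 3, 4, 3, 1]), (98, false, [2, 4, 0, 4, 0, 4, 3, 1, 3, 4, 0, 4, 3, 4, 3, 4]), (170, false, [0, 1, 0, 1, 0, 2, 4, 3, 4, 0, 1, 3, 1]), (91, true, [3, 1, 0, 1, 0, 1, 0, 4, 3, 1, 3, 1]), (273, false, [2, 0, 1, 3, 1, 0, 1, 0, 4, 3, 4, 0, 1, 3, 1]), (107, true, [0, 4, 0, 1, 0, 1, 3, 4, 3, 4, 0, 1, 3]), (73, true, [2, 0, 4, 0, 1, 3, 1, 3, 4, 0, 4, 3, 1, 3, 1, 3]), (122, true, [2, 4, 0, 4, 3, 4, 3, 1, 0, 1, 3, 4, 3, 1]), (186, false, [1, 0, 1, 0, 2, 4, 0, 1, 0, 1, 0, 4, 3, 4]), (200, true, [0, 1, 0, 1, 0, 2, 4, 0, 4, 3, 4]), (266, true, [3, 1, 0, 1, 3, 4, 0, 4, 0, 1, 3, 1, 0, 1]), (170, false, [0, 1, 2, 0, 4, 0, 4, 0, 4, 3, 4, 3, 4, 0, 4, 3, 4]), (126, false, [4, 0,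 4, 3, 1, 3, 4, 0, 4, 3, 4, 0, 4, 0, 4, 3]), (47, false, [2, 4, 0, 4, 3, 4, 3, 4, 0, 1, 3, 1, 0, 4, 0, 1]), (67, true, [2, 4, 0, 4, 0, 4, 0, 1, 3, 4, 3, 4, 0, 1, 0, 4]), (267, false, [1, 0, 2, 4, 0, 1, 0, 4, 3, 4, 0, 4, 3]), (105, true, [0, 2, 4, 3, 4]), (117, false, [1, 0, 1, 0, 4, 3, 1, 3, 1, 3, 4, 0, 1, 0, 4]), (105, false, [0, 1, 0, 1, 3, 1, 3, 4, 0, 4, 3, 1, 0]), (255, true, [1, 0, 1, 3, 1, 0, 1, 3, 1, 0, 1, 0, 1, 3, 4, 0, 4]), (255, true, [2, 0, 4, 0, 1, 3, 1, 3, 1, 0, 1, 0, 4, 0, 4, 0, 1]), (69, true, [2, 0, 1, 0, 1, 3, 4, 0, 1, 3, 1, 0, 4]), (156, false, [0, 4, 3, 4, 3, 4, 0, 1, 0, 1, 3, 1, 3, 4]), (122, true, [1, 0, 1, 3, 1, 3, 1, 3, 1, 0, 4, 0, 4, 3]), (126, false, [2, 4, 3, 4, 0, 4, 0, 4, 3, 4, 0, 4, 3, 4, 0,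 4, 0, 4, 3]), (219, false, [2, 0, 4, 3, 1, 0, 4, 3, 4, 3, 1, 0, 1, 3]), (20, false, [1, 0, 2, 4, 0, 1, 0, 1, 3, 4, 0, 1, 0, 1, 3]), (266, false, [0, 2, 4, 3, 4, 3, 4, 3, 4, 0, 4, 0, 4, 3]), (246, true, [3, 1, 0, 1, 0, 1, 0, 1, 3, 1, 3, 1, 0]), (273, true, [4, 0, 4, 3, 1, 0, 1, 3, 1, 3, 1, 0, 4]), (235, true, [1, 0, 1, 3, 1, 0, 1, 3, 1, 0, 4, 0, 4, 3]), (151, true, [2, 4, 3, 4, 0, 4, 0, 4, 3, 4, 3, 4, 0, 1, 3, 1, 3, 4]), (183, false, [4, 0, 4, 0, 1, 3, 4, 3, 4, 3, 1, 0, 4, 0]), (58, true, [0, 1, 0, 1, 3, 1, 0, 1, 3, 1, 3, 1, 3, 4, 0, 4]), (73, true, [3, 1, 3, 1, 3, 1, 0, 4, 3, 4, 0, 4, 0]), (60, false, [3, 4, 3, 4, 0, 4, 0, 4]), (98, false, [3, 4, 0, 1, 3, 4, 3, 4, 3, 1, 0, 4, 0, 1]), (107, true, [0, 4, 3, 1, 3, 1, 3,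 1, 3, 4, 0, 1, 0]), (251, true, [3, 1, 3, 1, 3, 1, 0, 1, 0, 1, 0, 1, 3, 1, 3]), (69, true, [3, 4, 0, 1, 3, 1, 3, 1, 3, 4, 0, 1, 0, 1, 3, 4, 3]), (156, false, [0, 2, 4, 0, 4, 3, 1, 3, 1, 3, 4]), (176, false, [0, 1, 2, 0, 4, 0, 4, 0, 1, 3, 1, 0]), (255, true, [4, 0, 4, 0, 4, 0, 4, 3, 1, 0]), (227, false, [2, 4, 3, 1, 3, 1, 3, 1, 0, 1]), (90, false, [1, 0, 4, 0, 4, 3, 1, 3, 4, 0, 4, 3, 1, 0, 1, 3, 1]), (178, true, [0, 2, 4, 0, 4, 3, 4, 0, 4, 3, 4, 0, 4, 0, 1, 3]), (91, true, [0, 1, 0, 1, 2, 0, 4, 0, 4, 0, 4, 0]), (222, false, [2, 0, 1, 0, 1, 0, 1, 3, 4, 0, 4, 3, 1, 3, 4, 0]), (110, true, [1, 3, 1, 0, 1, 0, 1, 3, 4, 0, 4, 3]), (4, false, [2, 4, 0, 4, 0, 4, 3, 1, 3, 1, 0, 4, 3, 4, 0]), (94, false, [0, 1, 2, 0, 1, 3, 4, 3,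 4, 0, 1, 0, 1, 3]), (6, true, [1, 3, 1, 3, 1, 3, 1, 0, 1, 0, 1, 3, 1, 0, 4]), (212, true, [0, 2, 4, 0, 1, 3, 1, 0, 4, 3, 4, 3, 4, 3, 4, 0, 4, 0, 1]), (6, true, [1, 0, 2, 4, 0, 4, 0, 4, 3, 4, 3, 4, 0, 1, 3]), (212, true, [4, 0, 1, 3, 1, 0, 4, 3, 4, 3, 4, 3, 4, 0, 4, 0, 1]), (191, false, [0, 2, 4, 0, 4, 0, 4, 0, 4, 3, 4, 3, 4, 3]), (226, false, [4, 3, 4, 0, 4, 3, 1, 0, 1, 0, 4, 3]), (250, false, [1, 3, 1, 0, 1, 0, 4, 0, 4, 0, 1, 3]), (125, true, [1, 2, 0, 4, 0, 4, 3, 4, 3]), (52, false, [1, 0, 1, 0, 4, 0, 4, 0, 4]), (2, true, [0, 1, 3, 1, 3, 1, 3, 1, 3, 4, 3, 4, 0]), (122, true, [1, 2, 0, 4, 0, 4, 3, 4, 0, 1, 0, 1, 3]), (174, false, [0, 1, 0, 1, 0, 4, 3, 4, 3, 4])]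
def r281 : List (ℕ × Bool × List ℕ) := [(268, true, [1, 0, 4, 3, 1, 0, 1, 3, 4, 3, 4, 0, 1]), (96, false, [1, 0, 2, 4, 3, 4, 3, 1, 0, 4, 0, 4, 3, 4, 3, 4]), (7, false, [2, 4, 0, 1, 0, 1, 3, 1, 3, 1, 0, 4, 3, 4]), (123, true, [2, 0, 1, 0, 4, 0, 4, 3, 4, 0, 1, 0]), (259, true, [0, 2, 4, 3, 1, 3, 1, 3, 1, 0, 4, 3, 4]), (164, true, [3, 4, 0, 1, 0, 1, 3, 1, 3, 1, 3, 1, 3]), (212, true, [4, 3, 1, 0, 1, 0, 4, 3, 4, 0, 4, 0, 1]), (258, true, [1, 0, 4, 0, 4, 3, 1, 0, 1, 0, 4, 0, 4, 0, 4, 0]), (270, true, [2, 4, 3, 4, 0, 4, 0, 4, 0, 4, 3, 4, 3, 1, 0]), (152, true, [3, 1, 0, 4, 3, 1, 3, 1, 3, 4, 0, 1, 0, 4]), (281, true, [0, 1, 2, 0, 4, 0, 4, 3, 1, 0]), (70, false, [4, 0, 4, 3, 1, 0, 1, 3, 1, 3, 1, 3, 4, 3]), (244, false, [0, 1,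 0, 4, 0, 4, 3, 1, 3, 1, 0, 4, 3, 1, 0]), (281, false, [1, 0, 2, 4]), (94, true, [1, 0, 4, 0, 4, 0, 1, 3, 1, 0, 4, 3, 4]), (19, false, [2, 0, 1, 0, 1, 0, 4, 0, 4, 3, 1, 3, 4, 0]), (51, false, [3, 1, 0, 4, 3, 4, 0, 1, 0]), (71, true, [0, 2, 4, 3, 4, 0, 4, 3, 4, 3, 1]), (70, false, [1, 3, 4, 3, 1, 0, 1, 0, 4, 0, 4, 0, 1, 3]), (124, true, [4, 3, 4, 0, 4, 3, 1, 3, 1, 3, 1]), (269, false, [1, 0, 2, 4, 3, 1, 0, 4, 0, 4, 3, 4, 0, 4]), (1, true, [4, 0, 1, 3, 4, 3, 1]), (221, false, [2, 0, 1, 0, 4, 3, 4, 3, 4, 3, 4, 0, 1, 3, 1, 0, 1]), (89, true, [1, 0, 2, 4, 0, 4, 3, 4, 0, 1, 3, 1, 3]), (36, true, [1, 0, 4, 0, 4, 3, 4, 3, 4, 3]), (96, true, [3, 1, 0, 1, 3, 4, 0, 4, 3, 4, 0, 4, 0]), (79, false, [1, 0, 4, 3, 4, 0, 1, 3, 1, 3, 1,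 0, 1, 3]), (30, true, [0, 1, 3, 4, 3, 1, 0, 4, 3, 4, 0, 1, 3]), (19, false, [4, 0, 1, 0, 1, 3, 4, 3, 4, 3, 4]), (213, false, [2, 4, 3, 1, 3, 4, 0, 1, 3, 1, 3, 1, 0, 1, 3, 4, 3]), (206, true, [1, 0, 1, 0, 4, 3, 4, 3, 4, 3, 1]), (191, true, [0, 1, 0, 1, 0, 2, 4, 3, 4, 0, 1, 3, 1, 3]), (269, false, [2, 0, 4, 3, 1, 0, 1, 0, 1, 3, 1, 3, 1, 0, 1, 0, 4]), (61, true, [1, 0, 1, 3, 1, 3, 4, 0, 1, 3, 1, 3, 4]), (123, true, [3, 1, 3, 4, 3, 4, 3, 1, 0, 4, 0, 4, 0, 1, 0]), (268, true, [0, 2, 4, 0, 4, 0, 1, 3, 1, 3, 1, 3, 1, 0, 1, 3, 4]), (94, false, [1, 0, 4, 3, 4, 0, 1, 3, 1, 3, 1, 0, 1, 3]), (190, true, [2, 4, 0, 1, 3, 4, 0, 4, 0, 4, 3, 4, 0, 1, 3]), (237, true, [1, 2, 0, 4, 3, 4, 0, 1, 0, 1, 3, 4, 0, 4, 3, 1]), (71, true, [0, 4,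 0, 4, 3, 1, 3, 4, 0, 4, 0, 4, 0, 1, 0]), (165, true, [1, 0, 1, 3, 1, 0, 4, 3, 4, 0, 1]), (200, true, [2, 0, 1, 0, 4, 3, 1, 0, 1, 0, 1, 3, 4, 3, 1]), (24, true, [0, 2, 4, 0, 1, 0, 1, 0, 4, 3, 4, 0, 1, 3, 1]), (24, true, [1, 0, 4, 0, 4, 3, 1, 3, 1, 0, 4, 3]), (196, true, [3, 1, 3, 1, 0, 4, 3, 4, 3, 4, 0, 4, 3, 1, 3]), (74, false, [4, 3, 4, 0, 4, 3, 1, 3, 1, 3, 4, 0]), (198, false, [1, 3, 1, 3, 4, 0, 4, 0, 4, 0, 1, 3, 4]), (264, false, [0, 1, 2, 0, 4, 3]), (17, true, [3, 1, 0, 4]), (212, true, [2, 0, 4, 3, 4, 0, 4, 0, 4, 0, 4, 3, 4, 3, 1]), (152, true, [3, 4, 3, 1, 3, 1, 0, 4, 3, 4, 0, 4, 3, 4, 0]), (244, true, [2, 0, 1, 3, 1, 0, 4, 3, 1, 3, 1]), (70, true, [4, 0, 4, 0, 1, 3, 4, 0, 4, 3, 1, 3, 1, 0, 4, 3]), (185, false,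 [1, 0, 1, 3, 4, 0, 4, 3, 4, 0, 1, 0]), (268, true, [0, 2, 4, 0, 1, 3, 1, 0, 4, 0, 4, 0, 1]), (263, false, [0, 1, 0, 2, 4, 3, 4, 0, 4, 3, 1, 3, 1]), (181, false, [0, 1, 2, 0, 4, 3, 4, 3, 4, 3, 1, 0, 1, 3]), (281, false, [0, 4, 3, 4, 0, 4, 3, 1, 0, 1, 3, 1, 0]), (53, false, [2, 0, 4, 3, 4, 0, 4, 3, 4, 0, 1, 3, 1, 0]), (200, true, [0, 1, 0, 1, 0, 1, 0, 4, 0, 4, 3, 4, 0, 4, 3]), (150, true, [1, 2, 0, 4, 0, 4, 0, 1, 3, 1, 0, 4, 3, 4, 3]), (181, false, [3, 1, 3, 1, 0, 4, 3, 4, 3, 4, 0, 4, 0, 1, 3, 1]), (177, false, [2, 0, 1, 3, 1, 3, 4, 0, 4, 3, 1]), (198, false, [1, 3, 1, 3, 4, 3, 4, 3, 4, 0, 4, 3, 4, 0]), (264, true, [0, 1, 0, 1, 3, 4, 3, 4, 3]), (281, false, [1, 0, 2, 4]), (281, false, [1, 3, 1, 3, 1, 0, 1, 3, 4, 0, 4, 3,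 1]), (281, true, [2, 0, 4, 3, 1, 0, 1, 0, 4, 3]), (270, true, [0, 4, 3, 4, 3, 4, 0, 4, 3, 4, 3, 1]), (124, true, [2, 4, 3, 1, 3, 4, 0, 4, 3, 4, 3, 4, 0, 4, 3, 1]), (237, true, [1, 3, 4, 3, 4, 3, 4, 0, 4, 3, 4, 0]), (150, false, [4, 3, 1, 0, 4, 3, 4, 0, 4, 0, 4, 3, 1, 0, 4]), (198, false, [1, 2, 0, 4, 3, 4, 3, 4, 3, 4, 0, 4]), (198, false, [3, 1, 0, 4, 3, 4, 3, 4, 3, 4, 0, 4]), (221, false, [0, 1, 3, 1, 0, 4, 3, 4, 3, 4, 0, 4, 0, 4, 3, 4, 3]), (89, true, [1, 0, 4, 3, 4, 0, 1, 0, 1, 0, 1, 3, 1, 3]), (113, true, [4, 3, 1, 3, 1, 3, 1, 0, 1, 0, 1, 3, 4, 3, 1]), (202, true, [1, 0, 2, 4, 3, 1, 0, 4, 0, 4, 3, 4, 0, 1, 3]), (79, false, [4, 0, 4, 3, 4, 0, 4, 0, 4, 3, 1, 0, 1, 3, 1]), (165, true, [1, 0, 1, 3, 1, 0, 1, 3, 1, 3, 4,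 3, 4, 0]), (7, false, [0, 1, 3, 1, 0, 1, 3, 1, 3, 1, 0, 1, 0, 1]), (268, true, [1, 3, 1, 0, 4, 3, 1, 3, 1, 0, 4, 0]), (263, false, [3, 1, 0, 4, 3, 4, 0, 4, 0, 4, 3, 4, 3]), (152, true, [2, 0, 1, 0, 1, 3, 4, 3, 4, 0, 1, 0, 1, 3, 4]), (70, false, [2, 0, 1, 3, 4, 0, 1, 0, 1, 0, 1, 3, 4, 3, 1, 0, 1]), (21, true, [0, 1, 0, 4, 3, 4, 3, 1, 0, 1, 3, 1, 0, 4]), (57, true, [1, 2, 0, 4, 0, 4, 3, 4, 0, 1, 3, 1, 3, 1, 3]), (259, true, [3, 1, 3, 1, 0, 1, 3, 1, 3, 1, 0, 1, 3, 1]), (258, true, [2, 0, 4, 3, 4, 0, 4, 3, 1, 0, 1, 0, 4]), (96, false, [0, 4, 3, 1, 3, 1, 3, 1, 0, 4, 0, 4, 0]), (21, true, [0, 2, 4, 0, 1, 0, 1, 3, 4, 0, 4, 3, 1, 0, 1, 0]), (57, true, [1, 0, 1, 0, 1, 0, 4, 3, 4, 0, 1, 0, 1, 3, 4, 3]), (0, false, [4, 0, 4, 0,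 4, 0, 1, 3, 1, 0, 1, 0]), (197, false, [0, 1, 3, 1, 0, 1, 3, 1, 0, 4, 3, 4, 3, 4, 0]), (70, true, [2, 4, 0, 1, 0, 1, 0, 4, 0, 4, 0, 4, 0, 4, 0]), (269, false, [4, 3, 4, 3, 1, 0, 1, 0, 1, 3, 1, 0, 4]), (16, false, [4, 3, 4, 3, 4, 0, 4, 3, 1, 3, 4, 0, 4, 0, 4]), (142, false, [4, 0, 1, 0, 1, 3, 4, 0, 4, 0, 4]), (190, true, [1, 3, 1, 0, 1, 3, 4, 3, 1, 0, 4, 3, 4, 3, 1, 0]), (269, false, [0, 4, 0, 4, 0, 1, 3, 1, 0, 1, 3, 1, 0, 4, 0]), (70, false, [2, 4, 3, 4, 3, 4, 0, 1, 3, 1, 3, 4, 3, 4, 0, 1, 3]), (164, true, [0, 1, 0, 1, 2, 0, 4, 3, 1, 3, 1, 0, 1, 3]), (244, false, [4, 0, 1, 3, 1, 3, 4, 0, 4, 0, 1, 3, 1, 3]), (61, true, [1, 0, 4, 0, 4, 0, 4, 3, 4, 3, 4, 3, 1, 0]), (94, true, [0, 1, 0, 1, 3, 1, 3, 1, 3, 1, 0, 1]), (96, true,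 [1, 0, 2, 4, 0, 1, 3, 1, 0, 1, 3, 4, 3, 4]), (152, true, [0, 2, 4, 3, 4, 0, 4, 3, 1, 0, 1, 3]), (244, true, [1, 0, 4, 3, 1, 3, 1, 0, 4, 0, 4, 3, 4, 3]), (51, false, [3, 1, 3, 4, 0, 4, 0, 1, 3, 1, 3, 4]), (191, true, [0, 4, 3, 4, 3, 4, 0, 1, 3, 1, 3]), (213, false, [3, 4, 3, 4, 0, 1, 0, 1, 3, 4, 3, 4, 0, 4]), (30, false, [0, 1, 2, 0, 4, 0, 1, 3, 4, 0, 4, 3, 1, 0])]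

theorem q276 : closeb 18 ps18 base7 rgR om xs x276 orb r276 = true := by decide +kernel
theorem q277 : closeb 18 ps18 base7 rgR om xs x277 orb r277 = true := by decide +kernel
theorem q278 : closeb 18 ps18 base7 rgR om xs x278 orb r278 = true := by decide +kernel
theorem q279 : closeb 18 ps18 base7 rgR om xs x279 orb r279 = true := by decide +kernel
theorem q280 : closeb 18 ps18 base7 rgR om xs x280 orb r280 = true := by decide +kernel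
theorem q281 : closeb 18 ps18 base7 rgR om xs x281 orb r281 = true := by decide +kernel

theorem c23 : Rows xc23 :=
  Rows.cons q276 (Rows.cons q277 (Rows.cons q278 (Rows.cons q279 (Rows.cons q280 (Rows.cons q281 Rows.nil)))))

end Cfsg.Agent.H698.U33.Clo
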