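import Cfsg.Agent.H698.U33.Clo.Rows

/-!
# S5525: the closure certificate, rows 36 to 47 (helper698; data of helper819, helper763)
-/

set_option autoImplicit false
set_option maxRecDepth 100000
set_option Elab.async false

namespace Cfsg.Agent.H698.U33.Clo

def r36 : List (ℕ × Bool × List ℕ) := [(270, false, [1, 3, 1, 3, 1, 3, 4, 3, 4, 0, 1, 3, 1, 0, 4, 3]), (218, true, [1, 3, 4, 3, 1, 0, 1, 3, 4, 0, 1, 0, 1, 3, 4]), (9, false, [0, 1, 3, 1, 3, 1, 3, 1, 3, 1, 3, 1]), (58, false, [0, 1, 3, 1, 3, 1, 0, 1, 0, 1, 3]), (58, false, [0, 1, 2, 0, 1, 0, 1, 3, 1, 3, 1]), (248, true, [0, 1, 0, 1, 3, 1, 3, 1, 0, 1, 0, 1, 3, 4, 0]), (107, true, [1, 0, 1, 3, 1, 3, 4, 0, 4, 3, 1, 0, 1, 3]), (270, false, [1, 2, 0, 1, 0, 1, 0, 4, 0, 4,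 3, 1, 0, 1, 3, 4]), (3, true, [1, 0, 1, 0, 1, 3, 1, 3, 4, 0, 4, 3, 4, 3, 1]), (172, false, [2, 0, 1, 3, 1, 0, 4, 3, 1, 3, 1, 0, 4, 3, 1, 3]), (172, false, [3, 1, 0, 1, 3, 4, 0, 1, 0, 1, 3, 4, 0, 1]), (218, true, [0, 1, 2, 0, 1, 0, 4, 0, 4, 3, 4, 0, 4, 3, 4, 3, 1]), (172, false, [3, 1, 3, 1, 0, 1, 0, 1, 3, 1, 3, 4, 0, 4]), (208, true, [4, 3, 1, 0, 1, 3, 1, 0, 1, 3, 1, 3, 1, 0]), (16, false, [4, 3, 1, 0, 4, 3, 4, 3, 1, 0, 4]), (172, false, [0, 1, 2, 0, 1, 3, 1, 0, 1, 3, 4, 3, 4, 0, 1, 0]), (178, false, [3, 4, 3, 4, 3, 1, 0, 4, 3, 4, 0, 1, 0, 1]), (214, false, [4, 3, 1, 0, 4, 0, 4, 3, 4, 3, 4, 0, 4]), (214, false, [2, 4, 0, 1, 3, 4, 3, 4, 0, 4, 0, 4, 3, 4, 3]), (100, false, [0, 1, 2, 0, 4, 3, 4, 3, 1, 0, 4, 0, 4]), (73,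 false, [1, 3, 4, 3, 1, 0, 1, 3, 1, 3, 4, 3]), (100, false, [0, 1, 3, 4, 0, 4, 0, 1, 3, 4, 3, 4, 3]), (24, false, [0, 1, 0, 1, 2, 0, 4, 0, 4, 3, 1, 3, 1, 3, 1, 0, 4, 0, 4]), (197, false, [2, 4, 0, 1, 0, 1, 0, 4, 3, 1, 3, 1]), (30, true, [1, 0, 1, 3, 1, 3, 4, 0, 4, 3, 4, 0, 4, 3]), (124, false, [0, 4, 0, 1, 0, 1, 0, 1, 0, 1, 3, 4, 3, 1, 0]), (30, true, [1, 0, 1, 2, 0, 1, 0, 4, 3, 4, 0, 4, 3, 4]), (124, false, [0, 2, 4, 3, 1, 3, 1, 3, 1, 0, 1, 3, 4, 3, 1]), (178, false, [0, 1, 0, 2, 4, 3, 4, 0, 1, 0, 1, 0]), (171, false, [0, 2, 4, 0, 1, 0, 1, 0, 1, 3, 1, 3, 4]), (166, false, [0, 1, 2, 0, 1, 0, 4, 3, 4, 0, 1]), (107, true, [1, 3, 1, 0, 1, 0, 4, 3, 4, 0, 1, 3, 1]), (220, false, [1, 0, 2, 4, 0, 4, 0, 4, 0, 4, 3, 1, 3, 4]),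 (178, false, [2, 0, 4, 0, 4, 0, 1, 3, 4, 0, 4, 3, 1, 3, 1, 3]), (218, true, [0, 2, 4, 3, 4, 3, 4, 0, 4, 0, 4, 3, 4, 3, 1, 0]), (194, true, [0, 1, 3, 4, 3, 4, 3, 4, 0, 4, 0, 4, 3, 1, 0]), (73, false, [1, 2, 0, 4, 0, 1, 3, 1, 0, 1, 0, 4]), (3, true, [1, 3, 1, 3, 4, 3, 4, 3, 4, 0, 4, 0, 1]), (269, true, [1, 0, 1, 0, 1, 0, 4, 3, 1, 0, 1, 3, 4, 3, 4]), (248, true, [0, 4, 3, 1, 3, 1, 0, 1, 3, 1, 3, 1]), (51, false, [1, 0, 1, 2, 0, 1, 0, 4, 3, 1, 3, 1, 3, 1, 0, 4]), (42, false, [1, 3, 1, 3, 4, 3, 4, 0, 1, 3, 1, 3, 4]), (129, false, [3, 4, 3, 1, 0, 4, 0, 1]), (24, false, [0, 1, 3, 1, 0, 1, 0, 4, 3, 1, 3, 1, 0, 1, 3, 4, 3, 1]), (197, false, [4, 3, 1, 3, 1, 3, 4, 0, 1, 0, 1, 3]), (73, false, [0, 1, 3, 1, 3, 4, 3, 4, 3, 4, 3, 4,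 3, 4]), (244, true, [4, 0, 1, 0, 4, 3, 4, 3, 1, 0, 1, 0, 4, 0]), (8, true, [3, 4, 0]), (17, true, [1, 3, 1, 0, 4, 3, 4, 0, 4, 0, 4, 3, 1, 3, 4, 0]), (178, false, [0, 1, 0, 4, 0, 4, 3, 1, 3, 1, 0]), (136, true, [0, 1, 2, 0, 4, 0, 4, 0, 4, 3, 4, 3, 4, 3, 4]), (171, false, [4, 0, 1, 0, 1, 0, 1, 3, 1, 3, 4]), (133, true, [4, 0, 1, 0, 1, 3, 4, 0, 4, 0, 4, 3, 1, 0, 4]), (220, false, [1, 0, 4, 3, 4, 3, 4, 0, 4, 3, 1, 3, 4, 0]), (211, false, [0, 1, 0, 1, 0, 1, 3, 4, 3, 4, 0, 4, 0, 1]), (17, false, [0, 1, 3, 4, 3, 4, 0, 1, 3, 1, 3, 4]), (218, true, [0, 4, 0, 4, 0, 4, 3, 4, 3, 4, 0, 4, 0, 1, 0]), (194, true, [0, 1, 2, 0, 4, 0, 4, 0, 4, 3, 4, 3, 4, 0, 1, 0]), (31, true, [3, 1, 0, 4, 3, 4, 3, 4, 3, 1, 0, 4, 0, 4]), (244, true, [0,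 1, 0, 1, 0, 4, 0, 4, 3, 4, 3, 4, 0, 1, 0]), (211, false, [2, 4, 3, 1, 0, 1, 3, 1, 0, 1, 3, 4]), (269, true, [0, 2, 4, 0, 1, 3, 1, 0, 1, 0, 1, 3, 4, 0, 1, 0, 4]), (51, false, [1, 0, 1, 3, 1, 3, 4, 0, 1, 0, 1, 0, 1, 3, 4, 3]), (42, false, [1, 0, 1, 0, 2, 4, 3, 4, 0, 1, 3, 1, 3, 4]), (194, true, [0, 2, 4, 0, 4, 3, 4, 3, 4, 3, 1, 0, 1, 0, 4, 3]), (17, false, [0, 1, 3, 4, 3, 4, 0, 1, 3, 1, 3, 4]), (172, false, [0, 2, 4, 0, 4, 0, 1, 3, 1, 3, 4, 0, 4, 0, 1, 3, 1]), (17, true, [0, 1, 0, 1, 3, 4, 0, 4, 3, 4, 0, 4, 3, 1, 3, 4]), (18, true, [2, 4, 3, 1, 0, 4, 3, 4, 3, 1, 0, 4]), (73, false, [0, 1, 0, 1, 2, 0, 1, 0, 1, 0, 1, 0, 1, 0, 4, 0]), (92, false, [0, 1, 3, 1, 0, 4, 3, 1, 0, 1, 0, 1, 3, 4]), (270, false, [2, 4, 3, 1, 3, 1,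 0, 1, 3, 1, 0, 4, 0]), (58, false, [0, 1, 3, 1, 3, 1, 3, 4, 0, 1, 0, 1, 3, 1]), (92, false, [3, 1, 3, 1, 3, 4, 0, 4, 3, 1, 0, 4]), (129, false, [1, 0, 4, 0, 4, 0, 4, 0, 4, 3, 1, 0, 4]), (228, false, [4, 0, 4, 3, 4, 3, 4, 3, 4, 0, 4, 0, 1, 0]), (220, false, [2, 0, 4, 0, 4, 3, 4, 0, 4, 3, 4, 0]), (36, true, []), (281, true, [0, 1, 0, 1, 0, 1, 2, 0, 1, 0, 4, 3]), (100, false, [4, 3, 1, 3, 1, 3, 1, 3, 4, 0, 1, 0]), (30, false, [2, 0, 4, 0, 4, 3, 4, 0, 4, 3, 1, 0, 1]), (172, false, [4, 0, 4, 0, 4, 0, 4, 3, 1, 3, 4, 0, 4, 3, 1]), (30, false, [3, 4, 3, 4, 0, 4, 3, 4, 0, 1, 3, 1, 3]), (194, true, [0, 4, 0, 1, 0, 1, 3, 1, 3, 1, 3, 1, 3, 1]), (269, true, [1, 0, 1, 0, 4, 3, 4, 0, 1, 3, 1, 0, 4, 0, 4]), (270, false, [4, 0, 1, 0,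 1, 3, 1, 0, 1, 3, 4, 0]), (269, true, [0, 2, 4, 0, 1, 0, 4, 3, 4, 3, 1, 0, 1, 3, 4, 3, 1]), (92, false, [2, 4, 3, 1, 0, 1, 3, 4, 0, 1, 0, 1, 3, 4, 0]), (205, true, [2, 0, 1, 0, 1, 0, 1, 3, 4]), (58, false, [0, 1, 2, 0, 1, 0, 1, 0, 4, 3, 1, 3, 1, 0, 1, 3]), (205, true, [4, 0, 1, 3, 1, 3, 1, 0, 1, 3, 4, 3, 1]), (92, false, [2, 0, 1, 0, 1, 0, 4, 3, 4, 0, 1, 3, 4, 3]), (166, false, [0, 1, 0, 4, 3, 1, 0, 1, 0, 4, 0, 4, 0, 4, 3, 4]), (228, false, [0, 4, 3, 1, 0, 1, 0, 4, 3, 4, 0, 4, 0, 1, 0]), (34, true, [3, 1, 3, 4, 0, 1, 0, 1, 3, 4, 0, 1, 0, 1]), (220, false, [3, 4, 3, 4, 0, 4, 3, 4, 0, 4, 0]), (208, true, [2, 4, 3, 4, 0, 1, 0, 1, 3, 4, 3, 1, 0, 1, 3, 4]), (281, true, [0, 1, 0, 1, 0, 1, 3, 1, 3, 4]), (31, true, [3, 1, 0,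 4, 3, 4, 3, 4, 3, 1, 0, 4, 0, 4]), (100, false, [1, 0, 1, 3, 4, 0, 1, 3, 1, 3, 1, 3, 1]), (136, true, [1, 2, 0, 4, 0, 4, 0, 4, 0, 1, 3, 4]), (214, false, [2, 4, 0, 1, 3, 1, 0, 4, 0, 4, 3, 4, 0, 1, 0]), (171, false, [1, 0, 2, 4, 3, 4, 0, 1, 3, 1, 3, 4, 3, 4, 0]), (107, true, [1, 0, 4, 3, 4, 3, 4, 3, 1, 0, 4, 0, 4, 3, 1, 3]), (142, true, [1, 3, 1, 0, 4]), (124, false, [0, 2, 4, 0, 1, 3, 1, 3, 1, 3, 1, 0, 4, 3]), (214, false, [0, 1, 3, 1, 0, 1, 0, 1, 3, 4, 3, 1, 0, 4]), (172, false, [2, 0, 4, 0, 4, 3, 4, 0, 1, 3, 1, 3, 1, 3]), (172, false, [3, 4, 3, 4, 0, 4, 3, 1, 0, 1, 0, 1]), (171, false, [1, 0, 4, 0, 4, 3, 1, 0, 1, 0, 4, 0, 4, 0]), (107, true, [1, 0, 1, 3, 1, 3, 4, 0, 1, 0, 1, 0, 1, 3, 1]), (124, false, [0, 4, 3, 1,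 0, 1, 0, 1, 0, 1, 3, 4])]
def r37 : List (ℕ × Bool × List ℕ) := [(37, true, []), (116, true, [1, 0, 4, 3, 4, 0, 1, 3, 1, 3, 1, 0, 1, 0]), (116, true, [0, 1, 3, 1, 3, 4, 3, 4, 0, 1]), (37, true, []), (248, false, [0, 1, 3, 4, 3, 4, 0, 4, 0, 4, 3, 1, 3]), (28, true, [3, 4, 3, 1, 3, 1, 3, 4, 3, 4, 0, 4]), (210, true, [0, 1, 2, 0, 1, 0, 1, 0, 4, 0, 4, 3, 4, 3, 4, 3]), (116, true, [1, 0, 2, 4, 0, 4, 3, 1, 0, 1, 0, 1, 3, 1, 3]), (116, true, [3, 1, 0, 1, 3, 1, 3, 1, 3, 4, 3, 4]), (116, true, [0, 1, 2, 0, 1, 0, 4, 0, 4, 3, 1]), (82, false, [1, 0, 1, 0, 1, 0, 1, 0, 1, 3, 4, 3, 1, 0, 1]), (248, false, [0, 1, 2, 0, 4, 0, 4, 3, 4, 3, 4, 0, 1, 0]), (28, true, [2, 0, 4, 0, 1, 0, 1, 0, 4, 0, 4, 3, 4]), (210, false, [1, 2, 0, 4, 0,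 4, 3, 4, 0, 1]), (180, true, [1, 0, 1, 3, 1, 0, 1, 0, 1, 3, 4, 0, 1, 0, 1, 0]), (233, false, [0, 4, 3, 4, 3, 4, 0, 4, 0, 4, 3, 1, 3]), (275, false, [1, 3, 1, 3, 1, 0, 4, 3, 4, 0, 1, 3]), (210, true, [0, 1, 3, 1, 3, 1, 3, 4, 3, 4, 0, 4, 0, 4, 0]), (28, true, [4, 0, 4, 3, 1, 0, 1, 0, 1]), (116, true, [2, 0, 1, 3, 1, 0, 1, 0, 1, 0, 4, 0, 4]), (180, true, [3, 4, 3, 1, 0, 1, 3, 1, 3, 1, 3, 4]), (118, false, [0, 2, 4, 3, 4, 0, 4, 3, 1, 0, 1]), (211, false, [3, 4, 0, 1, 0, 1, 3, 4, 0, 4, 0, 4, 3, 4, 0]), (138, true, [1, 3, 1, 3, 1, 3, 4, 3, 4, 3]), (210, false, [1, 3, 4, 3, 4, 0, 4, 3, 1]), (180, true, [1, 0, 1, 2, 0, 1, 3, 1, 3, 1, 0, 4, 3, 1, 3, 1, 3]), (37, true, []), (37, true, []), (37, false, [0, 1, 0, 4, 3, 1, 0, 4,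 0]), (233, false, [1, 0, 4, 0, 4, 0, 4, 3, 4, 0, 4, 3, 4, 3, 1, 3]), (210, false, [0, 1, 0, 2, 4, 3, 4, 0, 1, 0, 1, 3, 4, 0]), (275, false, [1, 2, 0, 1, 0, 1, 3, 4, 0, 4, 3, 1, 0]), (25, false, [0, 2, 4, 3, 4, 3, 4, 0, 4, 3, 1, 3, 4, 0, 1]), (28, true, [2, 4, 3, 4, 0, 1, 3, 1, 3, 1]), (37, false, [0, 1, 3, 4, 0, 1, 3, 1, 0, 4, 3, 1]), (27, false, [0, 2, 4, 0, 1, 3, 1, 3, 1, 3, 1, 0, 1, 0, 4, 3]), (118, false, [0, 4, 0, 4, 3, 4, 0, 1, 3, 1]), (180, true, [2, 0, 4, 0, 1, 3, 1, 0, 1, 0, 1, 0, 4]), (116, false, [0, 1, 0, 1, 3, 4, 3, 1, 0, 1, 0]), (45, false, [0, 1, 0, 1, 0, 1, 3]), (22, false, [1, 0, 1, 2, 0, 1, 0, 1, 0, 4, 0, 4, 0, 4, 3, 4, 3]), (37, false, [4, 0, 1]), (48, false, [4, 3, 4, 3, 1, 0, 4, 3, 4, 0]), (48, false,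 [2, 4, 0, 4, 0, 1, 3, 4, 0, 4, 3]), (210, false, [0, 1, 0, 4, 0, 4, 3, 1, 3, 1, 0, 4, 3]), (47, true, [0, 4, 0, 4, 0, 1, 3, 1, 0, 1, 3, 1]), (81, false, [0, 4, 3, 1, 0, 1, 3, 1, 3, 1, 0, 1, 3, 1, 3]), (138, true, [1, 3, 1, 3, 1, 3, 4, 3, 4, 3]), (45, true, [0, 4, 3, 4, 0, 4, 3, 1, 3, 1, 0, 1, 3]), (45, false, [0, 1, 0, 1, 0, 1, 2, 0]), (210, true, [3, 4, 3, 1, 0, 1, 0, 1]), (210, true, [2, 0, 4, 0, 1, 3, 1, 3, 1]), (25, false, [0, 4, 0, 4, 0, 4, 0, 4, 3, 1, 3, 4, 0, 1]), (160, false, [4, 3, 1, 0, 4, 3, 1]), (37, false, [3, 1, 0, 4, 3, 1, 0, 1, 3, 4, 0, 1]), (27, false, [0, 4, 3, 1, 0, 1, 0, 1, 0, 1, 3, 1, 3, 4, 0]), (248, false, [0, 1, 0, 4, 3, 4, 0, 4, 0, 4, 0, 4, 3, 1]), (82, false, [4, 0, 1, 0, 1, 0, 1, 3, 4, 3, 4,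 3, 1]), (22, false, [1, 0, 1, 3, 1, 3, 1, 3, 4, 3, 4, 3, 4, 0, 4, 0]), (37, false, [4, 3, 1]), (116, false, [0, 1, 0, 1, 2, 0, 4, 0, 1, 3, 1, 3]), (99, false, [1]), (37, true, []), (81, false, [4, 0, 4, 0, 1, 3, 4, 0, 4, 0, 4, 3, 4, 0, 1, 3]), (82, false, [1, 3, 1, 0, 4, 0, 4, 3, 4, 0, 1, 0, 1]), (46, false, [0, 1, 0, 1, 2, 0, 1, 0, 4, 3, 4, 0, 1, 3]), (82, false, [1, 0, 4, 0, 4, 0, 4, 3, 1, 3, 1, 0, 1]), (46, false, [0, 1, 0, 1, 3, 1, 3, 4, 0, 4, 3, 1, 0]), (180, true, [0, 1, 2, 0, 4, 0, 1, 3, 1, 0, 1, 3, 1, 3, 1, 0, 1]), (180, true, [0, 1, 3, 4, 3, 1, 0, 1, 3, 1, 0, 1, 0, 1, 3, 1]), (59, false, [2, 0, 4, 3, 1, 3, 1, 0, 1, 3, 4, 0]), (59, false, [3, 4, 0, 1, 0, 1, 3, 1, 0, 4, 3]), (248, false, [0, 1, 0, 1, 3, 1, 0,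 4, 3, 4, 3, 4, 3, 4, 0, 1]), (99, true, [4, 0, 1, 3, 4, 3, 1, 0]), (211, false, [3, 4, 0, 1, 0, 1, 0, 4, 0, 4, 0, 4, 3, 4, 0, 4]), (45, true, [0, 4, 3, 4, 0, 4, 3, 1, 3, 1, 0, 1, 3]), (32, false, [3, 1, 0, 4, 3, 1, 3, 1, 0]), (18, true, [1, 0, 1, 3, 1, 3, 1, 3, 4, 3, 4, 3, 4, 0, 4, 0]), (34, true, [0, 1, 3, 1, 0, 1, 3, 4, 0, 4, 3, 4, 0, 4]), (47, true, [0, 1, 3, 1, 3, 1, 0, 1, 0, 1, 3, 1, 3, 1, 0, 1]), (27, false, [0, 4, 3, 4, 0, 4, 3, 4, 0, 1, 3, 1, 3, 4]), (116, true, [1, 0, 1, 0, 2, 4, 3, 4, 0, 1]), (116, true, [1, 0, 1, 0, 4, 0, 4, 3, 1]), (27, false, [0, 2, 4, 0, 4, 3, 4, 0, 4, 3, 1, 0, 1, 0, 4]), (211, true, [3, 1, 0, 1, 3, 1, 0, 1, 3, 4, 3, 4, 3, 1]), (37, false, [0, 1, 3, 1, 3, 1, 0, 4, 3, 4, 3, 1, 0, 1, 3]),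 (37, false, [0, 4, 3, 1, 3, 1, 0, 4, 3, 1, 0, 1, 0, 1, 3]), (211, true, [2, 0, 1, 3, 1, 0, 1, 3, 1, 0, 4, 0, 4, 0, 1]), (59, false, [3, 4, 3, 4, 3, 4, 3, 1, 0, 1, 3, 4, 0, 4, 3]), (59, false, [3, 4, 3, 4, 3, 4, 3, 1, 0, 1, 3, 4, 3, 4, 0]), (37, true, []), (37, true, []), (210, false, [1, 0, 1, 2, 0, 1, 0, 4, 0, 4, 0, 4, 0, 1, 3]), (210, false, [1, 0, 1, 3, 1, 3, 4, 3, 4, 3, 4, 3, 1, 0]), (25, false, [3, 4, 3, 4, 0, 1, 0, 1, 3, 4, 0]), (25, false, [2, 0, 4, 0, 4, 3, 1, 3, 1, 0, 4, 3]), (210, true, [1, 0, 1, 0, 1, 2, 0, 4, 3, 4, 0, 1, 3, 1, 3]), (210, true, [1, 0, 1, 0, 1, 3, 4, 0, 4, 3, 1, 0, 1, 0]), (116, false, [0, 1, 0, 4, 3, 4, 3, 1, 0, 1, 0, 1, 3, 1]), (116, false, [0, 1, 0, 2, 4, 0, 4, 0, 1, 3, 1, 3, 1, 0, 1]),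 (37, false, [0, 1, 3, 1, 3, 1, 3, 4, 3, 4, 0]), (37, false, [3, 1, 0, 1, 0, 4, 0, 4, 0, 4, 3]), (37, false, [0, 1, 3, 1, 3, 4, 3, 4, 3, 4, 0]), (37, false, [3, 1, 0, 1, 0, 1, 0, 4, 0, 4, 3]), (180, true, [4, 0, 1, 0, 4, 3, 4, 3, 1, 0, 4, 0, 4, 0, 4]), (180, true, [2, 4, 3, 1, 3, 4, 0, 4, 0, 1, 3, 4, 3, 4, 3, 4]), (45, false, [0, 1, 0, 2, 4, 0, 4, 3, 4]), (45, false, [0, 1, 0, 4, 3, 4, 0, 4]), (103, true, [3, 1, 3, 1, 3, 4, 0, 1, 0, 1, 0, 4]), (103, true, [2, 0, 1, 0, 1, 0, 4, 3, 1, 3, 1, 3, 4]), (37, false, [0, 1, 0, 1, 3, 1, 3, 4, 3, 4, 0, 4, 0]), (37, true, [0, 1, 0, 1, 3, 4, 0, 4, 3, 4, 0, 4, 3, 1, 3, 4])]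
def r38 : List (ℕ × Bool × List ℕ) := [(55, true, [3, 1, 3, 4, 3, 4, 3, 4, 0, 4, 3, 4]), (28, false, [2, 4, 3, 1, 3, 1, 0, 4, 0, 4, 0, 1]), (126, false, [4, 0, 1, 0, 1, 0, 4, 3, 1, 3, 4, 0, 4, 3, 1, 0, 4]), (103, false, [0, 4, 3, 1, 0, 1, 0, 4, 3, 4, 3, 1, 0, 1, 0, 4]), (69, false, [2, 4, 0, 4, 0, 4, 0, 1, 3, 1, 0, 4, 0, 4, 0, 1]), (85, false, [4, 0, 4, 3, 4, 0, 4, 3, 4, 3, 1, 3]), (154, true, [0, 1, 3, 4, 3, 4, 0, 1, 0, 1]), (180, false, [1, 0, 4, 3, 1, 0, 1, 3, 1, 3, 4, 0, 4, 3, 4, 3]), (64, true, [1, 0, 1, 3, 1, 3, 1, 0, 4, 3, 4, 3, 4, 0]), (73, true, [1, 0, 2, 4, 0, 4, 3, 1, 0, 1, 0, 4, 3, 4, 3, 1]), (222, false, [3, 4, 3, 1, 3, 1, 3, 1, 0, 4, 3, 4, 0, 1, 0, 4]), (85, false, [3, 4, 0, 1, 3, 4, 0, 4, 3, 4, 3, 4, 0,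 4]), (11, true, [2, 4, 0, 4, 3, 1, 0, 1, 0]), (226, true, [0, 2, 4, 0, 1, 0, 4, 3, 4, 0, 1, 0, 1, 0, 4, 0, 4]), (94, false, [1, 3, 1, 3, 1, 3, 4, 3, 4, 3, 4, 3]), (77, true, [0, 4, 3, 1, 3, 4, 0, 4, 3, 4, 3, 1]), (254, true, [0, 4, 3, 4, 3, 4, 0, 4, 0, 1, 3, 1, 3, 1, 3, 1, 0]), (125, true, [4, 3, 1, 3, 1, 0, 1, 0, 1, 3, 4, 0, 4, 3]), (193, false, [0, 1, 0, 1, 0, 2, 4, 0, 4, 3, 1, 3, 4, 0, 1]), (171, true, [0, 1, 0, 1, 3, 4, 0, 4, 3, 1, 3, 1, 3, 4]), (171, true, [1, 0, 1, 2, 0, 1, 3, 1, 0, 1, 3, 4, 3, 4, 3, 1, 3]), (261, false, [1, 0, 1, 0, 2, 4, 0, 4, 3, 1, 3, 1, 3, 1, 0]), (140, true, [1, 0, 1, 0, 1, 0, 4, 3, 1, 3, 4, 0, 4, 3, 4]), (217, true, [3, 1, 0, 1, 3, 1, 3, 1, 3, 1, 3]), (124, false, [0, 1, 3, 4, 3, 1, 0, 1,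 3, 1, 3, 1, 0, 4, 3, 4]), (275, false, [2, 0, 1, 3, 1, 0, 1, 0, 1, 3, 1, 0, 1, 0]), (222, false, [2, 0, 4, 0, 1, 3, 1, 3, 1, 3, 4, 3, 4, 3, 1]), (55, true, [4, 3, 4, 0, 1, 0, 1, 3, 1, 0, 4, 0]), (178, true, [4, 3, 4, 3, 1, 0, 1, 3, 4, 0, 1, 0, 1, 3]), (178, true, [0, 1, 0, 1, 2, 0, 1, 3, 4, 0, 1, 3]), (225, false, [1, 0, 1, 3, 1, 0, 1, 0, 4, 0, 4, 0]), (120, true, [0, 2, 4, 3, 1, 3, 1, 0, 4, 0, 4, 3]), (202, false, [4, 3, 4, 0, 4, 3, 4, 3, 4, 3, 1, 3]), (125, false, [1, 2, 0, 4, 0, 1, 3, 1, 3, 4, 0, 1, 3, 1, 3]), (180, false, [2, 4, 3, 1, 3, 4, 0, 4, 3, 4, 3]), (73, true, [0, 4, 0, 4, 0, 4, 3, 4, 3, 4, 3, 4, 0, 1, 3]), (261, false, [3, 4, 3, 4, 0, 4, 3, 4, 0, 1, 3, 1, 0]), (64, true, [1, 2, 0, 1, 0, 1, 0, 4, 0, 4, 3,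 1, 0, 1, 0, 1, 3]), (38, true, []), (125, true, [2, 4, 0, 4, 3, 1, 3, 4, 0, 4, 3, 1, 0, 1, 0, 4]), (2, true, [0, 1, 3, 1, 3, 4, 0, 1, 3, 1, 0, 4, 0, 1]), (50, true, [0, 1, 0, 1, 2, 0, 1, 0, 4, 3, 1, 3, 1, 3, 1, 0, 4]), (246, true, [0, 4, 3, 4, 3, 4, 3, 1, 0, 1, 3, 4, 3]), (156, true, [0, 1, 3, 4, 0, 1, 0, 1, 0, 4, 3, 1, 3, 4, 0]), (222, false, [0, 2, 4, 0, 4, 3, 4, 0, 1, 0, 1, 0, 4, 3, 4, 0, 1]), (98, true, [1, 2, 0, 1, 3, 1, 0, 1, 0, 4, 0, 4]), (187, false, [0, 1, 2, 0, 4, 0, 1, 3, 4, 3, 1]), (38, true, []), (13, true, [4, 3, 1, 3, 1, 3, 4, 3, 4, 3, 1]), (193, false, [1, 0, 2, 4, 0, 1, 3, 1, 0, 1, 0, 1, 0, 1]), (125, true, [1, 0, 4, 3, 1, 3, 1, 3, 4, 3, 4, 0, 1]), (193, false, [4, 3, 4, 3, 1, 0, 1, 3, 1, 0, 1, 0, 1,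 3]), (177, false, [3, 1, 0, 4, 3, 4, 3, 4, 0, 1, 3, 4, 0]), (34, false, [4, 0, 4, 0, 1, 3, 4, 3, 4, 0, 1, 3, 1]), (2, false, [1, 0, 4, 0, 4, 0, 4, 0, 4, 0, 4]), (126, false, [1, 0, 2, 4, 0, 4, 3, 4, 3, 1, 3]), (7, true, [0, 2, 4, 0, 4, 3, 1, 0, 1, 3, 1, 3, 1, 0, 4, 3]), (222, false, [0, 2, 4, 3, 1, 0, 1, 3, 1, 3, 1, 0, 1, 3]), (47, true, [0, 1, 3, 1, 0, 4, 3, 4, 0, 4, 0, 4, 3, 1, 3, 4]), (81, false, [2, 4, 3, 1, 0, 4, 0, 4, 3, 4, 0, 4, 3]), (47, false, [0, 1, 0, 1, 3, 4, 0, 1, 0, 1, 3, 4, 0, 1, 0]), (234, false, [1, 0, 1, 0, 1, 0, 1, 3, 4, 0, 1, 0, 1, 3]), (38, true, []), (78, true, [3, 1, 0, 4, 3, 1, 3, 1, 0, 4, 3, 1, 0, 1]), (67, false, [2, 4, 0, 1, 0, 1, 3, 1, 0]), (18, false, [4, 3, 4, 3, 1, 0, 4, 0, 4, 3, 4, 3]),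 (67, false, [0, 1, 3, 4, 0, 4, 0, 4, 3, 1, 0, 1, 0, 4]), (38, false, [2, 0]), (122, true, [1, 0, 1, 3, 4, 3, 4, 0, 4, 0, 4]), (154, true, [2, 4, 3, 1, 0, 1, 0, 4, 3, 4, 0, 1, 0, 1, 3]), (28, false, [3, 1, 0, 1, 3, 4, 3, 4, 3, 1, 0, 1, 3, 4, 3]), (180, false, [2, 4, 3, 1, 3, 4, 0, 4, 3, 4, 3]), (234, false, [2, 4, 3, 1, 0, 1, 3, 4, 3, 1, 0, 4, 3]), (7, true, [0, 1, 3, 1, 3, 4, 3, 4, 0, 1, 3, 4, 3, 4, 0, 1]), (103, false, [0, 1, 0, 4, 3, 4, 0, 4, 0, 1, 3, 1, 0, 1, 3]), (217, true, [4, 0, 1, 3, 4, 0, 4, 0, 1, 3, 1, 3, 4]), (38, false, [0, 4, 0, 4, 3, 1, 0, 1, 0, 4, 3, 1]), (13, true, [0, 1, 0, 4, 3, 1, 0, 1, 0, 1, 3, 4, 0]), (222, false, [3, 1, 0, 4, 3, 1, 0, 1, 0, 4, 3]), (98, true, [1, 0, 4, 3, 1, 3, 1]), (192, true,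 [0, 2, 4, 0, 1, 3, 1, 3]), (113, true, [2, 4, 3, 1, 3, 1, 3, 1, 0, 4, 3]), (192, true, [0, 4, 0, 1, 3, 1, 3, 1, 0, 1, 0, 4, 0, 4, 3]), (113, true, [0, 1, 3, 1, 0, 1, 3, 1, 3, 1, 0, 1, 3, 4]), (69, false, [1, 3, 1, 0, 4, 3, 4, 0, 4, 0, 4, 3, 1]), (55, true, [0, 4, 3, 4, 0, 4, 3, 1]), (103, false, [4, 0, 1, 3, 1, 3, 4, 0, 4, 0, 1, 3, 1, 3, 4]), (85, false, [1, 2, 0, 1, 3, 1, 0, 4, 0, 4, 0, 4]), (47, false, [2, 4, 3, 4, 3, 1, 0, 1, 0, 4, 3, 4, 3, 1, 0, 1]), (38, true, []), (2, false, [0, 1, 0, 1, 0, 1, 3, 1, 3, 1, 3, 4]), (180, false, [1, 0, 4, 3, 1, 0, 1, 3, 1, 3, 4, 0, 4, 3, 4, 3]), (225, false, [1, 2, 0, 4, 3, 1, 3, 1, 0]), (222, false, [0, 4, 0, 4, 3, 1, 3, 4, 0, 4, 3, 1, 0, 4, 0, 4]), (47, false, [2, 4, 0, 4, 3, 4,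 3, 1, 0, 1, 3, 1, 0, 1, 0]), (246, true, [0, 1, 0, 4, 0, 4, 0, 4, 0, 4, 3, 1, 3, 4]), (226, true, [0, 4, 3, 1, 3, 1, 3, 1, 3, 4, 3, 4, 0, 4, 0, 4]), (124, false, [0, 2, 4, 0, 1, 0, 4, 3, 4, 3, 1, 0, 1, 3, 4, 3, 1]), (122, true, [2, 0, 4, 0, 1, 0, 1, 3, 1, 0, 4, 3]), (154, true, [3, 1, 3, 4, 0, 4, 3, 1, 0, 1, 0, 1, 0, 1]), (85, false, [2, 0, 1, 0, 4, 3, 1, 3, 4, 0, 4, 3, 1, 0, 4]), (193, false, [4, 3, 1, 3, 1, 0, 4, 0, 4, 0]), (125, false, [4, 0, 4, 0, 4, 0, 1, 3, 4, 3, 4, 0, 4, 0, 4]), (11, true, [1, 3, 4, 3, 4, 0]), (168, false, [0, 1, 0, 1, 0, 1, 2, 0, 1, 3, 4, 0, 4]), (204, false, [0, 1, 2, 0, 1, 0, 1, 0, 4, 3, 1, 3, 4, 0, 4]), (125, true, [1, 0, 1, 0, 1, 2, 0, 1, 0, 4, 3, 4, 0, 1, 3, 1]), (154, true, [2, 0, 4, 3,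 1, 3, 1, 3, 4, 0, 1, 3]), (120, true, [1, 2, 0, 1, 0, 1, 3, 1, 3, 4, 0, 1, 0]), (254, true, [2, 0, 4, 0, 1, 3, 1, 0, 4, 0]), (77, false, [0, 2, 4, 0, 4, 0, 1, 3, 4, 3, 4, 0]), (103, true, [2, 4, 3, 4, 0, 1, 3, 1, 3, 4, 0, 1])]
def r39 : List (ℕ × Bool × List ℕ) := [(232, false, [3, 1, 0, 1, 0, 1, 3, 1, 3, 4, 0, 4, 3, 4]), (222, true, [0, 1, 2, 0, 1, 3, 1, 0, 1, 3, 1, 3, 1]), (222, true, [3, 1, 0, 1, 0, 1, 0, 1, 3, 1, 3, 1, 0, 4]), (232, false, [2, 0, 1, 3, 1, 3, 1, 0, 1, 0, 4, 3, 4, 0, 4]), (216, true, [4, 3, 4, 0, 1, 0, 1, 0, 1, 3, 4, 3, 1]), (222, true, [0, 1, 0, 1, 0, 2, 4, 3, 4, 0, 1, 3, 1, 0, 4]), (232, false, [2, 4, 0, 1, 0, 1, 0, 1, 3, 4, 0, 1, 0]), (222, true, [0, 1, 3, 1, 0, 1, 3, 1, 0, 1, 0, 1]), (222, true,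 [4, 3, 1, 0, 4, 3, 1, 3, 1, 0, 1]), (222, true, [2, 0, 1, 3, 1, 3, 1, 3, 1, 0, 1, 0, 1, 3, 4]), (51, false, [3, 1, 0, 1, 3, 1, 3, 4, 0, 4, 3, 1, 0, 1]), (216, true, [2, 4, 0, 4, 3, 1, 3, 1, 3, 1, 0, 4, 0, 1]), (222, true, [0, 1, 0, 1, 0, 4, 0, 4, 3, 1, 0, 1, 3, 4]), (243, true, [0, 1, 3, 4, 3, 4, 0, 4, 3, 1, 0, 1, 0, 1, 0]), (216, true, [0, 1, 3, 1, 3, 1, 0, 1, 0, 4, 0, 4, 3, 1, 0, 1]), (243, true, [3, 4, 3, 4, 3, 1, 0, 4, 0, 1]), (216, true, [4, 3, 1, 0, 4, 3, 4, 3, 4, 0, 4, 3, 4]), (232, false, [4, 3, 1, 3, 1, 3, 1, 0, 4, 3, 1, 3]), (222, true, [2, 0, 4, 0, 4, 3, 4, 3, 4, 3, 4, 0, 4, 3]), (222, true, [2, 4, 0, 1, 3, 4, 0, 1, 0, 1, 3, 1]), (222, true, [1, 0, 4, 3, 4, 0, 4, 0, 4, 3, 1, 0, 4, 3]), (31, true, [0, 1, 0,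 2, 4, 0, 1, 0, 1, 0, 1, 0, 4]), (15, true, [1, 3, 4, 0, 1, 3, 1, 0, 1, 0, 1, 3, 1, 3]), (232, false, [4, 3, 1, 3, 1, 0, 4, 0]), (243, true, [4, 3, 1, 0, 1, 3, 1, 3, 1, 3, 4, 3, 4, 0, 1]), (216, true, [1, 0, 1, 3, 4, 0, 1, 3, 1, 3, 1, 0, 1, 0, 4]), (232, false, [0, 4, 0, 4, 0, 4, 3, 1, 3, 1, 0, 1, 0, 1]), (173, false, [1, 3, 1, 3, 4, 0, 4, 3, 4, 0, 1, 3]), (216, true, [0, 4, 0, 4, 3, 4, 0, 4, 3, 4, 0, 1, 0, 4]), (216, true, [0, 1, 3, 1, 3, 1, 3, 1, 3, 4, 3, 4, 3, 4, 0, 4, 3]), (243, true, [3, 4, 0, 4, 3, 1, 3, 4, 0, 4, 0]), (216, true, [3, 4, 0, 4, 0, 1, 3, 4, 0, 4, 0, 1, 0]), (243, true, [3, 1, 0, 1, 3, 4, 3, 1, 0, 1, 0, 1, 0, 1, 3]), (222, true, [3, 4, 3, 4, 0, 4, 0, 4, 0, 4, 3, 4, 0]), (51, false, [1, 0, 4, 3, 1, 3,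 1, 3, 1, 3, 4, 3, 4, 3, 4]), (222, true, [4, 0, 1, 3, 4, 0, 4, 0, 4, 3, 4, 3, 4, 0, 1]), (31, true, [0, 1, 0, 4, 3, 1, 3, 1, 3, 1, 3, 4]), (222, true, [1, 0, 2, 4, 0, 4, 3, 4, 3, 4, 0, 1, 3, 4, 0]), (222, true, [2, 0, 4, 0, 4, 3, 4, 3, 4, 0, 4, 0, 1, 0]), (51, false, [1, 0, 1, 3, 1, 0, 1, 0, 1, 0, 4, 3, 4, 0, 1]), (51, false, [1, 3, 1, 3, 1, 0, 1, 3, 4, 0, 4, 3, 1]), (232, false, [4, 3, 4, 0, 1, 0, 1, 0, 1]), (232, false, [0, 2, 4, 3, 1, 3, 1, 0, 4, 0]), (232, false, [0, 4, 0, 1, 0, 1, 3, 4, 3]), (243, true, [3, 1, 0, 1, 3, 4, 0, 1, 3, 1, 3]), (51, false, [3, 1, 3, 1, 3, 4, 0, 1, 0, 1, 3, 1, 0, 4, 3, 1]), (173, false, [0, 4, 0, 4, 0, 4, 0, 1, 3, 4, 3, 4]), (15, true, [1, 3, 1, 3, 4, 3, 4, 3, 1, 0, 1, 3, 1, 0, 1, 0]),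 (31, true, [4, 0, 1, 0, 1, 3, 4, 0, 1, 3, 1, 0, 1, 0]), (51, false, [4, 0, 4, 0, 4, 3, 1, 0, 4, 0, 4, 0, 1, 3]), (51, false, [0, 1, 3, 1, 3, 1, 0, 4, 3, 4, 3, 1]), (51, false, [0, 1, 2, 0, 1, 0, 1, 3, 4, 0, 4, 0, 1]), (243, true, [0, 4, 0, 1, 3, 1, 0, 4, 3, 1, 0, 1, 0, 1, 0]), (31, true, [0, 1, 0, 1, 0, 1, 3, 1, 0, 4, 3, 4, 0]), (51, false, [3, 4, 0, 4, 0, 4, 0, 4, 3, 4, 3, 4, 3, 1]), (222, true, [2, 4, 3, 1, 0, 4, 3, 4, 3, 4, 0, 4, 0, 4, 3, 1]), (216, true, [3, 4, 0, 4, 0, 1, 3, 4, 3, 4, 0, 4, 3]), (51, false, [0, 1, 3, 1, 3, 1, 0, 1, 0, 1, 3, 4, 0, 4, 3]), (51, false, [1, 2, 0, 1, 0, 1, 3, 1, 0, 4, 3, 4, 0, 1]), (232, false, [2, 4, 0, 4, 3, 1, 3, 1, 3, 1]), (222, true, [3, 4, 3, 4, 0, 4, 0, 4, 3, 4, 3, 1, 3]), (243,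 true, [1, 3, 4, 0, 4, 3, 1, 0, 1, 0, 4, 3]), (31, true, [0, 1, 0, 1, 3, 1, 3, 1, 3, 4, 3, 4, 3, 4, 0, 1]), (15, true, [3, 1, 0, 1, 3, 1, 0, 1, 3, 4, 3, 4, 3, 1, 3]), (31, true, [0, 1, 0, 1, 0, 4, 0, 4, 0, 1]), (51, false, [0, 1, 3, 1, 0, 4, 3, 1, 3, 1, 0, 4, 3, 1]), (31, true, [0, 1, 0, 1, 0, 2, 4, 3, 4, 3, 1]), (51, false, [0, 1, 2, 0, 1, 3, 4, 0, 1, 0, 1, 3, 4, 0, 1]), (222, true, [2, 4, 3, 1, 0, 4, 3, 4, 0, 1, 3, 1, 3, 1, 3, 1, 0, 1]), (222, true, [4, 0, 1, 0, 1, 3, 1, 3, 1, 3, 1, 0, 4, 3, 4, 0, 1]), (222, true, [3, 4, 0, 1, 3, 1, 3, 1, 0, 4, 0]), (222, true, [2, 0, 4, 3, 1, 0, 1, 0, 1, 3, 4, 3]), (243, true, [1, 0, 1, 0, 1, 0, 1, 0, 4, 0, 4, 0, 1]), (216, true, [0, 4, 0, 1, 0, 1, 3, 1, 0, 1, 3, 4, 3, 1, 0, 1, 0]),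 (173, false, [1, 3, 1, 3, 1, 3, 4, 3, 4, 3, 4]), (232, false, [0, 1, 3, 1, 3, 1, 0, 4, 0, 4, 3, 1, 0, 1]), (173, false, [1, 3, 1, 0, 4, 3, 1, 3, 1, 0, 4, 3]), (15, true, [1, 3, 1, 0, 1, 3, 4, 0, 4, 3, 4, 0, 4]), (232, false, [0, 4, 0, 4, 3, 1, 3, 1, 3, 1]), (51, false, [1, 0, 1, 0, 4, 3, 4, 0, 4, 0, 1, 3, 1, 0]), (222, true, [2, 0, 4, 0, 1, 3, 1, 0, 4, 0, 4, 3, 1, 0, 1]), (222, true, [2, 0, 4, 3, 1, 0, 1, 0, 4, 0, 4, 0, 4, 0]), (222, true, [3, 4, 0, 1, 3, 1, 3, 4, 3, 4, 3, 4, 3]), (222, true, [3, 4, 3, 1, 0, 1, 3, 4, 3, 4, 0, 1, 3, 1]), (216, true, [0, 1, 3, 1, 3, 4, 0, 4, 0, 4, 3, 4, 3, 1]), (232, false, [1, 0, 4, 0, 4, 0, 4, 3, 4, 3, 1, 3]), (232, false, [1, 0, 2, 4, 3, 4, 3, 4, 0, 4, 0, 1, 0]), (216, true, [0, 1,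 2, 0, 1, 0, 4, 3, 4, 3, 4, 0, 4, 0, 1]), (222, true, [0, 2, 4, 0, 1, 3, 4, 3, 4, 3, 4, 0, 1, 0, 4]), (222, true, [0, 4, 3, 1, 0, 4, 0, 4, 0, 4, 3, 1, 3, 4]), (51, false, [1, 0, 1, 0, 4, 3, 1, 0, 1, 0, 4, 3, 1]), (51, false, [1, 0, 1, 0, 2, 4, 0, 1, 3, 1, 3, 4, 0, 1]), (243, true, [2, 4, 0, 4, 3, 4, 0, 1, 3, 4, 3, 4, 0, 4, 0]), (243, true, [4, 3, 4, 0, 4, 3, 1, 0, 4, 0, 4, 3, 4, 3]), (216, true, [0, 4, 0, 4, 0, 1, 3, 4, 0, 4, 0, 4, 3, 1]), (216, true, [4, 0, 4, 3, 1, 3, 1, 0, 1, 0, 4, 3, 4, 3]), (243, true, [0, 4, 3, 1, 3, 1, 0, 1, 3, 1, 3, 4]), (243, true, [0, 2, 4, 0, 1, 0, 1, 3, 1, 0, 1, 0, 4]), (222, true, [0, 4, 3, 4, 3, 4, 0, 1, 3, 1, 0, 4]), (222, true, [0, 2, 4, 0, 4, 0, 4, 3, 1, 0, 1, 3, 4]), (222, true, [3,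 4, 0, 1, 3, 1, 3, 1, 3, 1, 0, 4, 3, 1, 3]), (222, true, [0, 1, 3, 1, 0, 1, 0, 4, 3, 4, 3, 4, 3, 4, 3]), (222, true, [0, 1, 2, 0, 1, 3, 1, 3, 4, 0, 4, 0, 4, 0, 4, 0]), (222, true, [2, 0, 4, 3, 1, 0, 1, 0, 1, 0, 1, 3, 4, 0, 1, 0]), (243, true, [2, 0, 1, 3, 1, 0, 4, 3, 4, 0, 4, 0, 4, 3]), (243, true, [3, 1, 0, 1, 3, 4, 0, 4, 3, 4, 3, 4, 0]), (232, false, [0, 1, 0, 1, 0, 4, 0, 4, 0, 4, 3, 1, 0, 1, 3, 4]), (232, false, [4, 0, 4, 3, 1, 3, 1, 0, 1, 3, 4, 3, 1, 0, 1, 3]), (216, true, [0, 4, 0, 1, 0, 1, 3, 4, 0, 4, 3, 1]), (216, true, [0, 2, 4, 3, 1, 3, 1, 0, 4, 3, 4, 0, 1]), (243, true, [1, 3, 4, 3, 1, 0, 1, 0, 1, 0, 4, 3, 4, 0]), (31, true, [4, 3, 4, 3, 4, 0, 4, 3, 1, 3, 4, 0, 4, 0])]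
def r40 : List (ℕ × Bool × List ℕ) := [(242, true, [1, 0, 1, 2, 0, 1, 3, 4, 0, 4, 3, 4, 0, 4]), (58, true, [1, 0, 1, 2, 0, 1, 0, 4, 3, 1, 0, 1, 0, 4, 0, 4, 0]), (91, true, [0, 1, 0, 4, 3, 4, 0, 1, 3, 1, 3, 1, 0, 1, 3, 1]), (256, false, [2, 0, 4, 0, 1, 3, 1, 0, 4, 0, 4, 3, 4]), (246, true, [4, 3, 1, 3, 1, 0, 4, 0, 4, 3, 1, 0, 1, 3]), (169, true, [2, 4, 0, 1, 0, 1, 0, 1, 3, 4, 3, 4, 0, 4, 0]), (246, true, [0, 2, 4, 0, 1, 0, 1, 3, 1, 0, 1, 3, 4, 3, 1, 0]), (112, false, [2, 0, 1, 3, 1, 0, 1, 3, 1, 3, 4, 3, 4, 0]), (128, true, [1, 0, 1, 3, 4, 3, 4, 3, 1, 0, 1, 0, 1, 0, 4, 3]), (194, false, [1, 2, 0, 1, 0, 1, 0, 4, 0, 4, 3, 4, 3]), (89, true, [2, 0, 4, 0, 1, 3, 4, 3, 4, 0, 1, 0]), (68, false, [2, 0, 1, 0, 4, 3, 4, 3, 4, 3,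 1, 0, 1, 3, 4]), (76, false, [3, 4, 3, 1, 3, 1, 3, 4, 0, 4, 3]), (126, false, [1, 0, 2, 4, 0, 4, 3, 1, 0, 4, 0, 4]), (230, true, [4, 0, 1, 3, 4, 0, 4, 0, 4, 3, 4, 0]), (76, false, [0, 4, 3, 1, 0, 4]), (246, true, [4, 0, 1, 3, 4, 0, 4, 3, 4, 3, 1, 0, 1]), (190, true, [0, 1, 0, 1, 3, 4, 0, 4, 3, 1, 3, 1, 3, 1, 0, 1]), (95, false, [3, 1, 0, 4, 3, 1, 0, 1, 0, 4, 3, 4, 0]), (64, true, [1, 0, 1, 0, 1, 2, 0, 4, 0, 1, 3, 1, 0, 1, 0, 1, 0]), (194, false, [3, 4, 0, 1, 3, 1, 0, 4, 0, 4, 0, 4, 3]), (128, true, [3, 4, 0, 4, 3, 1, 0, 1, 3]), (89, true, [0, 2, 4, 0, 1, 0, 1, 0, 1, 3, 1, 3, 1, 0, 1, 0, 1]), (234, false, [0, 1, 0, 4, 0, 4, 0, 4, 0, 1, 3, 4]), (190, true, [0, 4, 3, 4, 3, 4, 0, 4, 3, 4, 0, 1, 3]), (236, false, [2, 4, 3,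 1, 0, 1, 3, 1, 3, 1, 0, 1, 3, 4]), (234, false, [3, 1, 3, 4, 3, 4, 0, 1, 3, 1, 3, 1, 0]), (242, true, [4, 3, 1, 0, 1, 3, 1, 3, 1, 0, 1, 0]), (68, false, [0, 2, 4, 0, 4, 3, 4, 0, 1, 0, 1, 0, 4, 3, 4, 0, 1]), (76, false, [1, 0, 4, 0, 1, 3, 1, 0, 1, 0, 1, 3, 1, 3]), (186, false, [1, 2, 0, 4, 3, 4, 3, 4, 0, 1, 3, 1, 3, 1]), (246, true, [3, 4, 3, 4, 0, 4, 3, 4, 0, 4, 0, 4]), (236, false, [1, 0, 1, 2, 0, 4, 3, 4, 3, 4, 0, 4, 3, 1, 0]), (68, false, [0, 1, 2, 0, 4, 3, 1, 0, 1, 3, 1, 3, 1, 0, 4, 3, 4, 0]), (68, false, [2, 4, 3, 4, 0, 1, 3]), (64, true, [0, 1, 2, 0, 4, 3, 4, 0, 4, 0, 4, 3, 1, 3, 4, 0]), (89, true, [0, 1, 2, 0, 1, 0, 4, 3, 1, 3, 1, 0]), (203, true, [1, 2, 0, 4, 3, 4, 3, 1, 0, 4, 0]), (58, true, [2, 4, 0, 4, 3,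 1, 3, 4, 0, 4, 3, 1, 0, 4, 0, 4]), (91, false, [0, 1, 2, 0, 4, 0, 4, 0, 4, 3, 1, 3, 4, 0, 4, 3, 4]), (230, true, [3, 1, 0, 1, 3, 1, 0, 4, 0, 4, 0, 1, 3, 1]), (89, true, [2, 0, 1, 3, 4, 0, 1, 3, 1, 3, 1, 0, 4, 3, 4]), (194, false, [0, 2, 4, 0, 1, 0, 1, 3, 1, 3, 4, 0, 4, 0]), (60, false, [0, 1, 0, 1, 3, 4, 3, 1, 0, 4, 3, 4, 3, 4, 0, 1, 0]), (190, true, [3, 4, 0, 4, 3, 1, 0, 1, 3, 1, 3, 1, 0, 4, 0]), (203, true, [4, 3, 1, 3, 4, 0, 4, 3, 4, 0, 4, 3, 1, 0]), (194, false, [2, 0, 4, 0, 1, 3, 4, 3, 1, 0, 4]), (186, false, [1, 0, 4, 3, 4, 0, 4, 0, 4, 3, 1, 3, 4, 0, 4]), (178, true, [3, 1, 0, 4, 3, 4, 3, 1, 0, 4, 3, 4, 3]), (58, true, [2, 4, 0, 1, 3, 1, 0, 4, 3, 1, 3, 1, 0, 1]), (236, false, [1, 0, 1, 0, 1, 0, 2, 4, 0, 4, 3, 4,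 3, 1, 0, 1, 0]), (158, false, [4, 3, 1, 3, 1, 0, 4, 0, 4, 3, 1, 0]), (178, true, [1, 0, 1, 0, 1, 0, 1, 0, 4, 0, 4, 3]), (242, true, [4, 0, 1, 0, 4, 3, 4, 3, 4, 3, 4, 0, 1, 0]), (169, true, [3, 1, 3, 1, 3, 1, 0, 1, 3, 1, 0, 1, 3, 1]), (64, true, [2, 4, 0, 1, 0, 1, 0, 4, 0, 4, 0, 4, 0]), (246, true, [0, 2, 4, 0, 1, 0, 1, 3, 4, 0, 1, 0, 1, 3, 4, 0]), (128, true, [4, 3, 1, 0, 1, 3, 4, 3, 1, 0, 4, 3, 4, 0]), (126, false, [2, 4, 0, 1, 3, 4, 0, 1, 0, 1, 0, 1]), (96, true, [1, 3, 1, 3, 4, 3, 4, 3, 4, 0, 4, 3, 1, 3]), (91, false, [0, 1, 0, 1, 2, 0, 4, 0, 1, 3, 1, 0, 4, 3, 4, 3]), (76, false, [0, 1, 0, 1, 3, 1, 0, 1, 0, 1, 3, 1, 3, 1]), (178, true, [0, 4, 3, 4, 0, 4, 0, 4, 3, 1, 0, 1, 3, 4, 3, 4]), (60, false, [1, 2, 0, 4, 0,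 4, 3, 4, 0, 4, 0, 1, 0]), (60, false, [4, 3, 4, 3, 1, 0, 1, 0, 1, 3, 1, 0, 4, 3, 4, 0]), (126, false, [0, 2, 4, 0, 1, 0, 4, 3, 4, 3, 1, 0, 1, 0, 1, 0, 4, 3]), (203, true, [2, 0, 4, 0, 1, 0, 1, 3, 1, 0, 4, 0, 4, 3]), (230, true, [1, 3, 1, 0, 4, 3, 4, 3, 4, 0, 4, 3, 1]), (91, true, [0, 1, 3, 1, 0, 1, 3, 4, 3, 1, 0, 1, 0, 1, 0, 1, 0, 1]), (91, true, [3, 4, 3, 1, 0, 4, 3, 4, 3, 1, 0, 1]), (158, false, [1, 0, 1, 0, 4, 0, 4, 3, 4, 0, 1, 0, 1, 0]), (190, true, [0, 4, 3, 1, 3, 4, 0, 1, 0, 1, 0, 1, 3, 4, 0]), (246, true, [0, 4, 0, 4, 3, 4, 3, 1, 0, 1, 0, 1, 0, 1]), (158, false, [3, 1, 3, 1, 3, 1, 0, 1, 0, 1, 0, 1, 3, 4]), (96, true, [1, 3, 4, 3, 1, 0, 1, 0, 1, 0, 4, 3, 1, 3, 4]), (91, false, [1, 0, 1, 2, 0, 1, 0, 1, 0, 1, 3,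 1, 3, 1, 3, 4]), (112, false, [0, 2, 4, 0, 1, 3, 1, 3, 1, 3, 4, 3]), (186, false, [2, 0, 4, 3, 4, 0, 4, 3, 1, 0, 1]), (91, false, [1, 2, 0, 1, 3]), (60, false, [2, 4, 0, 4, 3, 4, 3, 4, 0, 1]), (128, true, [1, 0, 1, 3, 4, 3, 1, 0, 4, 0, 4, 0, 1]), (91, true, [0, 1, 3, 4, 3, 1, 0, 1, 0, 1, 3, 1, 0, 1]), (203, true, [1, 0, 4, 3, 1, 3, 1, 3, 1, 0, 4, 0, 4]), (96, true, [3, 1, 0, 1, 0, 1, 0, 4, 3, 1, 3, 1]), (76, false, [3, 4, 0, 1, 3, 1, 0, 1, 0, 4, 3, 4, 0]), (95, false, [3, 1, 0, 4, 0, 4, 0, 1, 3, 4]), (76, false, [3, 1, 0, 1, 3, 1, 3, 1, 0, 1, 0, 4, 0]), (76, false, [2, 4, 3, 1, 0, 4, 0, 4, 3, 4, 0]), (236, false, [0, 1, 0, 1, 2, 0, 1, 0, 4, 3, 1, 3, 1, 0, 4]), (246, true, [2, 4, 0, 1, 3, 1, 3, 4, 0, 1, 0, 1]), (234,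 false, [3, 4, 3, 1, 3, 1, 0, 4, 0, 4, 3, 1, 3, 1]), (256, false, [1, 0, 2, 4, 0, 1, 3, 1, 3, 1, 3, 4, 0, 4, 3]), (126, false, [1, 2, 0, 1, 0, 1, 3, 4, 3, 4, 3, 1]), (95, false, [2, 0, 4, 3, 1, 0, 4, 0, 4, 3, 1, 3]), (230, true, [0, 4, 3, 1, 0, 4, 0, 4, 0, 1, 3, 4]), (169, true, [0, 1, 2, 0, 1, 0, 1, 0, 1, 3, 1, 0, 4, 0, 1]), (186, false, [0, 2, 4, 3, 1, 3, 1, 3, 4, 0, 4, 3, 1]), (95, false, [1, 0, 1, 0, 1, 3, 1, 0, 4, 0, 4, 0, 1, 3, 1]), (64, true, [0, 1, 2, 0, 1, 3, 4, 3, 4, 3, 4, 0, 1]), (96, true, [4, 0, 1, 3, 1, 0, 1, 0, 1, 3, 4, 0, 4, 0, 1, 0]), (234, false, [1, 3, 1, 0, 1, 3, 1, 3, 1, 3, 4, 3, 4, 0, 4, 0]), (242, true, [1, 3, 4, 0, 1, 3, 1, 0, 4, 0, 4, 0, 4]), (256, false, [0, 1, 0, 2, 4, 3, 4, 0, 1, 3, 1, 3, 4,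 3]), (256, false, [2, 4, 3, 1, 3, 1, 0, 1, 3, 1, 0, 4, 0, 1]), (178, true, [3, 4, 3, 4, 0, 4, 0, 1, 3, 1, 3, 4]), (169, true, [1, 3, 4, 0, 1, 3, 1, 3, 1, 0]), (112, false, [0, 2, 4, 3, 1, 0, 4, 3, 4, 0, 1, 0, 1, 3, 4, 3]), (58, true, [2, 4, 3, 1, 0, 1, 0, 1, 3, 1, 0, 4]), (76, false, [1, 2, 0, 1, 3, 1, 3, 1, 0, 4, 3, 4, 0, 1, 0]), (158, false, [3, 1, 3, 1, 3, 4, 3, 4, 3, 4, 0, 4, 3, 4, 0]), (246, true, [2, 0, 1, 0, 4, 3, 4, 0, 1, 3, 4, 0]), (112, false, [1, 0, 1, 0, 1, 0, 1, 2, 0, 1, 0, 4, 0, 4, 0])]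
def r41 : List (ℕ × Bool × List ℕ) := [(22, true, [1, 3, 1, 3, 4, 3, 4, 0, 1, 0, 1, 0, 4]), (210, false, [1, 0, 1, 0, 1, 0, 4, 0, 4, 3, 1, 0, 1, 3, 1]), (221, false, [0, 4, 3, 4, 3, 1, 0, 4, 3, 4, 0]), (120, true, [0, 1, 0, 1, 0, 1, 0, 4, 0, 4, 0, 4, 3, 4, 3]), (41, false, [0, 1, 0, 1, 0, 1, 0, 1, 3, 4, 3, 1, 0, 4, 0]), (106, true, [0, 2, 4, 3, 1, 0, 4, 0, 4, 3, 1]), (171, true, [2, 0, 4, 0, 4, 3, 1, 0, 1, 0, 4, 0, 4, 3, 1, 0, 4]), (48, false, [3, 4, 3, 4, 0, 4, 3, 4, 3, 1, 0, 4]), (71, true, [0, 4, 0, 1, 3, 1, 0, 1, 3, 1, 0, 1, 0, 1]), (81, true, [2, 4, 3, 4, 3, 1, 0, 4, 0, 4, 3, 1, 0, 4]), (87, true, [0, 4, 0, 4, 3, 1, 3, 1, 0, 1, 3, 4, 3, 1, 0, 1]), (41, false, [1, 3, 1, 0, 4, 3, 1, 0, 1]), (110, true, [1, 2, 0, 4,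 0, 4, 0, 4, 0, 4, 3, 1, 0, 4]), (214, true, [1, 3, 1, 3, 1, 0, 4, 3, 4, 0, 1, 0, 1, 3, 4]), (275, true, [2, 4, 0, 1, 3, 4, 0, 4, 0, 4, 0, 1, 3]), (274, true, [0, 4, 0, 4, 3, 1, 0, 1, 0, 1, 3, 1, 0, 1, 3]), (87, true, [3, 4, 0, 1, 3, 1, 3, 1, 3, 4, 3]), (64, true, [0, 1, 0, 4, 3]), (106, false, [2, 0, 4, 3, 1, 0, 1, 3, 1, 0, 4, 0, 4]), (171, false, [2, 0, 1, 0, 4, 0, 4, 3, 1, 0, 1, 0, 1, 3, 4]), (163, false, [1, 3, 4, 3, 4, 3, 4, 0, 1, 0, 1, 3, 4]), (23, true, [3, 4, 3, 1, 0, 1, 0, 1, 0, 1, 0, 4]), (106, false, [0, 1, 0, 1, 0, 1, 2, 0, 4, 3, 4, 0, 4, 3]), (22, true, [0, 1, 0, 1, 3, 1, 0, 1, 3, 4, 0, 4, 3, 4]), (155, false, [0, 2, 4, 3, 4, 3, 4, 3, 1, 0, 1, 3, 4, 0, 4]), (221, false, [3, 4, 0, 1, 3, 1, 3, 1, 3, 1, 0, 1,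 0, 1, 0]), (25, true, [1, 0, 1, 3, 4, 0, 1, 0, 1, 3, 4, 0, 1]), (42, true, [0, 1, 0, 1, 0, 1, 0, 1, 0, 1, 0, 1, 0, 1, 2]), (233, true, [0, 1, 0, 1, 0, 2, 4, 0, 1, 0, 4, 3, 4, 3]), (274, true, [2, 0, 1, 0, 1, 3, 4, 0, 4, 3, 1]), (214, true, [3, 1, 3, 1, 0, 4, 3, 1, 3, 1, 0, 1, 0, 4, 3, 4, 0]), (87, true, [3, 4, 0, 1, 0, 1, 0, 1, 0, 4, 0]), (71, true, [3, 1, 0, 4, 0, 4, 3, 4, 0, 4, 3, 4, 3]), (110, true, [0, 2, 4, 0, 4, 0, 4, 0, 4, 0, 1]), (234, false, [0, 2, 4, 3, 1, 3, 1, 3, 4]), (106, false, [0, 1, 0, 1, 0, 1, 2, 0, 4, 3, 4, 0, 4, 3]), (23, true, [0, 1, 3, 1, 0, 1, 0, 4, 0, 4, 0, 1, 3, 1]), (72, false, [0, 4, 3, 4, 3, 1, 0, 1, 0, 4, 0, 4, 3, 1, 0, 1, 3]), (210, false, [0, 4, 0, 1, 0, 1, 3, 1, 0, 1, 3, 1]), (155, false,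 [2, 4, 3, 1, 3, 1, 3, 1, 3, 1, 0, 4, 3]), (142, false, [4, 0, 1, 0, 1, 3, 4, 0, 4, 0, 1]), (71, true, [3, 4, 3, 4, 0, 4, 3, 1, 0]), (61, true, [2, 0, 4, 0, 1, 0, 1, 0, 4, 0, 4, 3, 1, 0]), (61, true, [3, 1, 0, 1, 0, 1, 3, 1, 0, 4]), (101, true, [4, 0, 4, 3, 1, 3, 1, 0, 4, 0, 4, 3, 4]), (127, false, [2, 0, 4, 0, 1, 0, 1, 0, 4, 0, 4, 3, 1, 0]), (41, false, [0, 4, 0, 4, 3, 4, 3, 4, 0, 1, 3, 1, 3, 4]), (27, true, [0, 1, 0, 1, 2, 0, 1, 3, 1, 0, 4, 3, 4, 0, 4]), (46, true, [1, 0, 1, 0, 2, 4, 0, 4, 3, 4, 0, 1, 3, 1]), (199, true, [1, 2, 0, 4, 0, 1, 3, 1, 3, 4, 3, 4, 0]), (64, true, [0, 1, 3, 4, 0, 4, 3, 1, 0, 1, 0, 4, 0]), (171, true, [2, 4, 3, 4, 3, 1, 0, 1, 0, 4, 0, 4, 0, 1, 3, 4]), (69, true, [1, 3, 1, 3, 4, 0, 4, 3, 1, 3,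 1, 3, 4, 3]), (41, true, [0, 1, 0, 1, 0, 1, 0, 1, 0, 1, 0, 1, 0, 1]), (69, false, [4, 0, 4, 0, 4, 0, 1, 3, 4, 3, 4, 0, 4, 3]), (72, false, [0, 1, 0, 1, 0, 4, 0, 4, 3, 1, 3, 4, 0, 4, 3, 1, 0]), (71, true, [1, 0, 1, 0, 1, 3, 4, 0, 4, 0]), (87, true, [0, 4, 0, 1, 3, 1, 3, 1, 0, 1, 3, 4, 3, 1, 0, 1, 3]), (45, false, [3, 1, 3, 1, 3, 4, 3, 4, 3]), (71, true, [1, 0, 1, 0, 4, 3, 1, 0, 1, 0, 4, 0, 4, 3, 4, 3]), (48, false, [0, 4, 3, 4, 3, 1, 0, 4, 3, 4, 3]), (43, true, [1, 0, 1, 0, 1, 2, 0, 4, 0, 4, 3, 4, 3, 1, 0]), (46, true, [1, 2, 0, 1, 3, 1, 0, 4, 3, 4, 3, 4, 0, 4, 0, 4]), (41, false, [1, 0, 4, 0, 4, 3, 1, 0, 1, 0, 1, 3, 1, 3]), (118, true, [1, 0, 1, 0, 1, 0, 1, 0, 2, 4, 3, 4, 3, 1, 3]), (41, true, []), (118, true, [2, 4,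 0, 4, 0, 4, 3, 1, 0, 1, 0, 4, 0, 4, 3]), (41, true, [0, 1, 0, 1, 0, 2, 4, 0, 4, 3, 1, 3, 1, 3, 1, 0, 1, 0]), (72, false, [4, 3, 1, 0, 4, 3, 4, 0, 4, 0, 1, 3, 4]), (163, false, [4, 3, 1]), (113, true, [2, 4, 0, 1, 0, 4, 3, 4, 3, 1, 0, 1, 0, 1]), (46, true, [1, 0, 2, 4, 3, 4, 3, 4, 3, 4, 3, 1]), (71, true, [3, 1, 0, 4, 3, 1, 3, 1, 3, 1, 0, 4, 3, 4, 3]), (43, true, [2, 4, 3, 4, 0, 4, 3, 4, 0, 4, 0, 1, 3, 1]), (106, true, [1, 0, 1, 0, 2, 4, 0, 4, 3, 4, 0, 4]), (23, true, [1, 0, 1, 3, 1, 3, 1, 3, 4, 3, 4, 3, 4, 0, 4, 0]), (42, true, [0, 1, 0, 1, 2, 0, 4, 3, 1, 3, 1, 0, 4, 3, 1, 0]), (43, true, [1, 2, 0, 4, 0, 1, 3, 4, 0, 4, 0, 1, 3, 1, 0]), (22, true, [0, 1, 0, 1, 0, 1, 0, 1, 0, 1, 0, 1, 0, 1]), (127, false, [2, 4, 0, 1,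 3, 4, 3, 1, 0, 1, 0, 1, 0, 4, 3, 1, 0]), (72, false, [0, 1, 3, 1, 3, 1, 3, 4, 0, 1, 0, 1, 3, 4, 3, 1]), (81, true, [3, 4, 3, 4, 3, 1, 0, 1, 0, 4, 3, 4, 3]), (221, false, [1, 0, 1, 3, 4, 3, 4, 0, 4, 0, 4, 3, 4, 3, 4]), (106, true, [1, 0, 1, 0, 2, 4, 0, 4, 3, 4, 0, 4]), (200, true, [2, 0, 1, 0, 4, 3, 1, 0, 1, 0, 1, 3, 4, 3]), (69, false, [1, 0, 4, 0, 4, 3, 1, 3, 1, 3, 1, 0, 4, 0, 4, 3, 4]), (234, false, [0, 2, 4, 0, 4, 3, 1, 3, 1, 0, 1, 0, 4]), (200, true, [0, 1, 0, 1, 0, 1, 0, 2, 4, 3, 4, 0, 4, 3, 4, 0, 4]), (46, true, [0, 2, 4, 0, 1, 0, 1, 0, 1, 0, 4, 3, 4]), (113, true, [2, 0, 1, 0, 1, 0, 4, 0, 4, 3, 4, 3, 4, 0]), (22, true, [0, 1, 0, 1, 0, 1, 3, 1, 3, 1, 3, 1, 0, 1]), (120, true, [4, 3, 1, 3, 1, 3, 4, 0, 4, 3, 1, 3,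 1, 3, 1]), (214, true, [0, 4, 3, 4, 3, 1, 0, 1, 3, 1, 0, 4]), (101, true, [0, 4, 3, 4, 0, 1, 0, 1, 3, 4, 3, 4, 0, 4]), (69, true, [1, 3, 1, 3, 1, 3, 1, 3, 4, 3, 4, 0, 4, 0]), (71, true, [3, 4, 0, 4, 3, 4, 0, 1, 0, 1, 0, 4, 3, 4, 0, 1]), (214, true, [1, 3, 4, 0, 1, 3, 1, 0, 4, 0, 4, 3, 1, 3]), (155, true, [2, 0, 1, 3, 1, 3, 1, 0, 1, 0]), (71, true, [3, 1, 0, 1, 0, 1, 3, 4, 0, 4, 3, 4, 0, 1]), (171, false, [0, 2, 4, 0, 4, 3, 4, 0, 4, 3, 1, 3, 1, 0]), (116, true, [2, 4, 0, 4, 0, 4, 3, 1, 3, 4]), (116, true, [2, 0, 1, 0, 4, 0, 4, 3, 4, 0, 1, 3, 1]), (99, false, [1, 3, 4, 3, 4, 0, 1, 3, 1, 3, 1, 0, 1, 0]), (99, false, [4, 0, 4, 3, 4, 3, 4, 0, 1, 3, 1, 3, 1, 0, 1]), (275, true, [1, 0, 2, 4, 3, 1, 0]), (221, false, [4, 3, 1,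 3, 4, 0, 4, 0, 1, 0]), (155, true, [2, 0, 4, 0, 4, 0, 1, 3, 1, 3, 4, 0, 4]), (199, true, [1, 2, 0, 1, 3, 4, 0, 4, 3, 1, 3, 1, 0, 1, 0]), (155, false, [0, 2, 4, 3, 4, 3, 4, 3, 1, 0, 1, 3, 4, 0, 4]), (155, true, [2, 0, 1, 3, 1, 3, 1, 0, 1, 0]), (233, true, [4, 0, 1, 0, 1, 3, 4, 3, 4, 0, 1, 3, 1]), (41, true, [0, 1, 0, 1, 0, 1, 0, 1, 0, 1, 0, 1, 0, 1])]
def r42 : List (ℕ × Bool × List ℕ) := [(85, true, [4, 0, 4, 0, 1, 3, 1, 3, 1, 3, 4, 0, 1, 3]), (250, true, [2, 4, 3, 4, 0, 1, 3, 1, 0, 1, 3, 4, 3]), (153, false, [3, 4, 3, 1, 3, 1, 0, 4, 3, 4, 0, 4, 0]), (106, false, [0, 4, 3, 4, 0, 4, 3, 4, 0, 4, 0, 4, 0]), (212, false, [0, 1, 0, 4, 3, 4, 3, 1, 0, 1, 3, 1, 0, 1]), (154, false, [3, 4, 3, 4, 0, 4, 3, 1, 3, 4, 0, 4, 0, 4]),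 (85, true, [0, 1, 3, 1, 0, 4, 3, 4, 3, 4, 0, 4, 3, 4, 3]), (176, true, [0, 2, 4, 3, 4, 3, 4, 0, 1, 0, 1, 0]), (165, true, [1, 2, 0, 1, 3, 1, 0, 4, 0, 4, 3]), (112, false, [4, 0, 1, 0, 4, 3, 4, 0, 1, 0, 1, 3, 4, 0, 4]), (70, true, [0, 1, 2, 0, 1, 0, 4, 0, 4, 0, 4, 3, 4, 0, 1, 3, 4]), (212, false, [3, 4, 0, 4, 3, 4, 3, 4, 3, 4, 0, 4, 0, 4, 0, 1]), (155, false, [0, 1, 3, 1, 0, 4, 3, 4, 3, 1, 0]), (89, true, [0, 4, 3, 1, 3, 4, 0, 4, 3, 4, 3, 4]), (276, false, [0, 1, 3, 1, 0, 4, 3, 4, 3, 4, 0, 4, 3, 1, 3, 4]), (253, false, [3, 1, 0, 4, 0, 4, 3, 1, 0, 4, 0, 4, 3]), (190, false, [3, 1, 3, 4, 0, 4, 0, 4, 0, 1, 3, 4, 0, 4, 0]), (154, false, [0, 1, 0, 1, 0, 1, 3, 4, 3, 4, 3, 1]), (154, false, [3, 1, 0, 4, 3, 4, 3, 1, 0, 4, 3]),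 (261, true, [3, 1, 0, 1, 3, 1, 3, 4, 3, 4, 0, 1, 0, 1, 0]), (72, true, [0, 1, 3, 1, 3, 4, 0, 1, 3, 1, 0, 1, 3, 4]), (237, false, [0, 4, 3, 1, 3, 1, 0, 1, 0, 1, 3, 4, 3, 4, 0]), (213, false, [2, 4, 3, 1, 0, 1, 0, 1, 3, 1, 3, 1, 0, 1, 3]), (21, false, [0, 1, 0, 1, 0, 2, 4, 0, 4, 3, 1, 3, 1, 3, 1, 0, 1, 0]), (141, true, [3, 1, 3, 1, 0, 1, 3, 4, 3, 1]), (141, true, [1, 0, 1, 0, 4, 3, 4, 3, 4, 3, 1, 0]), (21, false, [1, 2, 0, 1, 3, 4, 0, 1, 0, 1, 3, 4, 0, 1]), (42, true, [0, 1, 0, 1, 3, 4, 0, 1, 0, 1, 3, 4, 0, 1, 3]), (213, false, [1, 2, 0, 1, 0, 4, 0, 4, 3, 1, 3, 4, 0, 1, 3]), (253, false, [3, 1, 3, 1, 3, 4, 0, 4, 3, 1, 3, 4, 0]), (226, false, [0, 1, 0, 1, 0, 1, 0, 2, 4, 3, 4, 3, 4, 0, 4, 3, 1, 0]), (190, false, [3, 1, 0,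 1, 0, 4, 3, 1, 0, 1, 3, 4, 3, 1, 0]), (214, false, [1, 0, 4, 3, 4, 3, 1, 0, 4, 0, 4, 3, 1]), (155, true, [3, 4, 0, 1, 0, 1, 3, 1, 0, 1, 3, 1]), (72, true, [1, 0, 2, 4, 3, 1, 0, 1, 3, 4, 0, 1, 3, 1]), (153, false, [0, 4, 0, 1, 0, 1, 3, 1, 3, 1, 0, 4, 3, 4, 0, 4, 3, 4]), (237, false, [0, 1, 0, 1, 3, 1, 0, 4, 3, 4, 0, 1, 0, 1]), (53, false, [3, 1, 0, 1, 0, 1, 3, 1, 0, 1, 3, 1, 0, 4]), (250, true, [0, 1, 0, 1, 3, 1, 0, 1, 3, 4, 0, 4, 3]), (165, true, [0, 1, 0, 1, 0, 1, 2, 0, 4, 0, 4]), (36, false, [1, 0, 4, 0, 4, 3, 1, 0, 1, 0, 4, 0, 4]), (181, false, [4, 0, 4, 0, 4, 0, 4, 3, 1, 3, 1]), (96, false, [4, 3, 4, 3, 4, 3, 1, 0, 4, 3, 4, 3]), (96, false, [0, 1, 3, 4, 0, 1, 0, 1, 3, 4, 3, 1, 0]), (80, false, [2, 0, 1, 0, 1, 0,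 4, 3, 4, 0, 1, 3]), (109, true, [1, 0, 1, 0, 1, 0, 2, 4, 0, 4, 3, 1, 0, 1, 3, 1, 3]), (84, true, [0, 1, 0, 1, 0, 1, 2, 0, 1, 0]), (43, true, [1, 3, 1, 3, 4, 0, 4, 3, 4, 0, 1, 3, 1]), (19, true, [4, 3, 4, 0, 1, 3, 1, 0, 1, 3, 4, 3, 4]), (65, true, [1, 0, 4, 0, 4, 3, 4]), (154, false, [4, 0, 1, 0, 1, 0, 1, 0, 1, 3, 4, 3, 1, 0, 1]), (85, true, [4, 3, 4, 3, 4, 0, 4, 0, 1, 3, 4]), (139, true, [0, 2, 4, 3, 4, 3, 4, 0, 1, 0, 1, 3, 1, 0]), (42, true, [0, 1, 0, 1, 3, 4, 0, 1, 0, 1, 3, 4, 0, 1, 3]), (214, false, [2, 4, 0, 1, 3, 4, 3, 4, 3, 4, 0, 4, 3, 1, 3]), (109, false, [3, 4, 0, 1, 3, 1, 3, 4, 3, 4, 0, 1, 3]), (276, true, [2, 0, 1, 0, 1, 0, 1, 0, 1, 3, 4, 0, 1, 3]), (70, true, [2, 4, 0, 4, 0, 4, 3, 4, 3, 1, 0, 1]), (133, false,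 [0, 4, 3, 4, 0, 4, 0, 1, 3, 1, 0, 1, 3, 4]), (181, false, [1, 0, 1, 3, 1, 0, 4, 3, 1, 3, 4, 0, 4, 3, 1, 0, 1]), (176, true, [2, 0, 4, 0, 4, 3, 4, 3, 4, 0, 4, 3]), (205, true, [3, 4, 0, 4, 3, 4, 3, 4, 0, 1, 3, 1, 3, 4, 3, 4]), (27, true, [1, 0, 4, 0, 1, 3, 4, 0, 4, 0, 1, 3, 1, 0]), (84, true, [1, 3, 1, 0, 1, 3, 4, 0, 4, 3, 4, 0]), (152, true, [0, 2, 4, 0, 4, 3, 1, 3, 4, 0, 4, 0, 4, 3]), (24, true, [2, 4, 0, 1, 0, 1, 0, 4, 0, 4, 0, 1]), (152, true, [2, 4, 0, 4, 3, 4, 0, 1, 3, 1, 3, 1, 0, 1, 0, 4, 3]), (24, true, [0, 1, 0, 1, 3, 4, 0, 4, 3, 4, 0, 4, 3, 1, 3, 4]), (53, true, [0, 4, 0, 1, 3, 1, 0, 1, 0, 4, 0, 4]), (72, true, [0, 4, 3, 1, 0, 4, 3, 4, 3, 4, 0, 4, 0, 1, 0]), (220, false, [3, 4, 0, 4, 3, 1, 0, 1, 3, 4, 3, 4,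 0, 4]), (80, false, [0, 1, 2, 0, 1, 0, 1, 3, 1, 0, 1, 3, 1]), (276, true, [2, 4, 3, 4, 0, 1, 3, 1, 0, 1, 0, 1, 0, 4, 0]), (205, true, [3, 1, 3, 1, 3, 1, 3, 1, 0, 1, 0, 4, 0, 4, 3, 4]), (213, false, [0, 2, 4, 0, 4, 0, 4, 0, 1, 3, 1, 3]), (25, true, [0, 1, 2, 0, 1, 3, 1, 0, 4, 3, 4, 0, 4, 3, 4]), (41, true, [0, 1, 0, 1, 0, 1, 0, 1, 0, 1, 0, 1, 0, 1, 2]), (19, true, [1, 3, 1, 0, 1, 3, 4, 0, 4, 0, 4, 3, 4, 3, 4]), (23, true, [0, 1, 0, 2, 4, 0, 4, 0, 4, 0, 1, 3, 4, 3, 4, 0, 4, 3]), (109, true, [0, 2, 4, 0, 1, 0, 4, 3, 4, 0, 4, 0, 4]), (109, false, [0, 4, 3, 1, 0, 4, 0, 4, 3, 1, 3, 4, 0, 1, 3]), (112, false, [0, 4, 0, 4, 3, 1, 3, 1, 3, 1, 0, 1, 3]), (153, false, [0, 1, 0, 1, 0, 4, 3, 4, 0, 1, 0, 1, 0]), (153, false, [4, 0,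 4, 3, 4, 3, 4, 3, 4, 0, 1, 3, 1, 0, 4, 3, 1]), (268, true, [2, 0, 1, 0, 1, 3, 1, 3, 4, 3, 4, 3, 4, 0]), (214, false, [0, 1, 2, 0, 4, 3, 1, 0, 1, 0, 1, 0, 1, 3, 1]), (72, true, [2, 4, 3, 4, 3, 4, 3, 1, 0, 1, 3, 4, 0, 4, 0, 1]), (268, true, [1, 2, 0, 4, 0, 1, 3, 1, 3, 1, 0, 1, 3, 4, 3, 1, 0]), (80, false, [4, 0, 4, 0, 1, 3, 1, 3, 1, 0, 1, 3, 4, 3, 1, 0]), (220, false, [3, 1, 3, 4, 0, 1, 3, 1, 0, 4, 0, 4, 0, 4]), (85, true, [1, 3, 1, 0, 4, 0, 4, 3, 4, 3, 4, 0, 1, 3]), (106, false, [4, 0, 4, 3, 1, 0, 1, 3, 4, 0, 4, 0, 4, 3]), (226, false, [2, 4, 3, 1, 3, 4, 0, 4, 0, 4, 0, 1, 3, 1, 0, 1]), (80, false, [0, 4, 3, 1, 3, 1, 3, 4, 3, 4, 0, 4, 3, 4, 0]), (139, true, [1, 0, 1, 3, 4, 0, 1, 3, 1, 0, 4]), (214, false, [4, 3, 1, 3,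 1, 3, 4, 0, 4, 3, 1, 0, 1]), (89, true, [1, 0, 1, 0, 1, 0, 4, 3, 4, 0, 1, 3, 1, 0, 1, 0]), (141, true, [1, 0, 1, 0, 1, 3, 4, 3, 4, 0, 4, 0, 4, 3, 1]), (165, true, [2, 4, 0, 4, 3, 4, 0, 1, 3, 1, 0, 4, 0, 4, 0]), (261, true, [4, 0, 1, 3, 4, 0, 4, 3, 1, 0, 1, 0]), (77, true, [1, 3, 4, 3, 4, 0, 1, 3, 1, 0, 1, 3, 1]), (77, false, [4, 3, 4, 0, 1, 3, 1, 3, 1, 3, 4]), (192, false, [1, 0, 1, 3, 1, 3, 4, 0, 1, 0]), (192, true, [0, 1, 3, 4, 3, 1, 0, 1, 0, 1, 0, 1, 3, 1, 0]), (276, false, [1, 0, 4, 3, 4, 3, 4, 0, 4, 0, 1, 3, 4, 3, 1]), (141, true, [1, 3, 4, 0, 4, 0, 1, 3]), (165, true, [2, 4, 0, 1, 3, 1, 3, 1, 3, 1, 0, 4, 0]), (65, true, [1, 3, 1, 0, 1, 3, 4, 3, 4, 3, 4, 0, 4, 3]), (152, true, [1, 0, 2, 4, 0, 4, 3, 1, 0, 1, 0, 4,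 0, 4, 0, 4, 3]), (152, true, [2, 0, 1, 3, 1, 3, 4, 0, 1, 3, 1, 3, 4, 3, 4]), (213, false, [2, 0, 1, 0, 4, 3, 4, 0, 1, 0, 1, 3, 4, 3, 4, 0]), (41, true, [0, 1, 0, 1, 2, 0, 4, 3, 1, 3, 1, 0, 4, 3, 1, 0])]
def r43 : List (ℕ × Bool × List ℕ) := [(92, true, [0, 2, 4, 0, 1, 0, 1, 3, 4, 0, 4, 3, 1, 3]), (127, false, [4, 0, 4, 0, 1, 3, 4, 3, 4, 0]), (96, true, [1, 0, 1, 0, 2, 4, 3, 4, 3, 4, 0, 1, 3, 1, 0, 4]), (3, true, [2, 4, 0, 4, 3, 1, 3, 4]), (222, false, [2, 4, 3, 4, 0, 1, 3, 1, 3, 4, 3, 4, 3, 4]), (41, true, [2, 4, 3, 4, 0, 1, 0, 1, 3, 1, 0, 1, 3, 1]), (73, true, [1, 0, 2, 4, 3, 1, 0, 1, 3, 1, 3, 1, 0, 1, 0]), (210, false, [0, 2, 4, 0, 1, 0, 1, 0, 4, 0, 4, 0]), (181, true, [3, 1, 3, 4, 0, 4, 3, 1, 3, 1, 3, 1, 0, 1]), (57,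 false, [3, 4, 0, 4, 0, 1, 3, 1, 0, 4, 3, 1, 0]), (73, true, [1, 0, 4, 3, 1, 3, 1, 3, 4, 0, 4, 3]), (222, false, [2, 0, 1, 3, 4, 0, 1, 3, 1, 3, 4, 3, 4]), (192, true, [0, 2, 4, 3, 4, 0]), (262, true, [1, 0, 2, 4, 0, 4, 0, 4, 3, 4, 0, 1, 3, 4]), (270, true, [1, 0, 1, 3, 4, 0, 4, 3, 4, 3, 4, 0, 1, 3, 1]), (190, true, [2, 0, 1, 0, 1, 3, 4, 3, 4, 0, 1, 0, 1, 3, 1]), (205, false, [2, 4, 3, 1, 0, 4, 3, 4, 0, 1, 0]), (34, false, [3, 4, 3, 4, 0, 4, 0, 4, 3, 4, 3, 1, 0]), (41, true, [0, 2, 4, 0, 1, 0, 1, 3, 1, 3, 4, 0, 4, 3, 4]), (213, false, [2, 0, 4, 3, 4, 0, 1, 3, 1, 3, 1, 0, 1, 3]), (127, true, [1, 0, 1, 0, 1, 0, 1, 2, 0, 4, 0, 4, 3, 1, 3, 4, 0]), (276, true, [3, 4, 0, 1, 3, 1, 3, 1, 3, 1, 0, 1, 0]), (109, true, [4, 0, 1,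 3, 1, 3, 4, 0, 1, 0]), (41, true, [2, 0, 4, 3, 4, 0, 1, 0, 1, 3, 4, 0, 1, 0, 4]), (25, false, [0, 1, 2, 0, 4, 0, 4, 3, 4, 3]), (43, false, [0, 4, 3, 1, 0, 1, 3, 1, 3, 4, 0, 1, 0]), (46, true, [0, 1, 0, 1, 0, 4, 0, 4, 0, 4]), (9, true, [0, 1, 3, 1, 0, 4, 0, 4, 3, 1, 3, 4, 0, 1]), (277, true, [2, 4, 0, 4, 0, 1, 3, 1, 3, 1, 0, 1, 0, 1, 0]), (190, true, [2, 0, 1, 3, 4, 0, 1, 0, 1, 0, 4, 3, 1, 3, 1]), (66, false, [0, 1, 0, 1, 3, 4, 3, 4, 3, 1, 0, 1, 3, 4, 3, 4]), (205, false, [1, 0, 1, 3, 4, 0, 4, 3, 4, 0, 1, 0, 1]), (44, false, [4, 0, 1, 3, 4, 0, 4, 3, 1, 3, 1]), (192, false, [0, 1, 2, 0, 4, 0, 4, 3, 1, 0, 4, 0, 1]), (67, false, [1, 0, 1, 3, 4, 0, 4, 3, 4, 3, 4, 0, 4, 3]), (51, true, [3, 4, 0, 1, 0, 1, 0, 4, 0, 4, 3, 1,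 0]), (276, true, [0, 4, 3, 4, 0, 1, 3, 1, 3, 4, 3, 4, 3, 4, 0, 1]), (84, false, [0, 1, 0, 1, 0, 1, 3, 1, 3, 1, 3, 1, 0, 4, 3, 4]), (127, false, [4, 3, 1, 3, 1, 0, 4, 0, 4, 3, 1, 3, 4, 0]), (120, true, [4, 0, 4, 3, 4, 3]), (19, true, [1, 3, 1, 3, 1, 3, 4, 3, 4, 3]), (165, false, [2, 4, 0, 4, 3, 4, 3, 4, 3]), (153, true, [2, 4, 3, 1, 3, 4, 0, 4, 0, 4, 3, 4]), (153, true, [2, 0, 4, 0, 1, 3, 1, 3, 4, 3, 4, 3, 4, 0, 4, 3]), (233, true, [2, 4, 3, 4, 0, 4, 3, 1]), (64, true, [1, 0, 1, 0, 4, 3, 4, 3, 4, 3, 4, 0, 1, 0, 1]), (1, true, [0, 2, 4, 0, 1, 0, 4, 3, 4, 0, 4, 3, 4]), (43, true, [4, 0, 1, 0, 1, 0, 4, 0, 4, 0, 1]), (19, true, [2, 4, 0, 1, 0, 1, 0, 4, 0, 4, 0, 1]), (122, true, [3, 1, 0, 1, 3, 1, 3, 1, 0, 4, 3, 1, 3, 4]),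 (34, false, [1, 3, 1, 0, 4, 3, 4, 3, 4, 3, 1, 0, 4]), (73, true, [2, 4, 0, 1, 3, 1, 3, 4, 3, 4, 3, 4, 0, 1]), (137, true, [4, 3, 4, 0, 4, 3, 4, 3, 4, 0, 1, 3, 1, 3]), (25, true, [2, 0, 4, 3, 4, 0, 1, 0, 1, 3, 4, 0, 1, 0, 4]), (55, true, [2, 0, 4, 0, 1, 0, 1, 3, 4, 0, 4, 3, 4, 0]), (213, true, [0, 1, 0, 1, 2, 0, 1, 0, 1]), (270, false, [0, 4, 0, 4, 0, 1, 3, 1, 0, 4, 3, 1, 3, 4]), (73, true, [0, 1, 0, 4, 3, 1, 3, 1, 3, 4, 0, 4, 3, 4]), (27, true, [1, 0, 1, 0, 1, 0, 4, 0, 4, 0]), (165, false, [1, 2, 0, 1, 3, 4, 0, 4, 0, 4, 0]), (210, false, [2, 0, 1, 0, 4, 0, 4, 3, 1, 0, 1, 0, 1]), (273, true, [2, 4, 0, 4, 3, 4, 3, 1, 0, 4, 3, 4, 3, 4, 0]), (54, false, [0, 2, 4, 0, 4, 3, 4, 3, 4, 0, 4]), (1, true, [0, 1, 3, 1, 3, 1, 0,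 4, 3, 4, 0, 4, 0]), (151, true, [2, 4, 0, 4, 0, 4, 3, 4, 3, 4, 3, 4, 0, 4, 0]), (24, true, [1, 0, 1, 0, 2, 4, 0, 4, 3, 4, 0, 1, 3, 1]), (151, true, [2, 0, 4, 3, 4, 3, 1, 0, 1, 3, 1, 3, 1]), (42, true, [4, 0, 4, 3, 1, 0, 1, 3, 1, 0, 4, 0, 4]), (84, false, [1, 0, 1, 3, 1, 3, 1, 0, 4, 3, 4, 0, 4]), (127, true, [1, 0, 1, 2, 0, 4, 0, 1, 3, 4, 3, 4, 0]), (220, true, [4, 0, 1, 0, 4, 3, 1, 0, 1, 0, 1, 3]), (233, true, [1, 0, 4, 0, 4, 0, 1, 3, 4, 3, 4, 3, 1, 0, 4]), (270, false, [1, 3, 1, 0, 1, 3, 4, 0, 4]), (273, true, [1, 3, 1, 3, 4, 0, 4, 3, 1]), (109, true, [3, 4, 0, 1, 3, 1, 0, 4, 0, 4, 3, 4, 3, 4]), (28, true, [2, 0, 1, 0, 1, 3, 1, 3, 4, 0, 4, 3, 1, 0]), (25, true, [0, 1, 0, 1, 3, 1, 3, 4, 0, 4, 3, 1, 0]), (227, false,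 [0, 1, 0, 1, 3, 1, 3, 4, 0, 4, 3, 1, 0]), (27, true, [1, 0, 1, 0, 1, 0, 4, 0, 4, 0]), (64, true, [3, 4, 3, 1, 3, 1, 0, 4, 3, 4, 3, 4, 0, 1, 0]), (213, true, [0, 1, 2, 0, 1, 3, 1, 3, 1, 0, 1, 0, 4, 0, 4, 3, 1]), (57, false, [3, 1, 0, 1, 0, 1, 3, 1, 3, 1, 0, 4, 3, 4, 3, 4]), (96, true, [2, 0, 1, 0, 4, 3, 4, 3, 4, 0, 4, 0, 4, 0, 4, 3, 4]), (51, true, [2, 4, 0, 4, 3, 4, 3, 4, 0, 1, 3, 1, 3, 1, 0, 1]), (124, false, [0, 1, 0, 2, 4, 0, 1, 3, 1, 3, 4, 0, 1, 3]), (55, true, [0, 4, 0, 1, 0, 1, 0, 1, 3, 1, 3, 1, 0, 4]), (67, false, [3, 4, 0, 1, 0, 1, 0]), (124, false, [1, 2, 0, 1, 3, 1, 0, 4, 3, 4, 0, 1, 0, 1, 3]), (233, true, [3, 4, 0, 4, 0, 4, 0, 4, 3, 1, 3, 1, 0]), (220, true, [0, 1, 0, 1, 0, 1, 3, 4, 3, 4, 0, 4, 3, 1, 0, 4]),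 (92, true, [2, 4, 3, 4, 0, 1, 0, 1, 3, 4, 0, 1, 0, 1, 0, 1]), (3, true, [2, 4, 3, 1, 0, 1, 3, 1, 3, 4, 3]), (66, false, [1, 3, 4, 0, 4, 0, 4, 3, 4, 0, 1, 3, 4, 3]), (233, true, [4, 0, 4, 3, 4, 0, 1, 0, 1, 0, 4, 0, 4, 3, 1]), (137, true, [4, 0, 1, 3, 4, 3, 4, 3, 1, 0, 1]), (44, false, [1, 0, 1, 0, 1, 0, 1, 0, 1, 3, 4, 3]), (262, true, [2, 0, 1, 3, 1, 0, 4, 3, 1, 3, 4, 0, 4, 3, 4, 3, 4]), (25, false, [2, 0, 1, 3, 4, 0, 1, 0, 1, 0, 4, 0]), (181, true, [0, 1, 3, 1, 0, 4, 3, 4, 0, 4, 3, 4, 3]), (213, false, [2, 4, 3, 1, 3, 4, 0, 4, 3, 4, 3, 1, 0, 1, 3]), (176, false, [3, 1, 0, 4, 3, 4, 0, 1, 0, 1, 0, 4, 3, 4]), (176, false, [3, 1, 3, 4, 0, 4, 3, 1, 3, 1, 3, 4, 0, 4]), (3, false, [0, 1, 0, 1, 3, 4, 3, 4, 3, 4, 0, 4]), (3,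 false, [4, 0, 1, 0, 4, 3, 1, 0, 1, 0, 4]), (270, true, [3, 1, 0, 1, 3, 1, 3, 4, 0, 4, 0, 4, 3, 4, 3, 4]), (43, false, [3, 4, 3, 1, 0, 4, 0, 4, 3, 4, 0, 1, 3]), (120, true, [4, 0, 1, 0, 4, 3, 1, 0, 1, 0, 4, 0]), (122, true, [3, 1, 3, 1, 3, 1, 0, 1, 3, 4, 3, 1, 0]), (65, true, [2, 0, 4, 0, 1, 3, 4, 3, 4, 0, 1, 3, 4, 3, 4, 0]), (65, true, [2, 0, 4, 0, 1, 0, 1, 0, 4, 0, 4, 3, 1, 3, 4, 0]), (277, true, [2, 4, 3, 1, 0, 1, 0, 4, 3, 1, 0, 1, 3, 1]), (18, false, [3, 1, 3, 1, 3, 4, 3, 4, 3, 4])]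
def r44 : List (ℕ × Bool × List ℕ) := [(249, false, [0, 1, 0, 4, 3, 1, 3, 1, 3, 1, 0, 1, 3, 4, 3]), (43, false, [4, 0, 4, 0, 1, 3, 1, 0, 4, 3, 1]), (146, true, [3, 1, 3, 1, 3, 1, 3, 1, 3, 1, 3, 1]), (169, false, [2, 4, 0, 1, 0, 1, 0, 4, 0, 4, 0, 4, 3, 1]), (169, false, [4, 3, 1, 3, 1, 3, 4, 3, 4, 3, 4, 0, 1, 3]), (233, false, [1, 0, 1, 3, 1, 3, 4, 0, 4, 0, 4, 3, 4, 3, 1, 0, 4]), (128, true, [0, 1, 0, 2, 4, 3, 4, 3, 4, 0, 4, 3, 4, 0, 4, 0, 1, 3]), (249, false, [0, 4, 3, 1, 3, 4, 0, 1, 0, 1, 0, 4, 3, 1]), (50, false, [1, 3, 1, 3, 4, 0, 1, 3, 1, 0, 4]), (181, false, [0, 2, 4, 0, 1, 3, 4, 3, 1, 0, 1, 3]), (181, false, [0, 4, 0, 1, 3, 4, 3, 1, 0, 1]), (43, false, [2, 4, 3, 4, 3, 1, 0, 1, 3, 4, 0, 1, 3]), (169, true, [0, 2,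 4, 0, 4, 0, 4, 3, 4, 0, 4]), (245, true, [0, 4, 3, 4, 0, 1, 3, 1, 3, 4, 3, 4, 0, 4, 0]), (142, true, [1, 3, 4, 0, 1, 0, 1, 3, 1, 0, 4]), (169, true, [0, 4, 3, 4, 3, 4, 0, 4, 3, 4, 3]), (245, true, [2, 0, 4, 3, 1, 0, 1, 0, 1, 0, 4, 0, 4, 3]), (249, true, [4, 3, 4, 3, 4, 0, 4, 3, 1, 3, 4, 0, 1]), (249, true, [3, 1, 0, 1, 3, 1, 0, 4, 0, 4, 3, 4, 0, 1]), (181, true, [0, 4, 3, 1, 3, 4, 0, 4, 0, 4, 0, 4, 3, 1, 3]), (18, false, [2, 4, 0, 4, 3, 1, 3, 1, 3, 1, 3, 4, 3]), (181, true, [0, 2, 4, 0, 1, 0, 4, 3, 4, 3, 4, 3, 4, 0, 1]), (43, false, [0, 1, 0, 2, 4, 0, 4, 0, 4, 0, 4, 0, 4, 3]), (56, true, [1, 3, 1, 0, 1, 0, 1, 0, 1, 3, 4, 3, 4, 0, 1]), (231, true, [3, 4, 0, 1, 3, 1, 3, 1, 3, 4, 3, 4, 0]), (181, true, [0, 1, 3, 4, 0, 4,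 3, 1, 3, 1, 3, 4, 0, 4, 3, 1]), (231, true, [2, 0, 4, 3, 1, 0, 1, 0, 1, 0, 4, 0, 4, 0]), (181, true, [1, 0, 1, 0, 1, 2, 0, 4, 0, 1, 3, 4, 3, 4, 3, 1]), (76, true, [2, 0, 4, 3, 1, 0, 1, 0, 1, 0, 1, 0]), (43, true, [4, 0, 4, 0, 4, 0, 4, 3, 4, 0, 1, 0, 4]), (245, false, [0, 1, 3, 1, 3, 1, 3, 1, 3, 1, 0, 4, 0]), (128, true, [0, 1, 0, 4, 0, 4, 0, 4, 3, 4, 0, 4, 3, 4, 3, 1]), (181, false, [2, 0, 4, 0, 4, 0, 4, 0, 4, 3, 4, 3, 4, 0, 1, 3]), (245, true, [3, 4, 0, 1, 3, 1, 3, 1, 3, 4, 3, 4]), (43, false, [0, 1, 0, 2, 4, 0, 4, 3, 4, 3, 4, 3, 4]), (18, true, [1, 0, 1, 3]), (18, false, [4, 3, 4, 0, 1, 0, 1, 0, 1, 0, 4]), (50, false, [1, 2, 0, 1, 0, 4, 3, 1, 0, 1, 3, 4, 3]), (128, false, [3, 1, 3, 1, 0, 1, 0, 4, 3, 1, 0, 1, 0, 4,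 0]), (18, true, [0, 1, 0, 1, 3, 4, 0, 4, 0, 1, 3, 1]), (184, false, [2, 4, 0, 1, 0, 1, 3, 1, 0, 1, 0, 4]), (43, true, [0, 1, 3, 4, 3, 4, 3, 4, 0, 4, 0, 4, 0, 1, 3]), (95, true, [0, 4, 0, 4, 0, 4, 3, 1, 0, 1, 3, 4, 0, 4]), (43, false, [0, 1, 0, 4, 3, 4, 3, 4, 3, 4, 3, 4]), (56, true, [0, 1, 0, 1, 3, 1, 3, 1, 3, 1, 0, 4, 0, 4, 3, 1, 3]), (233, true, [1, 2, 0, 1, 0, 4, 3, 1, 3, 1]), (95, false, [0, 1, 3, 1, 0, 1, 0, 4, 3, 1, 3, 1, 0, 4]), (50, true, [1, 3, 1, 3, 4, 0, 4, 0, 4, 3, 4, 0, 1, 0, 1, 0]), (184, true, [2, 4, 0, 4, 0, 4, 0, 1, 3, 4, 0, 1]), (76, true, [3, 4, 0, 1, 3, 1, 3, 1, 3, 1, 0]), (169, false, [0, 1, 3, 1, 0, 4, 0, 4, 0, 1, 3, 4, 3, 4, 0]), (43, true, [2, 4, 3, 4, 3, 4, 3, 4, 3, 4, 0, 1, 0, 4]), (231, false,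 [2, 0, 1, 0, 1, 3, 4, 0, 1, 3, 1, 3, 4]), (181, false, [3, 4, 3, 4, 3, 4, 3, 4, 0, 4, 0, 4, 3, 1]), (251, false, [3, 4, 3, 1, 0, 1, 3, 1, 0, 1, 3, 4, 3, 4, 0, 1]), (184, true, [0, 1, 0, 4, 3, 4, 0, 1, 3, 1, 3, 1, 0, 4, 3, 4]), (43, false, [0, 1, 0, 4, 3, 4, 0, 4, 0, 4, 0, 4, 3]), (18, true, [1, 0, 1, 2]), (56, true, [1, 0, 1, 0, 4, 0, 4, 3, 4, 3, 4, 3, 4, 0, 4]), (249, false, [3, 4, 3, 1, 3, 1, 0, 4, 0, 4, 3, 1, 0]), (169, true, [0, 4, 0, 1, 0, 1, 0, 4, 3, 4, 0, 1, 3, 1, 3, 1]), (128, false, [2, 0, 1, 0, 1, 3, 1, 3, 4, 0, 1, 3, 1, 3, 4, 0]), (184, false, [4, 3, 1, 3, 1, 0, 1, 3, 1, 3, 4, 3]), (43, true, [0, 1, 2, 0, 4, 0, 4, 0, 4, 3, 4, 3, 4, 3, 1]), (233, false, [4, 0, 1, 3, 4, 3, 4, 0, 1]), (56, false, [1, 3, 4, 0,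 1, 3, 1, 3, 4, 0, 4, 3, 1, 0, 4]), (128, false, [0, 2, 4, 0, 4, 3, 1, 3, 4, 0, 4, 3, 1, 0, 1, 0, 4]), (184, true, [0, 1, 0, 4, 3, 1, 0, 4, 0, 4, 0, 4]), (184, false, [0, 2, 4, 0, 4, 0, 4, 3, 4, 3, 1, 0, 1, 0, 1]), (233, true, [1, 3, 1, 3, 4, 0, 1, 0, 1, 3]), (76, false, [4, 0, 1, 3, 4, 0]), (95, false, [3, 1, 3, 1, 0, 1, 0, 1, 3, 1, 0, 1, 3]), (251, true, [4, 0, 4, 0, 4, 3, 4, 0, 4, 3, 4, 3, 1, 0]), (245, false, [1, 0, 4, 0, 4, 3, 4, 3, 1, 0, 1, 3, 4]), (249, true, [0, 2, 4, 3, 1, 3, 1, 0, 4, 3, 1, 0, 1, 0, 4]), (231, false, [2, 4, 3, 1, 3, 4, 0]), (128, false, [0, 1, 2, 0, 4, 3, 4, 0, 4, 0, 4, 0, 1]), (50, false, [3, 4, 0, 1, 0, 1, 0, 1, 3, 4, 3, 4, 0]), (56, false, [0, 1, 0, 1, 3, 4, 0, 4, 3, 1, 3, 1]), (128, true,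 [3, 1, 3, 4, 0, 4, 3, 1, 0, 1, 0, 4, 0, 4]), (50, true, [2, 4, 0, 1, 0, 1, 3, 4, 0, 4]), (128, false, [0, 1, 0, 1, 3, 4, 3, 1, 0, 1, 3, 1, 0, 1, 0, 4, 0]), (50, true, [4, 3, 1, 3, 1, 0, 4, 3, 4, 3]), (233, false, [2, 4, 3, 1, 0, 4, 0, 4, 3, 1, 3]), (181, false, [0, 4, 3, 4, 0, 4, 3, 4, 3, 1, 0, 1, 3]), (95, false, [2, 0, 1, 0, 1, 3, 1, 3, 1, 0, 1, 3, 1]), (181, false, [0, 2, 4, 0, 4, 3, 4, 0, 4, 0, 1, 3, 1]), (76, false, [2, 4, 3, 1, 0, 4, 0]), (18, false, [0, 1, 0, 4, 3, 4, 3, 1, 0, 1, 3, 4, 0]), (251, true, [4, 3, 4, 3, 4, 0, 4, 3, 4, 0, 4, 0, 1, 0]), (233, true, [4, 0, 4, 0, 1, 3, 1, 3, 4, 0, 4, 0, 1, 3, 1]), (245, false, [4, 0, 1, 0, 1, 3, 4, 0, 1, 3, 1, 0]), (76, false, [4, 3, 1, 0, 1, 0, 1, 3, 4, 0, 1, 3, 1, 3,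 4]), (231, false, [3, 4, 3, 1, 3, 4]), (142, false, [4, 3, 1, 0, 1, 3, 4, 0, 1, 0]), (128, false, [0, 1, 3, 4, 0, 4, 3, 4, 3, 4, 3, 1, 3]), (76, true, [3, 4, 0, 1, 0, 1, 0, 1, 0, 1, 0]), (56, false, [1, 3, 1, 0, 4, 3, 4, 0, 1, 0, 1, 3]), (146, false, [0, 4, 3, 1, 3, 1, 3, 4, 3, 4]), (128, true, [2, 0, 1, 0, 4, 3, 4, 0, 1, 3, 1, 3, 4, 3, 4, 3]), (251, true, [0, 4, 0, 1, 3, 1, 3, 1, 0, 4, 3, 1, 3, 1]), (95, true, [0, 1, 2, 0, 4, 3, 1, 0, 1, 3, 4, 0, 4]), (43, true, [0, 1, 3, 4, 0, 4, 3, 4, 3, 4, 0, 4, 3]), (181, true, [0, 4, 3, 4, 0, 4, 0, 4, 3, 4, 3, 4, 3, 4, 0, 1]), (231, true, [0, 1, 0, 1, 0, 1, 0, 2, 4, 0, 1]), (128, true, [2, 4, 0, 4, 0, 1, 3, 4, 0, 4, 3, 1, 3, 1, 0, 1]), (95, true, [4, 0, 1, 3, 1, 0, 1, 3, 4, 0,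 1, 0]), (251, false, [3, 4, 0, 1, 3, 1, 0, 4, 3, 4, 0]), (251, false, [0, 4, 3, 1, 0, 1, 3, 4, 0, 4, 0]), (43, true, [0, 1, 2, 0, 4, 3, 4, 0, 4, 0, 4, 3, 4]), (181, true, [1, 2, 0, 4, 3, 4, 0, 4, 0, 1, 3, 4, 3, 4, 0, 1]), (128, true, [3, 4, 3, 1, 0, 4, 3, 4, 0, 1, 0, 1, 3, 4, 0, 4])]
def r45 : List (ℕ × Bool × List ℕ) := [(59, true, [0, 1, 3, 4, 3, 4, 0, 1, 3, 1, 0, 4, 0, 1]), (180, true, [1, 3, 1, 0, 1, 0, 1, 3, 1, 3, 4, 3, 4, 3, 4, 3]), (116, false, [3, 1, 0, 4, 0, 4, 3, 4, 3, 4, 0, 1, 0, 1]), (210, true, [0, 1, 3, 1, 3, 1, 0, 1, 3, 4, 3, 1, 0, 1]), (99, false, [1, 0, 1, 0, 4, 3, 1, 3, 1, 0, 1, 0, 1]), (180, true, [0, 1, 0, 4, 3, 1, 3, 1, 3, 4, 0, 4, 3, 4, 0]), (210, true, [0, 2, 4, 0, 4, 3, 4, 3, 4, 3, 4, 0, 4, 0,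 1, 3]), (22, false, [3, 4, 3, 1, 0, 1, 0, 4, 3, 4, 3]), (37, false, [0, 4, 3, 4, 3, 4, 3]), (37, false, [4, 3, 1, 3, 1, 0, 1, 0, 1, 0, 1]), (41, false, [2, 0, 1, 0, 4, 3, 1, 3, 1, 3, 1, 3, 1]), (103, true, [4, 3, 4, 3, 1, 0, 4, 3, 4, 3, 1, 0]), (22, false, [3, 4, 0, 4, 0, 4, 3, 4, 3, 4, 0, 4, 0, 1, 3]), (46, false, [4, 0, 1, 0, 1, 0, 1, 3, 1, 0, 1]), (233, false, [1, 2, 0, 4, 0, 4, 0, 1, 3, 4, 3, 4, 0]), (180, true, [1, 2, 0, 4, 0, 4, 3, 1, 0, 1, 3, 4, 3, 4, 0]), (103, true, [2, 4, 3, 4, 0, 4, 3, 4, 3, 4, 0, 1, 3, 1, 0]), (59, true, [2, 0, 1, 0, 4, 0, 4, 0, 4, 3, 1, 3, 1, 0]), (22, false, [2, 4, 0, 4, 3, 1, 3, 1, 3, 4, 0, 4, 3, 4, 0]), (116, false, [1, 2, 0, 1, 0, 4, 3, 1, 0, 1, 0]), (116, false, [0, 4, 3, 1, 0, 1, 0,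 1, 3, 1, 3, 1, 3, 4, 3]), (118, false, [2, 4, 3, 1, 3, 1, 3, 1, 0]), (48, false, [4, 3, 1, 0, 1, 0, 4, 3, 1, 3]), (274, false, [2, 0, 4, 0, 4, 3, 1, 3, 4, 0, 4, 3, 1, 0]), (46, false, [0, 1, 0, 1, 3, 1, 0, 4, 3, 4, 3, 4, 3, 1, 0]), (61, false, [4, 0, 1, 3, 4, 3, 1, 0, 1, 0, 1, 3, 4]), (274, false, [3, 1, 3, 1, 3, 1, 3, 4, 3, 4, 0, 1, 3, 1, 0]), (138, true, [2, 4, 3, 4, 0, 4, 3, 1, 0, 4, 0]), (180, true, [1, 2, 0, 1, 3, 4, 0, 1, 3, 1, 0, 4, 0, 4, 0]), (180, true, [1, 3, 1, 3, 4, 0, 1, 3, 1, 0, 4, 0, 4, 0]), (46, false, [1, 0, 1, 2, 0, 4, 0, 4, 3, 4, 0, 1, 3]), (99, false, [1, 0, 4, 3, 4, 3, 4, 3]), (233, false, [1, 0, 4, 3, 4, 0, 1, 0, 1, 3, 1, 0, 4, 3]), (180, true, [1, 0, 1, 2, 0, 4, 3, 4, 3, 4, 3, 4, 0, 1, 3, 4, 0]),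 (59, true, [4, 0, 1, 3, 1, 0, 4, 3, 4, 0, 1, 0, 1]), (37, false, [4, 3, 4, 3, 1, 0, 1, 3, 4, 3]), (118, false, [4, 3, 4, 0, 1, 0, 1, 3, 1, 3, 1, 0]), (37, false, [1, 0, 1, 3, 4, 3, 4, 0, 1, 0, 1, 0, 1]), (22, false, [2, 0, 4, 3, 4, 3, 4, 0, 4, 0, 4, 0, 4, 3, 1, 0, 4]), (210, false, [2, 0, 1, 3, 1, 0, 1, 3, 4, 3, 4, 0]), (47, true, [0, 1, 0, 1, 3, 1, 3, 4, 0, 1, 0, 1, 0, 1, 3, 4]), (34, true, [0, 1, 0, 4, 3, 1, 3, 1, 3, 1, 3, 1]), (37, true, [0, 4, 3, 4, 0, 4, 0, 1, 3, 1, 0, 1, 3]), (34, true, [0, 1, 0, 1, 0, 4, 0, 4, 0]), (46, false, [1, 2, 0, 4, 3, 1, 0, 1, 3, 1, 3, 4, 0]), (41, false, [0, 1, 0, 1, 0, 4, 0, 4, 0]), (48, true, [2, 4, 0, 4, 3, 1, 3, 1, 0, 1, 3, 4, 0]), (18, true, [4, 0, 1, 3, 1, 3, 4, 0, 1, 0, 4]), (45,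 true, []), (59, true, [1, 3, 1, 0, 1, 3, 4, 0, 1, 3, 1]), (210, false, [3, 4, 3, 4, 3, 1, 0, 1, 3, 4, 3, 4, 0]), (59, true, [0, 1, 3, 4, 3, 4, 0, 4, 3, 1, 3, 1, 3, 4, 0]), (61, false, [0, 1, 3, 1, 3, 4, 3, 4, 3, 4, 0, 4, 3, 1, 3]), (37, true, [0, 4, 0, 1, 3, 1, 3, 4, 0, 4, 0, 1, 3, 1, 3]), (210, true, [0, 1, 0, 1, 3, 1, 3, 1, 0, 4, 3, 1, 3]), (116, false, [0, 2, 4, 3, 4, 0, 1, 3]), (180, true, [4, 0, 4, 0, 1, 3, 4, 0, 4, 3, 1, 3, 1]), (41, false, [0, 1, 0, 4, 3, 1, 3, 1, 3, 1, 3, 1]), (47, true, [4, 0, 1, 0, 1, 3, 4, 3, 1, 0, 1, 3, 1, 3, 1]), (37, true, [0, 4, 0, 1, 3, 1, 3, 4, 0, 4, 0, 1, 3, 1, 3]), (180, true, [2, 0, 4, 0, 4, 0, 1, 3, 1, 0, 4, 3, 1, 0]), (180, true, [3, 4, 0, 1, 0, 1, 3, 1, 0, 4, 0, 4, 0, 1]), (45,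 true, []), (48, false, [2, 4, 3, 4, 3, 1, 0, 4, 0, 4, 3]), (118, false, [1, 3, 1, 0, 4, 3, 1, 0, 1, 0, 4, 0, 4, 3]), (47, true, [1, 0, 1, 0, 4, 3, 4, 0, 4, 3, 1, 0, 1]), (118, false, [1, 2, 0, 4, 0, 4, 0, 4, 3]), (47, true, [0, 1, 0, 1, 3, 1, 3, 1, 3, 4, 3, 4, 3, 4, 0, 4]), (116, false, [1, 2, 0, 1, 0, 1, 0, 1, 0, 1, 3, 1, 3]), (37, false, [1, 0, 4, 3, 1, 3, 1, 3, 4, 0, 4]), (180, true, [1, 0, 1, 0, 1, 2, 0, 1, 0, 1, 3, 1, 3, 4, 0]), (22, false, [0, 2, 4, 3, 1, 0, 1, 3, 4, 0, 4, 0]), (180, true, [0, 1, 0, 1, 2, 0, 4, 0, 4, 3, 4, 0, 1, 0, 1, 0]), (180, true, [1, 0, 1, 2, 0, 4, 0, 1, 3, 4, 0, 4, 3, 1, 3, 1]), (48, false, [0, 4, 0, 4, 3, 1, 3, 1, 0, 1, 3, 4, 0]), (274, false, [4, 0, 4, 3, 4, 3, 1, 0, 4, 3, 4, 0]), (138,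 true, [1, 2]), (18, true, [4, 3, 4, 3, 1, 0, 4, 0, 4, 3, 4]), (274, false, [0, 2, 4, 0, 1, 0, 1, 3, 1, 0, 1, 3]), (41, false, [2, 0, 1, 0, 1, 0, 4, 0, 4, 0]), (37, false, [1, 3, 1, 0, 1, 3, 4, 3]), (116, true, [2, 0, 1, 3, 4, 0, 1, 3, 1, 3, 4, 0, 1, 3, 1]), (37, false, [3, 1, 0, 1, 0, 1, 0, 1]), (116, false, [0, 4, 3, 1, 0, 1, 3, 4, 0, 4, 0, 4, 0, 1, 3]), (99, false, [1, 3, 1, 0, 1, 0, 1, 0, 1]), (59, true, [2, 0, 1, 0, 1, 3, 1, 3, 1, 0, 4, 0, 4, 3]), (210, true, [0, 2, 4, 3, 1, 0, 1, 0, 1, 3, 4, 0, 1, 3]), (103, true, [0, 4, 3, 1, 3, 4, 0, 4, 3, 4, 3, 1, 0, 4, 0, 4, 3]), (180, true, [0, 4, 3, 4, 3, 1, 0, 1, 3, 4, 0, 4, 0]), (22, false, [1, 0, 1, 3, 1, 3, 1, 0, 1, 0, 1, 3, 1, 3, 4, 0]), (210, true, [1, 2, 0, 1, 0, 1,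 3, 4, 3, 1, 0, 1, 0]), (59, true, [0, 1, 0, 1, 3, 4, 3, 4, 3, 1, 0, 1, 3, 4, 3, 4]), (46, false, [1, 3, 4, 3, 4, 3, 4, 0, 1, 0, 1]), (46, false, [0, 1, 0, 1, 3, 1, 3, 1, 0, 1, 0, 1, 0, 4, 0]), (233, false, [1, 3, 4, 0, 1, 3, 1, 3, 4, 0, 1, 0]), (61, false, [1, 0, 4, 3, 1, 3, 4, 0, 4, 3, 4, 0]), (46, false, [0, 1, 2, 0, 4, 3, 1, 0]), (46, false, [0, 1, 2, 0, 1, 0, 4, 3, 1, 0, 1, 0, 4, 3, 1, 3]), (116, false, [0, 1, 3, 4, 3, 4, 0, 1, 3, 4, 3, 4, 3]), (37, false, [4, 3, 1, 0, 4, 3, 4, 3, 4, 3]), (180, true, [1, 0, 1, 0, 2, 4, 0, 4, 0, 1, 3, 4, 3, 1, 0]), (22, false, [1, 0, 1, 0, 1, 0, 4, 3, 4, 0, 4, 3]), (180, true, [1, 3, 1, 0, 1, 0, 1, 3, 4, 0, 1, 0, 1, 0, 1]), (22, false, [2, 0, 4, 3, 4, 0, 1, 3, 1, 3, 1, 0, 1, 0, 4]),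 (61, false, [0, 1, 3, 4, 0, 1, 0, 1, 3, 1, 0, 4, 0, 1]), (233, false, [2, 0, 4, 3, 1, 3, 1, 0, 4, 3, 1, 3, 1]), (59, true, [3, 1, 0, 1, 3, 4, 3, 4, 0, 4, 3, 1, 3]), (210, true, [3, 4, 0, 4, 0, 4, 3, 4, 0, 1, 3, 1]), (99, false, [1, 3, 1, 3, 4, 0, 1, 3, 1, 3, 4, 3, 4, 3]), (103, true, [4, 3, 4, 0, 4, 3, 4, 3, 4, 3, 1, 0, 1, 3]), (180, true, [1, 3, 4, 0, 4, 3, 1, 0, 1, 3, 4, 3, 4, 0]), (37, true, [0, 4, 3, 4, 0, 4, 0, 1, 3, 1, 0, 1, 3])]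
def r46 : List (ℕ × Bool × List ℕ) := [(48, true, [0, 1, 3, 1, 0, 1, 0, 1, 3, 1, 0]), (47, false, [1, 0, 4, 3, 4, 0, 1, 0, 1, 0, 4, 3, 4, 0, 4]), (106, false, [3, 1, 0, 1, 3, 1, 3, 1, 3, 1, 0, 4, 3, 4, 0]), (64, false, [2, 0, 4, 3, 1, 0, 4, 3, 4, 3, 4, 0, 4, 0, 1]), (220, false, [4, 3, 1, 0, 1, 3, 4, 0, 4, 0, 4, 0, 1, 3, 1]), (45, false, [4, 3, 4, 0, 4, 3, 4, 3, 4, 3, 1]), (116, false, [4, 0, 4, 0, 4, 0, 1, 3, 4, 0, 4, 0, 4]), (180, true, [2, 0, 4, 0, 4, 0, 1, 3, 1, 0, 4, 0, 4, 3, 1, 3, 4]), (41, true, [2, 4, 3, 1, 3, 1, 3, 1, 3, 1, 3, 4]), (64, false, [1, 0, 2, 4, 3, 4, 3, 1, 0, 1, 0, 1]), (106, false, [3, 4, 0, 1, 3, 1, 0, 1, 3, 1, 0, 1]), (220, false, [3, 1, 3, 1, 3, 4, 3, 4, 0, 4, 0, 4, 0, 4, 0]), (120, false, [1,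 0, 4, 3, 4, 3, 4, 3, 4, 0, 1, 0, 1]), (191, false, [0, 1, 0, 4, 3, 4, 3, 4, 0, 4, 3, 4, 0]), (234, true, [0, 1, 3, 1, 0, 1, 3, 1, 3, 1, 0, 4, 3]), (176, false, [1, 0, 2, 4, 3, 4, 3, 4, 3, 4, 3]), (155, true, [3, 1, 3, 4, 0, 4, 0, 4, 0, 1, 3, 1, 0]), (46, false, [1, 3, 4, 0, 1, 0, 1, 0, 1]), (45, false, [2, 0, 4, 3, 1, 0, 4, 3]), (109, false, [4, 0, 4, 0, 4, 3, 4, 3, 4, 0, 4, 3, 1, 3]), (110, false, [3, 4, 3, 4, 3, 4, 3, 4, 0, 1, 0, 1, 3]), (69, true, [1, 0, 1, 0, 1, 2, 0, 1, 0, 1, 0, 4, 3, 4, 3, 1, 0]), (67, true, [4, 3, 1, 3, 4, 0, 1, 3, 1, 0, 4, 0, 1]), (28, true, [2, 4, 0, 4, 0, 1, 3, 4, 3, 4, 0, 1]), (92, false, [4, 3, 1, 0, 4, 3, 4, 3, 4, 0, 4, 0, 1]), (210, true, [0, 2, 4, 3, 1, 3, 1, 3, 1, 0, 4, 0, 4, 3, 1, 3,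 4]), (46, true, [0, 1, 0, 1, 3, 4, 3, 1, 0, 4, 3, 4, 3, 4, 0]), (14, true, [0, 1, 0, 4, 3, 4, 0, 4, 0, 1, 3, 1, 3]), (277, true, [2, 0, 1, 3, 1, 0, 1, 0, 1, 3, 4, 3, 1, 0, 1]), (176, false, [1, 0, 1, 0, 1, 0, 1, 0, 1, 3, 1, 3, 1, 0, 1]), (66, true, [0, 1, 2, 0, 4, 3, 4, 0, 4, 0, 4, 0, 1, 0]), (155, true, [0, 4, 3, 1, 0, 1, 0, 1, 3, 1, 0]), (155, false, [4, 0, 4, 0, 1, 3, 1, 0, 4, 3, 4, 3, 4]), (120, false, [2, 0, 4, 0, 1, 3, 4, 0, 4, 3, 4, 3, 4]), (210, false, [2, 0, 4, 0, 4, 0, 4, 3, 4, 3]), (82, false, [1, 0, 1, 0, 1, 0, 4, 0, 4, 3, 1, 0, 4]), (69, true, [1, 2, 0, 4, 0, 1, 3, 1, 3, 4, 0, 4, 0, 4, 3, 4]), (127, true, [1, 0, 4, 0, 1, 3, 4, 0, 4, 3, 4, 0, 4]), (47, false, [0, 1, 2, 0, 1, 0, 1, 0, 1, 3, 1, 0]), (46, false,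 [3, 1, 3, 1, 3, 1, 0, 1, 0, 1, 3, 1, 3]), (46, true, [0, 1, 0, 1, 3, 4, 3, 1, 0, 4, 3, 4, 3, 4, 0]), (72, true, [1, 2, 0, 4, 0, 4, 0, 4, 0, 4, 3, 1, 3, 4, 0]), (235, true, [0, 1, 0, 1, 3, 4, 3, 1, 0, 1, 3]), (235, true, [1, 0, 4, 3, 4, 3, 1, 0, 1, 0, 4, 3, 4, 0, 1, 3]), (233, false, [0, 4, 3, 1, 3, 4, 0, 4, 3, 4, 3, 4, 0, 1]), (101, false, [2, 4, 3, 4, 3, 1, 0, 4, 0, 4, 3, 4]), (64, false, [2, 4, 3, 1, 3, 1, 0, 4, 3, 1, 3, 1, 3, 1, 0]), (46, true, []), (27, true, [2, 4, 0, 1, 0, 1, 0, 4, 0, 4, 0, 1]), (226, false, [1, 2, 0, 4, 3, 4, 0, 1, 0, 1, 0]), (46, false, [4, 3, 4, 3, 4, 3, 1, 0, 4]), (116, true, [4, 0, 1, 3, 4, 3, 4, 0, 4, 3, 4, 0, 4]), (132, true, [2, 4, 0, 1, 0, 1, 3, 4, 0, 4, 0, 1, 0]), (22, true, [0, 1, 0,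 2, 4, 0, 1, 0, 1, 0, 1, 0]), (116, true, [4, 3, 4, 3, 4, 0, 4, 3, 4, 3]), (61, false, [4, 0, 1, 3, 4, 0, 4, 3, 4, 0, 4, 0, 4, 0]), (180, true, [1, 0, 1, 2, 0, 4, 0, 1, 3, 4, 0, 4, 3, 1, 3]), (106, false, [3, 1, 0, 1, 3, 1, 3, 1, 3, 1, 0, 4, 3, 4, 0]), (43, true, [1, 3, 1, 3, 1, 3, 4, 3, 4, 3]), (72, true, [0, 1, 0, 2, 4, 0, 4, 0, 1, 3, 4, 3, 4, 0]), (180, true, [1, 2, 0, 4, 0, 4, 3, 1, 0, 4, 0, 4, 3, 1, 0]), (214, false, [0, 1, 0, 1, 0, 1, 0, 2, 4, 0, 1, 3, 1, 0, 4, 0, 4, 0]), (161, true, [1, 0, 4, 3, 4, 0, 1, 3, 4, 3]), (64, false, [0, 2, 4, 0, 4, 3, 4, 3, 4, 0, 4, 3, 1, 0]), (81, false, [3, 1, 0, 1, 3, 1, 3, 1, 0, 1, 3, 1, 0, 4]), (28, true, [2, 4, 3, 4, 0, 1, 3, 1, 0, 1, 3, 4, 3, 4]), (81, false, [1, 3, 1, 3, 1, 3,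 1, 0, 4, 3, 1]), (41, true, [2, 4, 3, 4, 0, 1, 3, 1, 0, 1, 3, 4, 3, 4]), (127, true, [3, 1, 3, 4, 3, 4, 0, 4, 0, 4, 0, 4, 3, 4, 0]), (110, false, [0, 1, 3, 4, 3, 4, 3, 1, 0, 4, 0, 4, 0, 1, 3, 4]), (103, true, [4, 0, 1, 0, 1, 0, 1, 3, 1, 0, 4, 0, 1]), (46, true, []), (180, true, [2, 0, 1, 0, 1, 0, 4, 3, 1, 3, 1, 0, 4, 0, 4, 3]), (214, false, [1, 0, 2, 4, 0, 4, 3, 4, 0, 1, 3, 1, 3, 1, 3, 1]), (67, true, [1, 0, 4, 3, 4, 3, 1, 0, 1, 0, 1, 0, 1, 3, 1]), (41, true, [0, 1, 2, 0, 4, 3, 4, 0, 4, 0, 1, 3, 4, 3, 4, 0]), (22, true, [0, 1, 3, 4, 0, 1, 3, 1, 3, 1, 0, 4, 3, 4, 3, 4]), (201, true, [1, 2, 0, 1, 3, 1, 3, 4, 0, 4, 3, 4, 0, 4, 3]), (27, true, [1, 3, 4, 0, 4, 3, 4, 0, 1, 0, 1, 3, 1, 0]), (101, false, [2, 0, 4, 3, 4, 0, 1,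 0, 1, 3, 4, 0, 1, 0]), (61, false, [1, 0, 1, 2, 0, 1, 3, 1, 3, 4, 0, 1, 0, 4]), (64, false, [2, 0, 4, 0, 1, 0, 1, 0, 4, 0, 4, 3, 1, 0, 4]), (106, false, [3, 4, 0, 1, 3, 1, 0, 1, 3, 1, 0, 1]), (82, false, [0, 4, 0, 1, 0, 1, 3, 1, 0, 1, 0, 1]), (46, false, [0, 1, 3, 4, 3, 1, 0, 1, 0, 1, 3, 1, 3, 4, 3]), (116, false, [1, 0, 1, 3, 1, 0, 1, 3, 1, 3, 4, 3, 4]), (210, false, [2, 0, 1, 3, 1, 3, 4, 0, 1, 0, 1, 0, 4, 0]), (46, false, [0, 1, 3, 4, 0, 1, 3, 4]), (46, true, []), (103, true, [0, 1, 2, 0, 1, 3, 4, 0, 4, 0]), (48, false, [1, 3, 1, 0, 1, 0, 4, 3, 4, 0, 4, 0]), (64, false, [1, 0, 2, 4, 0, 4, 0, 4, 3, 4, 0, 1, 0, 1, 0, 1]), (66, true, [2, 4, 0, 1, 0, 1, 0, 4, 0, 4, 3, 1, 3, 1, 3]), (233, false, [4, 0, 1, 0, 4, 3, 4, 0,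 4, 0, 4, 3, 1]), (132, true, [2, 4, 3, 1, 3, 1, 0, 1, 3, 4, 3, 1]), (155, true, [0, 4, 0, 1, 0, 1, 3, 4, 0, 4, 0, 4, 3, 1, 3]), (191, false, [4, 3, 1, 3, 4, 0, 1, 3, 1, 3, 4, 0]), (92, false, [0, 1, 0, 1, 0, 4, 3, 4, 3, 4, 3, 1, 0, 1, 3, 4]), (41, true, [1, 0, 1, 0, 2, 4, 3, 4, 3, 4, 3, 1, 0]), (109, false, [0, 1, 3, 1, 0, 1, 3, 1, 3, 4, 0, 4, 3, 4]), (92, false, [4, 3, 4, 0, 4, 0, 1, 3, 1, 3, 4]), (92, false, [4, 3, 4, 0, 1, 3, 1, 3, 1, 0, 1, 0, 4]), (28, true, [0, 1, 3, 1, 3, 4, 0, 1, 0, 1]), (28, true, [3, 4, 0, 1, 3, 1, 0, 4, 0, 4, 0, 4, 0]), (234, true, [1, 0, 4, 0, 4, 0, 4, 3, 4, 3, 4, 3, 4, 0, 4, 3]), (210, false, [0, 2, 4, 3, 4, 0, 1, 3, 1, 3, 1, 0, 1, 3, 4]), (46, false, [0, 4, 0, 4, 3, 4, 3, 4, 0, 4, 0, 4,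 0]), (226, false, [1, 0, 1, 0, 2, 4, 0, 4, 3, 4, 3, 4, 0, 4, 3]), (86, false, [2, 0, 4, 0, 1, 3, 4, 0, 4, 0, 4]), (86, false, [0, 2, 4, 3, 1, 0, 1, 0, 1, 0, 1, 3, 1, 3, 4]), (277, true, [1, 0, 1, 0, 1, 2, 0, 4, 0, 1, 3, 4, 3, 4, 0]), (37, false, [3, 4, 0, 1, 3, 1, 0, 4, 0, 4, 3, 4, 3])]
def r47 : List (ℕ × Bool × List ℕ) := [(114, true, [4, 0, 1, 3, 4, 3, 4, 3, 4, 0, 1, 3]), (210, false, [0, 2, 4, 0, 1, 3, 1, 0, 4, 0, 4, 3, 4]), (59, true, [4, 0, 1, 0, 1, 0, 4, 3, 4, 0, 1, 0]), (180, true, [0, 4, 0, 4, 3, 1, 3, 1, 0, 4, 3, 4, 0, 1, 3]), (85, true, [0, 1, 3, 1, 0, 4, 0, 4, 0, 4, 3, 1, 3, 1, 0]), (199, false, [0, 1, 0, 1, 2, 0, 4, 0, 1, 3, 4, 3, 4, 0, 1, 0]), (85, true, [1, 3, 4, 3, 4, 3, 4, 0, 1, 0, 1, 3, 1, 3, 1, 0]),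 (171, false, [1, 3, 4, 3, 4, 0, 4, 3, 4, 0, 4]), (29, false, [1, 0, 2, 4, 0, 4, 0, 4, 0, 1, 3, 4, 3, 4, 0, 4]), (127, true, [0, 4, 3, 1, 0, 1, 0, 1, 3, 1, 3, 1, 3, 1, 0]), (73, false, [3, 1, 0, 4, 3, 4, 0, 1, 0, 1, 3, 4, 0, 4, 3]), (26, false, [0, 4, 0, 4, 0, 1, 3, 4, 0, 4, 0, 4]), (85, true, [4, 0, 1, 3, 1, 3, 1, 0, 1, 0, 1, 3, 1, 3]), (28, false, [1, 0, 4, 0, 4, 0, 4, 3, 1, 3, 4, 0, 4]), (94, true, [0, 1, 0, 1, 0, 1, 3, 4, 3, 1, 0, 1, 3, 1, 3, 1]), (59, true, [3, 4, 3, 4, 3, 1, 0, 1, 0, 1, 0, 1, 3]), (22, true, [1, 0, 1, 2, 0, 1, 3, 1, 0, 1, 0, 1, 0, 4, 3, 4, 3]), (85, true, [0, 1, 0, 1, 2, 0, 1, 3, 1, 3, 4]), (225, false, [4, 3, 4, 0, 1, 3, 1, 0, 1, 3, 1, 3, 1, 3, 4]), (85, false, [2, 0, 1, 0, 1, 0, 4, 0, 4, 0, 4,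 0, 4, 3, 1]), (82, true, [1, 0, 1, 3, 1, 3, 1, 0, 4, 3, 4, 0, 1, 3, 1]), (98, false, [1, 3, 1, 0, 4, 3, 4, 3, 4, 3, 4, 0, 1, 0]), (47, false, [0, 2, 4, 0, 4, 3, 1, 0, 1, 0, 1, 3, 1, 3, 1, 0]), (97, true, [0, 4, 3, 1, 0, 1, 3, 4, 3, 4, 3, 1, 0, 4]), (250, true, [0, 4, 0, 1, 3, 1, 3, 1, 0, 1, 3, 4, 0, 4, 3]), (254, false, [0, 4, 0, 4, 3, 1, 0, 1, 0, 1, 3, 4, 0, 4, 3]), (80, true, [1, 0, 4, 3, 1, 0, 1, 0, 4, 3, 4, 3, 1, 3]), (123, true, [4, 3, 1, 0, 1, 0, 1, 3, 1, 3, 1]), (22, true, [1, 0, 1, 3, 1, 3, 4, 3, 4, 0, 1, 3, 4, 3, 1]), (47, true, []), (46, false, [2, 0, 4, 3, 4, 0, 4, 0, 4, 0, 4, 3]), (103, true, [2, 4, 3, 1, 0, 4, 0, 4, 3, 1, 3, 1, 0, 4]), (277, false, [1, 3, 4, 3, 4, 3, 4, 0, 4, 3, 1, 3, 1, 3, 4, 3]), (110,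 true, [4, 0, 4, 3, 4, 0, 1, 3, 1, 3, 1, 0, 1, 0, 4, 0]), (210, false, [4, 3, 1, 0, 1, 0, 4, 3, 1, 3, 1, 0]), (229, true, [1, 0, 2, 4, 0, 1, 0, 1, 0, 1, 0, 4, 0, 4, 0, 4]), (92, true, [2, 4, 3, 1, 3, 4, 0, 1, 0, 1, 3, 4, 3, 1, 0, 1, 3]), (131, false, [4, 3, 4, 0, 1, 3, 1, 3, 1, 0]), (38, false, [1, 3, 4, 0, 1, 0, 1, 3, 4, 0, 1, 0, 1, 3, 4]), (199, false, [1, 0, 1, 3, 1, 0, 4, 0, 4, 3, 4, 0, 1]), (13, false, [1, 3, 4, 0, 4, 0, 1, 3, 4, 3, 4, 0]), (116, true, [1, 2, 0, 4, 3, 4, 3, 4, 3, 4, 3, 4, 0, 1]), (110, false, [1, 0, 1, 2, 0, 1, 0, 4, 3, 1, 3, 4, 0, 4, 0, 1, 3, 4]), (47, false, [0, 1, 0, 1, 3, 1, 3, 1, 3, 4, 3, 4, 0, 4, 0, 4]), (47, false, [2, 0, 1, 0, 4, 0]), (92, true, [1, 0, 1, 3, 1, 0, 4, 3, 4, 3, 1, 0, 4]), (122,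 false, [1, 0, 4, 3, 4, 3, 4, 0, 1, 3, 1, 3, 4, 3, 4, 3]), (18, false, [0, 1, 2, 0, 4, 3]), (45, true, [4, 3, 4, 0, 1, 3, 1, 0, 1, 3, 4, 3, 4]), (110, true, [0, 2, 4, 3, 1, 0, 1, 3, 1, 3, 4, 0, 4, 3, 4, 3]), (225, true, [2, 0, 1, 0, 1, 3, 1, 0, 4, 0, 4, 0, 1, 3]), (260, true, [1, 0, 2, 4, 0, 4, 3, 4, 3, 4, 3, 4]), (241, false, [1, 3, 1, 3, 1, 0, 4, 3, 4, 3, 4, 0, 4, 0, 4]), (220, false, [1, 0, 1, 0, 1, 0, 4, 3, 1, 3, 1, 0, 4, 0]), (85, true, [2, 4, 0, 1, 0, 4, 3, 4, 0, 1, 3, 4, 3, 4, 0, 4, 0]), (82, false, [1, 2, 0, 1, 0, 4, 0, 4, 3, 4, 0, 4, 3, 4, 0]), (26, false, [1, 3, 4, 0, 1, 0, 1, 0, 4, 3, 1]), (73, false, [2, 4, 3, 1, 0, 1, 0, 1, 3, 4, 3, 1, 0, 4, 3]), (2, false, [0, 2, 4, 0, 1, 3, 1, 3, 1, 3, 4]), (122, false,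 [1, 0, 1, 2, 0, 4, 3, 4, 0, 1, 3, 1, 3, 4]), (85, true, [0, 1, 0, 1, 0, 1, 0, 4, 3, 4, 0, 1, 3, 4]), (278, true, [1, 2, 0, 4, 0, 4]), (47, true, []), (116, true, [1, 0, 4, 3, 4, 3, 4, 3, 4, 3, 4, 0, 1]), (73, false, [4, 0, 4, 3, 4, 0, 4, 0, 4, 3, 4, 3, 4, 3, 4]), (47, false, [3, 4, 0, 4, 3, 4, 0, 1, 0, 1, 3, 1, 0, 1]), (73, false, [2, 4, 3, 4, 0, 1, 3, 1, 0, 1, 0, 4, 3]), (47, true, []), (37, true, [4, 0, 4, 3, 4, 0, 4, 3, 1, 3, 1, 3]), (82, true, [3, 4, 3, 1, 0, 4, 0, 4, 3, 1, 3]), (18, true, [3, 1, 0, 1, 0, 1, 3, 1, 3, 4, 0]), (114, true, [2, 0, 4, 3, 4, 0, 4, 3, 1, 3, 1, 3, 4, 3, 4, 0]), (85, true, [0, 2, 4, 3, 4, 0, 1, 0, 1, 0, 4, 0, 4, 3, 4]), (113, false, [1, 2, 0, 4, 0, 1, 3, 1, 3, 1, 3, 1, 0, 4]), (110, false,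 [4, 0, 1, 0, 4, 3, 4, 0, 1, 3, 4, 3, 4]), (244, false, [4, 3, 4, 3, 1, 0, 4, 3, 4, 0, 1]), (220, false, [0, 1, 2, 0, 4, 3, 4, 3, 1, 0, 1, 0, 1, 0, 1, 0]), (38, true, [0, 1, 3, 4, 3, 1, 0, 1, 0, 1, 3, 1, 0, 4, 3, 4]), (279, true, [3, 4, 0, 4, 0, 4, 3, 4, 0, 1, 0, 1, 0]), (98, false, [1, 0, 2, 4, 3, 4, 0, 4, 3, 4, 3, 4, 0, 4, 3, 1, 0, 1]), (3, false, [0, 1, 2, 0, 4, 0, 1, 3, 1, 0, 1, 0, 4]), (127, true, [1, 2, 0, 1, 0, 4, 3, 1, 0, 1, 3, 4, 0]), (113, false, [1, 0, 1, 0, 1, 0, 1, 2, 0, 4, 0, 1, 3]), (229, true, [1, 0, 1, 0, 1, 3, 4, 3, 4, 3, 1, 0]), (278, true, [0, 1, 0, 4, 3, 4, 0, 1, 0, 1, 3, 1]), (171, false, [1, 2, 0, 1, 3, 1, 3, 1, 0, 4, 3, 4, 0, 1, 0]), (38, false, [1, 0, 2, 4, 0, 4, 0, 4, 3, 4, 0, 4, 3, 4, 0, 4,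 0, 1]), (113, false, [0, 1, 2, 0, 1, 3, 1, 3, 1, 0, 4, 0, 4, 3]), (254, true, [1, 2, 0, 1, 3, 4, 0, 4, 0, 4, 3, 4]), (180, true, [2, 4, 3, 1, 0, 1, 3, 4, 3, 4, 3, 4, 0, 4, 0]), (254, true, [0, 1, 0, 4, 3, 4, 3, 4, 3, 4, 0, 4, 0, 4]), (18, true, [0, 1, 3, 4, 3]), (46, false, [0, 1, 0, 4, 3, 1, 0, 1, 3, 4, 3, 1, 0, 4]), (280, false, [2, 4, 0, 1, 0, 4, 3, 4, 0, 1, 3, 1, 3, 1, 0, 1]), (38, false, [2, 0, 4, 0, 4, 3, 4, 0, 4, 3, 1, 3, 1, 0, 1]), (277, false, [1, 2, 0, 1, 3, 1, 3, 1, 0, 4, 0, 4, 3, 4, 0, 1, 3]), (28, false, [2, 0, 1, 3, 4, 0, 1, 0, 1, 3, 4, 3]), (102, false, [4, 0, 4, 3, 4, 3, 1, 0, 1, 0, 1]), (131, true, [0, 1, 2, 0]), (85, false, [0, 4, 0, 4, 0, 1, 3, 4, 0, 4, 0, 4, 0]), (225, true, [3, 1, 3, 1, 3, 4, 0,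 1, 3]), (85, true, [4, 3, 4, 0, 1, 3, 1, 0, 4, 0, 4, 3, 1, 0, 4]), (260, true, [1, 3, 1, 3, 4, 0, 1, 0, 1, 3, 4, 3, 1, 0, 4, 3]), (85, true, [0, 2, 4, 3, 1, 3, 1, 3, 4, 0, 4, 0]), (146, true, [0, 4, 3, 1, 0, 1, 3, 4, 3, 1, 0, 4]), (254, false, [2, 0, 1, 3, 4, 0, 1, 3, 1, 3, 4, 0, 4, 0, 4, 3]), (225, false, [1, 0, 1, 0, 1, 0, 2, 4, 3, 4, 0, 1, 3, 1, 3]), (85, true, [1, 2, 0, 4, 0, 4, 3, 4, 3, 4, 0, 1, 3, 1, 0]), (59, true, [1, 3, 1, 0, 1, 0, 4, 3, 4, 0, 1, 0, 4]), (47, true, []), (103, true, [1, 0, 1, 2, 0, 1, 0, 4, 3, 4, 0, 1]), (123, true, [2, 4, 0, 1, 3, 1, 3, 1, 3, 4, 0, 1, 0, 1, 3, 1])]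

theorem q36 : closeb 18 ps18 base7 rgR om xs x36 orb r36 = true := by decide +kernel
theorem q37 : closeb 18 ps18 base7 rgR om xs x37 orb r37 = true := by decide +kernel
theorem q38 : closeb 18 ps18 base7 rgR om xs x38 orb r38 = true := by decide +kernel
theorem q39 : closeb 18 ps18 base7 rgR om xs x39 orb r39 = true := by decide +kernel
theorem q40 : closeb 18 ps18 base7 rgR om xs x40 orb r40 = true := by decide +kernel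
theorem q41 : closeb 18 ps18 base7 rgR om xs x41 orb r41 = true := by decide +kernel
theorem q42 : closeb 18 ps18 base7 rgR om xs x42 orb r42 = true := by decide +kernel
theorem q43 : closeb 18 ps18 base7 rgR om xs x43 orb r43 = true := by decide +kernel
theorem q44 : closeb 18 ps18 base7 rgR om xs x44 orb r44 = true := by decide +kernel
theorem q45 : closeb 18 ps18 base7 rgR om xs x45 orb r45 = true := by decide +kernel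
theorem q46 : closeb 18 ps18 base7 rgR om xs x46 orb r46 = true := by decide +kernel
theorem q47 : closeb 18 ps18 base7 rgR om xs x47 orb r47 = true := by decide +kernel

theorem c3 : Rows xc3 :=
  Rows.cons q36 (Rows.cons q37 (Rows.cons q38 (Rows.cons q39 (Rows.cons q40 (Rows.cons q41 (Rows.cons q42 (Rows.cons q43 (Rows.cons q44 (Rows.cons q45 (Rows.cons q46 (Rows.cons q47 Rows.nil)))))))))))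

end Cfsg.Agent.H698.U33.Clo
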