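import Cfsg.Agent.H698.U33.Clo.Rows

/-!
# S5525: the closure certificate, rows 48 to 59 (helper698; data of helper819, helper763)
-/

set_option autoImplicit false
set_option maxRecDepth 100000
set_option Elab.async false

namespace Cfsg.Agent.H698.U33.Clo

def r48 : List (ℕ × Bool × List ℕ) := [(41, false, [0, 1, 0, 1, 3, 4, 0, 1, 0, 1, 3]), (48, true, []), (48, false, [2, 0, 1, 0, 4, 3, 4, 0, 1, 0, 1, 3, 4, 0]), (59, false, [1, 3, 4, 0, 4, 3, 1]), (120, true, [0, 1, 0, 4, 3, 1, 0, 1]), (37, false, [3, 1, 0, 1, 3, 4, 0, 1, 0, 1]), (41, false, [1, 3, 4, 0, 1, 0, 1, 3, 1, 0, 1, 0]), (116, false, [1, 3, 4, 0, 4, 0, 1, 3, 4, 0, 1]), (113, false, [3, 1, 0, 1, 0, 1, 3, 1, 3, 4, 0, 4, 0, 4, 0]), (274, false, [3, 1, 0, 4, 3,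 1, 3, 1, 3, 1, 0, 4, 3, 4, 0]), (215, true, [1, 0, 4, 3, 4, 0, 1, 3, 4, 3, 1, 0]), (45, true, [2, 0, 4, 0, 1, 3, 1, 0, 1, 3, 1, 3, 1]), (120, false, [1, 0, 4, 3, 1, 0, 1, 0, 4, 0, 4, 3, 1, 3]), (59, true, [0, 2, 4, 3, 4, 0, 1, 0, 1, 0, 1, 3, 4, 3, 4]), (176, false, [1, 3, 4, 0, 4, 0, 4, 3, 4, 3, 4, 3, 4, 0, 1, 3]), (59, true, [1, 3, 1, 0, 1, 0, 4, 3, 4, 0, 1, 0, 4]), (46, true, [2, 4, 3, 1, 0, 4, 0, 4, 3, 4, 0, 1, 0, 1, 0]), (41, true, [0, 1, 3, 1, 0, 1, 3, 4, 3, 4, 0, 1]), (116, true, [1, 3, 1, 0, 1, 3, 1, 0, 1, 0, 4]), (215, false, [1, 3, 1, 0, 4]), (116, true, [1, 0, 2, 4, 0, 1, 0, 1, 3, 1, 3, 1, 0]), (274, true, [0, 4, 3, 1, 3, 1, 3, 4, 3, 4, 3, 4, 0, 4, 3, 4]), (46, true, [0, 1, 3, 1, 0, 4, 0, 4, 3, 4, 3, 4, 3]),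 (120, true, [2, 4, 3, 1, 0, 1, 0, 4, 3, 1, 0, 1]), (215, true, [0, 1, 3, 4, 3, 4, 0, 4, 0, 1, 3, 4, 3, 4]), (250, false, [1, 3, 4, 3, 1, 0, 1, 0, 1, 0, 4, 3, 1]), (274, false, [0, 1, 0, 1, 3, 4, 3, 1, 0, 1, 3, 4, 0, 4]), (113, false, [3, 1, 3, 1, 0, 4, 3, 1, 0, 1, 0, 4]), (46, true, [3, 4, 0, 4, 3, 4, 3, 4, 0, 4, 3]), (48, true, []), (59, false, [1, 3, 4, 3, 1, 0, 1, 0, 1, 0, 1]), (116, true, [0, 1, 3, 4, 3, 4, 0, 4, 0, 4, 3, 4, 3]), (113, true, [1, 2, 0, 4, 3, 4, 3, 4, 3, 4, 0, 1, 0]), (46, true, [0, 4, 0, 4, 3, 1, 3, 1, 0, 4, 3, 4, 0, 1, 0]), (48, true, []), (41, false, [0, 1, 2, 0, 4, 0, 4, 0, 4, 3, 1, 0, 1, 0, 4, 0, 4]), (41, true, [2, 4, 3, 4, 3, 1, 0, 1, 3, 4, 0, 1, 0, 1]), (250, false, [0, 1, 3, 4, 3, 1, 0, 4,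 3, 4, 3, 4, 0, 1, 0]), (116, true, [0, 1, 3, 4, 3, 4, 0, 4, 0, 4, 3, 4, 3]), (37, false, [0, 1, 0, 4, 3, 1, 3, 1, 3, 4, 0, 1, 0, 1]), (45, true, [0, 1, 3, 1, 3, 4, 0, 1, 0, 1, 3]), (46, false, [0, 1, 2, 0, 4, 0, 4, 3, 1, 3, 1, 0, 4, 3, 4]), (81, true, [1, 0, 1, 0, 1, 0, 1, 0, 1, 3, 1, 3, 4, 0, 4]), (46, true, [2, 0, 4, 3, 4, 0, 4, 0, 1, 3, 1, 0, 4, 3]), (59, false, [4, 3, 4, 0, 1, 0, 1, 3, 1, 0, 1, 3]), (41, true, [1, 3, 1, 3, 4, 0, 1, 3, 1, 3, 4, 0, 1, 0, 1]), (81, false, [1, 2, 0, 4, 0, 4, 3, 4, 0, 4, 3, 4, 0, 4]), (37, true, [3, 4, 3, 1, 0, 1, 0, 1, 3, 1, 0, 4, 3, 4]), (45, false, [0, 4, 0, 1, 3, 4, 3, 4, 0, 1]), (46, true, [0, 2, 4, 0, 4, 0, 4, 3, 4, 0, 4]), (176, true, [1, 0, 1, 0, 1]), (45, false, [3, 4, 0, 1,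 0, 1, 3, 4, 0, 4, 3, 4, 0]), (81, false, [4, 0, 1, 0, 4, 3, 1, 3, 1, 3, 1, 0, 4, 3, 4, 3]), (250, true, [1, 0, 4, 0, 4, 3, 4, 0, 1, 3, 1, 3, 4]), (176, false, [2, 0, 4, 0, 4, 0, 4, 0, 4]), (59, false, [3, 4, 3, 4, 3, 4, 0, 4, 3, 1, 3, 1, 3, 4, 0, 4]), (45, true, [3, 4, 0, 4, 3, 4, 3, 4, 0, 1, 3, 4, 0]), (116, false, [2, 0, 4, 0, 1, 3, 4, 0, 4, 0, 4, 3]), (48, false, [1, 0, 1, 0, 1, 3, 1, 0, 4, 3, 4, 0, 1]), (81, false, [2, 0, 1, 0, 1, 3, 4, 0, 1, 3, 1, 3]), (176, false, [2, 4, 0, 1, 0, 4, 3, 4, 3, 4, 0, 4, 3, 1, 0]), (41, true, [0, 1, 3, 1, 0, 4, 3, 1, 3, 1, 0, 4, 0, 1]), (48, true, []), (46, false, [3, 4, 3, 1, 0, 1, 0, 4, 3, 4, 3, 1, 0, 4]), (116, true, [1, 3, 1, 0, 1, 3, 1, 0, 1, 0, 4]), (48, false, [2, 0, 1, 0, 4,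 3, 4, 0, 1, 0, 1, 3, 4, 0]), (215, true, [0, 1, 0, 2, 4, 3, 4, 0, 1, 0, 1, 0, 1]), (48, true, []), (59, true, [1, 3, 4, 0, 4, 3, 4, 0, 4, 0, 1, 3, 4]), (116, false, [1, 3, 4, 0, 4, 0, 1, 3, 4, 0, 1]), (46, false, [0, 1, 3, 4, 3, 1, 0, 1, 0, 1, 0, 1, 3, 4, 0, 4]), (41, false, [0, 1, 2, 0, 1, 0, 1, 3, 1, 0, 4, 0, 4, 0, 4]), (120, true, [1, 2, 0, 1, 3, 1, 3, 1, 3, 4, 0, 1, 0, 1]), (46, false, [3, 1, 3, 1, 0, 1, 3, 4, 3, 4, 0, 4]), (81, true, [4, 0, 1, 0, 4, 3, 4, 0, 4, 3, 4, 0, 1, 0, 1]), (215, false, [3, 4, 3, 4, 0, 4, 0, 4, 3, 1, 0, 1, 3]), (250, true, [4, 0, 4, 3, 1, 3, 4, 0, 4, 0, 1, 3, 1, 0]), (37, false, [0, 1, 3, 1, 3, 4, 0, 1, 0, 1, 0, 1, 3, 4]), (59, true, [0, 2, 4, 3, 1, 3, 1, 0, 4, 0, 4, 3, 1, 3, 1]), (274, true,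 [0, 4, 0, 4, 3, 1, 0, 1, 3, 1, 3, 1, 3]), (113, true, [0, 1, 0, 4, 3, 4, 3, 4, 0, 4, 0, 4, 0, 1, 0]), (274, false, [0, 1, 0, 1, 0, 1, 3, 1, 0, 1, 3, 4, 3, 4]), (250, true, [1, 3, 1, 3, 1, 3, 4, 0, 1, 3, 1, 3, 4, 0, 4]), (41, false, [4, 0, 4, 3, 4, 3, 1, 0, 1, 3, 4, 0, 4]), (41, true, [1, 0, 2, 4, 0, 4, 3, 1, 3, 4, 0, 4, 0, 1, 3]), (116, true, [1, 0, 2, 4, 0, 1, 0, 1, 3, 1, 3, 1, 0]), (116, true, [0, 1, 2, 0, 1, 3, 4, 3, 4, 0, 4, 3, 1, 0]), (46, false, [2, 4, 3, 4, 3, 4, 3, 4, 0, 1, 0, 1, 3, 4, 3, 1]), (37, true, [0, 1, 3, 1, 0, 1, 0, 4, 0, 4, 0, 4, 0, 4]), (59, false, [1, 2, 0, 4, 0, 1, 3, 4, 3, 4, 3, 1]), (37, true, [1, 3, 1, 0, 1, 0, 1, 3, 4, 0, 1, 0, 1, 3]), (46, false, [0, 2, 4, 0, 1, 0, 1, 3, 4, 0, 4, 0, 1]), (59,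 false, [4, 3, 1, 3, 1, 0, 4, 3, 4, 0, 4, 3]), (274, true, [2, 0, 1, 3, 4, 3, 4, 0, 4, 3, 4, 0, 4, 3]), (176, true, [1, 2, 0, 4, 3, 4, 0, 1, 3, 1, 3, 1, 0, 1]), (113, true, [2, 0, 1, 0, 1, 0, 1, 3, 1, 3, 1, 3, 4, 0, 4]), (59, true, [1, 2, 0, 4, 3, 4, 0, 4, 0, 4]), (120, false, [3, 1, 3, 1, 3, 1, 3, 4, 0, 4, 3, 1, 3, 1, 3]), (48, false, [1, 0, 1, 0, 1, 3, 1, 0, 4, 3, 4, 0, 1]), (215, false, [2, 0, 4, 0, 4, 0, 4, 0, 1, 3, 1, 0, 4, 3, 1]), (176, true, [1, 0, 1, 2, 0, 1, 3, 1, 3, 4, 3, 4, 3, 1]), (41, true, [0, 1, 0, 1, 2, 0, 1, 0, 4, 0, 4, 0, 4, 0, 4, 0]), (45, false, [3, 4, 3, 1, 0, 1, 3, 1, 0, 1, 0, 1, 3]), (41, false, [0, 1, 2, 0, 1, 0, 4, 3, 4, 0, 1, 0, 1, 0, 4, 3]), (81, true, [1, 3, 1, 3, 1, 0, 4, 3, 4, 3, 4, 0, 4,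 0]), (250, false, [1, 0, 4, 3, 4, 0, 1, 3, 1, 0, 4, 0, 1]), (116, false, [2, 0, 4, 0, 1, 3, 4, 0, 4, 0, 4, 3]), (120, false, [0, 1, 0, 2, 4, 3, 4, 0, 4, 0, 4, 0, 4, 0, 4]), (59, true, [3, 4, 3, 4, 3, 1, 0, 1, 0, 1, 0, 1, 3]), (48, true, []), (116, true, [0, 1, 2, 0, 1, 3, 4, 3, 4, 0, 4, 3, 1, 0]), (113, false, [1, 0, 1, 3, 1, 3, 1, 0, 1, 0])]
def r49 : List (ℕ × Bool × List ℕ) := [(277, true, [1, 0, 2, 4, 0, 4, 0, 1, 3, 4, 3, 4, 0, 4, 0]), (110, true, [1, 2, 0, 4, 0, 1, 3, 1, 3, 1, 3, 1, 0, 4, 0]), (81, false, [2, 4, 0, 4, 0, 1, 3, 4, 3, 4, 0]), (64, true, [4, 3, 1, 3, 1, 0, 4, 3, 4, 0, 1, 0, 1, 0, 4, 0]), (120, true, [1, 2, 0, 1, 3, 1, 3, 1, 3, 4, 0, 1, 0, 1]), (141, false, [0, 1, 3, 4, 3, 4, 3, 1, 0, 1, 0, 1, 0, 4,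 3, 1]), (73, true, [1, 2, 0, 4, 3, 4, 3, 4, 0, 1, 3, 4, 3, 1, 0]), (212, true, [3, 4, 0, 1, 0, 1, 3, 4, 0, 4, 0, 4, 0]), (26, false, [0, 4, 0, 1, 3, 4, 3, 4, 3, 4]), (136, true, [1, 0, 1, 3, 1, 3, 1, 0, 1, 0, 1, 0, 4]), (140, false, [1, 3, 4, 3, 4, 0, 4, 3, 4, 3, 1, 3]), (6, false, [1, 3, 1, 0, 1, 3, 1, 0, 1, 0, 4, 0]), (125, false, [1, 2, 0, 1, 0, 4, 0, 4, 3, 1, 0, 1, 3, 4]), (122, false, [3, 1, 0, 4, 0, 4, 3, 1, 3, 4, 0, 1]), (15, true, [0, 4, 3, 4, 0, 1, 3, 1, 0, 4, 0]), (126, true, [2, 4, 0, 1, 0, 4, 3, 1, 3, 1, 3, 4, 0, 4, 3, 1]), (5, false, [1, 0, 2, 4, 0, 4, 0, 4, 0, 4, 3, 4, 3, 4, 3]), (190, false, [3, 1, 0, 4, 3, 4, 0, 1, 3, 1, 3, 4, 3, 4, 0]), (90, true, [0, 1, 2, 0, 4, 0, 1, 3, 1, 3, 1, 3, 4]), (140, true,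 [0, 1, 0, 2, 4, 0, 4, 0, 1, 3, 4, 3]), (120, true, [1, 3, 1, 0, 4, 3, 4, 3, 4, 3, 4, 0, 1, 3]), (179, true, [1, 0, 1, 3, 4, 0, 1, 3, 1, 3, 4]), (250, true, [0, 1, 3, 4, 3, 4, 3, 4, 0, 4, 3, 1, 3, 4]), (228, true, [4, 0, 4, 0, 4, 0, 4, 0, 4]), (206, false, [4, 3, 4, 3, 1]), (270, true, [2, 0, 4, 3, 4, 0, 4, 3, 1, 0, 1, 0, 4, 3, 1]), (273, true, [0, 2, 4, 3, 4, 0, 1, 3, 1, 0, 1, 3, 4]), (195, false, [2, 4, 0, 1, 0, 1, 0, 4, 3, 4, 3, 4]), (5, true, [1, 3, 1, 3, 4, 0, 4, 3, 4, 0, 1, 3, 1]), (124, false, [0, 4, 0, 4, 3, 1, 3, 1, 3, 4, 0, 4, 3, 1, 3, 4]), (55, false, [1, 3, 1, 3, 1, 3, 1]), (120, true, [3, 4, 0, 4, 0, 4, 3, 4, 3, 4, 0, 4, 0]), (200, false, [4, 0, 4, 0, 4, 0, 4, 3, 4, 3, 4, 0, 4]), (251, false, [4, 3, 1, 3,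 1, 0, 1, 0, 1, 0, 4, 0, 4, 0, 4]), (110, true, [0, 1, 0, 4, 3, 1, 0, 1, 3, 1, 3, 1, 0, 4, 0]), (88, false, [4, 0, 1, 0, 1, 0, 1, 3, 4, 3, 1, 0, 1, 3, 1, 0, 1]), (90, true, [4, 0, 4, 3, 4, 0, 4, 3, 1, 0, 1, 0, 1, 0]), (251, false, [1, 3, 1, 3, 1, 3, 4, 3, 4, 3, 4, 0]), (92, true, [0, 1, 0, 1, 0, 1, 3, 1, 3, 1, 0, 1, 0, 4, 3, 1, 3, 1]), (141, false, [0, 1, 0, 1, 0, 1, 2, 0, 1, 0, 1, 0, 1, 3, 4, 3, 4, 0]), (29, false, [0, 1, 3, 4, 3, 1, 0, 1, 0, 1, 3, 1, 0, 4, 3, 4]), (254, false, [2, 0, 4, 0, 1, 0, 1, 0, 1, 0, 1]), (19, true, [0, 1, 0, 1, 0, 2, 4, 0, 1, 0, 1, 3, 4, 0, 1]), (250, true, [4, 0, 1, 3, 1, 0, 4, 3, 1, 0, 1, 0, 4, 0, 4]), (205, true, [0, 4, 0, 4, 3, 1, 0, 1, 0, 4, 0, 4, 0]), (90, true, [2, 0, 4, 3, 4, 0, 4, 3,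 1, 3, 4, 0, 1, 3]), (154, false, [1, 0, 2, 4, 3, 4, 3, 4, 3, 1, 0, 4, 3]), (15, false, [3, 4, 0, 1, 3, 4, 0]), (34, true, [4, 0, 4, 3, 1, 0, 1, 3, 4, 3, 4, 0, 4, 0]), (251, false, [1, 0, 4, 0, 4, 0, 1, 3, 1, 0, 4, 0, 4, 0, 1]), (261, false, [1, 0, 2, 4, 3, 4, 3, 1, 0, 1, 3, 4, 0, 4, 3]), (137, true, [1, 0, 2, 4, 3, 1, 0, 1, 0, 1, 0]), (61, true, [0, 4, 3, 4, 0, 4, 0, 4, 0, 4, 3, 4, 3, 1, 0]), (107, false, [3, 1, 3, 1, 0, 4, 3, 4, 3, 4, 3, 1, 0, 4, 0]), (236, false, [4, 0, 1, 0, 1, 3, 4, 3, 1, 0, 4, 0, 4, 3, 4, 3]), (78, false, [1, 0]), (6, false, [1, 0, 1, 2, 0, 1, 3, 1, 3, 1, 3, 4, 3, 4, 0, 1]), (127, true, [3, 4, 3, 1, 0, 1, 0, 4, 3, 4, 0, 1, 3, 1]), (50, true, [1, 0, 1, 0, 1, 3, 1, 0, 4, 3, 4, 0, 1]), (154, false,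 [3, 1, 0, 4, 0, 4, 0, 4, 3, 4, 3, 4, 3, 4]), (236, false, [0, 1, 0, 1, 0, 2, 4, 0, 4, 3, 1, 0, 4, 0, 4, 3]), (171, false, [2, 4, 0, 1, 0, 4, 3, 1, 0, 1, 3, 4, 0]), (3, false, [2, 4, 3, 4, 0, 1, 3, 4, 3, 4, 0]), (254, false, [0, 1, 0, 4, 3, 1, 3, 1, 0, 4, 0, 4, 3, 1, 3]), (127, true, [0, 2, 4, 3, 1, 0, 4, 0, 4, 3, 4, 3, 4, 0, 4, 0, 1]), (2, true, [0, 4, 0, 4, 3, 4, 3, 1, 0, 1, 0, 1]), (140, false, [4, 3, 1, 3, 4, 0, 4, 3, 4, 3]), (2, false, [2, 0, 1, 3, 1, 0, 4, 0, 4, 3]), (217, false, [1, 3, 4, 3, 1, 0, 4]), (120, true, [4, 3, 4, 0, 4, 0, 4, 3, 1, 0, 4]), (191, true, [1, 3, 4, 3, 1, 0, 1, 0, 4, 3, 4, 3, 4]), (277, true, [3, 4, 0, 1, 0, 1, 0, 4, 3, 4, 0, 1, 3, 4]), (120, true, [0, 1, 0, 4, 3, 1, 0, 1]), (260, false, [1,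 3, 4, 3, 4, 3, 4, 0, 4, 0, 4, 3, 1, 3]), (19, true, [1, 3, 4, 3, 1, 0, 1, 3, 1, 3, 4, 0, 4, 0]), (197, true, [0, 4, 0, 1, 3, 1, 3, 4, 0, 4, 0, 1]), (107, false, [4, 0, 1, 3, 1, 3, 1, 0, 1, 0, 4, 3]), (20, false, [3, 4, 0, 4, 3, 4, 0, 1, 0, 1, 3, 1, 0, 1]), (117, false, [2, 0, 1, 3, 1, 3, 4, 3, 4, 0]), (179, true, [2, 0, 4, 3, 1, 0, 1, 0, 4, 0, 4, 3]), (187, false, [0, 2, 4, 0, 4, 3, 1, 3, 1, 0, 4, 3, 4, 0]), (136, true, [3, 1, 3, 4, 0, 4, 0]), (49, true, []), (88, false, [2, 0, 1, 3, 1, 0, 4, 0, 4, 3, 4, 0, 1, 0, 4]), (171, false, [1, 0, 4, 3, 1, 0, 1, 0, 1, 3, 1, 3, 1, 3, 1, 0]), (212, true, [1, 2, 0, 4, 3, 4, 3, 4, 3, 4, 0, 1, 0, 1, 0]), (92, true, [1, 0, 2, 4, 3, 1, 0, 1, 0, 1, 0, 1, 0]), (260, false, [0, 2, 4, 3,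 4, 3, 4, 3, 4, 0, 4, 0, 4, 3]), (137, false, [1, 3, 1, 3, 1, 0, 1, 3, 4, 3, 1, 0]), (64, true, [2, 0, 1, 0, 1, 3, 1, 3, 4, 3, 4, 0, 1, 0, 1]), (137, true, [1, 2, 0, 1, 3, 1, 0, 4, 0]), (191, true, [1, 2, 0, 1, 3, 1, 0, 1, 3, 4, 0, 4, 0, 4, 0, 4]), (55, false, [1, 2, 0, 1, 3, 4, 0, 1, 0, 1, 3, 1]), (184, true, [0, 4, 3, 1, 3, 4, 0, 4, 3, 4, 0, 1]), (233, true, [4, 0, 4, 3, 1, 3, 1, 3, 4, 3, 4]), (200, false, [2, 4, 3, 4, 3, 1, 0, 4, 0, 4, 3, 4, 0, 1, 0]), (122, false, [2, 4, 0, 1, 3, 1, 0, 4, 0, 4, 3, 1, 3, 4, 0, 1]), (34, false, [4, 3, 4, 0, 1, 0, 1, 3, 4, 3, 1]), (248, true, [0, 1, 2, 0, 4, 0, 1, 3, 1, 0, 1, 0, 1]), (140, true, [1, 2, 0, 4, 3, 4, 3, 1, 0, 4]), (261, false, [0, 4, 3, 4, 3, 4, 0, 1, 3, 1, 3, 1, 0, 4,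 3, 1]), (190, false, [2, 0, 1, 0, 1, 0, 1, 0, 1, 0, 1, 3, 1, 3, 4]), (137, false, [1, 3, 1, 3, 1, 0, 4, 3, 1, 3, 4]), (73, true, [4, 3, 1, 3, 1, 3, 1, 3, 1, 3, 1, 0]), (241, true, [0, 1, 0, 4, 0, 4, 3, 1, 0, 1, 3, 1, 0, 4]), (270, true, [1, 0, 4, 3, 4, 0, 4, 3, 1, 0, 1, 0, 1]), (90, true, [3, 4, 3, 1, 0, 4, 3, 4, 0, 1, 0, 1, 3, 4, 0, 4]), (125, false, [0, 1, 0, 1, 0, 1, 3, 1, 0, 1, 3, 4, 0]), (126, true, [1, 3, 4, 0, 4, 0, 4, 3, 4, 3, 4, 0, 4, 0, 1]), (124, false, [2, 0, 4, 3, 4, 0, 1, 3, 1, 3, 4, 3, 4, 3, 4, 0, 1]), (120, true, [3, 1, 3, 1, 0, 1, 3, 4, 3, 4, 0, 4, 0]), (195, true, [1, 0, 1, 0, 1, 0, 4, 0, 4, 0])]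
def r50 : List (ℕ × Bool × List ℕ) := [(152, true, [4, 0, 1, 3, 4, 0, 4, 3, 4, 3, 4, 0, 1, 3]), (73, true, [4, 0, 4, 0, 4, 3, 1, 3, 4]), (186, true, [3, 1, 0, 1, 0, 4, 3, 4, 0, 1, 0, 1, 0, 4]), (172, true, [0, 2, 4, 0, 4, 0, 1, 3, 4, 3, 4, 3, 4]), (247, false, [1, 3, 1, 3, 4, 0, 1, 3, 1, 0, 1]), (126, false, [1, 0, 1, 3, 4, 0, 4, 3, 4, 0, 4, 3]), (246, true, [1, 0, 1, 0, 1, 0, 4, 3, 1, 0, 4]), (137, true, [0, 1, 0, 2, 4, 0, 4, 0, 4, 3, 4, 3, 4, 3, 4]), (202, true, [2, 0, 1, 0, 4, 3, 4, 3]), (164, true, [0, 2, 4, 3, 1, 0, 1, 0, 4, 3, 4, 0, 4, 0]), (31, false, [0, 4, 3, 1, 0, 1, 3, 1, 3, 1, 0, 4, 3, 4, 0]), (262, false, [1, 2, 0, 4, 3, 4, 0, 4, 0, 4, 3, 1, 0, 1, 0, 4]), (149, false, [0, 2, 4, 0, 4, 0, 4, 0, 1, 3, 1, 0,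 4, 3, 1]), (204, false, [3, 1, 0, 4, 0, 4, 3, 1, 0, 4, 3]), (259, true, [2, 4, 0, 1, 3, 1, 0, 1, 3, 4, 0, 1, 0, 1]), (231, false, [1, 2, 0, 1, 3, 1, 3, 4, 3, 4, 3, 1, 3]), (107, false, [4, 0, 4, 0, 4, 0, 4, 3, 1, 0, 1, 3, 4]), (65, false, [0, 1, 0, 2, 4, 0, 4, 0, 4, 3, 4, 3, 4, 3, 4]), (261, true, [1, 0, 4, 0, 4, 0, 4, 0, 4, 3, 1]), (269, true, [0, 2, 4, 3, 1, 0, 1, 0, 4, 3, 1, 3, 1, 0, 1, 3]), (236, true, [2, 0, 1, 0, 4, 3, 1, 3, 1, 0, 1, 0, 4, 3, 1]), (188, true, [3, 4, 0, 1, 0, 1, 3, 4, 0, 1, 3, 1, 3, 4]), (141, true, [1, 0, 1, 0, 4, 3, 4, 0, 1, 3, 4]), (44, true, [0, 1, 0, 1, 3, 4, 0, 4, 0, 1]), (206, true, [1, 3, 4, 0, 4, 3, 4, 3, 4, 0, 4, 3, 4, 3]), (141, true, [0, 4, 0, 1, 3, 4, 0, 4, 3, 1, 3, 4, 0]), (280, false,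 [3, 4, 0, 4, 0, 1, 3, 4, 0, 4, 0, 1, 3, 4]), (189, true, [1, 0, 1, 0, 1, 0, 1, 0, 2, 4, 0]), (107, false, [3, 4, 3, 1, 0, 1, 0, 4, 3, 4, 0, 4]), (56, true, [3, 1, 0, 1, 3, 4, 0, 1, 0, 1]), (188, false, [1, 2, 0, 1, 0, 1, 3, 4, 0, 1, 0, 1, 0, 4]), (94, true, [4, 0, 1, 0, 1, 0, 1, 0]), (249, false, [3, 4, 0, 4, 3, 4, 3, 4, 0, 1, 3, 1, 3]), (128, true, [2, 0, 1, 3, 1, 0, 1, 0, 1, 3, 4, 3, 4, 0, 1, 0, 4]), (73, true, [2, 0, 1, 3, 4, 3, 4, 3, 4, 0, 4, 3, 4, 0, 4, 0]), (221, false, [4, 3, 4, 3, 1, 0, 4, 0, 4, 3, 4, 0]), (209, true, [0, 2, 4, 0, 4, 0, 4, 3, 4, 3, 4, 3, 4, 0, 1, 0]), (62, true, [4, 0, 1, 0, 1, 0, 1, 0, 1]), (230, false, [0, 1, 2, 0, 4, 0, 1, 3, 4, 0, 4, 0]), (126, false, [2, 4, 0, 1, 3, 4, 3, 4, 0, 1, 3, 1,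 0, 4]), (35, false, [3, 1, 0, 1, 3, 4, 0, 1, 0, 1, 3, 4, 0, 1]), (86, true, [1, 0, 1, 2, 0, 4, 0, 1, 3, 4, 3, 4, 0, 4, 0]), (178, true, [2, 4, 0, 1, 3, 1, 3, 1, 3, 1, 0, 1]), (141, true, [1, 0, 2, 4, 3, 4, 3, 1, 0, 1, 3, 1, 3, 4, 0, 1, 0]), (108, true, [3, 4, 0, 1, 3, 1, 0, 1, 3]), (209, false, [3, 4, 0, 4, 3, 4, 0, 1, 0, 1, 3]), (263, true, [2, 4, 3, 4, 3, 4, 0, 4, 0, 4, 3, 4, 3, 1]), (16, false, [0, 4, 0, 4, 3, 4, 0, 1, 0, 1, 0, 1]), (29, false, [1, 3, 4, 3, 1, 0, 1, 0, 1, 3, 1, 0, 4, 3, 4]), (128, true, [0, 1, 3, 4, 0, 4, 3, 1, 3, 4, 0, 4, 0, 1]), (176, false, [1, 0, 1, 2, 0, 1, 3, 1, 3, 4, 3, 4, 3, 1]), (158, false, [0, 1, 0, 1, 2, 0, 1, 0, 1, 0, 4, 3, 4, 0, 4, 0]), (196, false, [3, 4, 3, 4, 3, 4, 0, 1, 3, 4]), (236,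 false, [0, 4, 3, 4, 3, 4, 0, 1, 0, 4]), (181, false, [2, 0, 1, 3, 1, 0, 1, 3, 4, 0, 4, 0, 1]), (38, true, [1, 0, 1, 2, 0, 1, 0, 4, 3, 1, 3, 1, 3, 1, 0, 4, 3]), (262, false, [1, 3, 4, 3, 1, 0, 1, 0, 4, 0, 4, 0, 1, 0]), (127, false, [1, 0, 1, 0, 4, 3, 4, 3, 4, 0, 4, 3, 1, 3, 4, 0]), (49, true, [1, 0, 1, 0, 1, 3, 1, 0, 4, 3, 4, 0, 1]), (263, true, [4, 0, 4, 0, 4, 3, 4, 0, 4, 3, 4, 3, 1]), (181, false, [1, 0, 4, 3, 1, 0, 1, 3, 4, 3, 1, 0, 4, 0, 4]), (76, false, [1, 3, 1, 3, 1, 3, 4, 3, 4, 3, 4, 3, 4, 0]), (53, false, [2, 4, 0, 1, 0, 1, 0, 4, 0, 4, 0, 1]), (86, true, [4, 3, 1, 0, 1, 3, 1, 3, 4, 3, 4, 3, 4, 3]), (127, false, [2, 0, 4, 3, 4, 0, 4, 3, 4, 0]), (2, true, [0, 4, 3, 1, 0, 4, 0, 4, 3, 4, 0, 1]), (31, false, [1, 0,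 1, 0, 4, 0, 4, 3, 4, 0, 1, 0, 1, 0]), (50, true, []), (156, true, [0, 4, 0, 1, 3, 1, 0, 1, 0, 4, 3, 4, 0, 1]), (236, true, [4, 0, 1, 0, 1, 3, 1, 3, 4, 0, 4, 0, 4, 0, 1]), (9, false, [1, 0, 1, 3, 4, 0, 4, 3, 1, 0, 1, 0, 4, 3]), (152, true, [2, 4, 0, 4, 0, 1, 3, 4, 0, 4, 3, 1, 0, 1]), (247, false, [4, 3, 1, 0, 4, 3, 4]), (89, true, [2, 4, 0, 1, 3, 4, 0, 4, 0, 4, 0, 4, 3, 4, 3, 4]), (178, true, [4, 0, 4, 3, 1, 3, 1, 3, 4, 3, 4, 0, 1, 0, 4]), (251, false, [1, 3, 1, 3, 1, 0, 4, 0, 4, 3, 1, 3, 4, 0, 1]), (236, false, [1, 2, 0, 4, 0, 4, 3, 1, 3, 1, 3, 1, 0, 1]), (30, false, [1, 3, 1, 3, 4, 0, 4, 3, 1, 3, 1, 3, 1, 0, 1, 0]), (50, false, [1, 3, 1, 0, 1, 3, 1, 0, 4, 3, 1, 0]), (188, true, [2, 0, 1, 3, 1, 0, 1, 0, 4, 0, 4, 3]),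 (173, true, [4, 0, 1, 0, 1, 0, 1, 0, 1, 0, 1, 3]), (164, true, [1, 0, 1, 0, 4, 0, 4, 3, 4, 3, 4, 3, 4]), (186, false, [0, 1, 3, 1, 0, 4, 0, 4, 3, 4, 0, 1, 3]), (221, false, [1, 2, 0, 1, 0, 1, 3, 1, 0, 1, 0, 4, 0, 4, 0, 4]), (76, false, [2, 4, 3, 1, 0, 4, 0, 4, 3, 1, 3]), (137, true, [3, 1, 0, 1, 3, 4, 3, 1, 0, 4, 3]), (230, false, [1, 3, 1, 0, 4, 3, 1, 3, 1, 3, 1, 0, 4, 3, 1]), (89, true, [4, 0, 4, 3, 1, 3, 1, 3, 4, 0, 4, 3, 1, 3, 1, 0]), (6, true, [1, 0, 1, 3, 4, 0, 4, 0, 4, 0, 1]), (172, true, [1, 3, 1, 0, 4, 0, 4, 3, 1, 0, 4, 0, 4, 0]), (6, true, [2, 0, 1, 3, 1, 3, 1, 3, 1, 0, 1, 0, 4, 0, 4, 3]), (9, false, [3, 4, 0, 4, 0, 1, 3, 1, 0, 1, 3, 1, 3, 4]), (188, false, [1, 3, 1, 0, 4, 3, 4, 3, 4, 3, 4, 0, 4, 3, 1]), (169,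 true, [1, 0, 1, 0, 1, 0, 4, 3, 4, 0]), (240, false, [2, 0, 4, 3, 1, 3, 1, 0, 4, 3, 4, 3, 4]), (249, false, [4, 0, 1, 0, 1, 3, 1, 3, 4, 0, 4]), (204, false, [3, 1, 0, 4, 0, 4, 0, 1, 3, 1, 0, 1, 3]), (29, true, [1, 0, 1, 2, 0, 4, 0, 4, 3, 1, 3, 4, 0, 1, 3]), (233, true, [2, 0, 4, 3, 4, 0, 4, 3, 1, 0, 1]), (269, true, [0, 4, 0, 1, 3, 1, 0, 1, 0, 1, 3]), (176, false, [1, 0, 1, 0, 1]), (65, false, [3, 1, 0, 1, 3, 4, 3, 1, 0, 4, 3]), (158, false, [0, 4, 3, 4, 0, 4, 0, 4, 0, 1, 3, 4]), (246, true, [4, 3, 1, 3, 1, 0, 4, 3, 1, 0, 1]), (238, true, [0, 2, 4, 0, 4, 3, 4, 3, 1, 0, 1, 3, 1, 3, 4]), (141, true, [1, 0, 1, 0, 1, 0, 2, 4, 0, 1, 0, 1, 3, 4, 3, 4, 0, 4]), (261, true, [1, 0, 2, 4, 3, 4, 3, 4, 0, 1, 3, 4, 3, 4, 3, 1]), (149,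 false, [3, 1, 3, 1, 0, 4]), (231, false, [1, 2, 0, 1, 0, 4, 0, 4, 3, 1, 0, 1]), (56, true, [3, 1, 0, 4, 3, 1, 3, 1, 3, 4, 0, 1, 0, 1]), (94, true, [4, 0, 1, 3, 1, 3, 1, 0, 1, 3, 4, 3, 4, 3]), (189, true, [3, 1, 3, 1, 0, 1, 0, 1, 0, 4])]
def r51 : List (ℕ × Bool × List ℕ) := [(43, true, [3, 4, 0, 1, 3, 1, 3, 4, 3, 4, 3, 1, 0]), (73, false, [0, 4, 3, 4, 3, 4, 0, 4, 0, 4, 3, 4, 3, 1, 0, 4]), (51, false, [3, 4, 0, 4, 3, 4, 0, 1, 0, 1, 3, 1, 0, 1]), (186, true, [3, 1, 0, 1, 3, 1, 3, 1, 0, 4, 3, 4, 0, 1]), (252, false, [2, 0, 1, 0, 4, 3, 4, 3, 4, 0, 4, 0, 4, 0, 1]), (69, true, [0, 1, 0, 4, 3, 1, 0, 1, 0, 1, 0, 4, 3, 1, 0]), (24, false, [1, 0, 1, 2, 0, 4, 0, 4, 3, 4, 3, 4, 0]), (212, false, [3, 4, 3, 1, 0, 1, 0, 4, 3]), (97,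 true, [4, 3, 1, 0, 1, 3, 4, 0, 1, 0, 4]), (281, false, [3, 4, 3, 1, 0, 1, 3, 4, 0]), (7, true, [1, 3, 1, 0, 1, 0, 1, 3, 1, 3, 1, 0, 1, 0, 1]), (212, false, [0, 2, 4, 3, 4, 3, 4, 0, 4, 0, 4, 3, 1, 0, 1, 3]), (157, true, [0, 1, 2, 0, 1, 0, 4, 0, 4, 3, 4, 3, 4, 3, 4]), (200, false, [1, 2, 0, 1, 0, 1, 0, 1, 3, 1, 3, 1, 3, 1, 0, 1]), (187, false, [0, 2, 4, 0, 1, 0, 1, 3, 1, 3, 4, 0, 4, 0, 4]), (179, false, [2, 0, 1, 0, 4, 3, 1, 0, 1, 0, 1, 3, 4, 3]), (179, false, [1, 2, 0, 1, 0, 4, 3, 4, 0, 4, 0, 4, 3, 4, 0, 1]), (141, false, [0, 1, 0, 4, 3, 4, 3, 1, 0, 1, 0, 4, 0, 4, 3]), (127, true, [1, 0, 4, 0, 1, 3, 1, 0, 4, 0, 4, 0, 1, 0]), (259, false, [0, 4, 0, 1, 3, 1, 0, 1, 0, 4, 0, 4]), (252, false, [3, 4, 0, 4, 3, 4, 3, 1, 0, 1,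 3, 4, 3]), (188, true, [0, 2, 4, 3, 4, 3, 1, 0, 1, 3, 4, 0, 1, 0, 1, 3, 1]), (216, true, [1, 0, 1, 3, 1, 0, 4, 0, 4, 3, 1, 0, 4, 0, 1]), (202, true, [1, 0, 4, 3, 4, 0, 4, 3, 1, 0, 4]), (134, false, [4, 0, 1, 3, 1, 0, 1, 0, 1, 3, 4, 0]), (222, true, [3, 1, 0, 4, 3, 1, 0, 1, 0, 1, 3, 4, 3, 1]), (279, false, [0, 2, 4, 3, 4, 0, 4]), (195, true, [0, 1, 2, 0, 1, 0, 1, 0, 4, 3, 1, 3, 4, 0, 4, 3]), (179, false, [3, 4, 0, 4, 3, 1, 3, 1, 0, 4, 0, 4, 3, 4, 3, 1]), (87, false, [0, 4, 3, 4, 0, 4, 3, 4, 3, 4, 0, 4, 0, 4, 0, 4]), (71, false, [1, 0, 1, 3, 4, 3, 4, 0, 1, 3, 1, 0, 1]), (216, true, [0, 1, 0, 1, 3, 4, 3, 4, 0, 4, 0, 4, 0]), (123, false, [1, 3, 4, 0, 4, 3, 4, 3, 4, 0, 4, 0, 4, 3]), (121, false, [4, 3, 1, 3, 4, 0, 1, 0, 1,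 3, 4, 3, 1]), (73, false, [2, 0, 4, 0, 4, 0, 1, 3, 1, 3, 1, 3, 1, 0]), (237, false, [1, 0, 1, 0, 1, 2, 0, 4, 3, 4, 0, 1, 0, 1, 0]), (139, true, [1, 2, 0, 4, 3, 4, 0, 4, 0, 1, 3, 4, 0]), (117, true, [1, 0, 1, 0, 2, 4, 0, 1, 0, 1, 0, 4, 3, 1]), (179, false, [4, 0, 4, 0, 4, 3, 4, 0, 1, 0, 1, 0, 4, 3, 4]), (69, true, [2, 0, 1, 3, 4, 3, 4, 3, 4, 0, 1, 3, 4]), (39, false, [4, 0, 1, 0, 1, 3, 4, 0, 4, 0, 4, 3]), (89, false, [1, 3, 1, 3, 1, 3, 1, 0, 4, 0, 4, 3, 1, 0, 1, 3]), (178, true, [1, 2, 0, 1, 3, 1, 0, 1, 0, 4, 0, 4, 0, 4, 0, 1]), (216, true, [4, 3, 4, 0, 1, 0, 1, 3, 1, 0]), (273, true, [2, 4, 3, 4, 3, 4, 3, 4, 3, 4, 3, 1, 3]), (139, false, [1, 0, 4, 3, 4, 3, 4, 0, 4, 0, 4, 0, 4, 3, 4, 0]), (256, true, [0, 2, 4, 0, 1, 0,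 1, 3, 1, 3, 4, 0, 4, 3, 4, 0]), (36, false, [0, 1, 0, 4, 3, 4, 3, 4, 3, 1, 0, 4, 0, 4, 3, 4]), (31, true, [0, 4, 3, 1, 0, 1, 0, 4, 0, 4, 3, 1, 0]), (121, false, [0, 1, 2, 0, 4, 0, 4, 0, 1, 3, 4, 0, 4]), (255, false, [0, 2, 4, 3, 1, 0, 4, 0, 4, 3, 4, 0, 1, 0, 1, 0, 4]), (152, false, [0, 4, 3, 4, 0, 4, 0, 1, 3, 1, 0, 1, 3, 1]), (198, false, [3, 4, 0, 1, 0, 1, 3, 4, 0, 1, 0, 1, 3, 4, 0]), (70, true, [3, 4, 3, 1, 0, 4, 3, 4, 0, 1, 3, 1]), (109, false, [0, 4, 0, 4, 3, 4, 0, 1, 3, 1, 3, 1, 3]), (168, true, [2, 4, 0, 4, 3, 4, 0, 4, 3, 4, 3, 1, 0, 4]), (212, false, [4, 3, 4, 0, 1, 3, 1, 3, 1, 0, 1, 0, 4, 0, 4, 0]), (51, false, [3, 1, 0, 4, 0, 4, 0, 1, 3]), (52, true, [1, 0, 1, 0, 1, 3, 1, 0, 4, 3, 4, 0, 1]), (256, true, [1,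 3, 4, 3, 4, 3, 1, 0, 4, 3, 4, 3, 4, 3]), (109, false, [0, 1, 0, 1, 2, 0, 1, 0, 1, 3, 1, 3, 4, 0, 4]), (158, true, [1, 2, 0, 1, 3, 1, 3, 1, 3, 4, 0, 4, 3, 1, 0, 1, 3]), (52, false, [1, 3, 4, 3, 4, 0, 1, 3, 1, 3, 4, 0]), (89, false, [0, 2, 4, 3, 4, 0, 4, 3, 1, 3, 1, 0, 4, 3, 1, 3]), (51, false, [0, 2, 4, 0, 1, 3]), (51, false, [3, 4, 0, 4, 3, 4, 0, 1, 0, 1, 3, 1, 0, 1]), (7, true, [2, 0, 4, 3, 1, 0, 1, 3, 4, 3, 1, 0, 4, 0, 4, 0]), (51, true, []), (259, true, [3, 1, 3, 4, 3, 4, 0, 4, 3, 4, 3, 1]), (252, false, [1, 0, 2, 4, 3, 1, 0, 1, 0, 4, 3, 1, 0]), (214, false, [0, 1, 2, 0, 1, 3, 4, 0, 1, 3, 1, 3, 4, 0]), (43, true, [2, 0, 4, 0, 4, 3, 4, 3, 4, 0, 1, 3, 1, 3, 4, 3]), (252, false, [4, 0, 4, 3, 4, 0, 4, 0, 4, 3, 1, 0, 4,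 0]), (98, true, [4, 3, 1, 3, 1, 3, 1, 0, 4, 3]), (178, true, [0, 1, 0, 4, 0, 4, 0, 1, 3, 1, 0, 1, 0, 4]), (246, false, [1, 3, 1, 3, 4, 0, 4, 0, 1, 3, 1, 3, 1, 3, 4]), (70, true, [1, 0, 1, 2, 0, 1, 0, 4, 3, 1, 0]), (17, false, [1, 0, 1, 3, 1, 0, 4, 3, 4, 0, 4, 3, 4]), (80, false, [0, 1, 0, 1, 2, 0, 4, 0, 1, 3, 4]), (188, true, [0, 4, 0, 4, 0, 1, 3, 1, 3, 1, 3, 1]), (80, true, [2, 4, 0, 1, 0, 4, 3, 1, 3, 1, 0, 1, 3, 4]), (281, false, [1, 0, 4, 0, 4, 3, 1, 3, 1, 0, 4, 0]), (184, false, [3, 1, 3, 1, 0, 1, 3, 1, 0, 1, 0, 4, 3]), (237, false, [0, 1, 0, 4, 3, 4, 0, 4, 0, 4, 3, 4, 0, 1, 3, 4]), (158, true, [1, 0, 4, 3, 4, 3, 1, 0, 4, 0, 4, 3, 1, 3]), (212, false, [0, 2, 4, 3, 4, 3, 4, 0, 1, 3, 1, 3, 4, 3, 4]), (179, false, [2,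 0, 1, 0, 4, 3, 1, 0, 1, 0, 1, 3, 4, 3]), (98, true, [1, 0, 1, 2, 0, 1, 0, 1, 0, 1, 3, 4, 3, 1, 0]), (213, true, [0, 1, 0, 1, 2, 0, 1, 0, 4, 3, 4, 0, 1, 3, 4]), (186, true, [0, 1, 3, 1, 0, 4, 3, 4]), (213, true, [4, 0, 4, 0, 4, 0, 4, 3, 1, 3, 4, 0, 4, 3, 4]), (214, false, [0, 4, 0, 4, 0, 4, 3, 1, 0, 1, 0, 4, 0, 4, 0, 4]), (71, false, [0, 1, 2, 0, 1, 0, 1, 0, 1, 3, 4, 0, 4, 3, 1, 3, 4]), (117, false, [0, 1, 3, 4, 0, 1, 3, 1, 0, 4, 0, 4, 0, 4, 3]), (186, false, [0, 1, 3, 1, 3, 4, 0, 4, 3, 4, 0, 1, 3]), (123, false, [0, 1, 0, 1, 2, 0, 1, 0, 1, 0, 4, 3, 4, 0, 1, 0, 1, 0]), (200, false, [1, 0, 4, 3, 1, 3, 1, 0, 1, 3, 4, 3, 1, 0, 4]), (185, true, [2, 4, 0, 1, 3, 1, 0, 1, 0, 1, 3, 4, 0, 4, 3, 1]), (55, true, [0, 4, 0, 1, 3,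 1, 0, 1, 3, 4, 3, 4]), (259, false, [3, 1, 3, 1, 0, 4, 0, 4, 3, 4, 3]), (255, false, [0, 4, 3, 1, 0, 1, 3, 4, 3, 4, 0, 4, 3, 1]), (141, false, [1, 2, 0, 4, 0, 1, 3, 1, 3, 4, 0, 1, 3, 1, 3, 4]), (152, false, [2, 4, 3, 1, 3, 1, 3, 4, 3, 4, 3, 4]), (24, false, [3, 4, 0, 4, 0, 4, 0, 1, 3, 1, 0, 4, 3, 4, 3]), (257, true, [0, 1, 3, 1, 0, 1, 3, 1, 0, 4, 3, 4, 3, 4]), (222, true, [1, 0, 2, 4, 0, 4, 3, 1, 3, 1, 3, 1, 3]), (127, true, [0, 2, 4, 0, 4, 3, 1, 0, 1, 3, 1, 3, 1, 0, 4, 3, 1]), (157, true, [1, 0, 4, 0, 4, 3, 4, 0, 4, 3, 1, 3, 4]), (179, false, [4, 0, 4, 0, 4, 3, 4, 0, 1, 0, 1, 0, 4, 3, 4]), (87, false, [2, 0, 1, 0, 1, 0, 1, 3, 1, 0, 4, 0, 4, 0, 4, 3]), (216, true, [3, 4, 0, 4, 0, 4, 3, 1, 3, 1, 3]), (195, true, [0, 1,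 0, 1, 0, 4, 0, 4, 0, 4])]
def r52 : List (ℕ × Bool × List ℕ) := [(191, false, [2, 0, 1, 3, 1, 0, 1, 0, 1, 3, 4, 0, 4, 3, 1]), (236, true, [0, 4, 3, 4, 3, 1, 0, 4, 3, 4, 0, 1, 0, 4]), (243, true, [0, 1, 0, 1, 0, 4, 3, 4, 0, 4, 3, 4, 0, 4, 0, 4]), (263, false, [1, 0, 1, 2, 0, 1, 0, 1, 0, 4, 0, 4, 0, 1, 0]), (140, true, [0, 1, 0, 1, 2, 0, 1, 0, 1, 0, 1, 3, 4, 0, 4]), (189, true, [2, 0, 1, 0, 4, 3, 4, 0, 1, 0, 1, 3, 4, 0, 1]), (249, false, [1, 3, 1, 0, 1, 3, 1, 0, 1, 0, 4, 0, 4, 0, 4, 3]), (247, true, [0, 1, 3, 1, 0, 1, 3, 4, 0, 4, 3, 4, 0, 4]), (144, false, [2, 4, 3, 4, 3, 4, 0, 1, 3, 4, 0]), (128, true, [1, 2, 0, 1, 3, 4, 0, 1, 3, 1, 3, 1, 3, 1, 0]), (4, true, [0, 1, 0, 1, 0, 1, 0, 1, 0, 2, 4, 0, 1]), (195, true, [3, 4,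 3, 4, 0, 4, 3, 1, 0, 1, 3, 1]), (140, false, [0, 2, 4, 0, 4, 0, 4, 0, 4, 3, 4, 3, 4, 0, 4, 3]), (200, true, [4, 0, 1, 0, 4, 3, 1, 3, 1, 0, 1, 3, 4, 3]), (241, true, [0, 1, 3, 1, 0, 1, 3, 1, 0, 4, 3, 4, 3, 4]), (263, true, [1, 2, 0, 4, 0, 1, 3, 1, 3, 1, 3, 4, 0, 4]), (10, false, [3, 4, 0, 4, 3, 4, 0, 1, 0, 1, 3, 1, 0, 1]), (191, true, [2, 0, 4, 0, 4, 3, 1, 0, 1, 3, 4, 0, 1]), (247, false, [2, 0, 1, 3, 4, 3, 4, 3, 4, 0, 4, 0, 4, 0, 4]), (4, false, [0, 1, 2, 0, 1, 0, 1, 3, 4, 0, 1, 3, 1, 3, 4]), (108, true, [4, 3, 1, 0, 1, 0, 1, 0, 4, 3, 1, 3, 1]), (128, false, [0, 2, 4, 3, 1, 3, 1, 3, 1, 0, 1, 0, 1, 3, 1, 3, 4]), (223, true, [1, 0, 4, 0, 1, 3, 4, 3, 4, 0, 4, 0, 4, 3, 4]), (206, true, [4, 0, 1, 3, 1, 3, 1, 3, 1, 0, 4, 3,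 4, 0, 4]), (31, false, [2, 0, 4, 3, 4, 0, 1, 0, 1, 3, 4, 3]), (269, false, [0, 1, 0, 1, 2, 0, 1, 0, 4, 3, 4, 0, 4, 3]), (243, false, [1, 0, 2, 4, 0, 4, 3, 4, 0, 4, 3, 1, 0, 1]), (177, false, [1, 0, 1, 0, 4, 3, 1, 0, 1, 3, 4]), (10, true, [0, 1, 0, 4, 3, 4, 3, 4, 3, 1, 0, 4, 0, 4, 3, 4]), (236, false, [0, 4, 0, 4, 3, 1, 3, 4, 0, 1]), (200, false, [4, 3, 1, 0, 1, 0, 4, 3, 4, 0, 1]), (235, false, [0, 1, 0, 1, 0, 2, 4, 0, 1, 0, 1, 3, 1, 3, 4, 0, 4, 0, 4]), (177, true, [1, 3, 4, 0, 4, 3, 4, 0, 4, 3, 4, 3, 4, 3]), (252, true, [2, 0, 4, 0, 1, 3, 1, 3, 4, 0, 4, 0, 1, 3, 1]), (236, true, [2, 4, 0, 1, 0, 1, 3, 1, 0, 1, 0, 4, 0, 4, 3]), (185, true, [1, 0, 1, 3, 4, 0, 1, 3, 1, 3, 4, 0, 4, 0]), (185, false, [1, 0, 4, 3, 4, 0, 4,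 0, 4, 0, 1, 3, 4]), (119, false, [0, 2, 4, 0, 1, 3, 4, 3, 4, 3, 4, 3, 1, 3]), (235, true, [2, 4, 0, 1, 3, 4, 3, 4, 3, 4, 0, 1, 0]), (189, true, [1, 0, 1, 3, 4, 3, 1, 0, 1, 0, 4, 3, 1, 3, 1]), (31, true, [3, 1, 0, 1, 0, 4, 0, 4, 3, 1, 0, 1, 0, 1]), (223, false, [2, 4, 3, 1, 3, 1, 3, 4, 0, 4, 3, 1, 0, 1, 0, 1]), (224, true, [1, 2, 0, 4, 3, 4, 3, 1, 0, 4, 0, 4, 3, 4, 0]), (223, true, [2, 4, 0, 4, 3, 1, 3, 1, 0, 4, 3, 1, 0, 1]), (280, false, [1, 3, 1, 3, 1, 3, 4, 3, 4]), (185, false, [4, 0, 1, 3, 1, 0, 4, 3, 4, 0, 1, 0, 4]), (224, false, [1, 2, 0, 4, 0, 1, 3, 1, 0, 4, 3, 1, 3, 4]), (15, true, [1, 3, 1, 3, 4, 0, 1, 0, 1]), (31, false, [2, 4, 3, 1, 3, 4, 0, 1, 3, 1, 0]), (252, true, [0, 1, 3, 4, 0, 1, 3, 1, 3, 1, 0, 4, 3,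 4]), (127, false, [4, 3, 4, 3, 4, 3, 1, 0, 1, 3, 4]), (195, false, [3, 4, 0, 1, 3, 1, 3, 4, 0, 4, 0, 1, 3, 1, 3]), (173, true, [2, 4, 0, 1, 0, 4, 3, 1, 3, 1]), (269, true, [1, 0, 1, 2, 0, 1, 3, 1, 3, 1, 3]), (127, true, [0, 1, 0, 2, 4, 0, 4, 0, 1, 3, 4, 3]), (258, false, [2, 4, 0, 1, 0, 1, 3, 4, 0, 4, 3, 1, 0, 4]), (195, true, [2, 0, 4, 0, 4, 3, 4, 3, 1, 0, 1, 3, 1]), (108, false, [3, 4, 0, 1, 3, 4, 3, 4, 3, 1, 3]), (51, true, [1, 0, 1, 0, 1, 3, 1, 0, 4, 3, 4, 0, 1]), (224, false, [0, 1, 3, 1, 0, 1, 0, 1, 3, 4, 0, 4, 3, 4, 0, 4, 3]), (127, true, [0, 4, 0, 4, 3, 1, 0, 1, 0, 4, 3, 4, 3, 4, 3, 4]), (249, true, [2, 4, 3, 1, 0, 4, 0, 4, 0, 4, 3, 1, 3, 1, 0]), (51, false, [1, 3, 4, 3, 4, 0, 1, 3, 1, 3, 4, 0]), (223, false,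 [3, 4, 3, 4, 3, 1, 0, 1, 3, 4, 3, 4, 0, 1, 0]), (108, false, [0, 4, 3, 4, 0, 1, 3, 1, 3, 4, 3, 4, 0, 1, 3]), (51, false, [1, 0, 1, 3, 1, 3, 4, 0, 1, 0, 1, 0, 1, 3, 4, 3]), (4, false, [0, 1, 0, 4, 3, 4, 0, 4, 0, 4, 3, 4, 0, 1, 3, 4, 0]), (51, true, [4, 3, 1, 3, 4, 0, 1, 3, 1, 3, 1, 3, 4]), (258, true, [0, 4, 3, 4, 0, 1, 0, 1, 0, 1, 3, 4, 3, 1, 0, 4]), (108, true, [3, 1, 0, 1, 0, 4, 0, 4, 3, 1, 3, 4]), (10, false, [3, 4, 0, 4, 3, 4, 0, 1, 0, 1, 3, 1, 0, 1]), (191, false, [0, 1, 3, 4, 3, 4, 0, 4, 3, 1, 3, 4, 0, 4, 0, 4]), (140, true, [3, 1, 0, 1, 0, 1, 3, 4, 0, 4, 3, 4]), (252, true, [2, 4, 3, 4, 0, 4, 3, 4, 0, 1, 0, 1, 3, 1, 3]), (224, true, [4, 0, 1, 0, 1, 0, 4, 3, 4, 0, 1, 3, 4, 0]), (31, true, [0, 4, 3, 1, 3, 1, 0,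 4, 0, 4, 3, 4]), (269, true, [0, 1, 3, 4, 0, 4, 0, 1, 3, 1, 3, 4, 0, 4]), (15, false, [1, 0, 1, 3, 1, 0, 4, 3, 4, 0, 4, 3, 4]), (280, true, [0, 2, 4, 3, 4, 3, 4, 3, 1, 0, 4, 3]), (128, false, [1, 3, 1, 0, 4, 0, 4, 3, 4, 3, 4]), (144, true, [2, 4, 3, 4, 0, 1, 3, 1, 3, 1]), (128, true, [3, 4, 3, 4, 0, 4, 0, 1, 3, 4, 0, 4, 0, 1, 0]), (119, true, [0, 1, 0, 1, 0, 4, 0, 4, 3, 4]), (185, true, [4, 0, 1, 0, 1, 0, 4, 3, 1]), (249, true, [3, 4, 0, 1, 0, 1, 0, 4, 0, 4, 3, 4]), (247, true, [3, 1, 0, 4, 0, 4, 3, 1, 0, 1, 0, 1]), (235, true, [3, 4, 0, 1, 3, 4, 0, 4, 0, 4, 3, 4, 3, 4, 0, 4]), (252, false, [3, 4, 0, 4, 3, 4, 3, 1, 0, 1, 3, 1, 3]), (189, false, [4, 0, 1, 3, 1, 0, 4, 0, 4, 3, 1, 0, 4, 0]), (263, false, [1, 3, 4, 0, 4,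 3, 1, 0, 1, 0, 4]), (189, false, [0, 2, 4, 3, 4, 0, 1, 3, 1, 0, 1, 3, 1, 3, 4]), (10, true, [0, 1, 0, 4, 3, 4, 3, 4, 3, 1, 0, 4, 0, 4, 3, 4]), (200, false, [0, 2, 4, 0, 1, 3, 1, 3, 4, 3, 4, 3, 1, 0, 1, 3, 4]), (243, true, [0, 1, 0, 2, 4, 0, 4, 0, 1, 3, 4, 3, 4, 0, 4, 3]), (241, false, [0, 1, 0, 1, 3, 4, 0, 1, 3, 1, 0, 1, 0, 1, 0]), (177, true, [1, 0, 1, 3, 4, 0, 4, 3, 1, 3, 1, 3, 1, 0]), (200, true, [2, 4, 0, 4, 0, 1, 3, 4, 3, 4, 3, 1, 0, 1]), (206, false, [1, 0, 4, 3, 4, 0, 4, 0, 1, 3, 4, 0, 4, 0]), (243, false, [3, 1, 0, 1, 3, 1, 0, 1, 0, 1, 3, 1, 3, 1]), (4, false, [1, 0, 1, 0, 4, 0, 4, 3]), (127, false, [2, 0, 1, 0, 1, 0, 1, 3, 1, 0, 1, 3, 4, 0, 4]), (191, true, [0, 4, 3, 4, 3, 4, 0, 4, 0, 4, 3, 1, 0, 1, 3, 4]),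 (195, true, [1, 0, 1, 2, 0, 4, 3, 4, 3, 4, 0, 4, 3, 1, 0, 1]), (249, false, [4, 0, 1, 3, 1, 0, 1, 0, 1, 3, 4, 3, 4]), (173, false, [0, 1, 2, 0, 4, 0, 4, 3, 1, 3]), (269, false, [1, 0, 1, 0, 4, 3, 4, 3, 4, 3, 4, 3]), (247, false, [0, 1, 3, 1, 3, 4, 3, 4, 3, 1, 0, 1, 3, 1, 0, 1]), (140, false, [0, 1, 3, 4, 0, 4, 0, 4, 3, 4, 3, 4, 3]), (263, true, [1, 3, 4, 0, 4, 0, 4, 0, 1, 3, 4, 3, 1, 0]), (236, false, [0, 2, 4, 0, 4, 3, 1, 0, 1, 3, 4, 3, 4, 3, 1]), (235, false, [1, 0, 1, 0, 4, 0, 4, 3, 1, 0, 1, 0]), (177, false, [4, 0, 1, 3, 1, 3, 4, 0, 4, 3, 4, 0, 4, 3, 1, 3])]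
def r53 : List (ℕ × Bool × List ℕ) := [(166, false, [1, 2, 0, 4, 0, 1, 3, 1, 3, 4, 0, 1, 0, 1]), (191, false, [1, 0, 1, 0, 2, 4, 0, 4, 0, 4, 0, 4, 0, 4, 3, 1, 3, 1]), (281, true, [0, 1, 2, 0, 1, 3, 1, 0, 1, 0, 1, 3, 1, 3, 1, 3, 1]), (92, false, [1, 3, 4, 3, 4, 0, 4, 0, 1, 3, 4, 3, 4, 3, 4]), (221, false, [0, 4, 3, 4, 3, 4, 0, 4, 3, 1, 0, 1, 0]), (237, false, [2, 0, 4, 0, 4, 3, 4, 0, 4, 0]), (112, false, [2, 4, 3, 4, 3, 4, 0, 1, 3, 1, 3, 1, 0, 4]), (262, false, [3, 1, 0, 4, 3, 4, 3, 1, 0, 4, 0, 4, 3, 4]), (205, false, [0, 1, 0, 1, 2, 0, 4, 0, 1, 3, 1, 0, 1, 0, 1, 3]), (58, true, [0, 1, 3, 1, 0, 1, 3, 1, 0, 4, 3, 4, 3, 4, 3]), (151, false, [2, 0, 1, 0, 1, 0, 4, 3, 4, 3, 4, 3, 4, 0, 4, 3, 1]), (261, true, [4, 0, 4, 3, 4,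 3, 4, 3, 4, 0, 1, 0, 1, 3, 4, 3, 4]), (221, true, [3, 1, 3, 1, 0, 1, 0, 1, 3, 4, 0, 1, 3]), (243, true, [2, 4, 0, 4, 0, 4, 3, 4, 0, 1, 3, 4]), (61, true, [0, 1, 0, 1, 2, 0, 4, 0, 1, 3, 4, 0, 4]), (92, true, [0, 1, 0, 1, 0, 1, 0, 1, 3, 1, 3, 4, 3, 4, 0]), (109, false, [2, 0, 1, 3, 4, 0, 4, 0, 4, 0, 1, 3, 1]), (166, true, [4, 3, 4, 3, 4, 3, 1, 0, 4, 3, 4, 3, 1]), (262, true, [0, 1, 0, 4, 3, 4, 0, 4, 3, 4, 0, 1, 3, 1, 3]), (151, true, [1, 2, 0, 1, 3, 4, 3, 4, 0, 1, 0, 1, 0, 1, 3, 1]), (235, true, [2, 4, 3, 4, 3, 4, 3, 1, 0, 1, 3, 1, 3, 1, 0, 4]), (58, false, [3, 1, 0, 4, 3, 4, 3, 1, 0, 4, 3, 4, 3]), (237, true, [0, 2, 4, 3, 1, 0, 4, 3, 4, 0, 4, 0, 4, 3, 4, 3]), (228, false, [3, 1, 0, 1, 3, 4, 0, 1, 3, 1]), (197, true, [2,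 4, 3, 1, 3, 4, 0, 4, 3, 4, 3, 1, 0, 1]), (244, true, [3, 1, 0, 1, 0, 1, 3, 4, 0, 4, 0, 1, 0]), (169, true, [0, 4, 3, 1, 0, 4, 3, 4, 0, 4, 3, 4]), (189, true, [1, 0, 1, 0, 2, 4, 3, 4, 3, 4, 0, 1, 3, 1, 0, 4, 0]), (109, false, [3, 1, 0, 4, 3, 4, 3, 1, 0, 1, 0, 1, 3, 1]), (191, true, [1, 0, 1, 2, 0, 1, 0, 1, 3, 1, 0, 1, 3]), (243, false, [0, 1, 0, 4, 0, 4, 3, 4, 3, 4, 0, 4, 0, 1]), (57, false, [3, 1, 0, 4, 3, 4, 0, 1, 0, 1, 3, 1, 0]), (189, false, [1, 0, 2, 4, 0, 4, 3, 1, 0, 1, 0, 1, 3, 4, 0]), (42, false, [1, 3, 4, 0, 4, 3, 4, 0, 4, 3, 4, 3, 4, 0]), (191, false, [1, 3, 4, 0, 4, 0, 4, 0, 4, 3, 1, 3, 1]), (276, true, [3, 4, 0, 1, 3, 1, 3, 4, 3, 4, 3, 1, 0, 1, 0]), (276, false, [4, 3, 1, 0, 1, 0, 1, 3]), (60, true, [1, 0,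 1, 0, 2, 4, 0, 4, 3, 4, 3, 1, 0, 4, 0]), (57, true, [0, 1, 3, 1, 3, 1, 0, 1, 0, 1, 0, 4, 3, 4, 3]), (237, false, [0, 1, 3, 1, 3, 4, 0, 4, 0, 4, 0, 4, 3, 1, 3, 4]), (29, false, [0, 2, 4, 0, 4, 3, 4, 0, 4, 0, 1, 3, 1, 0, 1]), (237, false, [0, 4, 0, 1, 3, 4, 3, 1, 0, 1, 0, 1, 0, 1, 3, 4]), (268, false, [1, 0, 1, 3, 4, 3, 4, 3, 4, 0, 4, 0, 4, 0, 1]), (237, true, [0, 1, 0, 1, 3, 1, 0, 1, 0, 4, 0, 4]), (108, false, [1, 0, 1, 3, 4, 0, 4, 0, 4, 3, 1, 0, 1, 0]), (276, false, [2, 4, 0, 1, 0, 4, 3, 1, 3, 1, 0, 1, 3]), (268, true, [0, 1, 3, 4, 0, 4, 3, 4, 3, 1, 0, 4, 3, 4, 3]), (20, true, [1, 2, 0, 1, 3, 4, 0, 1, 0, 1, 3, 4, 0, 1, 0]), (29, true, [4, 0, 4, 0, 4, 0, 4, 3, 1, 3, 4, 0, 4, 3, 1]), (42, false, [2, 4, 0, 1, 3, 4, 3, 1,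 0, 1, 3, 4, 3, 4]), (181, false, [1, 0, 1, 3, 4, 0, 4, 3, 1, 3, 4, 0, 4, 0, 4]), (261, false, [4, 3, 4, 0, 4, 3, 1, 3, 4, 0, 4, 0, 4, 0, 4]), (233, false, [4, 0, 4, 0, 1, 3, 1, 3, 1, 0, 1, 3, 4, 0, 4]), (244, false, [2, 4, 0, 4, 0, 4, 3, 4, 3, 1, 0, 1, 0]), (181, true, [0, 1, 2, 0, 1, 3, 4, 0, 4, 0, 1, 3, 4, 3, 4]), (196, false, [3, 1, 0, 1, 3, 4, 0, 4, 3, 4, 0, 4, 0]), (261, true, [0, 2, 4, 3, 4, 0, 4, 3, 1, 0, 1, 3, 4]), (235, false, [2, 4, 3, 4, 0, 4, 0, 4, 3, 4, 0, 1, 0, 1, 0]), (3, true, [0, 1, 2, 0, 1, 0, 1, 3, 1, 0, 1, 3, 1, 0, 4]), (268, true, [2, 0, 1, 0, 1, 0, 1, 3, 4, 0, 1, 3, 1, 3, 1, 3]), (181, true, [0, 4, 3, 1, 0, 1, 0, 1, 0, 1, 3, 1, 3, 1, 3, 1]), (112, true, [2, 0, 4, 0, 1, 3, 1, 3, 1, 0, 4, 3, 4, 3]),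 (50, false, [2, 4, 0, 1, 0, 1, 0, 4, 0, 4, 0, 1]), (237, false, [1, 2, 0, 4, 0, 4, 3, 1, 3, 4, 0, 1, 3]), (235, false, [1, 0, 4, 3, 1, 3, 1, 0, 4, 3, 4, 0, 4, 0]), (3, false, [2, 0, 4, 3, 1, 0, 1, 3, 1, 3, 4, 0, 1, 3]), (151, false, [1, 0, 1, 3, 1, 0, 4, 3, 1, 3]), (50, true, [1, 0, 4, 0, 4, 0, 4, 3, 1, 0, 4, 0, 1]), (196, true, [0, 1, 3, 1, 3, 1, 0, 1, 0, 1, 3, 4, 3, 1, 0, 1]), (235, true, [4, 3, 1, 0, 1, 0, 1, 3, 1, 0, 4, 0, 4, 0]), (109, true, [3, 1, 3, 1, 0, 4, 3, 4, 3, 1, 0]), (166, false, [1, 3, 4, 0, 1, 3, 1, 3, 4, 0, 1, 0, 1]), (221, false, [2, 0, 1, 3, 4, 0, 4, 0, 4, 0, 4, 3, 4, 3, 1]), (42, true, [1, 3, 1, 3, 4, 3, 4, 0, 4, 3, 1, 3]), (268, false, [0, 1, 0, 1, 2, 0, 1, 0, 1, 0, 4, 0, 4, 3, 1, 0, 1]), (197,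 false, [3, 4, 3, 1, 0, 1, 3, 4, 0, 4, 0, 1]), (244, false, [0, 2, 4, 0, 4, 0, 4, 0, 4, 3, 4, 3, 4, 3, 1, 0]), (20, false, [1, 3, 1, 3, 4, 0, 4, 3, 1, 3, 1, 3, 1, 0, 1, 0]), (108, true, [4, 3, 4, 3, 4, 0, 4, 0, 4, 3, 4, 3, 4]), (58, false, [0, 1, 2, 0, 1, 3, 1, 0, 1, 0, 1, 3, 1, 3, 1, 3, 1, 3]), (205, true, [0, 1, 3, 1, 0, 4, 3, 4, 0, 4, 0, 4, 0]), (58, true, [0, 2, 4, 0, 4, 0, 4, 0, 1, 3, 1, 0, 4, 0, 4]), (60, false, [0, 4, 3, 4, 0, 1, 3, 1, 3, 1, 3, 1, 0, 4, 0, 1]), (276, true, [2, 4, 3, 4, 0, 4, 0, 4, 0, 4, 0]), (112, true, [4, 0, 4, 0, 4, 0, 4, 3, 4, 3, 4, 3, 4, 0, 4, 3]), (262, false, [2, 4, 0, 4, 0, 4, 3, 4, 0, 4, 3, 4, 0, 4, 0, 4, 3, 1]), (57, true, [0, 1, 2, 0, 1, 3, 4, 3, 4, 0, 1, 3, 4, 3, 1]), (42, true, [1,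 2, 0, 4, 3, 4, 0, 4, 0, 1, 3, 1, 3, 1, 3, 1]), (237, true, [1, 0, 1, 0, 1, 0, 1, 0, 1, 3, 4, 3, 4, 0]), (92, false, [2, 4, 0, 4, 0, 4, 3, 1, 0, 4, 0, 4, 0]), (237, true, [0, 1, 2, 0, 1, 3, 1, 0, 1, 0, 1, 3, 1, 0, 4, 3]), (109, true, [2, 0, 1, 0, 1, 3, 1, 3, 4, 0, 4, 0, 4, 0, 1, 3]), (243, false, [0, 1, 0, 1, 0, 1, 0, 1, 3, 4, 3, 1, 0, 4, 3]), (169, false, [1, 0, 1, 3, 4, 3, 4, 3, 4, 0, 1, 0, 4]), (61, false, [4, 0, 1, 0, 4, 3, 1, 3, 1, 0, 4, 3, 1, 3, 4]), (189, false, [3, 4, 3, 1, 3, 1, 0, 1, 3, 1, 0, 4, 0, 4]), (243, true, [0, 4, 3, 1, 0, 1, 3, 4, 0, 4, 0, 4, 3, 1]), (228, true, [3, 1, 3, 4, 0, 4, 0, 4, 3, 1, 3]), (281, false, [2, 0, 4, 3, 4, 0, 1, 3, 1, 0, 1, 3, 1, 0]), (151, true, [1, 3, 1, 0, 4, 0, 4, 3, 4, 0, 1,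 3, 1]), (181, false, [0, 2, 4, 0, 1, 3, 1, 3, 1, 0, 4, 3, 4, 3, 4, 0]), (166, true, [2, 4, 0, 1, 3, 1, 3, 4, 0, 4, 3, 1]), (261, false, [2, 0, 4, 0, 1, 3, 4, 0, 4, 0, 4, 3, 4, 3, 4, 0, 1]), (112, false, [3, 4, 0, 4, 3, 4, 3, 4, 3, 4, 0, 4, 0, 4]), (233, true, [0, 1, 0, 1, 3, 4, 0, 1, 3, 1, 0, 1, 0, 1, 3]), (244, true, [4, 3, 4, 0, 1, 3, 1, 3, 4, 0, 4, 0, 1, 3]), (262, true, [0, 1, 0, 1, 2, 0, 1, 0, 1, 3, 4, 0, 4, 3, 4, 0, 4]), (221, true, [2, 0, 1, 3, 1, 3, 1, 0, 1, 3, 4, 3, 1, 0, 1, 0]), (92, true, [0, 2, 4, 0, 1, 3, 1, 3, 4, 3, 4, 0, 1, 3, 1, 3, 4]), (191, true, [1, 0, 1, 3, 1, 0, 1, 3, 1, 0, 1, 3]), (57, false, [0, 1, 2, 0, 1, 3, 4, 0, 1, 3, 1, 3, 4, 3]), (189, true, [1, 0, 4, 3, 4, 3, 4, 0, 4, 0, 4, 0, 4, 3, 4, 0])]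
def r54 : List (ℕ × Bool × List ℕ) := [(190, true, [3, 1, 0, 1, 0, 1, 3, 1, 3, 1, 3, 1, 0, 1, 0]), (119, false, [1, 0, 2, 4, 0, 4, 0, 1, 3, 4, 3, 1]), (270, false, [2, 0, 4, 3, 4, 0, 1, 3, 1, 3, 4, 0, 4, 0, 4, 0, 1]), (85, false, [4, 3, 4, 3, 4, 0, 4, 3, 4, 0]), (23, false, [1, 3, 1, 0, 1, 3, 4, 0, 4, 3, 1, 3, 1, 0, 1]), (190, true, [0, 1, 0, 1, 0, 1, 2, 0, 1, 3, 4, 3, 4, 3, 4, 0]), (43, false, [2, 0, 4, 0, 4, 0, 4, 3, 4, 3, 4, 0, 1]), (86, false, [0, 4, 3, 4, 3, 4, 0, 1, 0, 1, 3, 4, 0, 4]), (270, false, [0, 1, 3, 1, 0, 1, 3, 1, 0, 1, 3, 1, 3]), (105, true, [3, 4, 0, 4, 0, 1, 3, 4, 0, 4, 0, 4, 3, 4, 0]), (208, false, [0, 4, 3, 4, 0, 4, 0, 4, 3, 4, 3, 4, 0, 1, 3, 1, 3]), (43, false, [3, 1, 3, 1, 3, 1, 0, 1, 3, 1, 0, 1,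 0]), (43, false, [1, 2, 0, 1, 3, 1, 3, 1, 0, 1, 3]), (199, false, [1, 0, 4, 3, 4, 0, 1, 3, 4, 3]), (184, true, [0, 1, 0, 1, 3, 1, 0, 1, 3, 1, 0, 4, 0, 4, 0]), (199, false, [2, 0, 1, 0, 1, 0, 4, 3, 1, 3, 1, 0, 1, 3, 4, 3]), (85, false, [1, 0, 1, 0, 4, 0, 4, 0, 1, 3, 1, 0, 1, 3, 1, 3]), (277, true, [0, 1, 3, 4, 3, 4, 3, 1, 0, 1, 0, 1, 0, 4, 0]), (205, false, [0, 4, 3, 4, 0, 4, 0, 1, 3, 4, 0, 4, 0, 1]), (270, false, [0, 1, 0, 1, 0, 2, 4, 3, 4, 0, 4, 0, 4, 3, 1, 0]), (270, false, [1, 0, 4, 3, 1, 0, 1, 3, 1, 3, 1, 3, 1]), (105, true, [3, 4, 3, 1, 3, 1, 3, 1, 3, 1]), (105, false, [2, 0, 1, 3, 1, 3, 1, 3, 1, 3, 4, 3]), (205, false, [2, 4, 3, 4, 3, 4, 3, 1, 0, 4, 3, 4, 3]), (205, false, [0, 4, 0, 1, 0, 1, 3, 4, 0, 1, 3, 1]),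 (190, true, [4, 3, 1, 0, 1, 3, 4, 3, 1, 0]), (190, true, [2, 4, 3, 1, 3, 4, 0, 4, 3, 1, 3, 1, 3, 4, 0]), (277, true, [0, 1, 3, 1, 0, 1, 3, 1, 0, 1, 0, 4, 0, 4, 0, 4]), (19, false, [2, 4, 3, 1, 0, 4, 0, 4, 3, 4, 0, 1, 0, 1, 0]), (85, false, [3, 1, 3, 4, 0, 4, 3, 4, 3, 1, 0, 1, 0]), (199, false, [1, 0, 1, 3, 4, 3, 4, 3, 4, 0, 4, 3, 4, 0, 4, 0]), (199, false, [1, 2, 0, 1, 0, 1, 0, 4, 3, 4, 0, 1, 3, 1, 0]), (205, false, [0, 4, 0, 4, 3, 1, 3, 4, 0, 1]), (23, false, [0, 2, 4, 3, 1, 0, 1, 3, 1, 3, 4, 3]), (21, true, [3, 4, 0, 1, 3, 1, 0, 1, 0, 4, 3]), (105, false, [1, 0, 1, 2, 0, 1, 3, 4, 0, 1, 0, 1, 3]), (70, false, [1, 2, 0, 4, 3, 4, 0, 1, 3, 4, 3, 4, 0, 1, 3]), (208, false, [3, 4, 0, 1, 3, 1, 3, 4, 3, 4, 3, 4, 3, 1]), (85,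 false, [1, 3, 1, 3, 1, 3, 4, 3, 4, 3, 4, 3, 1, 0]), (190, true, [3, 4, 0, 4, 3, 1, 0, 1, 0, 4, 0, 4, 3, 4, 3, 4]), (184, true, [3, 4, 3, 1, 3, 1, 0, 1, 3, 1, 0, 1]), (270, false, [1, 2, 0, 4, 0, 4, 3, 4, 3, 1, 0, 1, 3, 1]), (270, false, [4, 0, 4, 3, 4, 3, 4, 0, 4, 3, 1, 0, 4, 0]), (70, false, [0, 2, 4, 0, 1, 0, 1, 0, 1, 0, 4, 0, 4, 3, 4, 3]), (190, true, [0, 1, 3, 1, 0, 1, 0, 4, 3, 4, 0, 4]), (70, false, [3, 1, 0, 1, 0, 4, 3, 4, 0, 4, 0, 4, 3]), (105, false, [0, 1, 3, 1, 0, 1, 3, 4, 3, 1, 0, 4, 3]), (199, false, [0, 4, 3, 4, 3, 4, 0, 1, 0, 1, 0]), (184, true, [1, 3, 1, 0, 4, 3, 4, 3, 4, 3, 4]), (199, false, [2, 0, 4, 3, 1, 3, 1, 3, 4, 3, 4, 3, 1]), (86, false, [0, 1, 0, 2, 4, 0, 1, 0, 4, 3, 4]), (21, true, [3, 1, 0,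 4, 3, 4, 3, 4, 3, 4, 0, 1, 3]), (184, true, [4, 3, 1, 0, 1, 0, 1, 0, 1, 3, 1, 0]), (86, false, [0, 2, 4, 3, 4, 0, 1, 3, 1, 3, 1, 0, 1, 3, 1, 0]), (205, false, [4, 0, 4, 0, 4, 3, 1, 0, 1, 3, 4, 0, 4, 0]), (208, false, [1, 3, 1, 0, 1, 3, 1, 0, 1, 3, 1, 3, 1, 0]), (184, true, [3, 4, 3, 1, 0, 4, 0, 4, 0, 4, 3]), (270, false, [0, 4, 0, 4, 3, 4, 0]), (199, false, [0, 1, 3, 1, 0, 1, 0, 1, 3, 1]), (70, false, [1, 3, 1, 3, 1, 0, 1, 0, 4, 3, 4]), (205, false, [0, 1, 3, 1, 0, 4, 0, 4, 0, 4, 0, 1, 3, 1]), (21, true, [0, 1, 2, 0, 4, 3, 1, 0, 1, 3, 4, 3]), (85, false, [0, 1, 0, 1, 2, 0, 1, 0, 4, 0, 4, 0, 4, 3]), (208, false, [1, 0, 1, 0, 1, 3, 1, 3, 4, 3, 4, 0, 4]), (270, false, [2, 0, 1, 0, 4, 0, 4, 0, 4, 3, 1, 3, 4, 0, 4, 3]), (119,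 false, [2, 4, 0, 4, 3, 1, 0, 4, 0, 4, 3, 4]), (208, false, [0, 1, 0, 1, 2, 0, 1, 0, 1, 0, 1, 3, 1]), (85, false, [1, 0, 2, 4, 0, 4, 0, 4, 0, 4, 3, 4, 0, 1, 0]), (105, false, [2, 4, 3, 1, 3, 4, 0, 4, 0, 4, 0, 4]), (208, false, [2, 0, 4, 3, 4, 3, 1, 0, 1, 0, 1, 0, 4, 0]), (23, false, [2, 4, 0, 4, 0, 4, 3, 1, 3, 1, 0]), (86, false, [1, 2, 0, 4, 0, 1, 3, 1, 3, 4, 0, 1]), (119, false, [0, 1, 2, 0, 4, 0, 4, 3, 4, 0, 4, 0, 4]), (43, false, [1, 3, 4, 0, 4, 3, 4, 0, 4, 3, 4]), (208, false, [0, 2, 4, 0, 4, 0, 1, 3, 4, 3, 4, 0, 1, 3, 4, 3]), (277, true, [1, 3, 4, 3, 4, 3, 1, 0, 1, 3, 4, 0, 4]), (190, true, [2, 0, 4, 0, 4, 3, 1, 0, 1, 3, 1, 3, 1, 0]), (119, false, [4, 3, 4, 0, 1, 3, 1, 3, 4, 3, 4, 0, 1]), (86, false, [1, 2, 0, 4,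 3, 1, 0, 1, 0, 1, 3, 4, 0, 1, 0]), (105, true, [1, 0, 2, 4, 0, 4, 3, 1, 3, 1, 0, 1, 0]), (105, false, [1, 0, 1, 3, 4, 0, 4, 3, 1, 3, 1, 0, 4, 3]), (70, false, [2, 4, 3, 1, 3, 1, 3, 1, 0, 4, 3, 1, 3, 1]), (70, false, [1, 3, 1, 3, 1, 3, 1, 0, 1, 3, 4, 0, 1]), (70, false, [0, 4, 3, 1, 0, 4, 0, 4, 3, 4, 3, 1]), (119, false, [0, 1, 0, 1, 2, 0, 4, 3, 4, 0, 1, 0, 4]), (190, true, [0, 1, 0, 2, 4, 3, 4, 0, 1, 0, 1, 0, 4, 0, 4]), (19, false, [1, 3, 1, 3, 1, 0, 4, 0, 4, 3]), (184, true, [0, 4, 3, 4, 3, 4, 0, 1, 3, 1, 0, 4, 3, 4]), (277, true, [4, 0, 1, 3, 1, 3, 1, 3, 1, 0, 1, 0, 4, 0]), (19, false, [3, 1, 0, 1, 0, 4, 0, 4, 3, 1, 3, 4, 0, 4]), (277, true, [1, 2, 0, 1, 0, 1, 0, 1, 0, 4, 0, 4, 0, 4, 3, 4, 0, 1]), (119, false, [0,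 1, 3, 4, 0, 1, 3, 1, 3, 4, 0, 4, 0]), (119, false, [1, 0, 4, 0, 1, 3, 4, 3, 4, 0, 4, 0]), (86, false, [1, 0, 1, 3, 1, 3, 4, 0, 1, 3, 1, 3, 1, 0, 1, 0, 1]), (85, false, [1, 0, 2, 4, 0, 4, 0, 4, 0, 1, 3, 4, 0, 4, 0, 1, 3, 1]), (277, true, [2, 4, 0, 4, 3, 1, 0, 1, 0, 1, 3, 4, 0, 4, 3, 1]), (119, false, [1, 0, 1, 0, 1, 2, 0, 1]), (277, true, [1, 2, 0, 1, 0, 1, 0, 4, 0, 4, 3, 1, 3]), (70, false, [1, 0, 2, 4, 3, 4, 3, 4, 0, 1, 3, 1, 0, 4]), (208, false, [0, 1, 0, 4, 0, 4, 3, 4, 3, 4, 3, 4, 3, 4, 3]), (86, false, [4, 3, 1, 3, 4, 0, 1, 0, 4]), (205, false, [1, 0, 2, 4, 0, 4, 0, 1, 3, 1, 0, 4, 0]), (199, false, [2, 0, 4, 0, 4, 0, 4, 0, 4, 3, 1, 3, 4, 0, 4, 3, 1]), (184, true, [1, 0, 4, 0, 4, 3, 1, 0, 1, 0, 1, 0, 4]), (85, false,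 [1, 0, 2, 4, 0, 4, 3, 1, 3, 1, 3, 4, 3, 4, 0]), (86, false, [4, 0, 1, 3, 1, 0, 1, 0, 1, 3, 4, 0, 4, 3, 4]), (277, true, [2, 0, 1, 3, 1, 3, 1, 3, 1, 3, 1, 0, 1, 0, 1]), (184, true, [4, 3, 4, 3, 4, 0, 4, 0, 1, 3, 1, 3, 1, 3]), (23, false, [3, 1, 0, 1, 3, 4, 3, 4, 3, 1, 0, 1, 3, 4]), (19, false, [2, 0, 1, 3, 4, 0, 4, 3, 1, 0, 4]), (21, true, [0, 2, 4, 0, 1, 3, 1, 0, 4, 3, 4, 3, 4, 3, 4, 0]), (205, false, [0, 4, 0, 4])]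
def r55 : List (ℕ × Bool × List ℕ) := [(38, false, [1, 3, 1, 3, 4, 0, 4, 0, 4, 0, 1, 0]), (43, false, [1, 3, 4, 0, 4, 0, 4, 3, 4, 0, 1, 0, 1, 0, 4]), (51, false, [4, 3, 4, 3, 1, 0, 1, 3, 4, 0, 1, 3, 1]), (49, true, [2, 0, 1, 0, 1, 0, 1]), (122, true, [2, 0, 4, 3, 4, 0, 1, 3, 1, 3, 4, 0, 4, 0, 4, 0]), (180, false, [3, 4, 0, 1, 3, 1, 3, 4, 0, 4, 3, 1, 3, 1, 0]), (72, true, [2, 0, 4, 3, 4, 3, 4, 3, 1, 0, 1, 3, 4, 3]), (125, true, [1, 3, 4, 0, 4, 3, 4, 0, 4, 0, 4, 3, 4, 3, 1]), (140, false, [1, 0, 4, 0, 1, 3, 1, 0, 4, 3, 4, 3, 1, 3]), (181, false, [0, 2, 4, 3, 4, 0, 1, 3, 1, 3, 1, 0, 1, 0, 4]), (127, false, [0, 2, 4, 3, 1, 0, 4, 3, 4, 0, 1, 3, 4, 3, 1]), (34, false, [0, 1, 0, 4, 3, 1, 0, 1, 0, 4, 0, 4, 3, 1, 3]), (122, false,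 [2, 4, 0, 4, 0, 4, 3, 4, 3, 1, 0, 1, 0, 1, 0]), (78, true, [2, 4, 3, 1, 0, 1, 3, 4, 0, 1, 0, 1, 0]), (265, false, [1, 2, 0, 4, 0, 1, 3, 4, 3, 4, 3, 1, 0]), (49, false, [1, 0, 1, 2, 0, 1, 0, 4, 3, 1, 3, 4, 0, 4, 3]), (255, false, [2, 0, 4, 3, 4, 0, 4, 0, 4, 3, 4, 3, 1, 3]), (38, true, [2, 4, 0, 1, 3, 1, 0, 1, 3]), (125, false, [0, 4, 3, 4, 3, 1, 0, 1, 3, 1, 0, 1, 3, 4, 0]), (127, true, [0, 2, 4, 0, 1, 3, 4, 3, 1, 0, 1, 3, 4, 3]), (180, false, [0, 1, 0, 4, 3, 1, 3, 1, 0, 1, 3, 4, 3]), (181, true, [2, 4, 3, 1, 0, 4, 0, 4, 3, 4, 0, 4, 3, 1]), (92, false, [2, 0, 4, 0, 4, 0, 1, 3, 1, 3, 4, 0, 4, 3]), (55, true, []), (20, true, [2, 4, 0, 4, 3, 1, 3, 1, 0, 1, 3, 1, 0]), (24, false, [2, 4, 0, 4, 3, 4, 3, 4, 0, 4, 3]), (135, true,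 [0, 1, 3, 1, 3, 4, 0, 4, 3, 1, 3, 1, 3, 1, 0, 1, 0]), (2, false, [1, 0, 1, 3, 1, 3, 1, 0, 1, 0]), (255, false, [4, 0, 1, 3, 1, 3, 4, 0, 4, 3, 1, 0, 4, 0, 4]), (43, true, [0, 4, 3, 4, 3, 1, 0, 1, 3, 1, 0, 1, 3, 1]), (78, false, [0, 2, 4, 0, 4, 3, 1, 3, 1, 0, 4]), (247, true, [0, 2, 4, 3, 4, 0, 4, 0, 4, 3, 4, 3, 1, 3]), (2, false, [0, 1, 0, 1, 3, 4, 0, 4, 3, 1, 3, 1]), (152, false, [1, 0, 4, 3, 4, 0, 1, 3, 1, 3, 1, 0, 1, 3, 1]), (43, false, [1, 2, 0, 4, 3, 4, 0, 1, 3, 1, 3, 1, 3, 4]), (120, false, [1, 0, 1, 0, 1, 0, 1, 3, 1, 3, 1, 0, 1, 3, 4]), (120, true, [4, 0, 1, 3, 1, 0, 1, 3, 1, 0, 4]), (119, true, [1, 0, 2, 4, 3, 4, 3, 1, 0, 1, 0, 1]), (247, false, [4, 3, 1, 0, 1, 3, 4, 3, 1, 0, 1, 0, 4, 3]), (180, false, [2, 4,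 0, 1, 3, 1, 0, 1, 0, 1, 3, 4, 0, 4, 3, 4, 0]), (204, false, [0, 4, 0, 1, 3, 1, 0, 4, 3, 4, 3, 1, 3]), (92, true, [1, 0, 1, 0, 4, 3, 4, 0, 4]), (64, true, [2, 4, 3, 4, 0, 1, 3, 1, 3, 1, 3]), (92, false, [0, 1, 3, 1, 0, 1, 0, 1, 3, 1, 3, 1, 0, 4, 3]), (13, true, [0, 4, 3, 4, 3, 4, 3, 1, 0, 4, 3, 4, 0]), (120, true, [3, 4, 0, 4, 0, 4, 3, 4, 0, 4, 3, 4]), (64, false, [0, 2, 4, 0, 1, 3, 1, 0, 4, 3, 4, 3, 1, 0, 1, 0, 4]), (232, false, [0, 2, 4, 3, 1, 3, 1, 0, 1, 0]), (204, true, [2, 4, 0, 1, 0, 4, 3, 4, 0, 4, 0, 1, 3, 1, 3]), (152, false, [0, 1, 2, 0, 1, 3, 4, 0, 4, 3, 4, 0, 4, 3, 1]), (171, true, [0, 1, 0, 1, 3, 1, 0, 1, 0, 1, 3, 4, 0, 1, 0, 1, 0, 1]), (34, true, [3, 1, 0, 4, 3, 1, 0, 1]), (38, false, [1, 0, 2, 4, 3, 1, 0,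 1, 3, 4, 0, 4, 0, 1]), (24, true, [1, 2, 0, 4, 0, 1, 3, 1, 0, 1, 0, 1, 3, 4, 0, 4]), (171, false, [0, 2, 4, 0, 1, 3, 4, 0, 4, 0, 4, 3, 1, 0, 1, 0, 1]), (103, false, [1, 0, 4, 3, 4, 0, 4, 0, 1, 3, 1, 3]), (34, false, [1, 3, 4, 3, 4, 0, 1, 3, 1, 0, 1, 0, 4]), (180, true, [3, 1, 0, 1, 0, 4, 3, 4, 0, 1]), (9, true, [0, 1, 3, 4, 3, 1, 0, 1, 3, 4, 0, 4, 0, 1]), (64, false, [4, 0, 4, 0, 4, 3, 4, 3, 4, 3, 4, 3]), (171, false, [0, 1, 0, 4, 3, 4, 3, 1, 0, 1, 3, 4, 0]), (72, false, [1, 0, 1, 0, 1, 2, 0, 1, 0, 4, 3, 4, 0, 1, 3, 4, 3]), (135, true, [2, 4, 0, 4, 0, 4, 0, 4, 3, 1, 0, 4, 3]), (92, true, [0, 1, 0, 2, 4, 0, 4, 0, 4, 0, 4, 3, 1, 0, 1, 3, 4]), (180, true, [0, 1, 0, 1, 0, 2, 4, 3, 4, 3, 4, 3, 4, 0, 1, 0, 4]), (9, false,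 [3, 1, 3, 4, 0, 4, 3, 4, 3, 1, 0, 1]), (127, false, [0, 1, 3, 1, 3, 4, 3, 4, 0, 4, 3, 4, 3]), (135, false, [0, 1, 0, 1, 0, 1, 3, 1, 3, 4]), (103, true, [0, 4, 3, 4, 3, 1, 0, 4, 3, 4, 3, 1, 0, 1, 0]), (180, false, [2, 0, 4, 0, 1, 3, 4, 3, 4, 3, 1, 0, 1]), (255, true, [3, 4, 3, 1, 0, 1, 0, 1, 0, 1, 3, 4, 0, 1]), (38, false, [1, 0, 1, 0, 2, 4, 0, 4, 0, 4, 0, 1, 0]), (122, true, [4, 3, 4, 0, 1, 3, 1, 3, 4, 0, 4, 0, 4, 0]), (152, true, [1, 3, 4, 0, 4, 0, 4, 3, 4, 0, 4, 3, 4, 0, 4, 0, 4, 0]), (64, true, [0, 4, 3, 1, 0, 1, 0, 1, 3, 1, 3, 4, 0, 4]), (20, false, [4, 0, 4, 0, 4, 3, 1, 3, 4, 0, 4, 3, 1]), (24, true, [4, 0, 1, 3, 1, 3, 1, 3, 1, 0, 4]), (232, true, [4, 3, 4, 0, 1, 0, 1, 0, 1, 0, 4, 0]), (13, false, [4, 0, 4, 0, 4,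 0, 1, 3, 4, 0, 4, 0]), (181, true, [0, 1, 0, 1, 0, 4, 3, 1, 3, 1, 0, 1, 0, 4, 3, 4]), (140, true, [2, 0, 1, 0, 4, 3, 4, 0, 4, 0, 1, 3, 1, 3]), (181, false, [4, 3, 1, 0, 1, 3, 4, 3, 1, 0, 1, 0, 4, 3, 1, 3]), (119, false, [4, 3, 1, 3, 4, 0, 4, 0, 4, 3]), (120, false, [1, 0, 4, 0, 4, 0, 1, 3, 1, 0, 4, 3, 4, 0]), (72, false, [0, 1, 3, 4, 0, 4, 0, 1, 3, 4]), (125, true, [2, 0, 1, 3, 1, 0, 1, 3, 1, 0, 1, 3, 1, 3, 1]), (247, false, [0, 1, 0, 1, 2, 0, 1, 3, 1, 0, 1, 0, 1, 0]), (152, true, [2, 4, 3, 1, 0, 1, 3, 4, 0, 4, 0, 4, 3, 4, 3, 4, 0, 1]), (180, true, [1, 2, 0, 1, 3, 4, 0, 1, 3, 1, 3, 1, 0, 1]), (49, true, [3, 1, 3, 1, 0, 1, 3, 1, 3, 4, 3, 4, 3, 1]), (180, true, [0, 4, 3, 4, 3, 1, 0, 4, 0, 4, 3, 4, 0, 1, 3]), (255, true,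 [0, 1, 0, 1, 2, 0, 4, 3, 4, 3, 1, 0, 1, 3, 4, 0, 1]), (78, false, [2, 4, 0, 4, 3, 4, 0, 4, 3, 4, 3, 1, 0, 4]), (135, false, [0, 1, 2, 0, 1, 3, 4, 0, 1, 0, 1, 3, 4, 0, 1, 0]), (265, true, [0, 1, 0, 4, 0, 4, 0, 1, 3, 1, 0, 1, 0]), (2, false, [1, 0, 1, 3, 1, 3, 1, 0, 1, 0]), (78, true, [0, 4, 0, 4, 3, 4, 0, 1, 0, 1, 0, 1]), (55, true, []), (51, true, [1, 0, 1, 0, 4, 3, 4, 0, 4, 3, 1, 3]), (127, true, [4, 0, 1, 0, 1, 0, 4, 3, 1, 3, 4, 0, 4]), (171, true, [0, 1, 0, 1, 0, 2, 4, 0, 1, 0, 1, 0, 4, 3, 4]), (38, true, [4, 0, 1, 3, 1, 0, 1, 3]), (34, true, [1, 3, 1, 0, 1, 3, 4, 0, 1]), (72, true, [3, 4, 3, 4, 0, 4, 0, 1, 3, 1, 0, 4, 3, 1, 0]), (38, true, [3, 1, 3, 4, 0, 4, 3, 4, 3, 1, 0, 1]), (24, false, [0, 1, 0, 4, 3, 4, 0, 4,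 0, 4, 3, 4, 3, 4, 3]), (125, false, [1, 0, 1, 2, 0, 1, 3, 4, 0, 4, 3, 1, 3, 1, 3, 1, 0, 1]), (122, false, [3, 4, 0, 4, 0, 4, 3, 4, 3, 1, 0, 1, 0, 1, 0]), (49, false, [4, 0, 4, 0, 4, 0, 4]), (43, true, [2, 0, 1, 3, 1, 0, 1, 3, 4, 0, 4, 0, 1, 0]), (247, true, [0, 2, 4, 3, 4, 0, 4, 3, 4, 3, 1, 0, 4]), (2, false, [0, 1, 0, 1, 3, 4, 0, 4, 3, 1, 3, 1])]
def r56 : List (ℕ × Bool × List ℕ) := [(92, false, [0, 1, 0, 1, 2, 0, 4, 3, 1, 3, 1, 0, 1, 0]), (233, false, [1, 3, 4, 0, 4, 0, 1, 3, 4, 3, 4, 0, 4, 3, 1]), (0, true, [1, 3, 4, 3, 1, 0, 1, 3, 4, 0, 1]), (56, true, []), (56, true, []), (79, false, [0, 1, 3, 1, 0, 1, 3, 1, 3, 1, 0, 1, 3, 1]), (218, true, [0, 1, 0, 1, 2, 0, 4, 3, 4, 3, 4, 3, 1, 3]), (92, false, [0, 1, 0, 1, 3,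 4, 0, 1, 0, 1, 3, 1, 0]), (141, false, [1, 0, 1, 0, 2, 4, 0, 1, 3, 1, 0, 1, 3, 1]), (6, false, [2, 4, 3, 1, 3, 1, 0, 1, 0, 4, 3, 4, 0, 4, 3]), (6, false, [4, 0, 1, 0, 1, 3, 1, 3, 4, 0, 4, 3, 4]), (233, false, [1, 3, 1, 3, 4, 0, 4, 0, 4, 0, 1, 3, 4, 0, 4, 0]), (137, false, [1, 0, 1, 0, 1, 3, 4, 3, 4, 0, 1, 3, 1]), (194, true, [1, 0, 4, 0, 1, 3, 4, 3, 4, 3, 1, 0, 4]), (184, false, [0, 1, 3, 1, 3, 1, 3, 4, 0, 4, 0, 1, 3, 1, 3, 1, 0]), (137, false, [1, 0, 1, 0, 1, 2, 0, 4, 0, 4, 3, 1, 0, 1, 3]), (269, true, [1, 3, 1, 3, 4, 3, 4, 0, 4, 3, 4, 0, 1, 3, 4]), (261, false, [2, 0, 1, 0, 1, 3, 1, 0, 4, 0, 4, 0, 1, 0]), (261, false, [3, 1, 3, 1, 0, 1, 3, 4, 3, 4, 3, 1, 0]), (172, false, [4, 0, 4, 3, 4, 0, 4, 0, 1, 3]), (247, true,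 [0, 1, 3, 1, 0, 1, 0, 4, 3, 1, 3, 1, 0, 4, 0]), (172, false, [2, 4, 3, 4, 0, 4, 3, 4, 3, 1]), (262, false, [2, 4, 0, 4, 0, 1, 3, 4, 3, 4, 0, 1, 3, 1]), (73, false, [0, 2, 4, 0, 1, 3, 4, 3, 4, 0, 1, 3, 4, 3, 4]), (170, false, [0, 1, 0, 4, 3, 1, 0, 1, 3, 4, 3]), (178, false, [2, 4, 0, 1, 3, 4, 3, 4, 0, 4, 3, 1, 0, 4]), (170, false, [0, 1, 0, 2, 4, 0, 1, 3, 1, 0, 4]), (178, false, [4, 0, 4, 0, 4, 3, 1, 0, 4, 0, 4, 0, 1]), (28, true, [0, 1, 0, 1, 0, 1, 0, 1, 2, 0, 4, 0, 1, 3, 4]), (4, true, [0, 2, 4, 0, 1, 3, 1, 0, 4, 3, 1, 3, 1, 3]), (3, true, [4, 3, 4, 3, 1, 0, 1, 0, 1, 0, 4, 0, 4, 0]), (218, true, [0, 1, 0, 1, 3, 4, 0, 4, 0, 4, 0, 1]), (222, true, [4, 3, 4, 3, 4, 0, 4, 3, 1, 3, 1, 3, 4, 0, 1]), (269, true, [1, 0, 1, 2,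 0, 1, 0, 4, 3, 1, 0, 1, 3, 1, 0, 1]), (172, false, [0, 1, 0, 1, 0, 4, 3, 1, 0, 1, 3, 4, 3, 1, 0, 4]), (64, true, [1, 2, 0, 1, 0, 1, 0, 1, 3, 4, 3, 4, 0, 1, 0, 1]), (247, true, [0, 1, 2, 0, 1, 3, 1, 3, 4, 0, 1, 0, 1, 3, 4, 0]), (141, false, [1, 3, 4, 3, 4, 0, 4, 3, 4, 0, 1, 3, 4]), (34, true, [0, 4, 3, 1, 0, 1, 0, 1, 0, 1, 3, 4, 0]), (176, true, [0, 1, 0, 1, 0, 1, 2, 0, 4, 0, 4, 3, 4, 3, 1]), (180, true, [2, 0, 1, 3, 1, 0, 1, 3, 1, 3, 4, 3, 4, 0, 1, 0]), (50, true, [4, 3, 4, 3, 1, 0, 4, 3, 4, 0]), (248, false, [1, 0, 1, 3, 4, 3, 1, 0, 1, 3, 4, 0, 4, 0, 1, 0]), (262, false, [0, 4, 3, 1, 0, 1, 3, 1, 0, 4, 0, 4, 3, 1]), (73, false, [0, 4, 3, 1, 0, 4, 0, 4, 3, 1, 0, 4, 0, 4, 3]), (15, true, [3, 1, 3, 1, 0, 1, 3, 4, 3, 4,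 0, 1, 0]), (239, true, [0, 4, 0, 4, 3, 4, 3, 1, 0, 4, 3, 4, 0, 1, 0]), (248, false, [1, 0, 1, 3, 4, 3, 1, 0, 1, 3, 4, 0, 4, 0, 1, 0]), (248, true, [0, 1, 3, 1, 0, 4, 3, 4, 3, 4, 0, 4, 0, 4, 3]), (28, true, [0, 1, 0, 1, 0, 1, 0, 1, 3, 4, 3, 1, 0, 4, 3]), (146, false, [0, 4, 3, 1, 3, 1, 0, 1, 0, 4, 3, 4, 0]), (4, true, [0, 4, 3, 1, 0, 1, 3, 4, 0, 1, 0, 1]), (81, true, [1, 3, 4, 3, 4, 0, 1, 0, 1, 0, 4, 0, 4, 3, 1]), (222, true, [1, 2, 0, 4, 3, 1, 3, 1, 0, 1, 3, 4, 3, 4, 3, 1]), (61, false, [4, 3, 4, 0, 4, 0, 4, 3, 1, 0, 4, 0, 4, 0]), (146, false, [1, 0, 1, 3, 1, 0, 4, 3, 4, 0, 1, 0, 1, 0, 1]), (172, false, [2, 0, 1, 0, 4, 3, 4, 0, 1, 3, 1, 3, 4, 0, 4, 0, 4]), (64, true, [0, 4, 0, 4, 0, 4, 0, 4, 3, 1, 3, 1, 0, 4, 0, 4]),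 (265, true, [1, 3, 1, 3, 1, 0, 4, 3, 4, 0, 4, 3, 4]), (95, false, [1, 3, 1, 0, 1, 0, 1, 0, 4, 3, 1, 3, 4, 0, 4]), (44, false, [0, 4, 3, 4, 3, 1, 0, 1, 3, 4, 0, 4]), (34, true, [3, 4, 0, 1, 3, 1, 3, 1, 3, 1, 0, 4, 0]), (180, true, [3, 1, 0, 1, 3, 1, 0, 1, 0, 4, 0, 4, 3, 1, 0]), (50, true, [2, 4, 0, 4, 0, 1, 3, 4, 0, 4, 0]), (241, true, [4, 0, 1, 3, 1, 3, 4, 0, 4, 3, 1]), (14, true, [1, 3, 1, 0, 1, 3, 4, 0, 1, 0, 1, 3, 4, 0]), (217, false, [1, 3, 1, 0, 4, 3, 1, 0, 1, 3, 4, 3, 1, 0, 4]), (248, true, [0, 1, 2, 0, 1, 3, 4, 0, 4, 0, 4, 3, 4, 3, 4]), (247, true, [0, 4, 3, 1, 0, 1, 0, 4, 3, 4, 3, 4]), (15, true, [3, 1, 0, 1, 3, 1, 0, 4, 0, 4, 3, 1, 0]), (127, false, [3, 1, 3, 1, 3, 1, 0, 1, 0, 4, 3, 4, 3, 4, 0]), (222, true,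 [0, 1, 2, 0, 1, 3, 1, 0, 1, 0, 1, 3, 1]), (87, false, [0, 1, 3, 1, 0, 1, 0, 1, 0, 1, 3, 4, 3, 4, 0, 4]), (92, false, [0, 1, 0, 1, 0, 4, 3, 1, 0, 1, 0, 4, 3, 4, 3]), (80, false, [4, 0, 1, 3, 4, 3, 4, 3, 4, 3, 1]), (213, true, [2, 4, 0, 1, 3, 4, 0, 4, 0, 4, 0, 4, 3, 1, 0, 4, 3]), (6, true, [2, 4, 3, 1, 0, 1, 3, 1, 3, 4, 0, 4, 3, 4, 0]), (120, true, [0, 1, 3, 4, 0, 4, 0, 4, 3, 4, 3, 4, 3, 4, 0, 4]), (124, false, [0, 1, 0, 2, 4, 3, 4, 3, 4, 3, 4, 0]), (178, false, [0, 2, 4, 3, 4, 0, 1, 3, 1, 3, 4, 0, 4, 3, 4]), (111, true, [2, 4, 0, 1, 3, 4, 0, 4, 3, 4, 0, 4, 0, 4]), (217, false, [2, 0, 1, 3, 4, 0, 4, 3, 1, 0, 1, 0, 1, 0, 4]), (111, true, [4, 3, 1, 0, 4, 3, 4, 0, 4, 3, 4, 3, 4, 3]), (241, true, [2, 4, 3, 1, 0, 1, 0, 4, 3,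 4, 0, 1, 3]), (7, false, [1, 0, 4, 3, 1, 0, 1, 3, 4, 0, 4, 0]), (222, true, [0, 1, 3, 1, 0, 1, 3, 1, 3, 1, 0, 1, 3]), (7, false, [0, 2, 4, 0, 1, 3, 1, 0, 1, 3, 4, 0, 1]), (127, false, [2, 0, 1, 0, 1, 0, 1, 3, 1, 3, 4, 0, 4, 0, 4, 0]), (108, false, [3, 4, 0, 1, 0, 1, 3, 1, 0, 1, 3, 1, 0, 1, 3, 1]), (87, false, [2, 4, 3, 4, 3, 1, 0, 1, 0, 1, 3, 1, 0, 4, 0, 4]), (138, true, [4, 0, 1, 0, 4, 3, 4, 0, 1]), (92, false, [0, 1, 0, 1, 0, 2, 4, 0, 1, 3, 1, 3, 4, 0, 4]), (279, false, [0, 4, 3, 4, 3, 4, 0, 1, 3, 1, 0, 4]), (213, true, [4, 3, 1, 0, 4, 3, 4, 3, 4, 3, 4, 0, 1, 3, 4]), (250, false, [3, 4, 0, 1, 0, 1, 0, 4, 3, 4, 0, 1, 3, 4]), (6, true, [4, 0, 1, 3, 1, 0, 1, 0, 4, 3, 4, 0, 4, 0]), (239, false, [1, 0, 1, 0, 4, 0, 4, 3,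 1, 3, 4, 0, 1]), (124, false, [0, 1, 0, 4, 0, 4, 0, 4, 0, 4, 0]), (121, false, [1, 3, 1, 3, 1, 3, 1]), (178, false, [3, 1, 3, 4, 3, 4, 0, 4, 0, 4, 3, 4, 0, 1]), (56, false, [0, 4, 0, 4, 3, 4, 3, 4, 0, 1, 3, 1, 3, 1, 0, 1]), (25, false, [0, 1, 3, 4, 3, 4, 3, 4, 0, 4, 0, 4]), (27, true, [1, 0, 1, 0, 1, 0, 2, 4, 0, 4, 3, 1, 3, 1, 0, 4]), (199, false, [1, 3, 1, 3, 1, 0, 1, 0, 4, 3, 1, 3, 1, 3, 4]), (265, false, [0, 1, 3, 1, 0, 1, 3, 1, 0, 4, 0]), (171, true, [4, 3, 1, 3, 1, 0, 1, 3, 4, 0, 1, 3, 1]), (25, false, [0, 1, 2, 0, 4, 0, 4, 0, 4, 3, 4, 3, 4, 3]), (12, false, [0, 1, 0, 4, 3, 4, 0, 4, 3, 4, 0, 4, 0, 4, 0]), (12, false, [3, 4, 3, 1, 3, 1, 0, 4, 3, 4, 3, 4, 0, 4, 3]), (27, true, [0, 1, 3, 4, 3, 1, 0, 4, 3, 4, 0, 4,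 0, 4, 3, 4]), (199, false, [1, 0, 2, 4, 3, 1, 0, 4, 3, 4, 3, 4, 0, 4, 3, 4]), (171, true, [2, 4, 3, 1, 3, 1, 0, 4, 3, 1, 0, 1, 3, 4])]
def r57 : List (ℕ × Bool × List ℕ) := [(213, true, [0, 2, 4, 3, 4, 0, 4, 0, 1, 3, 1, 3, 4, 0, 4, 0, 1]), (109, true, [2, 4, 3, 4, 0, 1, 3, 1, 3, 1, 0, 1, 0, 1, 3, 1]), (279, true, [3, 4, 3, 4, 0, 4, 0, 4, 0, 4, 3, 4]), (7, false, [0, 4, 0, 1, 3, 4, 3, 1, 0, 1, 0, 4, 0, 4]), (198, true, [2, 4, 3, 4, 3, 1, 0, 4, 0, 4, 3, 1, 0, 4, 0]), (149, true, [2, 0, 4, 3, 4, 0, 1, 0, 1, 3, 4, 0, 4, 0]), (73, false, [4, 0, 1, 3, 1, 3, 4, 3, 4, 0, 1, 3, 4, 3]), (212, true, [0, 1, 0, 1, 2, 0, 1, 0, 1, 0, 1, 3, 4, 0, 1, 3, 1]), (97, false, [0, 4, 0, 4, 3, 1, 0, 1, 0, 1, 0, 1]), (223, true, [2, 4, 3, 4,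 3, 4, 0, 4, 0, 1, 3, 1, 3, 1, 3, 4]), (86, false, [2, 0, 1, 0, 4, 3, 4, 0, 4, 0, 4, 3, 4]), (66, true, [1, 0, 2, 4, 0, 4, 3, 1, 3, 1, 3, 4, 3, 4, 0, 4]), (231, false, [0, 4, 0, 1, 3, 1, 3, 4, 0, 1, 0, 1, 3]), (276, false, [3, 1, 3, 1, 3, 1, 3, 4, 0, 4, 3, 1, 0, 4, 0, 4]), (67, true, [0, 4, 0, 1, 3, 1, 0, 1, 3, 1, 3, 4, 0]), (110, true, [3, 1, 0, 4, 0, 4, 0, 1, 3, 1, 0, 4, 3, 4, 3]), (111, true, [0, 1, 0, 1, 0, 1, 3, 4, 3, 1, 0, 4, 0, 4, 3]), (30, false, [2, 0, 1, 3, 1, 3, 4, 3, 4, 0, 1, 0]), (107, false, [0, 4, 0, 4, 0, 1, 3, 4, 3, 4, 0, 4, 3, 1, 3]), (220, false, [0, 1, 0, 1, 0, 1, 3, 1, 3, 4, 0, 4, 0, 4, 0]), (205, true, [1, 3, 4, 3, 4, 3, 4, 3, 4, 3, 1, 3]), (5, true, [4, 0, 1, 3, 4, 0, 4, 3, 1, 3, 1, 0]), (216, true,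 [0, 4, 3, 1, 3, 1, 0, 4, 3, 1, 3, 4, 0, 4, 3]), (85, true, [1, 2, 0, 1, 0, 4, 3, 1, 3, 1, 3]), (270, false, [4, 0, 1, 0, 4, 3, 4, 0, 1, 0, 1, 3, 4, 3]), (190, true, [1, 2, 0, 1, 0, 4, 3, 4, 3, 4, 3, 4, 0, 4, 3]), (213, true, [0, 1, 0, 1, 2, 0, 4, 3, 4, 0, 4, 3, 4, 0, 1, 0, 4]), (135, false, [2, 4, 0, 4, 0, 4, 0, 4, 3, 1, 0, 4, 3]), (226, false, [0, 1, 0, 1, 0, 1, 2, 0, 4, 3, 1, 0, 1, 0, 4]), (84, false, [1, 2, 0, 4, 3, 4, 0, 1, 3, 4, 3, 4, 0, 1]), (177, true, [0, 1, 0, 1, 0, 2, 4, 0, 4, 3, 4, 3, 4, 0, 1, 3]), (61, false, [3, 1, 3, 1, 3, 4, 3, 4, 0, 1, 0, 1, 0, 4]), (119, false, [4, 3, 4, 0, 4, 0, 1, 3, 1, 3, 1, 3, 4]), (211, true, [1, 2, 0, 1, 0, 1, 3, 4, 3, 4, 0, 1, 0, 1]), (92, false, [1, 0, 1, 0, 4, 3, 1, 0, 1, 3,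 4, 3, 1]), (5, false, [3, 1, 3, 1, 3, 1, 3, 4, 0, 1, 3, 1, 3]), (151, true, [1, 0, 1, 2, 0, 1, 0, 4, 3, 4, 0, 4, 3, 4, 0]), (269, true, [3, 1, 0, 4, 3, 1, 0, 1, 3, 4, 0]), (176, true, [4, 3, 1, 3, 4, 0, 4, 3, 4, 3, 1, 0, 4, 0, 4]), (109, true, [1, 0, 2, 4, 0, 4, 0, 1, 3, 1, 3, 1, 0, 1, 0, 1]), (3, true, [0, 1, 0, 1, 3, 1, 0, 1, 3, 1, 0, 1, 0, 4, 3]), (171, false, [2, 4, 3, 1, 0, 1, 0, 1, 0, 1, 3, 1, 3]), (24, true, [0, 2, 4, 3, 1, 0, 4, 3, 4, 0, 1, 0, 1, 0]), (82, false, [1, 3, 4, 0, 4, 0, 4, 0]), (196, true, [2, 0, 1, 3, 4, 3, 4, 3, 4, 0, 4, 3, 1, 0]), (96, false, [2, 0, 1, 0, 1, 0, 4, 3, 1, 3, 1, 3, 4, 3, 4]), (254, false, [1, 2, 0, 1, 0, 1, 3, 1, 3, 1, 3, 1, 0, 4, 3]), (112, false, [4, 3, 1, 3, 1, 3, 4, 3, 4, 3, 1]),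 (105, true, []), (124, true, [0, 1, 0, 2, 4, 0, 4, 3, 4, 0, 1, 3, 4, 3, 4]), (66, true, [2, 0, 4, 3, 4, 0, 1, 0, 1, 3, 1, 0, 4, 0]), (86, false, [2, 0, 1, 3, 4, 0, 4, 0, 4, 0, 1, 3, 1, 0, 1]), (234, true, [3, 4, 3, 1, 3, 1, 0, 4, 3, 4, 0, 4, 3, 4, 0, 1]), (200, true, [0, 4, 3, 1, 3, 1, 0, 4, 3, 1, 0, 1, 3, 4]), (135, false, [2, 0, 1, 0, 4, 3, 4, 3, 4, 0, 1, 3, 4]), (141, true, [1, 3, 1, 0, 4, 3, 4, 3, 4, 3, 1, 0, 4, 3, 4, 3, 1]), (70, true, [4, 3, 1, 0, 1, 3, 4, 3, 4, 3, 1, 0, 1, 0]), (270, true, [3, 1, 0, 1, 0, 1, 0, 1, 3, 4, 0, 1]), (20, false, [3, 4, 3, 4, 3, 4, 3, 4, 0, 1, 0, 1, 0]), (213, true, [2, 0, 1, 0, 1, 0, 4, 3, 1, 0, 1, 3, 4]), (89, false, [0, 2, 4, 3, 4, 0, 1, 3, 1, 3, 1, 0, 1, 0, 1, 0, 4]), (237, false,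 [0, 1, 2, 0, 1, 3, 1, 3, 1, 0, 1, 0, 1, 3, 1]), (124, false, [0, 1, 0, 1, 0, 1, 0, 1, 2, 0, 4, 0, 4, 3, 1, 0, 1]), (220, true, [0, 4, 0, 1, 3, 4, 0, 4, 3, 1, 3, 1, 0, 1]), (112, false, [1, 3, 1, 0, 4, 3, 1, 3, 4, 0, 4, 3, 1, 0, 4, 0]), (75, true, [1, 3, 4, 0, 1, 3, 1, 0, 1, 0, 1, 3, 1, 0, 4]), (268, false, [0, 1, 2, 0, 1, 3, 1, 3, 1, 0, 4, 3, 1, 0]), (184, false, [4, 3, 1, 3, 4, 0, 4, 3, 4, 0, 4, 3, 1, 3, 1]), (277, true, [0, 1, 3, 1, 0, 1, 0, 4, 3]), (57, false, [0, 1, 3, 4, 0, 4, 0, 1, 3, 4, 0, 1]), (229, true, [1, 3, 1, 3, 1, 3, 1, 0, 1, 0, 4, 0, 4, 0]), (111, true, [0, 1, 2, 0, 1, 0, 1, 0, 1, 0, 1, 3, 4, 3, 4, 0, 4, 3, 1]), (192, false, [1, 0, 2, 4, 0, 1, 0, 1, 0, 4, 3, 1, 3, 1, 3]), (64, false, [0, 1, 2, 0, 1, 0,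 1, 3, 1, 0, 4, 0, 4, 0]), (92, false, [2, 4, 0, 1, 0, 1, 3, 4, 0, 4, 3, 1, 3, 4, 0, 4, 3]), (123, true, [0, 1, 2, 0, 4, 3, 4, 0, 4, 0, 4, 3, 1, 0, 4]), (200, false, [1, 2, 0, 1, 3, 1, 0, 4, 0, 4, 3, 4]), (53, false, [3, 4, 0, 4, 3, 4, 3, 1, 0, 1, 3, 4, 0]), (255, false, [1, 0, 4, 0, 1, 3, 1, 3, 4, 0, 4, 0, 4]), (120, false, [2, 0, 1, 0, 1, 3, 1, 3, 1, 3, 1, 0, 1, 0, 4, 3]), (154, false, [0, 1, 3, 4, 0, 4, 0, 4, 0, 4, 3, 4]), (176, false, [0, 1, 3, 4, 3, 4, 3, 1, 0, 1, 3, 1, 3, 1, 3]), (213, true, [1, 3, 1, 3, 4, 0, 1, 0, 1, 3, 4, 3, 1, 0]), (152, true, [0, 1, 2, 0, 1, 3, 1, 3, 4, 3, 4, 0]), (66, false, [1, 0, 1, 2, 0, 4, 0, 1, 3, 1, 3, 4, 3, 4, 3]), (90, true, [2, 4, 0, 4, 3, 1, 0, 1, 0, 1, 3, 1, 3, 1, 3, 1]), (110,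 true, [2, 4, 0, 4, 3, 1, 0, 1, 0, 4, 3, 4, 0, 4, 0]), (262, true, [1, 0, 1, 0, 1, 0, 1, 0, 1, 2, 0, 4, 3]), (57, false, [1, 0, 1, 0, 1, 0, 4, 0, 4, 0, 1, 3, 1]), (277, false, [0, 4, 0, 4, 3, 4, 3, 1, 0, 4, 0, 4, 3]), (70, true, [1, 2, 0, 1, 3, 4, 0, 4, 0, 1, 3, 1, 3]), (219, true, [3, 1, 0, 1, 0, 1, 0, 1, 0, 1, 3, 1]), (6, true, [2, 4, 0, 1, 3, 1, 3, 1, 3, 1, 0, 4, 0, 4, 3]), (10, true, [4, 0, 1, 3, 1, 0, 4, 0, 4, 0, 1, 3, 1, 3]), (261, true, [4, 3, 4, 0, 1, 3, 4, 3, 4, 0, 1, 0]), (223, false, [0, 1, 2, 0, 1, 3, 4, 3, 4, 0, 1, 3, 1, 3, 1, 0]), (7, false, [0, 1, 0, 1, 3, 4, 3, 1, 0, 1, 0, 1]), (71, true, [1, 3, 4, 0, 4, 0, 4, 3, 4, 0, 1, 0, 1]), (222, true, [2, 4, 0, 1, 3, 4, 3, 4, 0, 4, 0, 1, 3, 4, 0, 4, 3]), (70, false,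 [0, 2, 4, 0, 1, 0, 1, 0, 4, 3, 1, 0]), (270, false, [2, 0, 4, 0, 1, 0, 1, 3, 4, 0, 1, 0, 1, 0, 4, 3, 1]), (281, true, [0, 2, 4, 3, 4, 3, 4, 0, 1, 3, 1, 0, 1, 0, 4]), (205, true, [1, 2, 0, 1, 3, 4, 3, 1]), (180, true, [2, 0, 4, 3, 4, 3, 4, 0, 1, 3, 4, 3, 4, 0, 4, 3]), (226, true, [0, 2, 4, 3, 1, 0, 4, 3, 4, 0, 1, 0, 1, 3, 4, 0, 1]), (222, true, [0, 2, 4, 3, 4, 3, 1, 0, 1, 0, 4, 3, 4, 3]), (43, false, [3, 4, 0, 1, 3, 4, 0, 4, 3, 1, 3, 1, 0]), (170, true, [0, 4, 3, 4, 3, 4, 0, 4, 3]), (88, true, [2, 0, 4, 3, 4, 0, 4, 0, 1, 3, 1, 3, 1, 3]), (277, true, [1, 2, 0, 1, 3, 1, 0, 4, 3, 4, 3, 4, 3, 1, 3]), (88, true, [0, 2, 4, 0, 4, 3, 4, 3, 1, 0, 4]), (273, false, [1, 0, 2, 4, 0, 4, 0, 1, 3, 1, 0, 4, 3, 1, 3, 4])]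
def r58 : List (ℕ × Bool × List ℕ) := [(190, true, [1, 3, 1, 3, 4, 0, 4, 0, 4, 0, 4, 3, 1, 3, 1, 0]), (128, true, [3, 1, 3, 1, 0, 1, 0, 1, 3, 1, 3, 1, 3, 1, 0]), (222, true, [2, 4, 0, 4, 3, 1, 3, 1, 3, 4, 0, 1, 0]), (215, true, [4, 3, 1, 0, 1, 3, 4, 3, 1, 0, 4, 0, 4]), (185, true, [0, 4, 3, 1, 0, 1, 0, 1, 3, 4, 0, 1, 0]), (208, true, [2, 0, 1, 0, 4, 3, 4, 3, 4, 3, 1, 0, 4, 0, 4, 3, 4]), (156, true, [2, 0, 1, 0, 4, 0, 4, 3, 1, 3, 1, 0]), (128, true, [0, 1, 0, 4, 3, 4, 0, 4, 0, 1, 3, 1, 3, 1, 3, 1]), (33, false, [2, 4, 0, 1, 0, 1, 0, 4, 3, 1, 3]), (216, true, [1, 3, 1, 0, 1, 3, 4, 3, 4, 3, 1, 0, 1]), (200, false, [1, 0, 1, 2, 0, 1, 3, 1, 0, 1, 0, 1, 3, 4]), (261, true, [2, 0, 1, 0, 1, 0, 4, 3, 1, 0, 1, 0, 1, 3, 1]), (96,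 false, [2, 4, 3, 1, 3, 1, 3, 4, 0, 4, 3, 1, 0, 4, 3]), (263, true, [1, 0, 1, 0, 1, 0, 2, 4, 3, 4, 0, 4]), (221, true, [0, 4, 3, 4, 0, 1, 0, 1, 0, 4, 3, 4, 0, 1, 3]), (214, false, [1, 0, 1, 3, 1, 0, 1, 3, 4, 0, 4, 0, 1]), (96, false, [1, 0, 2, 4, 0, 1, 3, 1, 3, 4, 3, 4, 0, 1, 0, 1]), (123, true, [0, 1, 0, 2, 4, 0, 1, 0, 1, 3, 1, 3, 1, 0, 1, 0, 1, 0]), (223, false, [1, 0, 2, 4, 3, 4, 3, 4, 0, 4, 0, 4, 3, 4, 3, 1]), (19, true, [1, 2, 0, 1, 3, 1, 3, 1, 0, 1, 3]), (196, true, [1, 0, 1, 2, 0, 1, 3, 4, 0, 4, 0, 4, 3]), (224, true, [2, 4, 0, 4, 3, 4, 3, 1, 0, 1, 0, 1, 0, 1, 0]), (94, false, [0, 2, 4, 3, 4, 0, 4, 0, 4, 0, 1, 3, 1]), (206, false, [4, 3, 4, 3, 1, 0, 1, 3, 1, 0, 1, 3, 4, 3, 4, 0]), (253, true, [1, 2, 0, 4, 0, 4,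 0, 4, 3, 4, 0, 1, 3, 1]), (269, false, [0, 4, 0, 4, 0, 4, 3, 1, 3, 4, 0, 4, 3, 4, 0]), (223, true, [1, 3, 1, 0, 1, 0, 1, 3, 1, 3, 1, 3, 1, 0]), (232, true, [0, 1, 3, 4, 0, 1, 0, 1, 0, 4, 3, 1, 0]), (4, true, [2, 0, 4, 3, 1, 0, 4, 0, 4, 0, 4, 0]), (36, false, [0, 4, 3, 4, 3, 4, 0, 4, 0, 4, 3]), (187, true, [4, 0, 4, 0, 4, 3, 4, 0, 4, 3, 4, 0, 4, 0, 4]), (127, true, [2, 4, 0, 4, 0, 4, 3, 4, 3, 4, 3, 4, 3, 4]), (259, true, [2, 0, 1, 0, 1, 0, 1, 0, 1, 0, 4, 0, 4, 3, 1]), (109, false, [2, 4, 0, 1, 0, 1, 0, 4, 3, 4]), (58, false, [1, 0, 1, 3, 4, 0, 1, 0, 1, 3, 4, 0, 1]), (221, true, [1, 3, 4, 0, 4, 0, 1, 3, 4, 3, 4, 0, 4, 3]), (4, true, [2, 0, 4, 3, 1, 0, 4, 0, 4, 0, 4, 0]), (177, false, [1, 3, 1, 3, 4, 3, 4, 3, 4, 0, 4, 0,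 4, 3, 4, 3]), (215, false, [1, 3, 1, 3, 1, 3, 4, 0, 4, 3, 1, 0, 4, 0]), (80, true, [1, 3, 4, 3, 4, 0, 4, 0, 4, 3, 1, 0, 4, 3]), (7, true, [3, 1, 0, 1, 3, 4, 0, 4, 0, 1, 0]), (255, false, [1, 0, 4, 0, 4, 3, 4, 3, 1, 0, 1, 0, 1, 0, 4]), (40, true, [1, 2, 0, 4, 3, 4, 0, 4, 0, 4, 3, 1]), (200, true, [3, 1, 3, 1, 3, 4, 3, 4, 0, 1, 0, 1, 0, 4]), (189, true, [2, 0, 4, 0, 1, 3, 4, 0, 4, 0, 4, 3, 4, 0, 1]), (235, false, [1, 3, 4, 3, 4, 0, 1, 0, 1, 0, 1, 3, 4]), (256, true, [1, 0, 4, 0, 1, 3, 1, 3, 1, 3, 1, 0, 1]), (105, false, [4, 0, 1, 0, 1, 0, 4, 0, 4, 0, 1]), (112, true, []), (83, false, [3, 4, 0, 1, 3, 4, 3, 1, 0, 4]), (224, false, [1, 0, 1, 0, 2, 4, 3, 4, 0, 1, 3, 1, 0, 4, 0, 4]), (130, true, [1, 3, 4, 0, 4, 3, 4, 3, 1,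 3]), (72, true, [3, 1, 3, 1, 3, 4, 3, 4, 0, 4, 0, 4, 3]), (190, true, [1, 0, 4, 3, 1, 0, 4, 0, 4]), (242, true, [0, 4, 0, 1, 3, 1, 0, 4, 3, 4, 3, 4, 0, 4]), (280, true, [0, 1, 0, 1, 0, 1, 2, 0, 1, 0, 1, 0, 1, 0, 1]), (172, true, [1, 2, 0, 1, 0, 1, 3, 4, 3, 1, 0, 4, 0, 4]), (62, true, [1, 0, 2, 4, 0, 1, 3, 1, 3, 1, 3, 4, 0, 1]), (151, true, [3, 1, 3, 1, 3, 1, 3, 4, 3, 4, 0, 4, 3, 4, 0, 4]), (256, false, [4, 0, 4, 0, 4, 3, 4, 3, 1, 0, 4, 0, 1]), (204, false, [0, 1, 3, 4, 3, 1, 0, 1, 3, 4, 3]), (123, true, [0, 1, 0, 2, 4, 0, 1, 0, 4, 3, 4, 3, 1, 0, 1, 3, 4, 3]), (124, false, [1, 0, 4, 0, 1, 3, 1, 3, 1, 3, 1, 0, 4, 3, 1, 0]), (232, false, [2, 0, 1, 0, 4, 3, 4, 3, 1, 0, 4, 3, 4, 3, 4]), (24, false, [0, 1, 3, 1, 3, 1, 0, 1,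 0, 1, 3, 1, 0, 4]), (53, false, [0, 1, 0, 1, 3, 4, 0, 1, 0, 1, 3, 4, 0]), (263, false, [0, 1, 0, 1, 0, 4, 0, 4, 0, 4]), (119, true, [0, 1, 2, 0, 4, 3, 4, 3, 4, 0, 4, 3, 1, 0, 4]), (94, false, [1, 0, 4, 0, 4, 0, 4, 3, 4, 0, 1, 3, 1]), (191, false, [2, 4, 0, 4, 0, 4, 3, 1, 0, 1, 0]), (120, true, [0, 2, 4, 3, 1, 0, 1, 3, 4, 3, 4, 0, 1]), (219, false, [1, 0, 4, 0, 4, 3, 1, 0, 1, 3, 1, 0, 1, 3]), (226, true, [0, 4, 3, 4, 3, 1, 0, 1, 3, 1, 3, 1, 0, 4, 0]), (252, false, [0, 1, 0, 4, 0, 4, 0, 4, 3, 1]), (177, false, [4, 0, 4, 0, 4, 3, 4, 0, 1, 0, 1, 3, 1, 3]), (212, true, [0, 4, 3, 4, 3, 1, 0, 4, 3, 4, 0, 1]), (243, true, [1, 2, 0, 4, 0, 4, 0, 4, 3, 1, 0, 4]), (1, true, [1, 3, 1, 0, 1, 0, 4, 0, 4, 0, 4, 3, 4]), (236, true, [0,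 1, 3, 4, 3, 4, 0, 1, 3, 1, 3, 4]), (235, true, [2, 4, 0, 4, 0, 1, 3, 4, 3, 4, 3, 4, 0, 1, 0, 4]), (246, false, [3, 4, 0, 1, 3, 4, 0, 4, 0, 1, 3, 1, 3, 1]), (150, true, [3, 1, 3, 1, 3, 1, 0, 1, 0, 1, 0, 1, 3]), (256, false, [4, 3, 1, 0, 1, 3]), (214, true, [2, 0, 1, 3, 4, 0, 4, 3, 1, 0]), (64, false, [3, 1, 0, 4, 3, 4, 0, 1, 0, 1, 3, 4, 3, 4, 0, 4]), (152, false, [0, 1, 0, 1, 2, 0, 1, 0, 1, 3, 4, 0, 4, 3, 4, 0, 4]), (189, false, [4, 3, 1, 3, 4, 0, 4, 3, 4, 3, 4, 0, 1, 0]), (152, true, [1, 2, 0, 4, 3, 1, 0, 1, 0, 1, 3, 1, 0, 4, 3, 1]), (21, true, [1, 2, 0, 4, 0, 1, 3, 1, 0, 1, 0, 4, 0, 4]), (109, true, [1, 0, 4, 3, 4, 0, 4, 0, 4, 3, 4, 3, 1, 0]), (263, true, [1, 0, 4, 3, 1, 0, 1, 3, 1, 3, 1, 0, 4, 3, 1, 3]), (262, true,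 [0, 1, 0, 2, 4, 3, 4, 3, 1, 0, 4, 3]), (195, true, [0, 1, 0, 2, 4, 0, 4, 3, 1, 3, 1, 0, 4, 3]), (228, true, [3, 4, 3, 1, 0, 4, 3, 4]), (235, true, [2, 0, 1, 3, 1, 0, 1, 0, 1, 3, 1, 0, 1, 3, 1, 0]), (79, true, [4, 0, 4, 0, 1, 3, 1, 3, 1, 0, 1, 3, 4, 0]), (259, true, [1, 0, 4, 3, 1, 3, 1, 3, 4, 0, 1, 0, 1]), (253, false, [0, 1, 0, 1, 0, 4, 3, 4, 0, 1, 3, 1, 3, 1]), (67, false, [4, 0, 1, 0, 1, 0, 4, 0, 4, 0, 4, 0, 4, 3]), (222, false, [3, 4, 3, 4, 3, 4, 0, 1, 3, 4, 3, 4]), (254, true, [0, 2, 4, 3, 4, 0, 4, 0, 4, 3, 4]), (6, true, [1, 2, 0, 4, 0, 4, 0, 1, 0]), (10, true, [1, 3, 4, 0, 4, 3, 1, 3, 4, 0, 4, 0, 4, 0, 4]), (226, false, [3, 1, 0, 1, 0, 4, 0, 4, 3]), (235, false, [1, 0, 1, 0, 2, 4, 0, 1, 3, 1, 3, 4, 3, 4]), (195,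 true, [1, 0, 2, 4, 3, 1, 0, 1, 3, 1, 3, 1]), (253, false, [1, 0, 1, 0, 2, 4, 3, 4, 0, 1, 0, 1, 3]), (234, true, [2, 4, 3, 1, 3, 1, 0, 4, 3, 1, 0, 1, 0, 4]), (189, true, [2, 0, 1, 0, 1, 0, 4, 0, 4, 0, 4, 3, 4, 0, 1]), (92, false, [1, 2, 0, 1, 3, 1, 0, 4, 3, 4, 3, 1, 0, 1, 0, 1, 0, 1]), (88, false, [2, 0, 4, 3, 1, 0, 4, 3, 4, 0, 4, 0, 4, 3, 1]), (185, false, [1, 0, 1, 0, 1, 0, 1, 3, 1, 3, 1, 3, 1, 0, 4, 3])]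
def r59 : List (ℕ × Bool × List ℕ) := [(154, false, [1, 0, 1, 0, 2, 4, 0, 4, 0, 4, 3, 4, 3]), (114, true, [0, 2, 4, 0, 1, 0, 1, 3, 4, 0, 1, 0, 4]), (170, true, [1, 0, 1, 0, 1, 3, 4, 0, 1, 3]), (45, true, [0, 4, 0, 1, 3, 1, 0, 1, 0, 4, 3, 4, 0]), (85, true, [0, 4, 3, 4, 3, 1, 0, 1, 3, 1, 3, 1, 0]), (275, false, [3, 4, 0, 4, 3, 1, 3, 1, 0, 1, 0, 4, 3, 1, 0]), (47, true, [1, 3, 4, 3, 1, 0, 1, 3, 4, 3, 4, 0, 4]), (248, true, [0, 4, 0, 1, 0, 1, 3, 1, 3, 1, 0, 4, 3, 1, 0, 1]), (168, true, [1, 0, 4, 0, 1, 3, 1, 3, 4, 0, 4, 0, 4, 3]), (7, false, [0, 1, 0, 1, 0, 1, 2, 0, 1, 3, 1, 0, 1, 3, 1, 0, 1, 0]), (13, false, [1, 3, 4, 0, 1, 3, 1, 0, 4]), (28, false, [2, 0, 4, 3, 4, 0, 4, 0, 1, 3, 4, 0, 4, 0, 1, 0]), (59, true, [0, 1, 3,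 1, 0, 4, 0, 4, 3, 1, 0, 1, 0, 1, 3]), (199, false, [0, 1, 3, 1, 3, 1, 3, 4, 0, 1, 0, 1, 3, 1, 3, 1]), (99, false, [1, 0, 1, 0, 4, 3, 4, 3, 4, 0, 4, 3, 1, 3]), (59, true, []), (184, false, [1, 0, 1, 0, 1, 0, 1, 0, 1, 3, 1, 3, 1, 3]), (48, false, [4, 0, 1, 3, 1, 0, 4]), (78, true, [2, 0, 1, 3, 4, 0, 1, 0, 1, 3, 4, 0, 1, 0]), (110, false, [1, 0, 1, 2, 0, 1, 3, 1, 0, 4, 3, 1, 3, 4]), (47, true, [0, 4, 3, 4, 3, 4, 3, 4, 0, 1, 0, 1, 0]), (168, false, [3, 1, 0, 1, 0, 1, 3, 1, 3, 4]), (218, true, [2, 0, 1, 0, 4, 3, 1, 0, 1, 0, 1, 0, 1, 3, 4, 0]), (12, true, [3, 4, 0, 1, 0, 1, 3, 4, 0, 4, 3, 1, 3]), (136, true, [1, 3, 4, 0, 1, 3, 1, 3, 4, 3, 4, 0]), (103, true, [0, 4, 3, 1, 3, 4, 0, 4, 0, 4, 0, 4]), (69, false, [0, 2, 4, 0, 4,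 3, 4, 0, 1, 0, 1, 3, 1, 0, 1]), (193, true, [1, 0, 2, 4, 0, 1, 0, 4, 3, 4, 3, 1]), (47, true, [3, 4, 3, 1, 0, 1, 3, 4, 3, 4, 3, 1]), (81, false, [0, 2, 4, 0, 1, 3, 4, 0, 4, 0, 4, 0, 4, 3, 4, 3, 4]), (218, true, [3, 4, 3, 1, 3, 1, 0, 1, 0, 1, 3, 1, 3]), (110, false, [4, 3, 4, 0, 4, 3, 4, 0, 1, 3, 1, 0]), (180, false, [0, 2, 4, 3, 1, 0, 1, 0, 4, 3, 4, 0, 4, 3, 4, 0, 4]), (37, false, [0, 1, 3, 4, 0, 4, 3, 4, 3, 1, 0]), (59, false, [0, 4, 0, 4, 3, 1, 0, 1, 3, 1, 3, 4, 0]), (210, true, [1, 0, 4, 3, 4, 0, 1, 0, 1, 3, 4, 0]), (59, true, []), (59, false, [0, 1, 0, 1, 3, 4, 0, 4, 3, 4, 3, 1, 0]), (210, true, [2, 0, 4, 0, 4, 0, 4, 3, 4, 0, 4, 3, 1, 3, 4, 0]), (59, true, [0, 4, 3, 4, 0, 1, 0, 1, 3, 1, 0, 1, 3, 4]), (116, false,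 [1, 0, 4, 3, 4, 0, 4, 0, 1, 3, 1, 0, 1, 3, 1]), (199, false, [2, 4, 0, 4, 3, 4, 3, 4, 0, 4, 0, 4, 3, 1, 0, 4]), (131, false, [2, 0, 1, 3, 1, 0, 4, 3, 4, 3, 1, 3]), (28, true, [2, 4, 3, 4, 3, 4, 0, 4, 0, 4, 3, 1, 0, 1, 3, 1]), (122, false, [2, 0, 4, 0, 4, 3, 1, 0, 1, 3, 1, 0]), (59, true, [0, 4, 3, 4, 0, 1, 0, 1, 3, 1, 0, 1, 3, 4]), (103, true, [3, 1, 0, 4, 0, 4, 0, 4, 0, 1, 3, 1, 0]), (26, false, [4, 3, 4, 3, 1, 0, 1, 3, 1, 0, 4]), (170, true, [1, 0, 1, 2, 0, 4, 3, 1, 3, 1, 3, 4, 0, 1, 3]), (81, false, [4, 0, 1, 3, 4, 0, 4, 0, 4, 0]), (154, false, [2, 0, 1, 0, 4, 0, 4, 3, 1, 0, 1, 0, 1]), (48, true, [1, 2, 0, 1, 0, 1, 3, 1, 0, 4]), (116, true, [4, 0, 1, 3, 1, 3, 1, 0, 1, 3, 4, 3, 1]), (275, false, [3, 1, 0, 4, 0, 4,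 0, 4, 3, 4, 3, 4, 0, 4, 0]), (103, true, [1, 2, 0, 1, 3, 4, 0, 4, 3, 1, 0, 1, 0, 4, 0]), (199, true, [0, 2, 4, 0, 4, 3, 4, 0, 1, 3, 1, 3, 1, 0, 1]), (192, true, [2, 4, 0, 1, 3, 1, 0, 1, 0, 1, 3, 1, 3]), (193, true, [0, 4, 3, 1, 0, 1, 0, 4, 3, 1, 0]), (116, false, [0, 2, 4, 3, 1, 3, 1, 3, 4, 0, 4, 3, 4, 0]), (78, false, [2, 4, 0, 1, 0, 4, 3, 1, 3, 1, 0, 4]), (210, false, [0, 4, 3, 4, 3, 4, 0, 4, 0, 1, 3, 1, 3, 1, 3]), (7, false, [4, 0, 4, 0, 4, 0, 1, 3, 1, 0, 1, 0, 1, 0, 4, 3]), (64, false, [0, 1, 0, 4, 0, 4, 3, 1, 0, 1, 0, 4, 0]), (234, true, [0, 2, 4, 0, 4, 3, 4, 3, 4, 0, 1, 3, 1]), (45, true, [1, 0, 1, 3, 4, 0, 1, 3, 1, 0, 4]), (180, false, [3, 4, 0, 4, 3, 4, 0, 1, 0, 1, 3, 1, 0, 1]), (85, true, [2, 0, 1, 0, 4, 3,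 4, 0, 1, 0, 1, 3, 4, 0, 1, 0]), (199, true, [0, 1, 3, 1, 0, 1, 3, 4, 0, 4, 3, 4, 0, 4]), (116, false, [2, 4, 0, 1, 3, 1, 3, 1, 0, 1, 3, 4, 3, 1]), (110, true, [1, 2, 0, 1, 0, 1, 0, 1, 0, 4, 0, 4, 3, 4, 0, 4, 3]), (28, false, [0, 4, 0, 4, 0, 1, 3, 1, 0, 4, 3, 4, 0, 1]), (154, false, [0, 4, 0, 1, 3, 1, 3, 4, 0, 4, 0, 1, 3, 4, 3]), (13, false, [1, 0, 1, 3, 1, 0, 1, 3, 1, 0, 1, 0]), (131, true, [1, 0, 2, 4, 3, 4, 0, 1, 0, 4]), (100, true, [1, 3, 4, 0, 4, 3, 1, 0, 1, 3, 1, 3]), (122, false, [0, 4, 0, 1, 3, 1, 0, 4, 3, 4, 0, 1, 0, 1, 0, 1]), (59, true, [0, 1, 3, 1, 0, 4, 0, 4, 3, 1, 0, 1, 0, 1, 3]), (59, true, []), (59, true, []), (59, true, []), (99, false, [1, 0, 4, 3, 1, 0, 1, 0, 1, 0, 1, 3, 4]), (28, true, [0, 4, 3, 1,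 3, 1, 0, 4, 3, 4, 0]), (100, false, [2, 0, 4, 0, 4, 3, 4, 3, 4, 0, 1, 0]), (85, true, [2, 4, 3, 4, 3, 4, 3, 4, 0, 4, 3, 1, 0, 4, 0]), (28, true, [2, 4, 3, 4, 3, 4, 0, 4, 0, 4, 3, 1, 0, 1, 3, 1]), (120, true, [0, 4, 0, 1, 3, 1, 3, 1, 0, 1, 3, 1, 3]), (85, true, [1, 0, 4, 0, 4, 3, 4, 3, 4, 0]), (217, false, [3, 4, 0, 1, 3, 1, 3, 4, 3, 4, 0, 1, 0, 4]), (77, false, [1, 0, 4, 3, 1, 0, 1, 3, 1, 3, 4, 0, 1]), (193, false, [2, 4, 0, 1, 0, 1, 0, 4, 0]), (193, true, [1, 3, 1, 3, 4, 3, 4, 0, 4, 3, 4, 3]), (192, true, [3, 1, 3, 1, 3, 1, 0, 4, 3, 4, 0, 4, 0]), (28, true, [0, 4, 3, 1, 3, 1, 0, 4, 3, 4, 0]), (217, false, [1, 0, 1, 3, 4, 3, 4, 0, 4, 0, 4, 3, 1, 0]), (113, true, [2, 4, 0, 4, 0, 1, 3, 4, 0, 4, 0, 1, 3]), (154, false,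 [1, 0, 4, 0, 4, 3, 4, 3, 1, 3]), (234, true, [1, 3, 4, 0, 4, 3, 1, 3, 1, 0, 1, 3, 4, 3, 1]), (69, false, [4, 3, 1, 3, 1, 0, 4, 0, 4, 3, 4, 3, 1]), (64, false, [0, 1, 0, 2, 4, 3, 4, 0, 4, 0, 4, 0, 4, 3, 4, 3, 4]), (171, true, [0, 1, 0, 1, 2, 0, 4, 3, 4, 0, 1, 0, 1, 0, 1, 3]), (180, false, [3, 1, 0, 1, 3, 4, 3, 4, 0, 4, 0]), (3, false, [0, 1, 0, 2, 4, 0, 1, 3, 4, 3]), (82, true, [2, 4, 0, 4, 0, 1, 3, 1, 0, 1, 0, 4, 0, 4, 0]), (110, true, [3, 4, 0, 4, 3, 1, 3, 1, 0, 1, 3, 4, 0, 4]), (180, false, [2, 4, 3, 1, 3, 1, 0, 4, 0, 4, 3, 4, 3, 1]), (210, true, [0, 2, 4, 0, 1, 3, 4, 3, 4, 3, 4, 0, 1, 0]), (78, true, [4, 3, 4, 3, 4, 3, 1, 0, 1, 3, 4, 0, 4, 0, 1]), (59, true, []), (168, false, [2, 0, 1, 3, 1, 3, 1, 0, 4, 3, 4, 3, 4]),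 (37, false, [3, 1, 0, 1, 0, 4, 3, 4, 0, 1, 0, 1, 0, 1, 0]), (171, true, [0, 4, 3, 1, 0, 4, 0, 4, 3, 1, 3, 4, 0]), (77, false, [1, 0, 1, 0, 2, 4, 3, 4, 3, 1, 0, 1, 0, 4])]

theorem q48 : closeb 18 ps18 base7 rgR om xs x48 orb r48 = true := by decide +kernel
theorem q49 : closeb 18 ps18 base7 rgR om xs x49 orb r49 = true := by decide +kernel
theorem q50 : closeb 18 ps18 base7 rgR om xs x50 orb r50 = true := by decide +kernel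
theorem q51 : closeb 18 ps18 base7 rgR om xs x51 orb r51 = true := by decide +kernel
theorem q52 : closeb 18 ps18 base7 rgR om xs x52 orb r52 = true := by decide +kernel
theorem q53 : closeb 18 ps18 base7 rgR om xs x53 orb r53 = true := by decide +kernel
theorem q54 : closeb 18 ps18 base7 rgR om xs x54 orb r54 = true := by decide +kernel
theorem q55 : closeb 18 ps18 base7 rgR om xs x55 orb r55 = true := by decide +kernel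
theorem q56 : closeb 18 ps18 base7 rgR om xs x56 orb r56 = true := by decide +kernel
theorem q57 : closeb 18 ps18 base7 rgR om xs x57 orb r57 = true := by decide +kernel
theorem q58 : closeb 18 ps18 base7 rgR om xs x58 orb r58 = true := by decide +kernel
theorem q59 : closeb 18 ps18 base7 rgR om xs x59 orb r59 = true := by decide +kernel

theorem c4 : Rows xc4 :=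
  Rows.cons q48 (Rows.cons q49 (Rows.cons q50 (Rows.cons q51 (Rows.cons q52 (Rows.cons q53 (Rows.cons q54 (Rows.cons q55 (Rows.cons q56 (Rows.cons q57 (Rows.cons q58 (Rows.cons q59 Rows.nil)))))))))))

end Cfsg.Agent.H698.U33.Clo
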