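import Cfsg.Agent.H698.U33.Clo.Rows

/-!
# S5525: the closure certificate, rows 60 to 71 (helper698; data of helper819, helper763)
-/

set_option autoImplicit false
set_option maxRecDepth 100000
set_option Elab.async false

namespace Cfsg.Agent.H698.U33.Clo

def r60 : List (ℕ × Bool × List ℕ) := [(98, true, [0, 4, 3, 4, 0, 4, 0, 4, 3, 4, 0, 4, 0]), (170, false, [3, 4, 0, 1, 3, 1, 3, 1, 3]), (226, true, [3, 1, 3, 1, 3, 4, 3, 4, 0, 4, 3, 1]), (212, false, [3, 1, 3, 4, 0, 4, 3, 1, 3, 1, 3, 1, 0, 1, 3]), (208, true, [4, 3, 1, 3, 1, 3, 4, 0, 4, 3, 4, 3, 4, 3]), (213, false, [2, 4, 3, 1, 3, 1, 0, 4, 3, 4, 3, 4, 3]), (166, false, [1, 3, 1, 0, 1, 0, 1, 3, 1, 0, 4, 0, 1]), (157, false, [3, 1, 0, 1, 3, 4, 0, 4, 0, 4, 0, 1, 3]),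 (152, true, [1, 3, 4, 0, 1, 3, 1, 0, 4, 0, 4, 0, 4, 0]), (112, false, [0, 4, 0, 4, 0, 1, 3, 1, 0, 4, 0, 4, 3, 1, 0]), (68, true, [0, 1, 0, 2, 4, 0, 4, 0, 1, 3, 4, 0, 4, 0, 1, 0]), (170, false, [0, 1, 0, 1, 2, 0, 4, 3, 4, 3, 1, 0, 1]), (158, true, [0, 1, 0, 1, 0, 1, 3, 4, 3, 1, 0, 4, 0, 4, 0, 1]), (68, false, [0, 2, 4, 0, 1, 0, 4, 3, 4, 0, 1, 3, 1, 3, 4, 0]), (190, true, [3, 4, 3, 4, 0, 1, 0, 1, 3, 1, 3, 1, 0, 4, 3]), (236, false, [2, 4, 0, 4, 0, 1, 3, 1, 0, 4, 3, 1, 0, 1]), (97, true, [2, 0, 1, 3, 1, 0, 1, 0, 1, 3, 1, 0, 1]), (212, false, [1, 0, 1, 3, 1, 0, 4, 3, 4, 3, 4, 3, 1, 0, 4, 0]), (5, true, [0, 1, 0, 4, 3, 4, 0, 1, 0, 1, 0, 4, 3]), (189, false, [2, 0, 4, 0, 1, 0, 1, 3, 4, 0, 1, 0, 1, 3, 1, 3]), (140, true, [4,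 0, 1, 0, 1, 3, 1, 3, 1, 3, 1]), (269, true, [1, 2, 0, 1, 0, 1, 3, 4, 0, 1, 3, 1, 3, 1, 0]), (85, false, [3, 1, 0, 1, 0, 4, 3, 1, 3, 1, 0, 4, 0, 1]), (40, false, [0, 4, 3, 4, 3, 1, 0, 1, 0, 4, 3, 4, 3, 1, 0]), (166, false, [0, 1, 3, 4, 0, 4, 0, 4, 0, 4, 0, 1, 0]), (152, true, [1, 2, 0, 1, 3, 4, 3, 4, 3, 4, 0, 1, 0, 1, 3, 4]), (70, true, [0, 2, 4, 0, 4, 3, 4, 0, 1, 0, 1, 3, 1, 0, 1]), (79, false, [3, 1, 0, 4, 3, 4, 3, 4, 3, 4, 0, 1, 0, 1, 3, 1]), (109, false, [0, 1, 0, 1, 0, 1, 2, 0, 4, 3, 1, 3, 1, 3, 1, 0]), (10, false, [2, 0, 1, 3, 1, 0, 4, 0, 4, 3, 4, 0]), (206, false, [1, 3, 1, 3, 1, 3, 1, 0, 1, 0, 1, 3, 4, 3]), (70, true, [4, 3, 4, 3, 1, 0, 4, 3, 4, 3, 4, 0, 4, 0]), (215, true, [0, 1, 3, 4, 0, 4, 3, 1, 3, 4, 0, 4,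 3, 1, 0, 1, 0]), (102, true, [4, 0, 1, 0, 1, 3, 4, 0, 4, 3, 4, 0, 4]), (223, true, [4, 0, 1, 0, 1, 0, 4, 0, 4, 3, 1, 3, 1]), (89, false, [4, 3, 4, 3, 1, 0, 4, 3, 4, 3, 4, 0, 4, 0]), (198, false, [0, 4, 0, 1, 3, 1, 3, 1, 0, 4, 3, 4, 3, 4]), (79, false, [1, 0, 1, 0, 1, 0, 1, 0, 4, 3, 1, 3]), (247, false, [2, 0, 4, 3, 1, 0, 1, 0, 4, 0, 4, 0, 4, 3]), (174, false, [1, 3, 4, 0, 1, 0, 1, 3, 4, 0, 4, 3]), (124, false, [1, 3, 4, 3, 4, 3, 4, 3, 1, 0, 4, 0, 1]), (245, true, [1, 0, 1, 2, 0, 1, 0, 1, 3, 4, 3]), (249, true, [3, 4, 0, 4, 0, 4, 3, 4, 3, 1]), (10, true, [1, 0, 1, 0, 1, 0, 2, 4, 3, 4, 3, 4, 3, 1, 0]), (223, false, [1, 0, 4, 0, 1, 3, 1, 3, 1]), (223, false, [2, 0, 1, 0, 1, 0, 4, 3, 4, 0, 4, 3]), (91, false, [4, 0, 4, 3,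 1, 3, 1, 0, 1, 0, 4, 3, 1, 3, 1]), (272, true, [3, 4, 3, 1, 0, 1, 3]), (208, true, [0, 4, 0, 1, 3, 1, 3, 1, 0, 4]), (208, true, [0, 1, 0, 1, 3, 1, 3, 4, 0, 4, 0, 1, 3, 4]), (176, true, [4, 0, 1, 0, 1, 3, 1, 0, 4, 0, 4, 3]), (85, false, [2, 4, 0, 1, 3, 1, 3, 1, 0, 1, 3, 4, 0, 1]), (91, false, [0, 1, 0, 1, 2, 0, 4, 0, 1, 3, 4, 3, 4, 0, 4, 3, 1, 3, 4]), (205, false, [1, 3, 1, 0, 4, 3, 1, 0, 1, 0, 4, 0]), (247, true, [0, 4, 0, 1, 3, 4, 3, 4, 3, 4, 0]), (205, true, [1, 0, 4, 3, 1, 3, 4, 0, 4, 0]), (245, true, [1, 0, 4, 3, 1, 3, 1, 0, 4, 0, 4, 3, 1, 3, 1]), (277, false, [0, 1, 3, 4, 0, 4, 3, 1, 3, 4, 0, 4, 3, 1, 0, 4]), (113, false, [1, 3, 1, 0, 1, 3, 4, 0, 4, 0, 4, 0, 1, 3, 4]), (208, true, [1, 0, 1, 0, 4, 3, 1, 0, 1, 0,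 1, 0, 1, 3]), (272, true, [2, 0, 1, 0, 4, 3, 4, 0, 4, 3, 4]), (185, true, [0, 4, 3, 4, 0, 1, 0, 1, 3, 4, 3, 1, 0, 1]), (86, false, []), (223, true, [2, 4, 3, 1, 0, 4, 3, 4, 0, 1, 0, 1, 3, 4, 3]), (280, false, [1, 3, 1, 3, 1, 0, 1, 0]), (203, true, [0, 4, 0, 1, 3, 1, 0, 1, 3, 4, 0, 4]), (236, false, [0, 4, 3, 1, 3, 1, 3, 1, 0, 4, 3, 4, 0, 4, 0]), (109, false, [1, 0, 1, 3, 4, 0, 1, 3, 1, 3, 4, 3, 4, 0, 4, 0, 4]), (53, true, [2, 0, 1, 0, 4, 3, 1, 3, 1, 0, 1, 3, 4, 3, 4]), (40, false, [2, 4, 0, 1, 3, 1, 3, 1, 0, 1]), (121, false, [2, 4, 0, 1, 3, 1, 3, 1, 0, 1, 3, 4, 3, 4]), (68, true, [0, 1, 3, 4, 0, 1, 3, 1, 0, 1, 0, 4, 3]), (269, true, [0, 1, 3, 4, 3, 1, 0, 1, 0, 1, 0, 4, 0]), (124, false, [1, 2, 0, 1, 0, 4, 0, 4, 0, 1,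 3, 4, 3, 4, 0, 4]), (191, true, [2, 0, 1, 0, 4, 3, 1, 3, 4, 0, 4, 3, 1, 0, 4]), (195, false, [1, 0, 1, 3, 4, 3, 4, 0, 4, 3, 1]), (244, true, [1, 2, 0, 1, 0, 4, 3, 4, 3, 1, 0, 1, 0]), (96, false, [3, 4, 0, 4, 3, 4, 0, 1, 0, 1, 3, 1, 0, 1]), (89, false, [0, 2, 4, 0, 4, 3, 4, 0, 1, 0, 1, 3, 1, 0, 1]), (5, false, [2, 0, 1, 3, 1, 3, 1, 3, 1, 0, 1, 0, 1, 3, 4, 3]), (244, true, [1, 3, 4, 3, 4, 0, 4, 0, 1, 3, 1, 3, 4]), (158, true, [2, 4, 3, 1, 3, 1, 0, 4, 3, 4, 3, 4, 0, 1, 3]), (224, false, [1, 0, 1, 0, 1, 3, 1, 3, 1, 0, 4, 3, 4, 3, 4]), (147, false, [1, 3, 1, 0, 1, 3, 1, 0, 1, 3, 1, 3, 4, 3]), (195, false, [1, 0, 1, 0, 1, 0, 1, 2, 0, 1, 3, 4]), (112, false, [0, 1, 0, 2, 4, 0, 1, 3, 1, 3, 4, 3, 4, 0, 1]), (224, true, [2, 4,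 0, 4, 3, 4, 3, 4, 3, 4, 0, 4, 0, 4, 0, 4, 3, 1]), (156, false, [0, 2, 4, 3, 4, 0, 4, 0, 1, 3, 4, 0, 1]), (190, true, [1, 2, 0, 4, 0, 4, 3, 4, 3, 4, 0, 1, 3, 4]), (189, false, [4, 0, 1, 3, 4, 0, 4, 3, 1, 3, 1, 0, 4, 3]), (194, false, [3, 4, 0, 4, 0, 4, 0, 1, 3, 1, 0, 4, 0]), (86, false, [0, 1, 2, 0, 1, 3, 1, 0, 1, 3, 1, 0, 1, 3, 1]), (226, true, [2, 0, 1, 0, 1, 3, 1, 3, 1, 0, 1, 3, 4]), (224, true, [4, 0, 1, 0, 1, 3, 4, 0, 4, 3, 1, 0, 4]), (213, false, [0, 4, 0, 4, 3, 1, 0, 1, 0, 1]), (224, false, [2, 0, 4, 0, 4, 0, 4, 3, 4, 3, 4, 0, 1, 3, 1, 3]), (107, true, [0, 4, 0, 4, 3, 1, 3, 1, 3, 4, 0, 4, 3, 1, 3, 1, 0]), (277, false, [0, 1, 0, 1, 0, 1, 0, 1, 0, 1, 2, 0, 1]), (68, false, [0, 4, 3, 4, 0, 4, 3, 4, 3, 4, 3, 1]), (212,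 false, [0, 1, 2, 0, 1, 3, 1, 0, 4, 3, 4, 3, 4, 3, 1, 0, 4, 0]), (96, false, [2, 4, 3, 4, 3, 1, 0, 4, 3, 4, 3, 4, 0, 4, 0]), (212, false, [0, 2, 4, 3, 4, 3, 4, 0, 4, 0, 4, 3, 4, 0, 1]), (223, true, [2, 4, 0, 1, 0, 1, 0, 1, 3, 1, 3, 1, 3, 1, 0, 4, 0]), (121, true, [1, 0, 1, 0, 1, 2, 0, 4, 3, 4, 0, 1, 0, 1]), (191, true, [3, 4, 0, 1, 3, 1, 3, 1, 3, 1, 0, 1]), (196, true, [0, 2, 4, 3, 1, 0, 1, 0, 1, 3, 4, 0, 4, 0, 1, 3]), (208, true, [4, 0, 4, 3, 4, 0, 4, 0, 4, 0, 1, 3]), (157, false, [0, 1, 0, 2, 4, 3, 4, 0, 1, 3, 1, 3, 4, 3]), (98, true, [2, 0, 4, 0, 4, 3, 1, 3, 4, 0, 4, 0, 4, 0, 4, 3, 1]), (223, true, [0, 1, 0, 1, 0, 1, 3, 4, 0, 1, 3, 1, 0, 1, 0]), (203, false, [2, 0, 4, 0, 4, 3, 4, 0, 1, 0, 1, 3, 4, 0]), (165, false,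 [3, 4, 3, 1, 3, 1, 0, 1, 3, 4, 3, 4])]
def r61 : List (ℕ × Bool × List ℕ) := [(114, false, [1, 0, 4, 3, 1, 0, 1, 3, 4, 3, 1, 0, 4, 0, 4, 0, 4]), (61, false, [0, 4, 3, 1, 3, 1, 0, 1, 3, 4, 0, 4, 0]), (256, true, [2, 4, 0, 1, 0, 1, 0, 4, 3, 4, 0, 1, 0, 1, 0]), (132, false, [2, 0, 4, 0, 4, 3, 4, 0, 1, 3, 4, 3, 1, 0]), (215, true, [1, 3, 1, 0, 4, 3, 4, 3, 4, 0, 4, 0, 4, 3, 1]), (213, true, [2, 4, 0, 1, 0, 4, 3, 4, 3, 1, 0, 1, 0, 4, 3, 4, 3]), (155, true, [0, 1, 0, 1, 0, 2, 4, 3, 4, 0, 4, 3, 1, 3, 1, 0]), (46, false, [0, 1, 3, 4, 3, 1, 0, 4, 3, 4, 0, 4, 3, 4]), (245, false, [1, 0, 4, 3, 1, 0, 1, 0, 1, 3, 4, 0, 1, 3]), (95, false, [3, 1, 0, 1, 3, 1, 3, 4, 0, 4, 0, 4, 0, 4]), (199, false, [1, 2, 0, 1, 0, 1, 3, 4, 0, 4, 3, 4,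 0, 4, 0, 1]), (137, false, [2, 4, 0, 1, 3, 1, 0, 1, 3, 4, 3, 4, 0, 4]), (66, true, [0, 1, 3, 1, 3, 1, 3, 1, 3, 1, 0, 1, 0, 1, 3, 1, 0, 1]), (281, true, [1, 0, 4, 0, 4, 3, 1, 0, 4, 0, 4, 3, 4]), (277, false, [4, 3, 1, 0, 1, 3, 4, 3, 1, 0, 1, 0, 4, 3]), (61, false, [0, 1, 3, 1, 0, 1, 3, 1, 3, 4, 0, 4, 3, 4]), (75, false, [0, 1, 0, 1, 2, 0, 1, 0, 1, 0, 1, 3, 4, 0, 4, 3]), (56, false, [3, 1, 3, 1, 3, 4, 0, 1, 3, 1, 3, 1, 0, 1]), (211, false, [0, 4, 0, 4, 3, 1, 3, 1, 0, 1, 0, 1, 3, 1, 3]), (122, true, [2, 4, 3, 4, 3, 4, 0, 1, 3, 1, 3, 4, 3, 4, 3, 4]), (191, false, [0, 2, 4, 3, 4, 0, 1, 0, 1, 3, 4, 0, 4, 0]), (71, true, [1, 3, 1, 0, 1, 3, 4, 3, 1, 0, 4, 3, 4]), (277, false, [2, 4, 0, 1, 0, 1, 0, 4, 0, 4, 3, 1, 0, 1, 3, 4]),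 (137, true, [3, 4, 0, 1, 3, 1, 3, 4, 0, 1]), (274, true, [2, 4, 3, 1, 3, 4, 0, 1, 3, 1, 3, 4, 3, 4, 0]), (205, true, [1, 3, 4, 3, 4, 0, 1, 3, 1, 0, 1]), (182, true, [0, 2, 4, 0, 1, 3, 1, 0, 1, 0, 4, 3, 1, 3]), (219, false, [1, 0, 1, 2, 0, 1, 0, 4, 0, 4, 0, 4, 0, 4, 0, 4]), (41, true, [2, 0, 4, 3, 1, 0, 1, 0, 4, 0, 4, 0, 1, 0]), (61, false, [2, 0, 4, 3, 1, 0, 1, 0, 4, 0, 4, 3, 1, 0]), (62, false, [1, 3, 4, 3, 4, 0, 4, 3, 1, 3, 1, 3, 4]), (66, true, [2, 0, 4, 3, 1, 3, 1, 3, 4, 0, 4, 3, 1, 3]), (152, false, [4, 0, 1, 0, 4, 3, 1, 3, 1, 0, 1, 0, 1, 3, 4, 3]), (95, true, [4, 0, 4, 3, 4, 0, 4, 3, 1, 3, 1, 0, 4, 0]), (213, true, [1, 3, 4, 3, 4, 3, 4, 0, 4, 3, 4, 0, 4]), (77, false, [3, 4, 0, 1, 3, 4, 3, 1, 0, 1, 0, 1, 3]), (49,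 true, [2, 0, 4, 0, 1, 0, 1, 3, 1, 0, 4, 0, 4, 3, 1]), (281, true, [3, 4, 0, 1, 0, 1, 0, 1, 3, 1, 3, 1, 3, 4]), (102, false, [1, 2, 0, 1, 0, 1, 3, 1, 0, 4, 3, 1, 3, 4, 0]), (191, false, [3, 1, 0, 1, 3, 4, 0, 1, 0, 1, 3, 4, 0, 1, 0]), (209, false, [3, 1, 3, 1, 0, 4, 3, 1, 3, 1, 0, 4, 3, 1, 0]), (17, false, [0, 4, 0, 1, 0, 1, 0, 1, 3, 4, 0, 4, 3, 1]), (274, true, [2, 4, 3, 1, 3, 4, 0, 1, 3, 1, 3, 4, 3, 4, 0]), (241, false, [1, 0, 4, 0, 4, 3, 1, 0, 1, 0, 1, 3]), (61, false, [2, 0, 4, 3, 1, 0, 1, 0, 1, 3, 1, 3, 4, 0, 1]), (61, false, [2, 0, 4, 0, 4, 3, 4, 3, 4, 0, 1, 3, 4, 3, 1]), (132, false, [3, 4, 0, 1, 0, 1, 0, 1, 0, 4, 0]), (111, true, [1, 2, 0, 4, 3, 1, 3, 1, 0, 1, 3, 4, 3, 4]), (155, true, [0, 4, 0, 4, 3, 4, 3, 1,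 0, 4, 0, 4, 3, 1, 3, 4]), (274, true, [1, 0, 2, 4, 3, 4, 3, 1, 0, 1, 3, 4, 0, 4, 0, 1]), (148, true, [1, 3, 1, 0, 1, 3, 1, 3, 1, 0, 1, 3, 1]), (87, true, [1, 0, 4, 0, 4, 3, 1, 3, 1, 0, 4, 3, 4, 3]), (127, false, [2, 0, 1, 3, 1, 3, 1, 0, 4, 3, 4, 3, 1, 0, 1]), (233, false, [0, 1, 2, 0, 1, 3, 1, 0, 4, 0, 4, 3, 1, 3]), (75, false, [3, 1, 0, 4, 3, 4, 0, 1, 3, 1, 3, 1, 3, 1, 0]), (152, false, [0, 1, 0, 2, 4, 0, 1, 0, 1, 3, 1, 3, 1, 0, 4, 0]), (53, true, [1, 2, 0, 1, 0, 4, 3, 1, 3, 4, 0, 4, 3]), (192, true, [0, 4, 0, 1, 0, 1, 3, 1, 0, 1, 0, 4]), (45, false, [3, 1, 0, 1, 0, 1, 3, 4, 3, 1, 0, 4]), (24, false, [0, 1, 2, 0, 1, 0, 1, 0, 1, 3, 4, 0, 4]), (199, false, [1, 3, 4, 3, 1, 0, 1, 3, 1, 3, 1, 0, 4, 0, 4]), (24, false, [0,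 1, 3, 1, 3, 4, 0, 4, 0, 1, 3, 1, 0]), (72, true, [1, 2, 0, 4, 0, 4, 3, 4, 3, 4, 0]), (151, true, [2, 4, 0, 4, 0, 4, 3, 1, 3, 1, 0, 4, 3, 4, 3]), (241, true, [0, 1, 0, 1, 0, 4, 3, 4, 3, 4, 3, 1, 3]), (61, true, []), (41, true, [1, 3, 4, 0, 4, 3, 4, 3, 4, 0]), (61, false, [1, 3, 4, 3, 4, 0, 1, 3, 1, 3, 4, 0]), (181, false, [1, 0, 1, 0, 2, 4, 0, 1, 0, 4, 3, 4, 3, 1, 0, 1]), (61, false, [1, 3, 4, 0, 1, 3, 1, 0, 1, 3, 1, 0]), (251, false, [0, 1, 0, 1, 3, 1, 3, 1, 3, 1, 0, 4, 3, 4, 0, 1, 3, 4]), (111, true, [1, 0, 4, 3, 1, 3, 1, 0, 1, 3, 4, 3, 4]), (209, false, [2, 0, 4, 0, 4, 0, 1, 3, 4, 3, 4, 0, 4, 3, 1, 0]), (71, true, [1, 2, 0, 1, 3, 1, 3, 4, 3, 4]), (218, true, [2, 4, 3, 4, 0, 1, 0, 1, 0, 1, 0, 4]), (122, true, [0, 1,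 3, 4, 0, 1, 3, 1, 3, 4, 0, 1, 3, 1, 0]), (256, true, [3, 1, 0, 4, 0, 4, 0, 1, 3, 1, 0, 1, 3, 1, 0, 1]), (211, false, [0, 1, 0, 1, 3, 4, 0, 4, 3, 4, 0, 4, 3, 1, 3, 4]), (66, true, [1, 0, 4, 3, 4, 0, 1, 3, 1, 3, 1, 3, 4, 0, 1]), (277, false, [0, 1, 3, 1, 3, 1, 0, 1, 0, 1, 3, 4, 0, 4, 0, 4]), (237, true, [2, 0, 4, 0, 1, 3, 1, 0, 1, 0, 1, 0, 4, 0, 4, 3, 1]), (182, true, [0, 1, 0, 4, 3, 1, 3, 1, 0, 1, 0, 4, 3]), (205, true, [2, 4, 0, 1, 0, 1, 0, 1, 3, 4, 3, 1, 0, 4]), (155, false, [2, 4, 3, 4, 3, 4, 0, 1, 3, 1, 0, 4]), (57, false, [1, 3, 4, 3, 4, 3, 1, 0, 1, 0, 4, 0, 4, 0]), (146, true, [3, 4, 3, 1, 0, 4, 3, 4, 0, 4, 3, 4]), (72, true, [3, 4, 0, 1, 0, 1, 3, 1, 3, 1, 0, 4, 3, 4, 0, 4]), (148, true, [1, 2, 0, 1, 3, 1, 0, 1,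 0, 4, 3, 1]), (87, true, [0, 1, 2, 0, 1, 0, 1, 3, 1, 0, 4, 3, 1, 3, 4]), (57, false, [1, 2, 0, 4, 3, 4, 3, 1, 0, 1, 0, 4, 0, 4, 0]), (155, true, [0, 1, 3, 4, 0, 4, 3, 1, 3, 4, 0, 4, 0, 4, 0, 1]), (193, false, [2, 4, 0, 4, 0, 1, 3, 1, 0, 4, 0, 4, 0]), (237, true, [1, 3, 1, 0, 1, 3, 1, 3, 1, 0, 1, 3, 4, 0, 1, 3]), (193, false, [1, 0, 1, 3, 4, 3, 1, 0, 1, 0, 4, 0, 4, 0]), (151, true, [1, 3, 1, 0, 1, 0, 1, 3, 1, 0, 4, 3, 1, 3, 4]), (196, false, [0, 1, 0, 1, 3, 1, 3, 1, 3, 1, 0, 1, 3]), (198, true, [4, 3, 1, 0, 1, 0, 1, 3, 4, 3, 1, 0, 4]), (192, false, [1, 0, 2, 4, 3, 1, 0, 1, 3, 4, 3, 4, 3, 4]), (219, false, [1, 0, 1, 0, 1, 0, 4, 0, 4, 0, 1, 3, 1, 0, 1]), (211, false, [0, 2, 4, 0, 1, 0, 1, 0, 1, 3, 4, 3, 4, 0, 4, 3]), (277,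 false, [2, 4, 0, 4, 3, 1, 0, 1, 3, 4, 3, 1, 0, 4, 3]), (127, false, [3, 1, 0, 1, 0, 1, 3, 1, 3, 1, 0, 1]), (77, false, [2, 4, 3, 1, 3, 1, 3, 4, 0, 1, 3, 4]), (61, false, [2, 0, 4, 3, 1, 0, 1, 0, 4, 0, 4, 3, 1, 0]), (46, false, [1, 2, 0, 4, 0, 1, 3, 4, 3, 4, 0, 4, 3, 4]), (181, false, [1, 0, 1, 0, 4, 3, 1, 3, 1, 3, 1, 0, 1]), (211, false, [0, 2, 4, 0, 1, 0, 1, 0, 1, 3, 4, 3, 4, 0, 4, 3]), (218, true, [1, 0, 1, 0, 1, 0, 1, 0, 4]), (99, true, [1, 0, 4, 3, 4, 0, 4, 0, 4, 0]), (66, true, [0, 1, 2, 0, 1, 0, 4, 3, 4, 3, 1, 0, 1, 0, 1, 0, 4]), (274, true, [1, 0, 2, 4, 3, 4, 3, 1, 0, 1, 3, 4, 0, 4, 0, 1]), (241, false, [4, 0, 1, 3, 1, 0, 1, 0, 1, 3, 4])]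
def r62 : List (ℕ × Bool × List ℕ) := [(139, true, [3, 4, 0, 4, 0, 1, 3, 4, 3, 4, 0, 1, 3]), (6, false, [3, 4, 3, 4, 3, 4, 0, 4, 0, 4, 3, 4, 0, 4]), (190, false, [2, 4, 3, 1, 0, 1, 0, 1, 3, 4, 0, 1, 3, 1, 3]), (235, false, [3, 4, 3, 1, 3, 1, 0, 4, 3, 1, 3, 1, 0, 1, 0, 4]), (263, false, [3, 1, 0, 4, 0, 4, 3, 4, 3, 4, 3, 4, 0, 4, 0, 4]), (275, true, [0, 1, 2, 0, 4, 0, 4, 3, 4, 3, 4, 3, 4, 0]), (156, false, [0, 1, 0, 1, 2, 0, 4, 3, 4, 3, 1, 0, 1, 3]), (98, false, [0, 1, 2, 0, 4, 0, 1, 3, 1, 3, 1, 0, 1, 0, 1, 3, 1, 3, 1]), (63, true, [0, 1, 0, 2, 4, 0, 4, 3, 1, 0, 1, 3, 4, 3]), (230, false, [1, 0, 1, 0, 1, 3, 1, 0, 1, 0, 4]), (255, true, [0, 2, 4, 3, 4, 3, 1, 0, 1, 0, 4, 0, 4, 3]), (164, false, [0, 4, 0, 4, 0, 4, 3, 1, 0,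 1, 3, 4, 3, 4]), (188, false, [1, 0, 1, 0, 4, 3, 1, 3, 4, 0, 4, 3, 4, 3, 1, 0]), (128, false, [0, 1, 0, 2, 4, 0, 4, 0, 1, 3, 1, 3, 1, 3, 4]), (102, false, [4, 0, 1, 3, 4, 3, 4, 0, 4, 3]), (179, false, [4, 0, 1, 0, 4, 3, 1, 3, 1, 0, 1, 3]), (133, false, [0, 1, 2, 0, 4, 3, 4, 3, 4, 3, 1, 0]), (262, true, [0, 1, 0, 1, 0, 1, 0, 4, 3, 1, 0, 1, 0, 1]), (6, false, [2, 0, 4, 0, 4, 0, 1, 3, 4, 0, 4, 0, 4, 0, 1, 3]), (196, false, [4, 0, 4, 3, 1, 0, 1, 3, 4, 0, 1]), (196, true, [0, 1, 0, 1, 2, 0, 4, 0, 1, 3, 1, 0, 1, 0, 1, 0, 4]), (261, true, [3, 1, 0, 4]), (140, true, [3, 1, 0, 1, 0, 1, 3, 1, 0, 1, 3, 4, 0]), (173, true, [4, 0, 1, 0, 1, 0, 4, 3, 4, 3]), (102, true, [0, 4, 3, 4, 3, 4, 0, 4, 0, 4]), (189, false, [1, 3, 4, 3, 4,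 0, 1, 3, 1, 3, 4, 0]), (98, false, [4, 0, 1, 0, 1, 0, 4, 0, 4, 0, 1]), (187, false, [1, 0, 1, 3, 4, 0, 1, 0, 1, 0, 1, 0, 4, 0]), (167, false, [3, 1, 3, 4, 3, 4, 0, 4, 0, 4, 0, 4, 3]), (124, true, [2, 0, 1, 0, 1, 0, 4, 3, 4, 0, 4, 3, 4, 0, 4, 0]), (196, true, [0, 4, 3, 1, 3, 1, 3, 4, 0, 4, 3, 1, 3]), (21, false, [3, 4, 3, 1, 3, 1, 3, 1, 3, 4, 0, 1, 3]), (259, false, [1, 0, 4, 0, 4, 3, 4, 0, 1, 0, 1, 3, 1, 3, 4]), (261, true, [0, 1, 2, 0, 4, 3, 4, 3, 1, 0, 1, 3, 4, 3]), (224, false, [0, 1, 2, 0, 4, 3, 4, 0, 4, 3, 1, 0, 4]), (112, false, [2, 0, 1, 0, 1, 3, 4, 3, 1]), (98, false, [1, 3, 4, 3, 4, 3, 4, 0, 1, 3, 1, 0]), (62, false, [1, 2, 0, 1, 0, 1, 3, 4, 0, 4, 0, 4]), (61, false, [1, 0, 4, 0, 4, 0, 1, 3, 1, 0, 1, 0, 4]),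 (165, false, [4, 0, 1, 0, 1, 0, 4, 3, 1, 0, 4]), (17, false, [0, 1, 3, 1, 0, 1, 0, 1, 3, 1, 0, 1]), (276, true, [0, 2, 4, 3, 1, 0, 1, 0, 1, 3, 1]), (235, false, [0, 2, 4, 0, 4, 0, 1, 3, 1, 0, 1, 0, 4, 3, 4, 0]), (5, false, [0, 4, 3, 4, 3, 1, 0, 1, 0, 1, 3, 1, 0]), (258, true, [1, 0, 2, 4, 0, 1, 3, 1]), (245, false, [1, 0, 1, 0, 1, 3, 1, 3, 1, 0, 4, 3, 4, 3, 4, 0]), (188, false, [1, 2, 0, 1, 0, 4, 0, 4, 0, 4, 3, 1, 3, 1, 3]), (190, false, [4, 0, 1, 0, 1, 0, 4, 3, 1, 0, 1, 0]), (151, true, [2, 0, 1, 3, 4, 0, 1, 3, 1, 0, 1, 3, 1]), (262, true, [1, 3, 4, 0, 4, 3, 1, 0, 4, 0, 4, 3, 1, 0]), (5, true, [2, 0, 1, 0, 4, 0, 4, 0, 4, 3, 4, 3, 4, 3]), (139, true, [4, 0, 4, 3, 4, 3, 1, 0, 1]), (271, true, [3, 4, 0, 4, 0, 4, 0, 4,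 0, 4, 0, 1]), (242, true, [4, 0, 4, 0, 1, 3, 1, 0, 1, 0, 4, 3, 1, 3]), (276, true, [4, 0, 1, 3, 1, 0, 1, 0, 1, 0, 4]), (108, true, [0, 1, 3, 4, 3, 1, 0, 1, 0, 1, 0, 4, 3, 4]), (259, false, [0, 2, 4, 0, 4, 3, 4, 3, 4, 3, 1, 0]), (262, true, [0, 1, 2, 0, 1, 0, 1, 3, 4, 3, 4, 0, 1, 0, 1, 3, 1]), (122, true, [2, 0, 1, 0, 4, 3, 1, 3, 1, 3, 1, 3]), (58, true, [2, 4, 0, 1, 3, 4, 3, 4, 3, 4, 0, 1, 3, 4]), (209, false, [1, 2, 0, 1, 3, 1, 3, 1, 0, 1, 0, 1, 3, 1, 0]), (70, false, [0, 4, 3, 4, 3, 1, 0, 1, 3, 1, 0, 1, 3]), (63, true, []), (209, true, [4, 3, 1, 3, 1, 0, 1, 0, 4, 3, 4, 0, 4]), (251, true, [3, 1, 0, 1, 0, 4, 0, 4, 3, 1, 3, 4, 0]), (98, false, [0, 1, 2, 0, 1, 3, 1, 3, 1, 3, 4, 3, 4, 3, 1, 0]), (255, true, [2, 0, 4, 0,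 4, 0, 4, 0, 4, 3, 1, 0]), (174, false, [1, 0, 1, 2, 0, 1, 0, 1, 0, 4, 3, 1, 3]), (271, true, [3, 4, 3, 4, 3, 4, 0, 1, 3, 1]), (187, false, [0, 1, 3, 1, 3, 4, 3, 4, 0, 1, 0, 1, 0, 1]), (255, true, [4, 3, 4, 3, 1, 0, 1, 0, 4, 0, 4, 0, 1, 3, 1]), (128, false, [1, 2, 0, 1, 3, 4, 0, 4, 3, 4, 3, 4, 0, 4, 0]), (196, true, [0, 4, 3, 1, 0, 1, 0, 1, 3, 1, 0, 1, 3, 1, 3]), (278, false, [0, 1, 3, 1, 0, 1, 3, 4, 0, 1, 3]), (235, true, [1, 3, 1, 3, 4, 3, 4, 0, 4, 3, 1, 3, 1, 3]), (122, true, [1, 0, 4, 3, 4, 3, 1, 0, 1, 3, 4, 0, 1, 0, 1, 3]), (112, false, [3, 1, 0, 1, 0, 1, 0, 4, 3, 4, 0, 1, 0]), (63, false, [0, 1, 3, 4, 3, 4, 0, 1, 3, 1, 3, 4]), (50, true, [4, 3, 4, 3, 4, 3, 4, 3, 1]), (262, true, [2, 4, 0, 4, 3, 4, 3, 4, 3, 4, 0,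 4]), (74, false, [1, 0, 4, 3, 1, 0, 1, 0, 1, 0, 1, 3]), (266, false, [2, 0, 4, 0, 1, 0, 1, 0, 1, 3, 1, 3, 1, 3]), (151, true, [1, 0, 1, 3, 1, 3, 4, 3, 4, 0, 4]), (242, true, [1, 0, 4, 3, 4, 3, 1, 0, 1, 3, 1, 0, 1, 3, 4, 3, 4]), (70, false, [1, 0, 2, 4, 0, 4, 0, 4, 0, 1, 3, 1, 0, 4, 3, 4]), (245, false, [0, 2, 4, 0, 1, 0, 1, 3, 1, 3, 1, 0, 4, 3]), (196, false, [4, 0, 4, 3, 1, 0, 1, 3, 4, 0, 1]), (240, true, [0, 4, 3, 1, 3, 4, 0, 1, 3, 1]), (232, true, [2, 4, 3, 1, 3, 1, 0, 4, 0]), (235, true, [1, 0, 1, 2, 0, 4, 0, 4, 3, 4, 3, 1, 0]), (103, true, [3, 1, 0, 4, 3, 4, 3, 4, 3, 1, 0, 4, 3, 4]), (255, true, [3, 4, 3, 4, 0, 4, 3, 4, 0, 4, 3, 4, 3, 4]), (263, false, [2, 4, 0, 1, 3, 4, 0, 4, 3, 4, 3, 4, 3]), (88, true, [2, 0,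 1, 0, 1, 0, 1, 3, 1, 3, 1, 3, 1, 3]), (88, true, [4, 0, 1, 3, 1, 3, 1, 0, 4, 3, 1, 3, 4, 0, 4, 0]), (164, false, [1, 2, 0, 1, 0, 1, 0, 4, 0, 4, 0, 4]), (179, false, [1, 0, 1, 2, 0, 1, 0, 4, 3, 1, 3, 1, 0, 1, 3]), (184, true, [0, 1, 3, 1, 0, 1, 0, 4, 3, 1, 3, 1]), (63, false, [3, 4, 0, 4, 0, 1, 3, 4, 0, 4, 3, 1, 3, 1, 0, 4]), (14, false, [4, 0, 1, 0, 1, 3, 1, 3, 1, 3, 4, 3]), (140, true, [4, 0, 1, 3, 4, 0, 4, 3, 1, 0, 4]), (251, true, [3, 4, 3, 1, 3, 1, 3, 4, 3, 4, 3, 4]), (128, false, [3, 4, 3, 4, 3, 1, 0, 1, 3, 1, 0, 1, 3, 4, 3, 4, 0]), (198, false, [0, 1, 3, 1, 3, 1, 3, 4, 0, 4, 3, 1, 0, 4, 0]), (228, true, [3, 1, 3, 1, 0, 1, 0, 4, 0, 4, 0, 4]), (124, true, [3, 1, 0, 4, 0, 4, 3, 1, 0, 4, 0]), (224, false, [0, 1, 3,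 1, 3, 4, 0, 4, 0, 1, 3, 1, 0, 4, 3, 1]), (58, true, [4, 0, 1, 0, 4, 3, 1, 0, 1, 3, 4, 3, 4, 0, 4]), (128, false, [0, 1, 0, 1, 0, 4, 3, 1, 0, 1, 0, 1, 0, 4, 3, 1]), (189, false, [1, 2, 0, 4, 0, 1, 3, 1, 0, 1, 3, 1, 0, 4, 0, 4, 0]), (21, false, [1, 0, 2, 4, 0, 1, 3, 1, 3, 4, 3, 4, 0]), (196, true, [0, 1, 0, 1, 0, 4, 3, 1, 0, 1, 0, 1, 3, 1])]
def r63 : List (ℕ × Bool × List ℕ) := [(90, false, [4, 0, 1, 3, 1, 3, 1, 0, 4, 3, 4, 3, 1, 0]), (30, true, [1, 0, 1, 0, 1, 0, 1, 2, 0, 1, 3, 4, 0, 1]), (253, true, [3, 4, 3, 4, 0, 4, 3, 4, 0, 1, 3, 1, 3, 1]), (71, false, [2, 4, 0, 1, 0, 1, 3, 1, 0, 1, 3, 4, 0, 4]), (269, true, [0, 1, 2, 0, 4, 3, 4, 0, 4, 0, 1, 3, 1, 3, 1, 3, 1]), (274, false, [3, 1, 0, 4, 3, 1, 3, 1, 0, 1, 3, 4, 3]),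 (134, true, [3, 1, 3, 1, 3, 1, 0, 1, 0, 1, 0, 1, 0]), (98, true, [0, 2, 4, 3, 4, 3, 1, 0, 4, 3, 4, 0, 1, 3, 4]), (196, true, [4, 0, 4, 3, 1, 0, 1, 3, 4, 0, 1]), (79, false, [0, 4, 3, 1, 0, 1, 0, 4]), (213, true, [2, 0, 1, 0, 1, 0, 1, 3, 4, 3, 4, 0, 1, 3, 4, 3]), (264, true, [2, 0, 1, 0, 1, 3, 4, 3, 1, 0, 1, 0]), (198, true, [1, 3, 4, 0, 1, 0, 1, 3, 1, 3, 1]), (190, false, [2, 0, 4, 3, 4, 3, 4, 3, 4, 0, 4, 0, 4, 0, 4]), (157, false, [2, 0, 1, 3, 1, 0, 1, 0, 1, 3, 4, 3, 4, 0, 4]), (80, true, [1, 0, 1, 3, 4, 3, 1, 0, 1, 3, 1, 3, 1, 0, 1]), (243, false, [2, 4, 0, 1, 3, 1, 3, 1, 0]), (268, false, [0, 2, 4, 3, 1, 3, 1, 0, 1, 0, 1, 0, 4, 0, 4, 0, 4]), (9, true, [1, 0, 4, 0, 4, 3, 1, 3, 4, 0, 1]), (63, false, [0, 1, 0, 2, 4,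 0, 4, 3, 1, 0, 1, 3, 4, 3]), (62, false, [0, 4, 3, 1, 3, 1, 0, 4, 3, 4, 3, 4, 0, 4, 3, 1]), (221, true, [2, 0, 1, 0, 1, 0, 1, 3, 1, 0, 4, 3, 4]), (98, true, [0, 4, 0, 4, 3, 4, 3, 4, 0, 4, 3, 4, 0, 1, 0, 1]), (122, true, [2, 4, 0, 1, 3, 4, 0, 4, 0, 4, 0, 4, 3, 1, 3, 1]), (21, false, [0, 2, 4, 0, 1, 3, 1, 3, 4, 0, 4, 3, 4, 0]), (102, false, [0, 1, 3, 4, 0, 1, 0, 1, 0, 4, 3]), (83, false, [0, 4, 3, 1, 0, 1, 0, 4, 0, 4, 3, 1, 0]), (196, true, [0, 2, 4, 0, 4, 3, 1, 3, 1, 0, 4, 3, 4, 0, 4]), (181, true, [0, 1, 3, 1, 3, 1, 0, 4, 0, 4, 3, 1, 3, 4]), (88, false, [4, 0, 1, 3, 1, 0, 1, 0]), (63, true, [0, 1, 0, 4, 3, 4, 0, 1, 0]), (21, false, [1, 3, 4, 3, 4, 3, 4, 0, 4, 3, 1]), (263, true, [4, 0, 4, 0, 4, 3, 1, 3, 1, 0, 4, 0, 4,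 3, 1, 3]), (235, true, [2, 4, 3, 1, 0, 4, 3, 4, 0, 1, 0, 1, 3, 4]), (237, false, [0, 4, 3, 1, 0, 1, 0, 1, 3, 1, 0, 1, 3, 1, 0]), (151, true, [3, 1, 0, 1, 0, 1, 0, 4, 0, 4, 0, 4, 3, 1, 0, 1]), (164, false, [0, 1, 3, 1, 0, 1, 3, 1, 0, 1, 0, 1]), (187, true, [0, 1, 3, 1, 3, 4, 3, 4, 0, 1, 0, 1, 0, 1]), (274, false, [0, 2, 4, 0, 1, 0, 1, 3, 1, 0]), (30, false, [3, 1, 0, 1, 3, 1, 0, 1, 3, 1, 3, 4, 3, 4]), (122, true, [0, 1, 3, 1, 0, 1, 3, 1, 3, 4, 3, 4, 0, 1, 3]), (71, false, [1, 0, 4, 0, 1, 3, 1, 3, 1, 0, 1, 0, 4, 0, 4]), (127, true, [0, 1, 2, 0, 1, 0, 4, 0, 4, 0, 1, 3, 1, 0, 1, 3]), (19, true, [3, 1, 3, 4, 0, 4, 3, 4, 0, 1, 0, 4]), (152, false, [2, 0, 4, 0, 4, 0, 1, 3, 1, 0, 4, 0, 4, 3, 1, 3, 1]), (152, false, [0, 1, 0,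 2, 4, 3, 4, 0, 1, 3, 4, 3, 4]), (253, false, [2, 0, 1, 0, 4, 3, 1, 3, 1, 3, 1, 0, 4, 0, 4, 3]), (190, true, [1, 0, 1, 3, 4, 3, 4, 3, 1, 0]), (151, true, [1, 2, 0, 4, 0, 1, 3, 1, 0, 4, 0, 4, 0, 1, 3, 1, 0, 1]), (263, true, [4, 3, 1, 3, 1, 3, 1, 0, 1, 0, 1, 0, 1]), (24, false, [0, 1, 3, 4, 0, 4, 0, 4, 3, 4, 3, 1, 3]), (90, false, [0, 1, 0, 2, 4, 0, 1, 0, 1, 0, 1, 0, 4, 0, 4]), (259, false, [2, 4, 0, 4, 0, 1, 3, 1, 0, 4, 0, 4, 3, 4, 3]), (253, true, [0, 2, 4, 0, 4, 0, 1, 3, 1, 0, 1, 0, 4, 3, 4, 0]), (127, true, [3, 4, 3, 1, 0, 1, 3, 1, 3, 4, 0, 1, 0, 4]), (63, false, [0, 1, 2, 0, 4, 3, 4, 0, 4, 3, 4, 0, 1, 3, 1]), (269, true, [4, 3, 4, 3, 1, 0, 4, 3, 4, 3, 4, 3]), (263, true, [2, 0, 1, 3, 1, 3, 4, 0, 4, 3, 4, 0, 4, 3, 1,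 3, 1, 0]), (17, false, [0, 1, 3, 1, 3, 1, 3, 1, 0, 4, 3, 4, 0]), (24, false, [1, 2, 0, 1, 3, 4, 0, 4, 0, 1, 0]), (241, true, [1, 3, 1, 3, 1, 0, 4, 3, 1, 3, 1, 3, 4]), (253, false, [0, 4, 0, 4, 3, 1, 0, 1, 0, 4, 0, 4, 3, 1, 3, 1]), (62, true, []), (181, true, [1, 0, 1, 0, 4, 3, 4, 0, 4, 3, 4, 3]), (241, true, [3, 1, 0, 1, 0, 1, 3, 4, 0, 4, 0]), (140, false, [1, 2, 0, 1, 0, 1, 3, 4, 3, 4, 0, 1, 3, 1, 0, 1]), (198, true, [4, 0, 1, 3, 1, 0, 4, 3, 4, 3, 4, 0]), (96, false, [2, 0, 4, 0, 1, 3, 4, 3, 1, 0, 1, 3, 4, 0, 1, 3]), (74, true, [1, 0, 1, 3, 1, 3, 4, 0, 4, 3]), (62, true, [1, 2, 0, 1, 0, 1, 3, 4, 0, 4, 0, 4]), (253, false, [4, 0, 1, 0, 4, 3, 1, 3, 1, 0, 4, 0]), (144, true, [3, 1, 3, 1, 3, 1, 0, 4, 3, 4]), (63, true,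 [3, 4, 3, 1, 0, 1, 3, 4, 3]), (152, false, [3, 4, 0, 4, 3, 4, 0, 4, 3, 1, 3, 1, 0]), (235, true, [0, 4, 3, 4, 3, 1, 0, 4, 0]), (133, false, [1, 0, 1, 2, 0, 4, 3]), (112, true, [1, 0, 1, 3, 1, 0, 1, 0, 1, 3, 1, 3, 4, 3]), (62, false, [0, 1, 3, 4, 3, 4, 0, 1, 3, 1, 3, 4]), (96, false, [3, 4, 0, 4, 3, 4, 0, 1, 0, 1, 3, 1, 0, 1]), (268, false, [0, 4, 0, 4, 3, 1, 3, 1, 3, 1, 0, 1, 3]), (264, false, [3, 1, 3, 4, 0, 4, 3, 1, 0]), (139, true, [3, 1, 0, 1, 0, 1, 3, 1, 3, 4]), (112, true, [1, 0, 2, 4, 3, 1, 0, 4, 3, 4, 3, 4, 3, 1]), (190, true, [0, 1, 2, 0, 1, 3, 1, 0, 4, 0, 4, 0, 1, 3]), (198, true, [0, 4, 3, 1, 0, 4, 0, 4, 0, 4, 3, 1, 0]), (213, true, [1, 3, 4, 0, 1, 3, 1, 0, 1, 0, 1, 3, 4, 0, 4, 3]), (63, false, [0, 1, 0, 2,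 4, 0, 4, 3, 1, 0, 1, 3, 4, 3]), (259, false, [1, 2, 0, 1, 0, 1, 0, 1, 0, 1, 3, 1, 3, 1, 0]), (212, false, [0, 1, 0, 1, 2, 0, 1, 0, 1, 3, 1, 3, 1, 3]), (221, true, [1, 3, 1, 0, 4, 3, 4, 0, 4, 3, 4, 0, 1, 0, 1, 3]), (120, false, [1, 2, 0, 1, 0, 1, 3, 1, 0, 1, 0, 4]), (152, false, [0, 1, 0, 1, 0, 1, 3, 4, 0, 4, 3, 4, 0, 4, 0, 4]), (263, true, [1, 0, 1, 0, 2, 4, 3, 4, 0, 1, 3, 1, 0, 4, 0]), (198, true, [4, 3, 1, 3, 1, 3, 1, 0, 1]), (253, false, [1, 0, 2, 4, 0, 4, 0, 1, 3, 4, 3, 1]), (63, false, [0, 1, 3, 1, 0, 1, 3, 1, 3, 4, 0, 4, 3, 4]), (80, true, [2, 4, 0, 4, 0, 1, 3, 4, 0, 4, 0, 1, 3]), (181, true, [0, 1, 0, 1, 2, 0, 1, 0, 1, 0, 4, 0, 4, 0, 4, 0, 1, 3]), (187, false, [4, 3, 1, 0, 1, 0, 4, 0, 4, 3, 1, 0, 1, 0]), (142,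 true, [0, 4, 0, 4, 0, 1, 3, 4, 0, 4, 0]), (164, false, [1, 2, 0, 1, 3, 4, 0, 1, 0, 1, 3, 4, 0, 1, 3]), (181, true, [2, 4, 0, 4, 3, 1, 3, 4, 0, 4, 0, 4, 3, 4, 3]), (108, true, [1, 0, 4, 3, 4, 3, 1, 3]), (212, false, [0, 1, 3, 1, 0, 4, 0, 4, 3]), (243, false, [4, 0, 4, 0, 4, 3, 4, 3, 4, 0, 1, 3, 1, 3]), (190, false, [1, 3, 1, 3, 1, 3, 1, 3, 1, 3, 1, 3, 1]), (237, false, [2, 4, 0, 4, 3, 4, 3, 4, 0, 4, 0, 4, 3, 1, 0, 4]), (19, true, [2, 0, 4, 0, 4, 3, 1, 0, 1, 3, 1, 3, 4]), (88, false, [1, 2, 0, 1, 0, 1, 0, 4, 0, 4, 3, 1, 0, 1, 3, 4, 0]), (156, true, [2, 4, 0, 1, 3, 4, 3, 1, 0]), (157, true, [1, 0, 4, 0, 1, 3, 4, 3, 4, 0, 4, 3, 1, 3]), (187, false, [1, 0, 2, 4, 0, 1, 3, 4, 3, 4, 3, 4, 0])]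
def r64 : List (ℕ × Bool × List ℕ) := [(270, false, [2, 0, 4, 0, 4, 0, 4, 3, 4, 0, 4, 3]), (92, true, [3, 4, 0, 4, 3, 4, 0, 1]), (56, true, [0, 4, 0, 4, 0, 1, 3, 1, 3, 4, 0, 4, 0, 4, 0, 4]), (57, false, [2, 0, 1, 0, 1, 0, 4, 3, 4, 0, 4, 0, 4, 3]), (29, false, [1, 2, 0, 1, 0, 4, 0]), (277, false, [0, 1, 2, 0, 4, 0, 4, 3, 1, 3, 1, 3, 4]), (55, true, [0, 2, 4, 3, 4, 3, 4, 0, 1, 3, 1]), (46, false, [2, 4, 0, 1, 0, 1, 3, 1, 3, 1, 0, 4, 3, 1, 0]), (16, true, [1, 3, 1, 3, 4, 3, 4, 0, 1, 3, 1, 3, 4]), (92, false, [1, 0, 1, 0, 2, 4, 0, 1, 0, 4, 3, 4, 0, 1, 0]), (246, false, [3, 1, 0, 4, 0, 4, 3, 4, 0, 4, 3, 1, 3, 1]), (123, true, [1, 0, 1, 2, 0, 4, 0, 1, 3, 4, 3, 4, 0, 4]), (46, false, [2, 0, 4, 3, 1, 0, 1, 3, 1, 3, 1, 0, 1,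 3]), (234, false, [3, 4, 0, 4, 3, 4, 3, 4, 3, 1, 3]), (115, false, [0, 1, 0, 2, 4, 0, 4, 0, 4, 0, 4, 3, 4, 3]), (178, false, [0, 1, 2, 0, 4, 3, 1, 0, 1, 3, 1, 3, 1, 0, 4, 0]), (49, true, [2, 4, 0, 4, 0, 1, 3, 1, 3, 4, 3, 4, 0, 4, 0]), (170, true, [1, 0, 2, 4, 3, 1, 0, 1, 0, 4, 3, 1, 3, 4]), (220, false, [0, 1, 0, 1, 0, 1, 0, 1, 2, 0, 1, 0, 1, 3, 4, 0, 1, 0]), (127, false, [2, 0, 4, 0, 1, 3, 1, 3, 1, 0, 4, 3, 1, 0]), (73, true, [0, 4, 3, 1, 3, 4, 0, 1, 0, 1, 3, 1, 0, 4, 0, 1]), (110, false, [1, 2, 0, 1, 3, 1, 3, 1, 3, 4, 3, 4, 3, 4, 0, 4, 3]), (218, true, [2, 0, 1, 0, 1, 0, 1, 0, 4, 0, 4, 0, 4, 3]), (195, true, [0, 1, 3, 1, 0, 1, 0, 4, 0, 4, 0, 1]), (141, true, [2, 0, 1, 3, 1, 0, 1, 0, 1, 0, 1, 3, 1, 3, 1, 0]), (158,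 true, [1, 2, 0, 4, 3, 1, 3, 1, 3, 4, 0, 1, 0, 1, 3]), (91, true, [0, 2, 4, 0, 4, 3, 4, 0, 1, 0, 1, 3, 1, 0, 1]), (5, true, [1, 2, 0, 1, 0, 4, 3, 1, 3, 1, 3, 1, 0, 1]), (182, true, [0, 4, 0, 1, 3, 1, 0, 1, 0, 4, 3, 1, 3, 4]), (64, true, []), (261, true, [2, 0, 1, 0, 1, 3, 4, 0, 4, 0, 4, 3, 4]), (172, false, [0, 4, 3, 4, 3, 1, 0, 1, 0, 1, 0, 1, 3, 4]), (248, false, [1, 2, 0, 1, 0, 1, 3, 1]), (176, false, [2, 4, 0, 1, 0, 1, 0, 1, 0, 4, 3, 1]), (263, false, [4, 3, 4, 3, 4, 0, 4, 0, 1, 3, 1, 3, 1]), (86, false, [0, 1, 2, 0, 4, 3, 4, 3, 4, 0, 4, 3, 4, 0, 4, 3, 4, 3, 4]), (178, true, [0, 4, 0, 4, 0, 4, 3, 1, 3, 4, 0, 4, 3, 1]), (22, false, [1, 3, 1, 0, 1, 3, 4, 0, 4, 0, 4, 3, 4]), (268, false, [0, 4, 3, 1, 0, 1, 3, 4, 3, 4,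 0, 4, 0, 1]), (279, true, [1, 3, 1, 3, 1, 0, 1, 0, 1, 0, 1, 0]), (113, true, [1, 3, 1, 0, 1, 3, 4, 3, 4, 3, 4, 0, 1, 3]), (172, true, [3, 1, 0, 1, 0, 1, 3, 4, 0, 4, 0, 1, 3]), (29, true, [3, 1, 0, 4, 3, 4, 3, 4, 3, 4, 0, 1]), (28, true, [2, 4, 0, 4, 3, 4, 0, 4, 3, 4, 3, 4, 0, 4]), (216, false, [1, 0, 1, 0, 1, 0, 4, 3, 1, 3, 1, 0, 1, 3, 4, 3]), (69, false, [0, 1, 0, 1, 3, 4, 0, 4, 3, 4, 0, 4, 0]), (262, false, [2, 4, 0, 1, 3, 1, 3, 4, 3, 4, 3]), (35, true, [1, 0, 4, 3, 4, 3, 4, 0, 4, 3, 4, 0, 1, 0]), (170, false, [2, 0, 1, 0, 4, 3, 1, 3, 4, 0, 4, 3, 4, 3, 4, 0]), (69, false, [0, 1, 0, 1, 3, 4, 0, 4, 3, 4, 0, 4, 0]), (46, false, [2, 4, 0, 4, 0, 4, 3, 1, 3, 1, 3, 4]), (126, true, [1, 3, 4, 0, 1, 3, 1, 3, 4, 0, 1, 3]), (187,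 false, [3, 1, 3, 1, 0, 4, 0, 4, 3, 1, 3, 1, 0, 4, 3]), (214, false, [1, 0, 4, 0, 4, 0, 4, 3, 1, 0, 1, 3, 1, 3, 4]), (109, true, [0, 1, 2, 0, 1, 3, 4, 3]), (155, true, [2, 0, 4, 0, 1, 3, 4, 0, 4, 3, 4, 3, 4, 0, 1]), (12, false, [4, 0, 4, 0, 4, 3, 4, 0, 4, 3, 1]), (193, true, [1, 0, 1, 3, 1, 0, 4, 0, 4, 0, 1, 3]), (113, false, [4, 3, 4, 3, 4, 0, 4, 0, 1, 3, 4, 3, 4, 3]), (235, false, [0, 1, 0, 1, 0, 1, 2, 0, 1, 0, 1, 0, 1, 3, 1, 3, 4, 0]), (86, true, [4, 0, 4, 0, 4, 3]), (192, true, [3, 1, 3, 1, 0, 4, 3, 1, 3, 1, 0, 1, 3]), (59, false, [0, 1, 0, 4, 0, 4, 3, 1, 0, 1, 0, 4, 0]), (65, false, [2, 0, 4, 0, 1, 3, 1, 3, 1, 0]), (82, false, [4, 0, 4, 3, 1, 0, 1, 0, 1, 0, 4, 3, 4]), (183, false, [0, 4, 3, 4, 0, 4, 3, 1, 3, 1, 0,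 1, 3, 1]), (85, true, [2, 0, 4, 0, 1, 3, 1, 3, 1, 0, 4, 3, 1, 0]), (194, true, [1, 0, 1, 0, 2, 4, 3, 4, 0, 1, 0, 1, 0, 4, 0]), (81, false, [1, 0, 4, 3, 4, 0, 4, 3, 4, 3, 4]), (73, true, [1, 0, 2, 4, 3, 4, 0, 1, 3, 1, 3, 1, 0, 1]), (20, false, [0, 1, 3, 4, 3, 4, 3, 4, 0, 1, 3, 1, 3, 4, 3]), (166, false, [4, 3, 4, 0, 4, 3, 4]), (124, true, [0, 2, 4, 3, 4, 0, 1, 3, 1, 0, 1, 3, 1, 3, 4, 3, 4, 0]), (151, true, [1, 0, 1, 0, 1, 0, 1, 0, 1, 2, 0, 4, 0, 4, 3, 4, 3]), (197, true, [0, 1, 0, 1, 0, 1, 3, 1, 0, 1, 0]), (40, true, [2, 0, 1, 0, 1, 0, 1, 0, 4, 0, 4, 0, 1]), (171, false, [1, 2, 0, 1, 0, 1, 3, 4, 0, 4, 3, 4, 0, 4]), (64, true, []), (87, false, []), (179, true, [1, 2, 0, 4, 3, 4, 0, 1, 3, 1, 0, 4, 0, 4, 0, 4]), (132, true,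 [3, 1, 0, 1, 3, 1, 0, 1, 0, 4, 3]), (58, false, [1, 0, 1, 0, 1, 0, 4, 3, 4, 0, 4, 0, 4, 0, 1, 0]), (149, false, [4, 0, 1, 0, 1, 3, 4, 3, 1, 0, 1, 3, 1]), (43, true, [3, 4, 3, 1, 0, 1, 0, 1, 3, 4, 0, 4, 0, 1, 0]), (141, true, [1, 2, 0, 1, 0, 4, 3, 1, 0, 1, 0, 4, 0, 4, 3, 4, 0]), (200, true, [0, 2, 4, 0, 4, 3, 1, 0, 1, 0, 4, 0, 4, 3, 4, 3, 4, 0]), (64, false, [0, 1, 0, 1, 2, 0, 1, 3, 1, 0, 1, 3, 1, 0, 1, 0]), (125, false, [4, 3, 1, 3, 4, 0, 1, 3, 1, 3]), (95, true, [4, 0, 4, 0, 4, 3, 1, 3, 4, 0]), (67, false, [2, 0, 1, 0, 4, 0, 4, 3, 1, 0, 4, 0, 4, 3, 4]), (125, false, [1, 0, 1, 0, 4, 3, 4, 0]), (41, true, [0, 1, 3, 4, 3]), (246, false, [2, 4, 3, 4, 0, 4, 0, 4, 3, 1, 3, 4]), (269, true, [2, 0, 4, 3, 4, 3, 4, 3, 1, 0, 1,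 3, 4, 0, 4, 0]), (67, true, [0, 4, 0, 1, 3, 1, 3, 1, 0, 4, 3, 1, 0]), (215, false, [2, 0, 1, 0, 4, 3, 1, 0, 1, 0, 4, 3, 1, 3]), (90, false, [1, 2, 0, 1, 0, 4, 0, 4, 0, 4, 3, 4, 3, 4, 3, 1, 3]), (205, true, [2, 0, 4, 3, 1, 0, 4, 3, 4, 0, 4, 0, 4, 3]), (15, true, [0, 4, 0, 1, 3, 1, 0, 4, 0, 4, 0, 1, 0]), (3, true, [0, 4, 3, 4, 0, 4, 3, 1, 3, 1, 0, 4, 0]), (111, true, [1, 0, 1, 2, 0, 1, 0, 1, 3, 1, 3, 1, 0, 4, 0, 1]), (226, true, [0, 4, 3, 4, 0, 4, 3, 4, 0, 4, 0, 1, 3, 4]), (192, true, [0, 2, 4, 0, 4, 3, 1, 3, 4, 0, 4, 3, 1, 0, 1, 3]), (153, true, [1, 0, 4, 0, 4, 3, 1, 0, 1, 0, 4, 0, 4, 0, 1]), (183, true, [0, 1, 2, 0, 4, 0, 1, 3, 1, 3, 1, 0, 1, 3, 4, 3]), (182, false, [0, 4, 3, 4, 3, 1, 0, 1, 0, 1, 0, 1, 3, 4]), (214,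 true, [0, 2, 4, 0, 4, 3, 4, 3, 1, 0, 4, 3, 4, 3]), (226, true, [0, 4, 3, 1, 0, 4, 3, 4, 3, 4, 3, 4, 0, 1, 0, 4]), (180, true, [1, 3, 4, 3, 1, 0, 1, 3]), (178, false, [0, 1, 3, 4, 0, 4, 3, 1, 0, 1, 0, 1, 3, 1, 3, 1]), (38, true, [0, 4, 3, 4, 3, 4, 0, 1, 3, 1, 3, 1, 0, 4]), (150, true, [1, 0, 1, 0, 4, 0, 4, 3, 1, 0, 1, 3, 4, 3, 4])]
def r65 : List (ℕ × Bool × List ℕ) := [(218, false, [3, 4, 0, 4, 0, 1, 3]), (118, true, [3, 1, 0, 1, 3, 4, 0, 4, 0, 4, 0, 1]), (197, false, [1, 0, 1, 0, 1, 3, 1, 3, 1, 0, 1, 0, 1, 3, 4, 3]), (23, false, [0, 1, 0, 1, 2, 0, 4, 0, 4, 3, 1, 3, 1, 3]), (42, true, [1, 0, 1, 3, 1, 3, 4]), (234, false, [1, 3, 1, 0, 1, 0, 1, 3, 4, 0, 1, 0, 1, 3]), (233, true, [1, 0, 4, 3, 4, 0, 1, 0, 1, 0, 4, 3, 4,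 0, 4]), (210, false, [2, 0, 1, 0, 4, 3, 4, 3, 4, 0, 1, 3, 4]), (183, false, [4, 0, 1, 0, 4, 3, 4, 0, 4, 0, 1, 3, 4, 3, 1]), (111, true, [3, 1, 0, 1, 3, 4, 3, 1]), (260, true, [1, 2, 0, 1, 0, 1, 3, 1, 0, 1, 3, 4, 3]), (77, true, [0, 1, 0, 2, 4, 0, 1, 0, 1, 0, 4, 3, 1, 0, 1]), (125, false, [1, 3, 1, 3, 1, 3, 4, 3, 4, 0, 4, 0, 4]), (225, false, [2, 4, 3, 1, 3, 4, 0, 4, 3, 4, 3, 4, 3]), (218, false, [0, 1, 3, 1, 0, 1, 3, 1, 0, 1, 0, 1, 3, 1, 0]), (214, true, [1, 0, 4, 0, 4, 3, 4, 3, 4, 0, 4, 0, 4, 3]), (273, true, [2, 4, 0, 1, 3, 1, 3, 4, 3, 4, 3, 1, 0, 1, 0]), (65, false, [0, 1, 0, 4, 0, 4, 3, 4, 0, 1, 3, 1]), (103, true, [4, 0, 4, 3, 4, 0, 4, 0, 1, 3, 4, 3, 4]), (261, false, [2, 0, 4, 0, 4, 0, 4, 3, 4, 0, 1, 3, 4, 0]),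 (73, false, [1, 0, 1, 0, 1, 3, 4, 0, 4, 0, 4]), (141, true, [2, 4, 3, 1, 3, 1, 3, 1, 3, 1, 3, 4, 3, 4, 0, 1]), (233, true, [2, 0, 4, 0, 1, 0, 1, 3, 4, 3, 4, 0, 4]), (137, false, [0, 2, 4, 3, 4, 3, 4, 3, 4, 0, 4, 0, 4, 0, 4]), (191, false, [1, 3, 4, 3, 4, 0, 1, 3, 1, 3, 4, 0]), (43, true, [0, 1, 2, 0, 4, 0, 1, 3, 1, 0, 4, 0, 4, 0, 1, 0]), (98, true, [1, 0, 1, 0, 1, 2, 0, 4, 0, 1, 3, 4, 0, 4, 0, 4, 3, 4]), (181, false, [0, 1, 0, 1, 0, 2, 4, 3, 4, 3, 1, 0]), (155, true, [1, 0, 4, 3, 4, 0, 1, 3, 4, 0]), (248, true, [1, 0, 4, 0, 4, 3, 1, 3, 1, 0, 4, 0, 1]), (189, true, [0, 1, 3, 4, 3, 4, 3, 1, 0, 1, 0, 1, 0, 4, 3, 4]), (199, false, [0, 1, 0, 4, 3, 1, 0, 1, 0, 4, 0, 4, 3, 1]), (258, false, [1, 0, 4, 0, 4, 0, 1, 3, 1, 0, 4,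 0, 4, 0]), (241, false, [0, 4, 0, 4, 0, 4, 0, 1, 3, 1, 0, 4]), (88, true, [1, 0, 2, 4, 3, 1, 0, 1, 0, 4, 3, 4, 0, 1, 0, 1]), (75, true, [0, 1, 3, 4, 3, 1, 0, 1, 3, 4, 3, 4, 3, 1]), (178, true, [0, 1, 3, 4, 0, 4, 3, 4, 3, 4, 3, 1, 0]), (136, false, [0, 4, 3, 1, 0, 1, 3, 4, 3, 4, 3, 1, 0]), (199, true, [4, 0, 4, 3, 4, 0, 1, 0, 1, 0, 4, 3, 4, 0, 4, 3]), (65, true, []), (114, false, [0, 4, 0, 4, 0, 4, 0, 1, 3, 4, 3]), (257, true, [1, 2, 0, 1, 0, 1, 3, 4, 0, 4, 0, 1]), (276, true, [1, 3, 4, 3, 4, 3, 4, 0, 4, 3, 4, 0]), (217, true, [4, 3, 1, 0, 1, 3, 4, 0, 1, 3, 1, 3]), (109, true, [0, 1, 3, 1, 0, 4, 3, 4, 3, 4, 3, 4, 0, 1, 0]), (260, false, [2, 4, 3, 4, 0, 4, 3, 4, 3, 4, 0, 1]), (224, false, [3, 1, 0, 4, 3, 1, 0, 1, 3, 4,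 3, 1, 0, 4]), (35, false, [0, 1, 3, 1, 0, 1, 3, 4, 0, 4, 0, 4]), (155, true, [4, 3, 1, 0]), (180, false, [1, 0, 2, 4, 0, 4, 3, 4, 0, 1, 0, 1]), (176, false, [0, 1, 0, 1, 0, 1, 0, 4, 0, 4, 3, 4, 0, 1]), (199, false, [1, 0, 1, 0, 2, 4, 0, 4, 0, 4, 3, 4, 0, 1, 0, 1]), (66, true, [0, 1, 3, 1, 0, 4, 0, 4, 3, 1, 0, 1, 0, 1]), (260, false, [1, 2, 0, 1, 0, 1, 3, 4, 0, 4, 0, 4, 3, 4, 3, 4]), (95, false, [0, 4, 0, 4, 3, 4, 3, 4, 3, 1, 0, 1, 0, 4, 3]), (90, false, [0, 1, 0, 1, 3, 1, 3, 4, 3, 4, 0, 1, 3, 1]), (112, true, [0, 1, 3, 4, 0, 1, 0, 1, 0, 4, 3, 1, 0, 1]), (136, false, [2, 4, 3, 4, 3, 1, 0, 4, 3, 4, 3]), (22, true, [0, 2, 4, 3, 1, 0, 1, 3, 1, 0, 1, 3, 4, 3, 4, 3]), (154, true, [3, 4, 0, 1, 0, 1, 0, 4, 3, 4, 0, 1, 3]), (90,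 true, [3, 1, 0, 1, 0, 4, 0, 4, 0, 4, 3, 4, 0, 1, 3, 1]), (266, false, [0, 2, 4, 3, 4, 0, 1, 3, 4, 0]), (65, false, [1, 3, 4, 3, 4, 0, 1, 3, 1, 3, 4, 0]), (148, true, [3, 1, 3, 1, 3, 4, 3, 4, 0, 4, 0, 4, 0, 4]), (211, false, [0, 2, 4, 0, 1, 3, 4, 0, 4, 0, 4, 3]), (86, false, [0, 2, 4, 0, 1, 0, 1, 3, 4, 0, 4, 0, 4, 3, 4, 0, 1]), (249, false, [1, 2, 0, 1, 0, 1, 3, 4, 0, 4, 0, 4, 3, 4, 3]), (118, true, [0, 1, 0, 1, 3, 4, 0, 4, 0, 4, 0, 1, 0]), (232, true, [1, 0, 1, 3, 4, 0, 4, 3, 4, 3, 1, 0, 1, 0]), (92, false, [0, 1, 0, 4, 3, 4, 3, 4, 0, 4, 0, 1, 3, 1, 3, 4]), (124, true, [2, 4, 3, 4, 3, 1, 0, 1, 3, 4, 3, 4, 3, 1, 0, 4]), (151, false, [1, 2, 0, 4, 0, 4, 3, 1, 3, 1, 0]), (128, true, [4, 0, 1, 3, 4, 0, 4, 3, 1, 3, 4, 0, 4,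 0]), (86, true, [0, 2, 4, 0, 4, 0, 4, 0, 4, 0, 4, 3]), (270, false, [1, 0, 1, 2, 0, 1, 3, 4, 3, 4, 3, 1, 0, 4, 0, 4, 3]), (133, true, [0, 1, 3, 4, 0, 4, 0, 4, 0, 1, 3, 1, 3]), (254, false, [1, 0, 4, 0, 4, 0, 4, 3, 4, 0, 4, 3, 4]), (65, true, []), (50, false, [0, 1, 0, 4, 3, 1, 3, 4, 0, 4, 0]), (69, false, [4, 0, 1, 3, 4, 0, 4, 3, 1, 3, 1, 0, 1]), (122, true, [2, 4, 0, 1, 3, 1, 3, 1, 0, 4, 3, 4, 0, 1]), (209, true, [1, 3, 1, 0, 4, 0, 4, 3, 4]), (170, true, [0, 2, 4, 3, 1, 3, 1, 0, 1, 0, 1, 0, 1, 3, 1, 3, 1]), (152, true, [1, 3, 1, 3, 4, 0, 4, 3, 4, 0, 4, 0]), (170, false, [0, 1, 0, 4, 0, 4, 3, 4, 0, 1, 0, 1, 3]), (137, false, [0, 2, 4, 0, 1, 3, 1, 3, 1, 0, 4, 3]), (172, false, [3, 4, 0, 1, 3, 1, 0, 1, 0, 1, 3]), (262,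 true, [4, 0, 4, 0, 1, 3, 4, 3, 4, 3, 1, 0, 4, 0]), (251, false, [0, 4, 0, 1, 3, 4, 0, 4, 0, 4, 0, 4, 3, 1, 0]), (237, true, [0, 1, 0, 1, 2, 0, 4, 0, 4, 3, 1, 3, 4, 0, 1]), (201, false, [2, 0, 4, 3, 1, 0, 4, 0, 4]), (137, false, [2, 0, 1, 0, 1, 0, 4, 3, 4, 0, 4, 0, 4, 3, 1]), (269, false, [2, 0, 4, 3, 1, 3, 1, 3, 4, 0, 4, 3, 1, 3, 1, 0]), (111, false, [1, 0, 1, 3, 4, 0, 4, 0, 4, 3, 4, 3, 1]), (145, false, [1, 0, 1, 3, 1, 0, 1, 0, 4, 0, 4, 3, 1, 0, 1]), (222, false, [0, 1, 3, 4, 3, 4, 3, 1, 0, 4, 0, 1]), (236, false, [2, 4, 3, 1, 3, 1, 3, 4, 0, 1, 3]), (111, true, [0, 1, 3, 4, 3, 4, 0, 1, 3, 4, 3, 4, 0, 4]), (254, true, [0, 1, 3, 1, 3, 1, 0, 1, 0, 1, 0, 4, 0, 4, 3, 1]), (180, false, [2, 0, 1, 0, 1, 0, 1, 3, 1, 0, 4, 0,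 4, 0, 4, 3, 1]), (250, false, [0, 1, 0, 1, 0, 1, 2, 0, 1, 0, 4]), (65, false, [0, 4, 3, 1, 3, 1, 0, 1, 3, 4, 0, 4, 0]), (111, true, [0, 2, 4, 0, 1, 0, 1, 0, 4, 3, 1, 0, 1, 0, 4, 3, 4]), (67, false, [3, 4, 3, 4, 0, 4, 3, 4, 0, 4, 0, 4, 3, 1, 0]), (270, true, [2, 4, 3, 1, 3, 1, 3, 4, 0, 1, 0, 1, 3, 4]), (184, true, [1, 0, 2, 4, 3, 4, 3, 4, 0, 1, 3, 4, 3, 1]), (64, false, [2, 0, 4, 3, 4, 3, 4, 0, 1, 0]), (77, true, [0, 1, 2, 0, 4, 3, 1, 0, 1, 0, 4, 0, 4, 3, 1]), (106, true, [4, 0, 4, 3, 4, 0, 4, 0, 1, 3, 4]), (171, true, [3, 1, 3, 4, 0, 4, 3, 4, 0, 4, 0, 4]), (261, false, [0, 1, 0, 4, 3, 4, 3, 1, 0, 1, 0, 1, 0, 1, 3, 4, 0]), (73, true, [2, 4, 3, 4, 3, 4, 0, 4, 3, 4, 0, 1, 0, 1])]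
def r66 : List (ℕ × Bool × List ℕ) := [(90, true, [0, 4, 0, 4, 0, 1, 3, 1, 0, 4, 0, 4, 3, 1]), (23, true, [4, 3, 1, 0, 1, 3, 1, 3, 4, 0, 1, 0, 4]), (112, false, [1, 0, 2, 4, 3, 4, 3, 4, 0, 4, 3, 4, 0, 1]), (260, false, [1, 3, 1, 3, 1, 3, 1, 0, 1, 0, 1]), (90, false, [4, 0, 1, 3, 4, 0, 4, 0, 4, 3, 4]), (210, false, [4, 0, 4, 3, 4, 3, 1, 0, 4, 3, 4, 0, 4, 3]), (274, false, [2, 4, 3, 4, 3, 1, 0, 4, 3, 4, 0, 1, 3, 1]), (132, true, [3, 1, 0, 4, 0, 1]), (85, false, [0, 4, 3, 1, 3, 4, 0, 1, 3, 1, 3, 1, 0, 1, 3]), (194, false, [2, 4, 0, 4, 0, 1, 3, 4, 0, 4, 3, 1, 3, 1, 0]), (260, false, [1, 2, 0, 4, 0, 4, 3, 4, 0, 4, 3, 4, 3]), (112, true, [2, 4, 0, 1, 0, 1, 0, 4, 3, 4, 0, 1, 0, 1, 0, 4, 0]), (122, false, [2, 4, 3, 4, 0, 1,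 0, 1, 3, 1, 0, 1, 3, 4]), (242, true, [0, 4, 3, 1, 0, 1, 3, 1, 3, 1, 0, 1, 3]), (199, false, [0, 4, 3, 4, 3, 4, 0, 4, 0, 1, 3, 4, 3, 4, 3, 4]), (277, true, [1, 0, 1, 3, 4, 3, 4, 0, 4, 0, 4, 3, 4]), (277, true, [4, 0, 1, 3, 1, 3, 4, 0, 4, 3, 4, 0, 4]), (46, true, [2, 0, 4, 0, 1, 0, 1, 0, 1, 3, 1, 0, 4, 3]), (199, true, [0, 1, 0, 2, 4, 3, 4, 0, 4, 0, 4, 3, 4, 0, 1]), (67, false, [1, 0, 1, 2, 0, 1, 0, 1, 0, 1, 3, 4, 3, 1, 0, 4]), (273, true, [0, 1, 3, 1, 3, 4, 0, 4, 0, 1, 3, 1, 0, 4, 0, 4]), (171, true, [0, 1, 0, 1, 3, 1, 3, 4, 0, 4, 0, 4, 0, 4, 3, 4]), (251, false, [0, 4, 3, 4, 3, 1, 0, 1, 3, 1, 0, 1, 0, 1, 3, 1]), (227, true, [4, 0, 4, 0, 4, 3, 4, 3, 4, 0]), (190, false, [0, 1, 3, 1, 0, 4, 3, 1, 3, 1, 0, 4, 3, 1]), (66,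 false, [0, 4, 0, 4, 3, 4, 0, 4, 3, 4, 0, 1, 0]), (83, true, [1, 0, 2, 4, 3, 4, 0, 4, 0, 4, 3]), (73, true, [1, 0, 2, 4, 0, 1, 3, 1, 3, 4, 3, 4, 3, 1]), (111, false, [0, 1, 0, 1, 3, 4, 0, 1, 0, 1, 0, 1, 3, 4, 3, 4, 3, 1]), (155, true, [0, 2, 4, 0, 4, 3, 4, 3, 4, 0, 1, 3, 1, 3, 1]), (70, false, [0, 4, 0, 1, 3, 1, 0, 1, 0, 1, 3, 4]), (210, true, [4, 3, 1, 3, 4, 0, 1, 3, 1, 3, 4, 0, 4, 3]), (61, true, [0, 2, 4, 3, 1, 0, 1, 3, 4, 3, 4, 3, 1, 0]), (61, true, [4, 3, 1, 0, 4, 0, 4, 0, 4, 3, 1, 0, 1, 3, 4]), (66, false, [3, 1, 3, 1, 3, 4, 0, 1, 0, 1, 3, 4]), (57, true, [2, 0, 1, 0, 4, 3, 4, 0, 4, 0, 1, 3, 1, 0]), (154, true, [1, 2, 0, 1, 3, 1, 3, 1, 3, 1, 0, 1, 0, 4]), (277, true, [3, 4, 0, 4, 3, 4, 0, 4, 0, 4, 3, 4, 0, 1, 3,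 1]), (148, true, [4, 3, 4, 0, 4, 3, 1, 0, 1, 0, 4, 0]), (95, false, [4, 0, 1, 0, 1, 3, 1, 0, 1, 3, 1, 0, 1, 0, 1, 3, 4]), (22, true, [4, 3, 1, 3, 4, 0, 4, 3, 1, 0, 1, 0, 4, 0]), (237, false, [3, 4, 0, 4, 3, 1, 0, 4, 0, 4, 3, 1, 3]), (276, false, [1, 0, 1, 0, 1, 3, 4, 0, 1, 0, 1, 0, 4, 3]), (205, false, [1, 3, 4, 3, 4, 0, 1, 3, 1, 3, 1, 3, 4, 0]), (262, false, [1, 2, 0, 1, 3, 1, 0, 1, 0, 4, 0, 4, 0, 4, 0, 1]), (110, true, [0, 1, 0, 2, 4, 0, 4, 3, 4, 3, 1, 0]), (263, true, [1, 0, 4, 0, 1, 3, 1, 3, 4, 0, 1, 0, 1, 3, 4, 3]), (201, false, [0, 1, 0, 1, 3, 1, 0, 4, 0, 1]), (272, false, [4, 0, 1, 3, 4, 3, 4, 3, 1, 0, 1, 3]), (65, true, [1, 3, 1, 0, 4, 0, 4, 3, 1, 0, 1, 0, 1, 3]), (85, false, [1, 2, 0, 1, 3, 4, 0, 4, 3, 1, 3,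 1, 0, 1, 0, 1, 0]), (199, false, [0, 2, 4, 0, 4, 0, 4, 0, 4, 3, 1, 3, 1, 0]), (254, false, [3, 1, 3, 1, 0, 4, 3, 4, 3, 4, 0]), (154, true, [1, 0, 4, 3, 1, 0, 1, 0, 1, 3, 1, 0, 4, 3, 1]), (148, false, [2, 4, 0, 1, 3, 4, 0, 4, 3, 4, 0, 4]), (152, true, [0, 2, 4, 3, 1, 0, 1, 3, 4, 0, 4, 0, 4, 3, 1]), (221, false, [4, 3, 4, 3, 4, 0, 4, 0, 1, 3, 4, 3, 4, 3]), (274, false, [0, 4, 3, 1, 0, 4, 3, 4, 3, 4, 0, 1, 0]), (114, false, [4, 3, 1, 3, 1, 3, 1, 0, 1, 0, 1, 3, 4, 0, 4, 3]), (268, true, [0, 2, 4, 3, 4, 0, 4, 0, 4, 3, 4, 3, 4, 0, 4, 0]), (73, true, [2, 0, 4, 3, 1, 3, 1, 0, 1, 0, 1, 3, 4, 0, 4, 3, 4]), (57, true, [1, 2, 0, 1, 3, 1, 3, 4, 3, 4, 3, 1, 0, 1, 3, 4]), (66, false, [1, 3, 4, 3, 4, 0, 1, 3, 1, 3, 4, 0]), (86, true,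 [0, 2, 4, 0, 4, 0, 4, 0, 4, 3, 1, 3, 4, 0, 1, 0]), (211, true, [1, 0, 1, 3, 1, 0, 1, 0, 4, 0, 4, 3]), (211, true, [2]), (241, true, [2, 0, 1, 0, 4, 0, 4, 3, 4, 0, 4, 3, 1, 3, 1]), (72, true, [1, 0, 4, 0, 4, 3, 1, 3]), (72, true, [2, 0, 1, 3, 1, 0, 1, 3, 4, 0, 4, 0, 4, 0, 1, 3, 1]), (135, false, [2, 4, 3, 4, 3, 4, 0, 1, 0, 1, 3, 4, 0, 1]), (137, true, [1, 0, 1, 0, 4, 3, 4, 3, 1, 0, 4]), (66, false, [1, 0, 4, 3, 4, 3, 1, 0, 4, 0, 4, 0]), (21, true, [1, 0, 1, 0, 1, 0, 4, 3, 4, 0, 4, 0, 1, 0]), (115, true, [2, 4, 3, 4, 0, 4, 0, 4, 3, 4, 3, 1]), (270, true, [0, 2, 4, 0, 1, 3, 4, 3, 1, 0, 1, 0, 4, 3, 1, 3, 4, 0]), (137, false, [0, 4, 3, 1, 3, 4, 0, 1, 3, 1, 3, 1, 0, 4, 0]), (225, false, [4, 3, 1, 0, 4, 3, 4, 0, 4, 0, 4, 3,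 1]), (66, true, []), (96, true, [0, 1, 2, 0, 4, 0, 4, 3, 1, 0, 1, 0, 4]), (141, false, [2, 0, 1, 0, 1, 0, 1, 0, 1, 0, 4, 0, 4, 3, 1]), (19, false, [0, 2, 4, 3, 1, 0, 1, 3, 1, 3, 1, 0]), (114, true, [1, 3, 1, 3, 1, 0, 4, 3, 4, 0, 4, 3]), (105, true, [0, 4, 0, 1, 0, 1, 0, 4, 3, 4, 0, 4, 3]), (124, false, [1, 2, 0, 1, 3, 1, 3, 4, 0, 4, 0, 1, 3]), (87, true, [0, 1, 0, 4, 3, 1, 3, 4, 0, 4, 3, 1, 3, 1]), (191, false, [2, 4, 0, 1, 0, 1, 3, 1, 3, 4, 0]), (123, true, [1, 0, 1, 0, 1, 0, 4, 3, 4, 0, 4, 0, 1, 3, 4]), (90, true, [2, 4, 0, 1, 0, 1, 0, 4, 3, 1, 0, 1, 0, 4, 3, 4, 0]), (127, false, [0, 1, 2, 0, 4, 3, 4, 0, 1, 0, 1, 3, 1, 3, 4]), (229, false, [2, 0, 4, 3, 1, 0, 1, 0, 4, 3, 4, 3, 4, 3]), (229, false, [2, 4, 3, 1, 3, 1,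 3, 1, 3, 1, 3, 4]), (270, true, [1, 0, 1, 2, 0, 4, 3, 4, 0, 1, 0, 4]), (223, false, [4, 3, 1, 3, 4, 0, 4, 0, 1, 3, 4, 3, 4, 3]), (223, false, [3, 1, 3, 4, 0, 4, 0, 1, 3, 4, 3, 1]), (217, false, [1, 2, 0, 4, 0, 1, 3, 4, 0, 4, 3, 4, 3]), (77, false, [0, 1, 2, 0, 4, 0, 4, 0, 4, 3, 1, 0, 4, 0]), (219, true, [0, 4, 0, 1, 3, 1, 3, 1, 3, 4, 0]), (43, false, [0, 1, 0, 4, 3, 1, 0, 1, 3, 1, 3, 1, 0, 4]), (66, false, [1, 0, 1, 3, 4, 0, 4, 3, 1, 0, 1, 0, 1, 3]), (234, true, [3, 4, 0, 1, 0, 1, 0, 4, 3, 4, 0, 1, 0, 1, 0, 1]), (103, false, [4, 0, 4, 3, 4, 3, 4, 3, 1, 0, 4, 0, 4]), (20, true, [1, 2, 0, 1, 0, 4, 3, 1, 3, 1, 0, 4, 0]), (167, false, [0, 1, 3, 1, 3, 1, 3, 4, 0, 1, 0, 4]), (172, true, [0, 4, 0, 4, 0, 4, 3, 4, 3, 1, 0, 1,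 3, 4, 3]), (270, true, [1, 2, 0, 4, 3, 4, 3, 1, 0, 4, 0, 4, 0, 1]), (57, false, [0, 1, 0, 1, 0, 2, 4, 0, 4, 3, 1, 3, 4, 0, 4]), (153, false, [0, 4, 3, 1, 3, 4, 0, 4, 0, 4, 0, 1, 3, 4, 3, 1]), (182, false, [0, 2, 4, 0, 1, 3, 1, 0, 1, 3, 4, 3, 1, 0]), (107, false, [1, 3, 1, 3, 4, 0, 4, 3, 4, 0, 4, 0, 4, 3, 1]), (66, false, [0, 4, 3, 4, 3, 4, 0, 1, 3, 1, 0, 4, 3, 4]), (277, true, [4, 0, 1, 3, 1, 3, 4, 3, 4, 3, 4, 0, 4, 3, 1, 0]), (181, false, [0, 2, 4, 0, 4, 3, 1, 3, 1, 0, 1, 3, 1])]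
def r67 : List (ℕ × Bool × List ℕ) := [(28, false, [1, 2, 0, 1, 3, 4, 3, 4, 0, 4, 0, 4, 3, 4, 0]), (29, false, [2, 4, 3, 1, 0, 1, 0, 1, 3, 4, 0, 4, 3, 1, 3]), (266, true, [0, 1, 0, 2, 4, 0, 4, 3, 1, 3]), (69, true, [0, 4, 3, 4, 3, 1, 0, 1, 0, 1, 0, 4]), (115, false, [0, 1, 2, 0, 1, 0, 4, 3, 1, 0, 1, 3, 1, 0, 4]), (43, false, [3, 4, 3, 4, 3, 1, 0]), (180, false, [4, 3, 4, 3, 4, 0, 1, 0, 1, 3, 4, 3, 1]), (193, true, [0, 2, 4, 0, 1, 3, 4, 0, 4, 3]), (211, true, [4, 3, 1, 0, 1, 0, 1, 3, 4, 0, 1, 3]), (222, true, [2, 4, 0, 4, 3, 1, 3, 1, 0, 4, 0, 4, 3, 1, 3]), (163, true, [0, 2, 4, 0, 1, 3, 4, 0, 4, 3, 1, 3]), (183, true, [0, 4, 0, 1, 3, 1, 3, 1, 0, 1, 0, 4, 0, 4, 0, 1]), (154, false, [2, 4, 3, 4, 3, 4, 3, 1, 0, 4, 0, 4,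 3, 1, 3, 1]), (275, true, [2, 4, 0, 1, 3, 1, 3, 1, 3, 4]), (38, false, [2, 0, 4, 3, 4, 0, 4, 0, 1]), (151, false, [0, 1, 0, 1, 0, 2, 4, 0, 1, 3, 1, 3, 4, 0, 4]), (261, true, [3, 1, 3, 1, 0, 1, 3, 1, 0, 1, 0, 4, 0]), (280, true, [1, 3, 4, 3, 1, 0, 1, 0, 4, 3, 1, 3, 1, 0, 1]), (46, true, [4, 3, 1, 3, 4, 0, 4, 3, 1, 0, 4, 0, 1]), (58, false, [0, 1, 3, 1, 3, 1, 3, 1, 3, 4, 3, 4, 3, 1]), (112, true, [2, 4, 0, 4, 0, 4, 3, 1, 3, 4, 0, 4, 3, 1]), (103, true, [0, 1, 0, 4, 3, 1, 3, 1, 0, 1, 3, 4, 0, 1, 3]), (250, false, [4, 0, 1, 0, 4, 3, 4, 3, 4, 3, 4, 0, 4]), (122, true, [4, 3, 4, 3, 4, 3, 4, 0, 4, 0, 4, 3, 4, 3]), (182, false, [1, 0, 1, 0, 1, 0, 4, 3, 1, 3, 4, 0]), (210, true, [2, 0, 4, 3, 4, 3, 1, 0, 4, 3, 4, 3, 4]), (67,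 true, []), (254, false, [2, 0, 1, 3, 1, 3, 1, 3, 1, 0, 1, 0, 4, 3, 4]), (106, true, [3, 4, 3, 4, 0, 4, 0, 1, 3, 1, 3, 1, 0]), (190, true, [0, 2, 4, 0, 4, 3, 1, 0]), (278, true, [4, 3, 4, 3, 1, 0, 4, 3, 4, 3, 4]), (67, false, [3, 1, 3, 1, 0, 1, 3, 1, 3, 4, 3, 4, 0, 1, 0]), (151, true, [0, 2, 4, 3, 4, 3, 1, 0, 1, 3, 4, 0, 1]), (80, true, [2, 0, 1, 0, 1, 3, 4, 0, 4, 3, 1, 3, 4]), (21, true, [2, 0, 4, 3, 4, 3, 4, 3, 4, 0, 4, 0]), (219, false, [1, 2, 0, 1, 3, 1, 3, 1, 0, 1, 3, 1, 0, 1, 0, 4]), (72, false, [2, 4, 3, 4, 0, 1, 0, 1, 0, 4, 3, 1, 3, 4, 0]), (94, false, [0, 4, 0, 1, 3, 4, 3, 4, 3, 4, 3, 4]), (35, false, [3, 1, 3, 1, 0, 1, 0, 4, 3, 4, 3]), (86, true, [2, 4, 3, 1, 0, 1, 0, 1, 3, 1, 0, 1]), (116, true, [1, 0, 4, 0,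 4, 0, 4, 0, 1, 3, 4, 3, 1]), (220, true, [2, 4, 3, 4, 3, 4, 0, 1, 3, 1, 3, 4, 3, 4, 0, 1, 3]), (199, false, [1, 3, 1, 0, 4, 3, 1, 3, 1, 3, 1, 0, 4, 0, 4]), (263, true, [0, 4, 3, 1, 3, 1, 3, 4, 0, 1, 3, 1]), (226, true, [4, 3, 1, 3, 1, 0, 1, 0, 4, 3, 1, 3]), (267, false, [1, 2, 0, 4, 0, 4, 3, 4, 0, 4, 0]), (126, false, [3, 4, 3, 4, 3, 4, 0, 1, 3, 1, 0, 1]), (112, false, [3, 4, 3, 4, 0, 1, 3, 1]), (107, false, [0, 4, 3, 1, 3, 1, 0, 4, 3, 4, 3, 4, 0, 4, 0, 4]), (66, false, [1, 0, 2, 4, 0, 1, 0, 4, 3, 4, 0, 4, 0, 4, 3, 4]), (199, false, [0, 1, 3, 1, 3, 1, 3, 1, 3, 4, 3, 4, 3, 1]), (171, false, [1, 3, 4, 0, 4, 3, 1, 3, 1, 3, 4, 0, 4, 3, 4]), (200, false, [1, 0, 1, 2, 0, 1, 0, 4, 3, 1, 0, 1, 3, 1]), (275, false, [3, 4, 3,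 4, 0, 1, 0, 1, 0, 4, 3, 4]), (4, true, [0, 1, 0, 4, 3, 4, 0, 1, 3, 1, 3, 4, 0, 1]), (112, true, [4, 3, 4, 0, 1, 3, 1, 3, 1, 0, 1, 3, 4, 3, 1]), (219, true, [2, 4, 0, 4, 0, 1, 3, 4, 0, 4, 0, 4, 3, 1, 3]), (122, true, [1, 0, 2, 4, 0, 4, 3, 1, 3, 4, 0, 1, 3]), (115, false, [0, 2, 4, 0, 4, 3, 1, 0, 1, 3, 1, 0, 1, 0, 1]), (65, false, [3, 4, 0, 1, 3, 1, 3, 1, 0, 1, 3, 1, 0, 1, 0]), (3, true, [2, 0, 4, 3, 4, 0, 4, 0]), (97, false, [2, 0, 4, 3, 1, 0, 4, 0, 4, 0, 1, 3, 4, 0]), (98, true, [1, 0, 1, 0, 4, 0, 4, 3, 1, 0, 1, 0, 4, 0, 4]), (199, false, [4, 0, 4, 0, 1, 3, 1, 3, 1, 3, 1, 0, 4, 3, 1]), (29, true, [0, 1, 0, 4, 3, 4, 0, 4, 3, 4, 0, 1, 3]), (64, true, [3, 4, 0, 1, 3, 4, 0, 4, 0, 4, 3, 1, 3]), (154, false, [1, 0, 1, 3, 1,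 0, 4, 3, 4, 0, 4, 0]), (171, false, [3, 4, 0, 1, 0, 1, 0, 4, 0, 4, 3, 1, 3, 4]), (191, true, [3, 4, 3, 1, 0, 1, 3, 4, 0, 4, 0, 4, 3, 4, 0, 4]), (183, true, [2, 4, 3, 4, 0, 4, 3, 1, 3, 4, 0, 4, 0, 4, 0, 4, 0]), (72, true, [3, 4, 3, 1, 3, 1, 0, 1, 3, 4, 3, 1, 0, 1, 0]), (64, false, [1, 0, 1, 2, 0, 1, 0, 4, 3, 1, 0, 1, 0, 4, 0]), (72, true, [0, 1, 2, 0, 1, 3, 1, 3, 4, 3, 4, 3, 4, 0, 4, 0, 4]), (261, true, [1, 3, 1, 3, 1, 3, 1, 3, 4, 3, 4, 0, 1, 0]), (24, false, [1, 3, 4, 3, 4, 3, 4, 3, 4, 3, 1]), (12, true, [0, 4, 3, 1, 3, 1, 0, 4, 3, 1, 3, 1, 3]), (277, false, [1, 3, 4, 0, 1, 3, 1, 0, 4, 0, 4, 3]), (72, false, [0, 1, 0, 1, 2, 0, 4, 3, 4, 0, 4, 3, 4, 0, 1, 0, 4]), (85, false, [0, 1, 0, 4, 0, 4, 3, 1, 0, 1, 0, 4, 0]), (67,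 false, [3, 1, 3, 1, 0, 1, 3, 1, 3, 4, 3, 4, 0, 1, 0]), (209, true, [0, 2, 4, 3, 4, 0, 1, 0, 1, 0, 4, 3, 4, 0, 1]), (222, false, [1, 2, 0, 1, 0, 1, 0, 4, 0, 4, 3, 1, 0]), (106, false, [4, 0, 1, 0, 4, 3, 1, 0, 1, 0, 1]), (273, true, [0, 4, 3, 4, 0, 1, 0, 1, 0, 1, 3, 4, 0, 4]), (252, true, [4, 0, 1, 3, 4, 0, 4, 0, 1, 3, 4]), (219, false, [2, 0, 1, 0, 1, 3, 1, 3, 4, 0, 1, 0, 1, 0]), (255, false, [1, 2, 0, 4, 3, 4, 0, 1, 3, 4, 3, 4, 3, 4]), (57, true, [3, 1, 0, 4, 0, 4, 3, 4, 0, 4, 3, 1, 3]), (73, false, [0, 2, 4, 0, 4, 3, 1, 3, 4, 0, 4, 0, 4, 3, 4, 0]), (125, true, [2, 4, 3, 4, 3, 1, 0, 1, 0, 1, 0, 1]), (192, true, [3, 1, 0, 4, 0, 4, 0, 4, 3, 4, 3, 4]), (114, false, [2, 4, 3, 1, 0, 1, 0, 4, 3, 4, 0, 1, 3]), (21, false, [2,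 0, 4, 3, 4, 0, 4, 0, 4, 3, 4, 0, 1, 3]), (6, true, [0, 4, 3, 1, 0, 4, 3, 4, 0, 1, 0, 1, 3, 4]), (261, true, [1, 0, 1, 0, 1, 0, 1, 2, 0, 1, 3, 4, 3, 4]), (67, false, [0, 4, 3, 4, 0, 4, 3, 4, 0, 4, 3, 1]), (225, true, [2, 0, 4, 3, 4, 0, 4, 0, 4, 3]), (87, false, [2, 4, 3, 1, 0, 4, 3, 1, 3, 1, 0]), (200, true, [0, 4, 3, 4, 0, 4, 0, 1, 3, 1, 3, 1, 3, 4, 3]), (256, false, [1, 0, 1, 0, 4, 3, 4, 3, 1, 0, 4, 0]), (103, false, [1, 3, 4, 0, 1]), (126, false, [3, 4, 3, 4, 3, 4, 0, 1, 3, 1, 0, 1]), (125, false, [1, 3, 1, 3, 1, 0, 4, 3, 4, 3, 1, 0, 1, 3]), (67, true, []), (179, true, [3, 4, 0, 4, 3, 1, 3, 4, 0, 4, 0, 4, 0, 4, 0]), (200, true, [0, 4, 3, 4, 3, 1, 0, 1, 3, 1, 3, 4, 0, 4, 3]), (105, true, [2, 4, 3, 1, 3, 1, 3, 4, 3,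 4, 3, 1]), (172, true, [0, 4, 3, 4, 3, 4, 0, 4, 0, 4, 3, 1, 0, 4]), (27, true, [4, 0, 4, 3, 1, 3, 1, 0, 1, 0, 1]), (219, false, [2, 4, 0, 1, 0, 1, 3, 4, 0, 4, 3, 4, 0, 1]), (87, false, [2, 0, 1, 0, 1, 3, 1, 3, 1, 0, 1, 3, 1, 0, 4]), (178, true, [2, 0, 4, 3, 1, 3, 1, 0, 4, 0, 4, 3, 1])]
def r68 : List (ℕ × Bool × List ℕ) := [(221, false, [0, 1, 2, 0, 4, 0, 4, 0, 4, 3, 1, 0, 1, 0, 4]), (158, true, [0, 2, 4, 3, 4, 0, 1, 0, 1, 0, 1, 3, 4, 3, 1, 0, 1]), (179, true, [0, 4, 3, 1, 0, 1, 0, 4, 3, 1, 0, 1, 0, 4, 0, 4]), (268, false, [3, 4, 0, 1, 3, 1, 0, 4, 0, 4, 3, 1, 0, 4, 0]), (243, false, [4, 3, 1, 0, 1, 0, 1, 3, 4, 0, 1, 0, 4]), (241, false, [0, 1, 2, 0, 1, 3, 1, 3, 1, 0, 1, 3, 1, 0, 1, 3]), (214, true, [0, 2, 4, 3, 1, 0,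 1, 0, 1, 3, 1, 3, 1, 3, 4]), (149, false, [4, 0, 4, 3, 1, 3, 1, 0, 4, 3, 4, 3]), (140, true, [0, 1, 3, 1, 3, 1, 3, 1, 0, 4, 0, 4]), (219, false, [0, 1, 2, 0, 1, 0, 4, 3, 1, 3, 4]), (7, false, [0, 1, 3, 1, 0, 4, 0, 4, 3, 4, 0, 4, 3]), (156, false, [0, 4, 3, 1, 3, 1, 3, 4, 0, 4, 3, 4, 3, 4, 0]), (225, false, [1, 0, 4, 0, 1, 3, 1, 0, 4, 3, 1, 0, 1, 0, 4, 0]), (252, true, [0, 1, 0, 1, 3, 1, 3, 1, 0, 1, 3, 4, 0]), (123, false, [0, 2, 4, 3, 1, 0, 4, 3, 4, 0, 4, 0, 4, 3, 1, 0]), (91, false, [1, 3, 1, 3, 4, 0, 1, 3, 1, 0, 4, 0, 4, 3, 4, 3]), (33, true, [0, 1, 2, 0, 4, 0, 4, 3, 1, 3, 1, 0]), (156, false, [1, 3, 1, 0, 4, 0, 4, 0, 4, 3, 1, 3, 4]), (112, false, [4, 0, 1, 3, 1, 3, 1, 3, 1, 0, 1, 0, 1, 0, 1]), (174, false, [4, 0,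 1, 0, 1, 3, 1, 0, 4, 3, 1, 0]), (24, true, [1, 3, 4, 0, 4, 3, 1, 3, 1, 0, 1, 3, 1]), (213, false, [4, 0, 4, 3, 1, 3, 4, 0, 4, 3, 4, 3, 4, 0, 4, 3]), (165, false, [3, 4, 0, 1, 3, 4, 3, 1, 0]), (195, true, [1, 0, 1, 0, 1, 2, 0, 1, 3, 4, 3, 4, 3, 4, 0, 1]), (188, true, [0, 1, 0, 1, 0, 2, 4, 0, 4, 0, 4, 0, 4, 3, 1, 0]), (102, false, [2, 4, 3, 4, 0, 4, 0, 4, 0]), (87, true, [2, 0, 4, 3, 4, 0, 4, 3, 1, 3, 1, 0, 1, 3, 1]), (134, false, [4, 0, 4, 3, 4, 3, 4, 3, 1, 0, 1, 0, 4, 0]), (212, false, [3, 1, 0, 1, 3, 4, 3, 1, 0]), (117, false, [0, 1, 0, 4, 3, 4, 0, 4, 3, 4, 3, 4]), (263, false, [2, 4, 3, 1, 0, 1, 3, 1, 0, 4, 0, 4, 3, 4]), (96, false, [2, 4, 3, 4, 3, 4, 0, 4, 3]), (236, false, [2, 4, 3, 4, 3, 1, 0, 4, 3, 4, 3, 4, 0,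 1, 0]), (226, false, [0, 4, 0, 4, 3, 4, 0, 4, 3, 1, 3, 1, 0, 1]), (212, false, [1, 0, 2, 4, 0, 4, 0, 4, 0, 1, 3, 4, 0]), (83, false, [4, 3, 4, 3, 1, 0, 1, 3, 1, 0, 1, 0, 1]), (96, true, [1, 2, 0, 1, 0, 4, 3, 4, 0, 1, 0, 1, 0, 4, 3, 4, 3]), (249, false, [0, 1, 3, 1, 0, 4, 3, 4, 0, 4, 3, 4, 3, 4]), (5, true, [0, 1, 3, 1, 0, 1, 0, 1, 0, 4, 0, 4, 3]), (70, true, [0, 1, 2, 0, 1, 0, 1, 3, 4, 0, 4, 0, 1, 3]), (123, true, [0, 4, 0, 1, 3, 1, 3, 4, 0, 4, 0, 1, 3, 1, 3, 4]), (267, false, [0, 4, 0, 4, 0, 4, 0, 4, 3, 1, 3, 4, 0, 4, 3, 1]), (7, true, [0, 4, 3, 1, 0, 1, 0, 4, 3, 4, 3]), (94, false, [1, 3, 4, 3, 4, 3, 1, 0, 1, 3, 4, 0, 4, 3]), (221, false, [0, 1, 3, 1, 3, 4, 3, 4, 3, 1, 0, 1, 3]), (237, true, [0, 1, 0, 1, 2, 0, 4, 0,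 1, 3, 4, 0, 4, 0, 4, 3, 4]), (76, false, [3, 1, 0, 1, 3, 4, 0, 1, 0, 1, 3, 4, 0, 1]), (189, false, [0, 2, 4, 3, 1, 0, 1, 0, 4, 3, 4, 3, 4]), (150, true, [4, 0, 1, 3, 1, 0, 4, 3, 4, 3, 4, 3, 4]), (68, false, [1, 3, 4, 0, 1, 3, 1, 0, 4, 3, 1, 0]), (141, false, [1, 0, 2, 4, 3, 1, 0, 1, 0, 1, 0, 4, 0, 4]), (109, false, [2, 4, 0, 4, 0, 4, 3, 4, 3, 1, 0, 1, 3, 4, 0]), (121, false, [1, 3, 1, 3, 1, 3, 4, 0, 4, 3, 1, 3]), (256, true, [1, 0, 1, 0, 2, 4, 0, 4, 0, 4, 3, 4, 3, 4, 3, 1]), (185, true, [2, 4, 0, 1, 0, 1, 0, 1]), (214, true, [0, 1, 2, 0, 1, 0, 1, 3, 4, 3, 4, 0, 1, 3, 1, 0]), (175, true, [0, 1, 0, 2]), (124, true, [0, 4, 3, 1, 0, 1, 0, 1, 0, 1, 3, 1, 3, 1, 0, 4]), (123, false, [1, 2, 0, 4, 0, 4, 3, 1, 3, 1, 0, 4, 0, 4,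 3, 1, 3]), (121, true, [0, 1, 0, 1, 0, 4, 0, 4, 3, 4, 0, 4, 3, 4, 3]), (274, true, [2, 4, 3, 4, 0, 1, 0, 1, 0, 1, 3, 1, 0, 4]), (222, false, [2, 0, 4, 0, 4, 3, 4, 3, 4, 0, 1, 3, 1, 0, 4, 3]), (68, false, [0, 1, 3, 4, 3, 4, 0, 1, 3, 1, 3, 4]), (126, false, [4, 3, 1, 0, 1, 0, 4, 0, 4, 0, 4]), (85, true, [1, 0, 4, 3, 1, 0, 1, 3, 1, 3, 1, 3, 4, 3]), (96, false, [0, 1, 0, 1, 0, 4, 0, 4, 3, 4, 0, 4, 3, 1, 0, 1]), (123, true, [4, 3, 1, 3, 1, 0, 4, 3, 1, 0, 1, 3, 1]), (202, false, [0, 1, 3, 1, 0, 1, 3, 4, 0, 4, 3, 4, 0, 4]), (172, true, [0, 4, 0, 4, 3, 4, 0, 1, 0, 1, 3, 1, 0, 1]), (129, true, [0, 4, 3, 4, 0, 4, 3, 1, 0, 1, 3, 4]), (60, false, [1, 3, 1, 0, 1, 0, 1, 3, 4, 3, 4, 0]), (223, false, [2, 4, 3, 4, 0, 4, 0, 4, 3, 4,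 3, 4, 3, 1]), (6, false, [0, 4, 3, 4, 0, 4, 3, 4, 3, 4, 3, 1, 0, 1]), (202, true, [4, 3, 4, 3, 1, 0, 1, 3, 4, 3, 4, 3, 1, 0]), (140, true, [1, 0, 4, 3, 1, 3, 4, 0, 4, 0, 4, 0]), (33, false, [1, 3, 1, 0, 1, 0, 1, 0, 4, 0, 4, 0, 4, 3]), (91, false, [0, 4, 0, 1, 3, 4, 3, 4, 0, 4, 3, 1, 3, 4, 0]), (69, true, [0, 1, 3, 4, 3, 4, 0, 1, 3, 1, 3, 4]), (91, false, []), (70, false, [0, 1, 0, 1, 0, 2, 4, 0, 1, 3, 1]), (86, true, [0, 2, 4, 0, 4, 3, 1, 3, 4, 0, 4, 3, 4, 3, 4, 0, 4, 3]), (272, false, [0, 1, 2, 0, 4, 3, 4, 0, 1]), (158, false, [0, 1, 0, 1, 0, 2, 4, 0, 4, 0, 4, 0, 4, 3, 4, 0, 1]), (219, false, [1, 0, 1, 0, 2, 4, 3, 4, 0, 4, 0, 4, 3, 1, 0, 1, 3, 1]), (152, false, [1, 0, 4, 3, 4, 3, 4, 3, 1, 0, 4, 3, 4, 3, 4, 0]), (219,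 true, [3, 1, 3, 1, 0, 1, 0, 1, 3, 1, 3]), (216, false, [2, 4, 3, 1, 3, 1, 0, 4, 3, 4, 0, 4, 3, 4]), (158, true, [2, 4, 0, 1, 3, 1, 3, 1, 3, 4, 0, 1, 0, 1, 3, 4]), (253, true, [0, 1, 0, 1, 3, 1, 0, 1, 0]), (222, false, [0, 4, 3, 1, 0, 1, 0, 1, 0, 1, 3, 4, 3, 1, 0, 4]), (200, false, [2, 0, 4, 0, 4, 3, 4, 3, 1, 0, 1, 0, 1, 3, 1, 3, 1]), (195, false, [4, 3, 4, 3, 1, 0, 1, 3, 4, 0, 4, 3, 1]), (219, false, [1, 0, 1, 0, 2, 4, 3, 4, 0, 4, 0, 4, 3, 1, 0, 1, 3, 1]), (191, false, [0, 2, 4, 0, 1, 0, 1, 3, 4, 3, 1, 0, 4, 3, 4]), (189, false, [1, 2, 0, 4, 0, 4, 3, 4, 3, 1, 0, 1, 3, 1, 3, 4]), (68, false, [0, 4, 3, 1, 3, 1, 0, 4, 3, 1, 0, 1, 0, 1, 3]), (257, true, [4, 0, 1, 3, 1, 3, 4, 0, 1, 0, 1, 0, 4]), (256, true, [1, 0, 2, 4, 3,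 1, 0, 1, 0, 4, 0, 4, 3, 4]), (127, false, [3, 1, 0, 1, 0, 4, 0, 4, 3, 1, 3]), (19, false, [0, 1, 2, 0, 4]), (219, false, [2, 0, 1, 0, 4, 3, 4, 0, 1, 0, 1, 3, 1, 3, 1]), (185, true, [4, 0, 1, 0, 1, 0, 4, 0, 4, 0, 4, 3, 4, 0, 1, 0]), (40, false, [0, 2, 4, 0, 1, 3, 1]), (60, true, [0, 1, 3, 4, 3, 4, 0, 4, 3, 1, 0, 4, 3]), (200, false, [0, 1, 2, 0, 1, 3, 1, 3, 1, 3, 1, 0, 4, 0, 4, 3]), (190, false, [0, 4, 0, 4, 3, 4, 0, 1, 3, 1, 3, 1, 3, 4]), (256, true, [1, 0, 2, 4, 0, 4, 3, 4, 3, 4, 0, 4, 3, 4, 0]), (96, false, [0, 1, 0, 1, 0, 1, 0, 1, 0, 4, 0, 4, 0, 4]), (126, false, [3, 4, 0, 4, 0, 4, 0, 4, 0, 1]), (121, false, [1, 0, 4, 3, 1, 0, 1, 3, 1, 3]), (255, true, [1, 0, 1, 0, 1, 3, 1, 3, 4, 3, 4, 0, 4, 0]), (74, true, [4, 0,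 1, 3, 1, 3, 1, 3, 1, 0, 1])]
def r69 : List (ℕ × Bool × List ℕ) := [(197, false, [0, 1, 0, 4, 3, 1, 3, 1, 3, 4, 3, 4]), (106, true, [2, 0, 4, 3, 4, 3, 4, 0, 1, 3, 4, 3, 4, 3]), (225, true, [0, 2, 4, 0, 1, 3, 4, 3, 4, 0, 4, 0, 1, 3, 4, 0, 4, 3]), (113, true, [1, 2, 0, 4, 0, 4, 3, 4, 0, 4, 3, 1, 3, 1]), (222, false, [1, 3, 4, 0, 4, 0, 4, 3, 4, 0, 4, 3, 4, 0, 4, 0, 4]), (260, false, [2, 0, 4, 3, 1, 0, 1, 0, 4, 0, 4, 0, 1, 3, 1, 0]), (193, false, [0, 4, 3, 1, 3, 1, 0, 1, 0, 1, 3, 4, 3]), (277, false, [2, 4, 3, 1, 0, 1, 3, 4, 0, 4, 0]), (250, false, [1, 3, 4, 3, 1, 0, 1, 0, 4, 3, 1, 3]), (280, true, [1, 2, 0, 1, 3, 1, 0, 4, 3, 1, 0, 1, 0]), (154, false, [1, 0, 4, 3, 4, 0, 1, 3, 1, 3, 1, 0, 1, 3, 1]), (77, false, [2, 4, 0,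 1, 0, 1, 3, 1, 0, 4, 0, 4, 3, 1]), (122, false, [2, 0, 4, 0, 1, 3, 1, 3, 1, 3, 4, 0, 1, 0]), (275, true, [0, 2, 4, 0, 1, 3, 4, 0, 4]), (114, false, [2, 0, 4, 0, 1, 3, 1, 0, 4, 3, 4, 3, 4, 3, 1, 3]), (135, false, [0, 4, 3, 1, 3, 1, 3, 4, 0, 4, 3, 4, 3]), (127, false, [2, 4, 0, 1, 0, 1, 0, 1, 0, 4, 0, 4, 3, 4, 0, 4, 3, 4]), (80, true, [0, 2, 4, 0, 1, 0, 4, 3, 4, 3, 4, 0]), (222, false, [4, 0, 1, 3, 1, 0, 1, 0, 4, 3, 4, 0, 1, 3]), (258, true, [0, 4, 0, 1, 3, 1, 0, 4, 3, 4, 3, 4, 3, 1, 0, 1, 3]), (172, true, [0, 4, 0, 4, 3, 4, 0, 1, 0, 1, 3, 1, 0, 1]), (182, true, [1, 2, 0, 1, 0, 1, 0, 1, 3, 4, 3, 1, 0, 4, 0, 4, 0]), (26, false, [3, 4, 3, 4, 0, 1]), (12, true, [1, 0, 1, 3, 4, 3, 4, 0, 4, 0, 1, 3, 1]), (248, false, [2, 4,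 3, 4, 0, 1, 3, 1, 0, 4, 3, 4, 3, 1, 0]), (133, true, [0, 4, 0, 4, 0, 4, 0, 4, 3, 4]), (59, false, [4, 0, 1, 0, 1, 3, 1, 3, 4, 0, 4, 0, 1]), (195, false, [0, 4, 3, 1, 3, 1, 3, 1, 3, 4, 0, 1, 3]), (220, true, [0, 1, 0, 1, 0, 1, 2, 0, 4, 0, 4, 0, 1, 3, 1, 0, 1, 0, 1, 3, 1]), (87, false, [3, 1, 3, 1, 0, 1, 3, 1, 0, 4, 3, 4, 3]), (229, false, [2, 0, 1, 3, 4, 0, 4, 3, 4, 0, 1]), (6, true, [2, 4, 0, 1, 0, 4, 3, 1, 0, 1, 3, 4, 3, 4, 0, 1]), (141, true, [1, 0, 1, 2, 0, 4, 0, 4, 0, 4, 3, 4, 0, 1]), (210, true, [4, 0, 4, 3, 4, 3, 4, 3, 1, 0, 4, 0]), (81, false, [4, 0, 4, 0, 4, 0, 4, 3, 1, 3, 1, 0, 4, 0, 1]), (77, false, [1, 3, 1, 0, 4, 0, 4, 0, 4, 3, 1, 3]), (254, true, [1, 2, 0, 4, 3, 4, 0, 1, 0, 1, 3, 4, 3, 1, 0]), (168, true,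 [0, 4, 0, 4, 3, 4, 0, 4, 3, 1, 0, 4]), (180, false, [4, 3, 4, 0, 1, 3, 1, 3, 1, 3, 1, 0, 4, 0, 4]), (125, true, [0, 4, 3, 1, 0, 4, 3, 4, 3, 1, 0, 1, 0, 1, 3]), (110, false, [1, 0, 1, 2, 0, 1, 0, 1, 0, 4, 0, 4, 0, 4]), (69, true, []), (27, false, [4, 0, 1, 0, 1, 3, 1, 3, 1, 0]), (26, true, [3, 1, 0, 1, 3, 1, 3, 4, 0, 1, 0, 1, 0, 4]), (213, false, [2, 0, 1, 3, 4, 3, 4, 3, 1, 0, 4, 3, 1]), (69, false, [0, 1, 0, 1, 2, 0, 1, 3, 1, 0, 1, 3, 1, 0, 1, 0]), (38, false, [4, 0, 1, 3, 1, 3, 1, 0, 1, 3, 4, 0, 4]), (189, false, [0, 1, 2, 0, 4, 0, 1, 3, 1, 3, 1, 3]), (130, true, [0, 1, 0, 1, 0, 4, 3, 1, 0, 1, 3, 1]), (64, false, [3, 1, 3, 1, 0, 1, 3, 1, 0, 4, 3, 4, 3]), (154, false, [1, 2, 0, 1, 0, 1, 3, 1, 3, 4, 0, 4, 0, 4, 0]), (46,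 true, [1, 0, 1, 2, 0, 1, 0, 1, 3, 4, 3, 4, 0, 1, 0, 4]), (157, false, [2, 4, 3, 4, 0, 4, 0, 4, 3, 1, 0, 4, 0, 1]), (234, false, [2, 4, 3, 1, 0, 4, 0, 4, 3, 1, 0, 4]), (103, true, [1, 3, 4, 0, 4, 0, 4, 0, 4, 3, 4, 3, 4, 0]), (275, true, [0, 2, 4, 0, 1, 3, 4, 0, 4]), (7, true, [1, 0, 1, 2, 0, 1, 0, 1, 0, 1, 3, 4, 3, 1, 0]), (2, false, [3, 1, 0, 4, 0, 4, 0, 4, 0, 4, 3]), (110, true, [1, 3, 4, 0, 4, 3, 1, 0, 1, 0, 4, 3, 1]), (78, true, [2, 4, 0, 1, 3, 4, 3, 4, 3, 4, 0, 1, 3, 4]), (69, false, [2, 4, 0, 4, 3, 4, 0, 1, 3, 1, 0, 1]), (51, true, [1, 0, 2, 4, 0, 1, 3, 1, 3, 1, 3, 4, 0]), (69, false, [0, 1, 3, 4, 3, 4, 0, 1, 3, 1, 3, 4]), (69, true, []), (85, false, [0, 1, 0, 1, 2, 0, 4, 3, 1, 0, 1, 0, 1, 3, 1, 3]), (165, false,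 [0, 4, 3, 4, 3, 1, 0, 1, 3, 4, 0, 4, 0, 1]), (85, true, [0, 1, 0, 1, 3, 1, 3, 1, 3, 1, 3, 1, 3, 4, 3]), (120, true, [4, 0, 1, 0, 1, 0, 4, 0]), (24, true, [1, 3, 4, 0, 4, 3, 1, 3, 1, 0, 1, 3, 1]), (194, false, [1, 0, 1, 0, 4, 0, 4, 0, 4, 0, 4, 0, 4]), (225, true, [0, 1, 2, 0, 1, 3, 4, 3, 4, 3, 4, 0, 1, 3, 4]), (270, false, [2, 4, 0, 4, 3, 1, 3, 4, 0, 1, 3]), (113, true, [1, 0, 1, 0, 4, 3, 1, 3, 1, 3, 4, 0, 1, 0]), (192, false, [0, 4, 0, 1, 3, 1, 3, 4, 0, 4, 3, 1, 3, 4]), (120, false, [1, 0, 4, 0, 4, 3, 1, 3, 4, 0, 4, 0, 1, 3, 4, 3, 1]), (122, true, [0, 1, 2, 0, 1, 0, 4, 3, 4, 3, 1, 0, 4, 0, 4, 3]), (87, true, [3, 1, 0, 4, 3, 4, 0, 4, 0, 4, 3, 1]), (68, true, [0, 1, 3, 4, 3, 4, 0, 1, 3, 1, 3, 4]), (69, true, []), (199,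 false, [1, 2, 0, 1, 3, 1, 3, 1, 0, 1, 0, 1, 0, 4]), (28, false, [1, 3, 4, 0, 4, 0, 4, 3, 1, 0, 1, 0, 1]), (85, true, [2, 4, 0, 4, 3, 4, 0, 1, 0, 1, 0, 4, 3, 1, 3, 1, 0]), (218, false, [1, 3, 1, 0, 1, 0, 1, 3, 4, 0, 1, 0, 4]), (67, true, [1, 3, 4, 3, 4, 3, 4, 0, 1, 0, 1, 3]), (125, true, [2, 0, 1, 3, 4, 3, 4, 0, 1, 3, 4, 0]), (165, true, [1, 0, 1, 2, 0, 4, 0, 4, 3, 4, 3]), (64, false, [3, 1, 3, 1, 0, 1, 3, 1, 0, 4, 3, 4, 3]), (170, true, [2, 0, 4, 0, 1, 3, 1, 0, 1, 0, 1, 0, 4, 3, 4]), (65, false, [4, 3, 4, 0, 4, 0, 1, 3, 1, 0, 4, 3, 1]), (127, false, [2, 0, 4, 3, 4, 0, 4, 3, 1, 3, 1, 0, 1, 0, 1]), (250, false, [2, 0, 1, 3, 1, 3, 4, 0, 4, 3, 1, 3, 4]), (41, false, [0, 1, 3, 1, 0, 1, 0, 4, 3, 1, 3, 1, 3, 1]), (41, true,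 [0, 1, 0, 4, 0, 4, 0, 1, 3, 1, 0, 4, 0, 4]), (90, true, [3, 4, 0, 1, 3, 1, 0, 4, 3, 1, 3, 1, 3]), (110, false, [2, 0, 4, 3, 4, 0, 4, 0, 4, 0, 1, 3, 1, 0, 4, 3]), (170, true, [1, 0, 1, 3, 1, 0, 1, 0, 1, 0, 4, 0, 4]), (210, false, [0, 4, 3, 1, 0, 4, 0, 4, 0, 4, 3, 1, 3, 4]), (180, true, [4, 0, 1, 0, 1, 3, 4, 3, 4, 0, 4, 0]), (19, false, [0, 1, 2, 0, 4]), (127, false, [3, 1, 0, 1, 0, 4, 0, 4, 3, 1, 3]), (10, false, [3, 1, 3, 1, 3, 1, 0, 4, 3, 4, 3, 4]), (258, true, [3, 4, 3, 4, 0, 4, 3, 1, 3]), (226, true, [4, 3, 1, 3, 1, 0, 4, 3, 1, 0, 1, 0, 1, 3, 4]), (122, true, [0, 1, 0, 1, 0, 1, 0, 2, 4, 0, 4, 3, 1, 0, 1, 0]), (200, true, [1, 2, 0, 1, 3, 4, 0, 4, 0, 4, 3, 4, 0]), (114, true, [2, 4, 3, 1, 3, 1, 3, 4, 3, 4, 3, 4, 3,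 4, 3]), (73, true, [2, 4, 3, 1, 3, 4, 0, 4, 0, 4, 3, 4, 3, 1]), (85, false, [2, 4, 3, 4, 3, 4, 3, 4, 0, 4, 0, 4, 3]), (104, true, [0, 1, 3, 4, 0, 4, 0, 4, 3, 4, 0, 1]), (180, false, [4, 3, 1, 3, 4, 0, 1, 0, 1, 3, 1, 0, 4, 0, 1]), (213, true, [1, 2, 0, 1, 0, 4, 0, 4, 3, 4, 0, 4, 3, 4, 3, 1]), (137, true, [4, 3, 1, 0, 4, 3, 4, 0, 1, 0, 1, 3, 4, 0, 1])]
def r70 : List (ℕ × Bool × List ℕ) := [(42, true, [2, 4, 0, 4, 3, 1, 3, 1, 0, 1, 0, 1]), (195, false, [0, 1, 3, 1, 0, 1, 0, 4, 3]), (236, true, [4, 0, 4, 3, 1, 3, 1, 0, 1, 3, 1, 0]), (5, false, [0, 4, 3, 4, 0, 1, 3, 1, 0, 4, 3]), (172, true, [2, 0, 1, 3, 1, 0, 1, 3, 1, 0, 1, 3, 1, 3, 1, 3]), (209, true, [1, 0, 2, 4, 0, 4, 3, 4, 0, 4, 0, 4, 3]), (233, true, [3, 4, 3, 1, 0,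 4, 0, 4, 0, 4]), (237, false, [0, 2, 4, 0, 4, 0, 4, 3, 4, 0, 4, 3, 4, 0]), (109, true, [1, 0, 1, 3, 1, 0, 1, 0, 1, 0, 4, 0, 4, 0]), (216, true, [2, 4, 3, 4, 0, 4, 0, 4, 3, 4, 3, 1, 3]), (270, true, [3, 4, 3, 4, 0, 4, 0, 4, 3, 4, 3, 4, 3]), (263, true, [2, 0, 1, 0, 1, 3, 1, 3, 1]), (57, false, [2, 0, 4, 3, 1, 0, 4, 0, 4, 0, 1, 3]), (221, false, [4, 0, 4, 3, 4, 0, 4, 3, 1, 3, 1]), (219, true, [0, 1, 2, 0, 4, 0, 4, 3, 1, 3, 1, 0, 4, 0, 4, 3, 4]), (98, false, [1, 0, 1, 3, 1, 3, 1, 0, 4, 0, 4, 3, 1, 0, 1]), (30, true, [4, 3, 4, 3, 1, 0, 1, 0, 1, 3, 1, 3, 4, 0]), (254, false, [1, 0, 1, 0, 1, 0, 4, 0, 4, 0, 4, 3, 4, 3, 4, 3]), (21, true, [0, 1, 3, 1, 0, 1, 3, 4, 3, 4, 0, 4, 3]), (164, false, [0, 1, 3, 1, 0, 1, 3, 1, 0, 4, 0]),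 (150, false, [4, 0, 4, 0, 4, 0, 1, 3, 1, 0, 1, 0, 1]), (219, false, [0, 4, 0, 4, 3, 4, 0, 4, 3, 1, 3, 4, 0, 1, 3]), (269, true, [3, 1, 3, 4, 0, 1, 3, 1, 3, 1, 0, 1, 3, 4, 0]), (33, false, [2, 0, 1, 3, 1, 3, 4, 3, 4, 3, 1]), (245, true, [1, 0, 1, 0, 4, 3, 1, 3, 1, 3, 1]), (66, false, [1, 0, 4, 3, 4, 3, 4, 0, 4, 3, 1, 3]), (60, true, [3, 1, 3, 1, 0, 1, 0, 1, 3, 4, 0, 1, 0, 1]), (96, false, [4, 0, 4, 0, 4, 3, 4, 0, 4, 3, 4, 0, 4, 0]), (62, false, [0, 4, 3, 4, 0, 4, 3, 4, 0, 1, 0, 1, 3]), (191, false, [1, 3, 4, 3, 1, 0, 1, 0, 1, 0, 1, 3, 4, 3, 1, 0]), (258, false, [1, 0, 1, 0, 1, 2, 0, 4, 3, 4, 0, 4]), (89, true, [0, 1, 0, 1, 0, 1, 3, 1, 0, 4, 0, 4, 0, 1, 3, 4]), (51, true, [2, 0, 4, 3, 1, 0, 4, 0, 4, 3, 4]), (268, false,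 [4, 0, 1, 3, 4, 3, 1, 0, 1, 0, 4, 3, 4, 0]), (156, true, [4, 0, 4, 3, 4, 3, 1, 0, 4, 3, 4, 0, 4, 3]), (158, false, [4, 3, 1, 3, 1, 3, 4, 3, 4, 0, 1, 3, 4, 0]), (68, true, [0, 2, 4, 0, 1, 0, 1, 3, 4, 0, 4, 0, 4, 3]), (174, true, [2, 4, 3, 1, 3, 1, 3, 4, 0, 1, 0]), (158, false, [1, 0, 2, 4, 0, 1, 0, 1, 3, 1, 0, 4, 0, 4, 0, 4, 3]), (150, false, [2, 4, 0, 1, 3, 1, 3, 4, 0, 4, 3, 4, 3]), (25, true, [0, 4, 3, 1, 0, 1, 3, 1, 3, 1, 0]), (268, true, [2, 4, 0, 4, 0, 4, 0, 1, 3, 1, 0, 4, 3]), (165, false, [0, 1, 0, 1, 0, 1, 0, 1, 0, 4, 0, 4]), (249, false, [3, 4, 0, 1, 3, 1, 3, 4, 3, 4, 0, 1, 3, 1, 0]), (191, true, [0, 1, 2, 0, 4, 0, 4, 0, 1, 3, 1, 0, 4, 0, 4, 3, 4]), (237, true, [2, 4, 3, 4, 3, 4, 3, 1, 0, 1, 3, 4, 3, 1]), (212,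 true, [3, 1, 3, 1, 0, 1, 0, 1, 3, 4, 0, 4, 0, 1, 3]), (57, true, [3, 4, 3, 4, 0, 1, 0, 1, 0, 4, 3, 4, 0, 1]), (169, false, [1, 0, 1, 3, 1, 3, 1, 3, 1, 0, 1, 0, 1, 0, 1]), (108, true, [3, 4, 0, 1, 0, 1, 3, 4, 0, 4, 3]), (85, true, [0, 4, 0, 4, 3, 4, 0, 1, 0, 1, 3, 4, 0, 1, 0]), (280, false, [1, 0, 1, 0, 2, 4, 3, 4, 0, 1, 3, 1]), (189, true, [4, 0, 1, 3, 1, 3, 1, 0, 1, 0, 1, 0, 1]), (281, true, [2, 0, 1, 0, 1, 0, 1, 0, 1, 0, 4, 0, 4, 0, 1]), (96, true, [4, 0, 1, 0, 4, 3, 4, 3, 4, 0, 4, 0, 4, 0, 1, 3]), (70, false, [0, 1, 2, 0, 1, 3, 1, 0, 1, 3, 1, 0, 1, 3, 1]), (281, false, [0, 1, 0, 4, 0, 4, 0, 4, 3, 4, 0, 1, 3, 1]), (123, true, [4, 3, 1, 3, 1, 3, 1, 3, 1, 0, 4, 3]), (123, true, [2, 4, 0, 1, 0, 1, 0, 4, 0, 4, 0, 1]),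 (164, true, [0, 1, 0, 1, 0, 2, 4, 0, 1, 3, 1, 3, 1]), (7, true, [1, 0, 2, 4, 0, 4, 0, 4, 0, 4, 3, 1, 3, 1, 0, 1]), (156, true, [0, 1, 3, 1, 3, 1, 3, 4, 0, 4, 3, 1, 3, 1]), (83, true, [1, 0, 2, 4, 3, 4, 0, 4, 0, 4, 3]), (253, false, [1, 0, 1, 3, 4, 0, 1, 3, 1, 3, 4, 0]), (200, false, [0, 1, 3, 1, 0, 1, 3, 1, 3, 1, 3, 4, 3, 4, 0]), (71, true, [0, 4, 0, 4, 3, 1, 0, 1, 3, 4, 0, 4, 0, 1, 3]), (125, true, [2, 4, 0, 1, 3, 4, 0, 4, 0, 1, 3, 4]), (128, false, [2, 0, 4, 0, 4, 0, 1, 3, 1, 3, 4, 0, 4, 0, 4, 3, 4]), (10, true, [1, 3, 4, 3, 4, 0, 4, 3, 1, 3, 4, 0]), (224, false, [4, 3, 4, 0, 1, 0, 1, 0, 1, 3, 4, 3, 1, 0, 1]), (189, false, [4, 0, 1, 0, 1, 0, 4, 0, 4, 0, 4, 3, 1, 3]), (269, false, [4, 0, 4, 3, 1, 3, 4, 0, 4, 3, 4, 0,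 4, 0, 4]), (152, true, [3, 4, 3, 1, 3, 1, 3, 1, 0, 4, 3, 4, 0, 4]), (21, true, [1, 2, 0, 4, 3, 1, 0, 1, 3, 1, 3, 1, 0, 4]), (166, true, [2, 0, 1, 3, 1, 0, 1, 3, 1, 3, 4, 0, 4]), (195, false, [0, 1, 2, 0, 4, 0, 4, 3, 1, 0, 4, 0, 4, 3, 1, 0]), (270, false, [2, 0, 1, 3, 1, 0, 1, 3, 1, 3, 4, 0, 4]), (84, false, [2, 4, 3, 4, 3, 4, 3, 4, 0, 1, 0]), (89, true, [1, 0, 1, 0, 1, 3, 4, 0, 4, 0, 1, 3, 1]), (54, false, [1, 0, 1, 3, 4, 3, 4, 0, 4, 0, 4]), (158, true, [2, 4, 3, 1, 3, 1, 0, 4, 3, 4, 3, 4, 0, 4, 0, 4, 3, 4]), (202, true, [4, 3, 4, 0, 4, 0, 1, 3, 4, 0, 4, 0, 4]), (57, true, [0, 2, 4, 3, 4, 0, 1, 0, 1, 3, 4, 0, 4]), (281, false, [0, 4, 3, 1, 3, 1, 3, 4, 3, 4, 0, 1, 0, 4]), (196, false, [1, 2, 0, 1, 0, 1, 0, 1, 3, 4, 0,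 4, 3, 4]), (108, false, [3, 4, 0, 4, 3, 4, 3, 4, 3, 4, 0, 4, 0, 1, 0]), (262, false, [2, 4, 0, 4, 0, 1, 3, 1, 3, 1, 3, 1, 3]), (177, false, [2, 0, 1, 3, 1, 0, 1, 3, 1, 3, 1, 0, 4, 3, 4]), (189, true, [0, 2, 4, 3, 4, 0, 1, 3, 1, 3, 1, 0, 1, 0]), (223, false, [0, 4, 0, 1, 3, 1, 0, 1, 0, 1, 3, 1, 0, 1, 0]), (198, false, [2, 0, 4, 3, 4, 3, 1, 0, 4, 3, 4, 3, 1]), (89, false, [0, 1, 3, 4, 3, 4, 3, 1, 0, 4, 3, 4, 3, 4, 3]), (196, false, [0, 4, 3, 1, 0, 1, 0, 4, 0, 4, 3, 1, 0, 4, 0]), (224, true, [4, 0, 4, 0, 4, 0, 4, 3, 1, 3, 1, 0, 1, 0, 4]), (214, false, [1, 0, 1, 3, 4, 0, 4, 0, 4, 0, 4, 3, 1, 3]), (219, false, [3, 4, 0, 4, 3, 4, 0, 4, 0, 4, 3, 4, 0, 1, 3]), (256, false, [1, 0, 1, 0, 2, 4, 0, 4, 0, 4, 0, 4, 0, 1]), (71, true,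 [2, 4, 0, 4, 0, 4, 0, 4, 0, 4]), (196, false, [1, 2, 0, 4, 0, 4, 3, 1, 0, 1, 0, 1, 0]), (263, true, [2, 4, 3, 4, 0, 1, 3, 1, 3, 1, 0, 1, 0]), (68, false, [2, 4, 3, 4, 0, 1, 3, 4, 3, 4, 3]), (88, false, [1, 2, 0, 4, 0, 4, 3, 1, 0, 1, 0, 4]), (188, false, [0, 4, 3, 4, 0, 1, 0, 1, 0, 1, 3, 4, 0, 1]), (96, true, [0, 4, 3, 4, 0, 1, 3, 1, 0]), (214, true, [2, 0, 4, 3, 4, 3, 4, 0, 4, 3, 1]), (195, false, [4, 0, 4, 3, 4, 0, 1, 3, 1, 3, 1, 0, 1]), (109, true, [1, 0, 1, 0, 1, 0, 1, 0, 1, 3, 4, 3, 1, 0, 1, 3, 1, 0, 1]), (70, false, [0, 1, 3, 1, 0, 1, 0, 4, 3, 4, 0, 4, 3, 1]), (19, false, [3, 4, 3, 1, 0, 1, 0, 4, 3, 4, 0, 1, 0]), (253, false, [0, 1, 0, 4, 3, 1, 3, 1, 0, 4, 0]), (88, true, [0, 1, 0, 2, 4, 0, 1, 0, 1, 3, 4, 0, 4]),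 (94, true, [1, 3, 4, 3, 4, 0, 4, 0, 1, 3, 4, 0])]
def r71 : List (ℕ × Bool × List ℕ) := [(98, true, [0, 2, 4, 0, 1, 3, 1, 0, 4, 0, 4, 3, 1, 3]), (276, false, [0, 2, 4, 0, 4, 0, 4, 0, 4, 3, 1]), (270, false, [0, 1, 0, 1, 3, 4, 0, 4, 0, 4, 0, 1, 3, 4, 0, 4, 0]), (41, true, [0, 1, 0, 1, 3, 1, 0, 1, 3, 1, 3, 4, 0]), (4, true, [1, 2, 0, 1, 0, 1, 0, 1, 3, 1, 0, 4, 3, 1]), (57, true, [4, 3, 4, 3, 1, 0, 1, 3, 1, 3, 1, 0, 4]), (41, true, [4, 0, 4, 0, 1, 3, 1, 0, 1, 3, 1, 0, 1, 0]), (10, true, [0, 1, 3, 1, 0, 1, 0, 1, 3, 4, 0, 4, 0]), (1, false, [3, 4, 0, 4, 3, 4, 0, 4, 3, 4, 0, 1]), (243, true, [2, 4, 3, 4, 3, 4, 3]), (219, false, [2, 4, 3, 1, 0, 1, 0, 1, 3, 4, 0, 4, 3]), (21, true, [2, 0, 1, 0, 1, 3, 1, 0, 1, 3, 1, 0, 1]), (101,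 true, [0, 1, 3, 1, 3, 4, 3, 4, 3, 4, 3, 4]), (163, false, [3, 1, 0, 1, 3, 4, 0, 1, 0, 1]), (71, false, [1, 0, 1, 3, 1, 0, 4, 3, 4, 0, 4, 0]), (109, false, [2, 0, 4, 0, 1, 3, 1, 3, 1, 0, 4, 3, 1]), (198, false, [3, 4, 0, 4, 3, 4, 0, 4, 0, 1, 3, 4]), (200, true, [3, 4, 0, 4, 0, 4, 3, 4, 0, 1, 3, 4]), (109, true, [0, 4, 0, 1, 0, 1, 0, 4, 3, 1, 3, 1, 0, 1, 0, 1]), (88, false, [2, 0, 1, 3, 4, 0, 1, 0, 1, 3, 4, 3, 1]), (70, true, [0, 4, 0, 1, 0, 1, 3, 4, 0, 4, 3, 1, 0, 1, 0]), (63, false, [1, 2, 0, 1, 3, 4, 0, 4, 3, 4, 0, 4, 0, 1]), (269, true, [2, 4, 3, 1, 0, 4, 3, 4, 0, 1, 0, 1, 0, 1]), (195, true, [1, 0, 4, 0, 4, 3, 1, 3, 1, 0, 4, 3, 4]), (268, false, [1, 0, 2, 4, 3, 4, 3, 1, 0, 4, 0, 4, 3, 4, 3]), (263, true, [1, 0, 1,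 0, 1, 0, 2, 4, 3, 4, 3, 4, 0, 1, 3]), (127, true, [1, 0, 1, 0, 2, 4, 0, 1, 3, 1, 3, 1, 0, 4, 0]), (89, true, [0, 2, 4, 0, 4, 3, 4, 3, 4, 3, 4, 0, 4, 0, 4, 0, 4]), (79, true, [3, 4, 0, 4, 0, 4, 3, 4, 3, 4, 0, 1, 0]), (270, true, [1, 0, 1, 3, 4, 0, 4, 0, 4, 3, 4, 0, 4, 3, 4, 0, 4]), (41, true, [3, 1, 3, 1, 0, 4, 3, 4, 3, 4]), (200, false, [0, 1, 0, 1, 0, 1, 2, 0, 4, 0, 4, 0, 1, 3, 1, 0, 1, 0, 1, 3, 1]), (235, false, [1, 3, 1, 3, 1, 0, 1, 3, 4, 3, 4, 0, 4, 0, 1]), (29, true, [0, 4, 3, 4, 3, 4, 3, 4]), (109, false, [0, 1, 0, 1, 0, 1, 2, 0, 4, 3, 1, 3]), (124, false, [4, 3, 4, 3, 4, 0, 4, 0, 4, 3, 4, 3, 4, 0]), (198, false, [1, 0, 1, 0, 4, 0, 4, 3, 1, 0, 1, 0, 1, 3, 4]), (151, true, [0, 1, 3, 1, 3, 1, 3, 1, 3, 4, 3, 4, 0,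 4, 3, 4, 0]), (41, true, [3, 4, 0, 1, 3, 1, 0, 1, 0]), (223, true, [0, 1, 3, 1, 3, 4, 0, 4, 3, 1, 0, 1, 3, 4]), (4, false, [2, 0, 1, 0, 4, 0, 4, 0, 4, 3, 4, 3, 4, 0, 4, 0]), (190, false, [0, 1, 0, 1, 2, 0, 1, 0, 4, 3, 1, 3, 4, 0, 4, 0, 1]), (7, true, [1, 2, 0, 1, 0, 4, 0, 4, 3, 1, 0, 1, 3, 4, 3, 1]), (89, false, [0, 4, 3, 4, 0, 1, 3, 1, 3, 1]), (33, true, [1, 3, 1, 0, 4, 3, 4, 0, 1, 3, 4]), (219, false, [1, 2, 0, 1, 0, 4, 3, 1, 0, 1, 3]), (235, true, [1, 2, 0, 1, 3, 4, 3, 4, 0, 1, 3, 4]), (112, true, [4, 0, 1, 0, 1, 3, 4, 0, 4, 0, 1]), (112, false, [2, 4, 3, 1, 3, 1, 0, 1, 0, 4, 3, 4, 3, 4, 3, 1, 3]), (123, false, [0, 1, 0, 1, 0, 1, 3, 4, 3, 4, 3, 1, 0, 1, 3]), (213, false, [2, 0, 4, 3, 1, 3, 1, 3, 4, 0, 4, 3, 1, 0,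 1]), (102, true, [2, 4, 0, 1, 3, 1, 3, 1, 3, 1, 0, 1, 0, 4, 3]), (191, false, [0, 2, 4, 0, 1, 0, 1, 3, 1, 0, 1, 3, 1, 3, 1, 0]), (200, false, [1, 0, 2, 4, 3, 4, 0, 4, 0, 4, 0, 1]), (223, false, [0, 1, 2, 0, 4, 3, 4, 0, 1, 3, 4, 3, 4]), (253, false, [1, 0, 1, 0, 1, 2, 0, 1, 3, 1, 0, 1, 0, 1, 0, 4, 3]), (223, false, [2, 0, 1, 3, 4, 0, 4, 0, 4, 3, 4, 3, 4, 3, 1]), (237, true, [1, 0, 1, 3, 4, 0, 4, 3, 1, 0, 1, 0, 1]), (191, true, [0, 1, 0, 1, 0, 4, 3, 4, 0, 1, 3, 4, 0]), (127, true, [1, 2, 0, 1, 0, 1, 3, 4, 3, 4, 0, 4, 0, 4, 3, 1, 3]), (88, true, [0, 2, 4, 3, 4, 3, 4, 0, 1, 0, 1, 3, 4, 0]), (20, false, [0, 1, 3, 4, 3, 1, 0, 1, 0, 4, 0, 4, 0, 1, 0]), (120, false, [2, 0, 1, 3, 4, 0, 4, 3, 4, 3, 1, 0]), (200, false, [1, 0,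 4, 3, 1, 3]), (219, false, [1, 0, 2, 4, 0, 4, 3, 1, 3, 1, 0, 1, 0, 1, 3, 4]), (70, true, [1, 2, 0, 1, 0, 1, 0, 1, 0, 1]), (19, false, [3, 4, 0, 1, 0, 1, 0, 4, 3, 4, 3, 4]), (71, false, [0, 1, 3, 4, 3, 4, 0, 1, 3, 1, 3, 4]), (151, false, [2, 0, 4, 0, 4, 3, 1, 3, 4, 0, 4, 3, 1, 0, 1, 3]), (270, false, [1, 2, 0, 4, 0, 1, 3, 4, 3, 4, 3, 4, 0, 1, 3, 1, 0]), (200, false, [0, 1, 0, 1, 2, 0, 4, 3, 1, 3, 1, 0, 4, 3, 1, 0]), (33, true, [4, 0, 4, 3, 1, 0, 1, 3, 1, 3, 1, 3]), (151, true, [3, 1, 3, 1, 0, 1, 0, 4, 3, 1, 0, 1, 0, 1, 3]), (90, true, [1, 0, 1, 3, 1, 3, 1, 3, 4, 3, 4, 0]), (24, false, [0, 4, 0, 4, 0, 1, 3, 4, 0, 4, 0, 4, 0, 1, 3]), (195, true, [0, 1, 0, 4, 3, 4, 3, 1, 0, 1, 0, 1, 3, 1]), (113, false, [2, 4, 3, 1, 0, 4,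 0, 4, 3, 4, 0, 1, 3]), (96, false, [1, 2, 0, 1, 0, 1, 3, 1, 3, 1, 0, 4, 3, 1]), (71, false, [4, 0, 1, 0, 1, 3, 4, 0, 1, 3, 1, 0, 4, 0, 1]), (212, true, [0, 1, 0, 1, 3, 4, 0, 1, 3, 1, 3, 1]), (86, false, [0, 1, 3, 1, 3, 1, 0, 4, 3, 1, 3, 1, 0, 1, 3, 4]), (137, false, [2, 4, 0, 4, 3, 4, 3, 4, 0, 4, 0, 4, 0, 4, 3, 1]), (276, false, [2, 4, 0, 4, 3, 4, 0, 4, 0, 4, 3, 4, 3, 1, 3]), (123, true, [1, 0, 2, 4, 0, 4, 0, 1, 3, 1, 0, 1, 3, 1, 0, 4, 0]), (4, true, [1, 2, 0, 1, 3, 4, 0, 1, 0, 1, 3, 4, 0, 1, 3, 1]), (51, false, [4, 3, 4, 0, 4, 3, 1, 0, 1, 0, 4, 3, 4]), (221, false, [1, 3, 1, 0, 1, 3, 1, 0, 1, 3, 1]), (219, false, [2, 0, 4, 0, 4, 3, 1, 3, 1, 0, 1, 3]), (196, true, [2, 4, 0, 4, 0, 4, 0, 1, 3, 4, 0, 4]), (235, true, [1,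 2, 0, 1, 3, 4, 3, 4, 0, 1, 3, 4]), (213, false, [2, 4, 3, 4, 0, 4, 0, 4, 3, 4, 3, 4, 0, 1, 3, 1, 3]), (86, false, [0, 4, 3, 4, 0, 4, 3, 1, 0, 1, 3, 4]), (191, false, [0, 2, 4, 0, 1, 0, 1, 3, 1, 0, 1, 3, 1, 3, 1, 0]), (10, false, [2, 0, 1, 3, 1, 3, 1, 0, 1, 3, 1, 0, 1, 0, 4]), (195, true, [0, 4, 3, 4, 3, 4, 0, 4, 3, 4]), (127, true, [3, 4, 0, 1, 3, 4, 3, 1, 0, 1, 3, 4, 0]), (274, true, [1, 0, 1, 0, 1, 0, 1, 3, 1, 3, 4, 0, 4]), (276, true, [0, 1, 0, 1, 3, 1, 0, 1, 0, 1, 3, 4, 0, 4]), (5, false, [3, 1, 0, 4, 0, 4, 0, 1, 3, 1, 0, 4, 3, 4, 3, 1]), (127, false, [0, 1, 3, 4, 0, 1, 3, 1, 0, 4, 0, 1]), (223, true, [0, 1, 0, 4, 3, 1, 3, 1, 0, 4, 3, 1, 3, 1, 0]), (181, true, [0, 1, 0, 1, 3, 4, 0, 4, 3, 1, 0, 1, 0, 1]), (123, false,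 [0, 1, 3, 4, 3, 4, 3, 4, 0, 4, 0, 4, 0, 1, 3]), (61, true, [1, 0, 1, 0, 2, 4, 3, 4, 0, 4]), (24, false, [0, 1, 2, 0, 1, 3, 1, 0, 4, 3, 1, 3, 4, 0]), (253, false, [3, 1, 3, 1, 3, 4, 3, 4, 0, 4, 3, 4, 0, 4]), (88, false, [4, 3, 1, 0, 1, 3, 1, 0, 4, 0, 4, 3, 4]), (221, false, [1, 3, 1, 0, 1, 3, 1, 0, 1, 3, 1]), (71, false, [0, 1, 0, 1, 3, 4, 0, 4, 0, 1, 3, 4]), (281, true, [2, 4, 3, 1, 3, 1, 0, 1, 3, 1, 3]), (127, true, [0, 1, 2, 0, 1, 3, 4, 0, 1, 3, 1, 3, 1]), (122, true, [1, 2, 0, 1, 0, 1, 0, 1, 3, 4, 0, 1, 3, 1, 0])]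

theorem q60 : closeb 18 ps18 base7 rgR om xs x60 orb r60 = true := by decide +kernel
theorem q61 : closeb 18 ps18 base7 rgR om xs x61 orb r61 = true := by decide +kernel
theorem q62 : closeb 18 ps18 base7 rgR om xs x62 orb r62 = true := by decide +kernel
theorem q63 : closeb 18 ps18 base7 rgR om xs x63 orb r63 = true := by decide +kernel
theorem q64 : closeb 18 ps18 base7 rgR om xs x64 orb r64 = true := by decide +kernel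
theorem q65 : closeb 18 ps18 base7 rgR om xs x65 orb r65 = true := by decide +kernel
theorem q66 : closeb 18 ps18 base7 rgR om xs x66 orb r66 = true := by decide +kernel
theorem q67 : closeb 18 ps18 base7 rgR om xs x67 orb r67 = true := by decide +kernel
theorem q68 : closeb 18 ps18 base7 rgR om xs x68 orb r68 = true := by decide +kernel
theorem q69 : closeb 18 ps18 base7 rgR om xs x69 orb r69 = true := by decide +kernel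
theorem q70 : closeb 18 ps18 base7 rgR om xs x70 orb r70 = true := by decide +kernel
theorem q71 : closeb 18 ps18 base7 rgR om xs x71 orb r71 = true := by decide +kernel

theorem c5 : Rows xc5 :=
  Rows.cons q60 (Rows.cons q61 (Rows.cons q62 (Rows.cons q63 (Rows.cons q64 (Rows.cons q65 (Rows.cons q66 (Rows.cons q67 (Rows.cons q68 (Rows.cons q69 (Rows.cons q70 (Rows.cons q71 Rows.nil)))))))))))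

end Cfsg.Agent.H698.U33.Clo
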