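import Cfsg.Agent.H698.U33.Clo.Rows

/-!
# S5525: the closure certificate, rows 72 to 83 (helper698; data of helper819, helper763)
-/

set_option autoImplicit false
set_option maxRecDepth 100000
set_option Elab.async false

namespace Cfsg.Agent.H698.U33.Clo

def r72 : List (ℕ × Bool × List ℕ) := [(213, false, [0, 1, 3, 4, 0, 4, 0, 4, 3, 4, 3, 4, 0, 4]), (234, false, [2, 0, 1, 3, 4, 3, 4, 0, 1, 0, 1, 3, 1]), (256, false, [0, 1, 2, 0, 4, 0, 4, 3, 1, 3, 1, 0, 4, 0]), (66, true, [2, 4, 3, 4, 0, 1, 0, 1, 0, 1, 3, 4, 0, 4, 3, 4, 0]), (19, false, [2, 0, 1, 3, 4, 0, 1, 3, 1, 3, 4, 3, 4, 0, 4, 0]), (29, false, [0, 4, 3, 4, 3, 1, 0, 1, 3, 4, 0, 1, 0, 1, 3, 4]), (111, false, [0, 1, 3, 1, 0, 4, 0, 1]), (235, false, [0, 2, 4, 0, 4,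 3, 4, 3, 4, 0, 1, 3, 4]), (236, true, [1, 0, 2, 4, 0, 4, 3, 4, 0, 4, 0, 4, 0, 1]), (150, false, [0, 1, 3, 1, 3, 1, 3, 4, 3, 4, 3, 4, 0, 4]), (7, true, [4, 3, 4, 0, 4, 3, 4, 3, 4, 0, 4, 0, 1]), (252, false, [1, 0, 2, 4, 3, 4, 3, 4, 0, 1, 0, 1, 3, 4]), (42, true, [1, 0, 4, 3, 4, 0, 4, 3, 1, 0, 4, 0, 4, 3]), (80, true, [2, 0, 4, 0, 4, 3, 4, 0, 4, 3, 4, 0]), (87, true, [1, 0, 1, 3, 4, 3, 1, 0, 1, 3, 4, 3, 4, 3, 1, 3]), (153, false, [1, 0, 1, 0, 4, 3, 1, 0, 1, 0, 4, 3, 4]), (256, false, [0, 2, 4, 3, 4, 0, 1, 0, 1, 0, 4, 3, 4, 0, 4, 3]), (115, false, [2, 4, 3, 4, 0, 1, 3, 1, 0, 1, 3, 1]), (199, true, [1, 2, 0, 1, 3, 1, 3, 4, 0, 1, 3, 1, 3]), (230, true, [4, 3, 1, 0, 1, 0, 4, 3, 1, 0, 1, 3]), (67, false, [0, 1, 2, 0, 4, 0, 1,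 3, 4, 0, 4, 0, 1, 3, 1]), (245, false, [1, 0, 1, 3, 4, 3, 4, 3, 4]), (101, false, [1, 3, 4, 3, 4]), (122, false, [2, 0, 4, 0, 4, 3, 1, 0, 1, 0, 1, 0, 4, 3, 1, 3]), (191, true, [2, 0, 1, 0, 1, 0, 1, 3, 1, 0, 1, 3, 4, 3, 1, 0, 4]), (126, false, [4, 0, 4, 0, 1, 3, 4, 0, 4, 3, 1, 0, 4]), (88, false, [2, 0, 4, 3, 4, 0, 4, 3, 1, 3, 1, 0, 1, 3, 1]), (153, true, [1, 0, 1, 0, 1, 2, 0, 4, 3, 1, 0, 1, 3]), (170, false, [1, 0, 1, 0, 2, 4, 3, 4, 3, 4, 3, 1, 0, 1, 3]), (41, false, [0, 1, 3, 1, 3, 1, 3, 4, 0, 1, 0, 1, 3, 4, 3, 1]), (257, false, [0, 1, 2, 0, 1, 0, 4, 0, 4, 3, 4]), (87, false, [3, 1, 0, 1, 0, 4, 3, 1, 0, 1, 0, 4, 3, 1, 3]), (224, true, [0, 2, 4, 3, 1, 0, 4, 0, 4, 0, 4, 3, 1]), (234, true, [3, 4, 0, 4, 0, 4, 0, 4, 3, 1,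 3, 4, 0, 4]), (72, true, []), (155, true, [2, 0, 4, 3, 4, 3, 1, 0, 1, 0, 1, 0, 4, 0, 4]), (42, true, [1, 0, 1, 2, 0, 4, 3, 1, 0, 1, 3, 1, 3, 4]), (219, true, [2, 4, 0, 1, 3, 4, 0, 4, 0, 4, 0, 4, 3, 4, 3]), (55, false, [1, 0, 4, 3, 1, 3, 1, 0, 4, 3]), (235, true, [2, 0, 4, 3, 1, 3, 1, 3, 1, 0, 4]), (6, false, [1, 2, 0, 4, 0, 4, 3, 4, 3, 1, 0, 4, 0, 4, 3, 1, 3, 4]), (191, true, [2, 0, 1, 0, 4, 3, 1, 0, 1, 0, 4, 0, 4, 3, 4]), (115, false, [1, 3, 4, 0, 4, 3, 1, 0, 4, 0, 4, 0, 4]), (266, true, [1, 2, 0, 1, 3, 1, 3, 1, 3, 1, 0, 1]), (72, true, [1, 0, 1, 3, 1, 3, 1, 3, 4, 3, 4, 0, 4, 0, 4, 0]), (158, false, [0, 2, 4, 3, 1, 0, 1, 3, 4, 0, 1, 3, 1, 3, 4, 3]), (79, false, [1, 0, 1, 3, 1, 0, 4, 3, 4, 0, 1, 0]), (167, false, [0,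 1, 3, 1, 3, 4, 0, 4, 3, 1, 0, 4, 0, 4, 3, 1]), (112, true, [1, 2, 0, 1, 0, 1, 3, 4, 0, 4, 3, 1, 3, 1]), (191, false, [4, 3, 4, 0, 4, 3, 4, 0]), (151, false, [0, 1, 3, 1, 0, 4, 0, 4, 0, 4, 3, 1, 0, 1, 3, 4]), (12, true, [3, 4, 0, 1, 0, 1, 3, 1, 0, 1, 0]), (125, true, [0, 2, 4, 3, 4, 0, 4, 3, 4, 0, 4, 0, 1, 3, 1]), (214, false, [0, 1, 0, 1, 0, 1, 2, 0, 4, 0, 4, 0, 1, 3, 1, 0, 1, 0, 1, 3, 1]), (67, true, [1, 2, 0, 1, 0, 1, 3, 1, 3, 1, 3, 4, 3, 4, 0, 4, 3]), (183, false, [0, 1, 3, 1, 3, 4, 0, 1, 3, 1, 3, 4, 0, 4, 3]), (72, true, [1, 0, 1, 3, 1, 3, 1, 3, 4, 3, 4, 0, 4, 0, 4, 0]), (261, false, [0, 2, 4, 3, 4, 0, 4, 3, 1, 3, 4, 0, 1]), (22, true, [3, 1, 3, 1, 3, 4, 0, 4, 3, 1, 3, 4, 0]), (120, true, [4, 3, 4, 0, 4, 3, 1, 0,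 1, 3, 4]), (212, false, [2, 0, 1, 3, 4, 0, 4, 0, 4, 3, 4, 3, 4, 0]), (189, false, [0, 1, 0, 1, 0, 2, 4, 3, 4, 0, 4, 0, 4, 3, 4]), (67, false, [1, 0, 1, 0, 1, 2, 0, 4, 3, 4, 0, 4, 3, 4, 0, 1, 0]), (200, true, [1, 0, 2, 4, 0, 1, 0, 1, 0, 4, 3, 1, 0, 1, 0]), (85, true, [2, 0, 4, 0, 4, 0, 1, 3, 1, 0, 1, 0]), (66, true, [0, 4, 0, 1, 3, 1, 3, 4]), (221, true, [2, 0, 1, 0, 4, 3, 4, 3, 1, 0, 4, 0]), (231, true, [4, 3, 4, 3, 1, 0, 1, 0, 1, 0, 1, 3]), (19, true, [1, 0, 4, 0, 4, 0, 4, 3, 4, 3, 4, 0, 4, 3]), (61, true, [2, 0, 1, 3, 1, 3, 1, 0, 1, 0, 4]), (88, true, [1, 0, 2, 4, 3, 1, 0, 1, 3, 1, 3, 1, 0, 1, 3, 1]), (1, true, [0, 1, 0, 4, 3, 4, 3, 4, 0, 4, 0, 4]), (154, false, [4, 0, 1, 3, 4, 0, 4, 0, 1, 3, 1, 3, 4]), (215, false,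 [0, 1, 0, 1, 2, 0, 4, 3, 4, 0, 4, 3, 1]), (158, true, [0, 4, 0, 1, 0, 1, 3, 4, 3, 4, 0, 1, 0]), (133, true, [0, 1, 2, 0, 1, 0, 1, 3, 4, 3, 4, 0, 1]), (197, false, [0, 1, 0, 1, 0, 4, 3, 4, 0, 1, 0, 1, 0, 1, 3, 1]), (89, true, [1, 3, 4, 3, 4, 0, 1, 3, 1, 3, 4, 0]), (81, true, [2, 0, 4, 0, 1, 3, 1, 3, 4]), (255, true, [0, 2, 4, 0, 1, 3, 1, 3, 1, 0, 1, 0, 4, 0, 4, 3, 4]), (253, false, [1, 2, 0, 1, 3, 4, 3, 4, 0, 4, 0, 4, 3, 4, 3]), (123, false, [2, 0, 4, 3, 1, 3, 1, 3, 4, 3, 4, 0, 1, 3, 1, 0]), (220, true, [0, 1, 0, 1, 3, 1, 0, 4, 0, 4, 3, 1, 0, 4]), (29, false, [4, 3, 1, 0, 1, 3, 1, 3, 1, 3, 4, 3, 4, 3]), (7, true, [2, 0, 1, 0, 1, 3, 1, 0, 4, 0, 4, 3, 1, 0]), (165, false, [0, 4, 0, 1, 0, 1, 0, 4, 0, 4, 3, 1, 3, 1, 0]), (262,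 true, [1, 0, 1, 3, 4, 0, 4, 3, 4, 3, 4]), (232, false, [1, 2, 0, 1, 3, 1, 0, 4, 3, 4, 3, 4, 0, 4, 0, 1]), (221, true, [3, 1, 3, 4, 0, 1, 3, 1, 0, 4, 3]), (153, false, [3, 4, 0, 4, 3, 1, 3, 1, 3, 4, 0, 4, 3, 1, 3, 4]), (46, true, [2, 0, 1, 3, 1, 3, 4, 0, 1, 0, 1, 3, 4, 3]), (179, true, [4, 3, 1, 0, 4, 0, 4, 3, 1, 0, 4, 0]), (67, true, [3, 4, 0, 4, 3, 1, 3, 4, 0, 4, 0, 4, 0, 1, 0]), (150, false, [1, 0, 1, 0, 4, 0, 4, 3, 1, 0, 1, 0, 1, 3, 4]), (175, false, [0, 2, 4, 0, 4, 3, 1, 0, 1, 3]), (187, true, [0, 2, 4, 0, 4, 0, 1, 3, 1, 0, 1, 0, 4, 0, 4]), (243, false, [0, 4, 3, 4, 0, 4, 0, 4, 0, 4, 3, 1, 3, 1, 3]), (41, false, [1, 0, 4, 3, 1, 3, 1, 0, 1, 3, 4, 0, 1]), (255, false, [2, 4, 0, 1, 0, 4, 3, 1, 3, 1, 0, 4]), (72, false,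 [0, 1, 0, 4, 3, 4, 0, 4, 0, 1, 3, 1, 0, 1, 3, 1, 3]), (223, true, [1, 0, 1, 2, 0, 4, 3, 4, 3, 4, 3, 4, 0, 4, 3]), (58, true, [0, 1, 3, 1, 3, 1, 0, 1, 0, 4, 0, 4, 0]), (157, false, [1, 2, 0, 4, 3, 1, 0, 1, 0, 1, 3, 1, 0, 4, 3, 1, 0]), (247, false, [0, 1, 3, 4, 3, 4, 0, 4, 3, 1, 3, 1, 3, 4]), (251, true, [0, 4, 0, 1, 0, 1, 3, 4, 0, 4, 0, 4, 3, 4, 0, 1]), (253, true, [3, 4, 3, 1, 0, 1, 0, 1, 0, 1, 3, 4, 0, 1]), (107, true, [3, 4, 0, 4, 3, 1, 3, 1, 3, 4, 0, 4, 3, 1, 3, 1]), (152, true, [0, 1, 0, 1, 3, 4, 3, 4, 3, 4, 0, 4, 3, 4]), (221, false, [0, 1, 0, 1, 3, 1, 3, 1, 0, 4, 3, 4, 0, 4, 3]), (200, true, [1, 0, 2, 4, 0, 1, 0, 1, 0, 4, 3, 1, 0, 1, 0]), (91, true, [4, 0, 1, 0, 1, 3, 4, 0, 1, 3, 1, 0, 4, 0, 1]), (198, false, [4,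 3, 1, 3, 1, 0, 1, 3, 1])]
def r73 : List (ℕ × Bool × List ℕ) := [(270, true, [1, 0, 4, 0, 4, 0, 1, 3, 1, 0, 1, 0, 1]), (225, false, [1, 0, 1, 2, 0, 4, 0, 1, 3, 1, 0, 1, 0, 4, 0, 4]), (86, false, [4, 3, 1, 0, 1, 3, 4, 3, 4, 0, 4, 0, 4, 3]), (56, false, [0, 1, 3, 1, 3, 4, 0, 1, 3, 1, 3, 4, 0, 1, 3]), (125, false, [1, 0, 1, 0, 4]), (152, true, [2, 0, 4, 3, 1, 0, 1, 0, 1, 0, 1, 3, 1, 3, 1, 0]), (110, false, [1, 2, 0, 4, 3, 1, 3, 1, 3, 4, 3, 4, 0, 4, 0]), (180, false, [4, 0, 1, 0, 1, 0, 1, 3, 4, 3]), (50, true, [1, 0, 4, 0, 1, 3, 1, 3, 1]), (154, false, [3, 1, 3, 4, 0, 4, 3, 4, 3, 4, 0, 4, 0]), (110, false, [3, 4, 0, 4, 0, 4, 3, 4, 0, 1, 0, 1, 0, 4]), (197, false, [2, 4, 0, 1, 3, 4, 3, 1, 0, 1, 3, 4, 0, 4]), (248, false, [1,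 2, 0, 4, 0, 4, 0, 4, 3, 1, 0, 4, 0, 4]), (34, true, [3, 1, 3, 1, 3, 4, 0, 1, 0, 1, 0, 4]), (43, true, [2, 4, 0, 1, 3, 1, 3, 1, 3, 4, 3, 4, 0, 1]), (141, true, [0, 1, 3, 1, 3, 4, 0, 1, 3, 1, 3, 4, 3, 4, 3]), (269, true, [1, 3, 1, 0, 1, 0, 4, 3, 1, 0, 1, 0, 4, 3]), (25, true, [4, 0, 1, 0, 1, 0, 1, 3, 4, 3, 1, 0, 1, 0]), (10, true, [4, 3, 4, 3, 1, 0, 4, 0, 4, 0, 1]), (209, true, [1, 2, 0, 4, 0, 1, 3, 4, 3, 4, 0]), (49, true, [3, 4, 0, 4, 0, 4, 0, 4, 0, 4, 0, 1]), (168, true, [4, 3, 4, 0, 4, 3, 1, 3, 1, 0, 1, 3, 1]), (85, true, [2, 0, 1, 3, 1, 3, 4, 0, 4, 0, 4, 0, 4, 3, 4]), (122, true, [0, 1, 0, 4, 3, 1, 0, 1, 3, 1, 3, 1, 0, 4, 3, 4]), (126, true, [1, 2, 0, 1, 0, 1, 3, 1, 3]), (80, false, [0, 1, 0, 1, 0, 1, 3, 4, 3, 4, 3,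 1, 0, 1]), (98, true, [0, 1, 2, 0, 4, 3, 4, 0, 4, 3, 4, 3, 4, 0, 4]), (255, true, [2, 0, 4, 3, 4, 0, 4, 3, 1, 0, 1]), (273, false, [0, 4, 3, 1, 0, 4, 0, 4, 3, 1, 3, 4, 0, 1]), (220, false, [3, 4, 0, 1, 3, 1, 0, 1, 0, 4, 3]), (268, false, [0, 1, 0, 4, 3, 4, 3, 4, 0, 4, 3, 1, 0, 4]), (97, false, [0, 1, 3, 4, 3, 1, 0, 1, 0, 4, 3, 4, 3, 4, 3, 1, 3]), (88, false, [0, 1, 3, 1, 3, 1, 3, 1, 3, 4, 3, 4, 3, 1]), (47, false, [0, 1, 0, 2, 4, 0, 1, 0, 4, 3, 4, 0, 4, 3, 1]), (259, true, [1, 2, 0, 1, 3, 1, 0, 4, 0, 4]), (151, true, [2, 4, 0, 1, 3, 1, 0, 1, 0, 1, 3, 1, 0, 4, 0]), (263, false, [1, 0, 1, 0, 2, 4, 3, 4, 3, 4, 0, 1, 0, 1, 0]), (73, true, []), (43, true, [0, 1, 3, 1, 0, 4, 0, 4, 0, 1, 3, 4]), (153, false, [1, 3, 1, 3, 1,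 0, 1, 0, 1, 0, 4, 0, 4, 3, 4]), (47, false, [0, 1, 2, 0, 4, 0, 4, 3, 4, 0, 1, 3, 1]), (78, true, [1, 0, 4, 3, 4, 0, 1, 0, 1, 3, 4, 0, 4, 3]), (176, false, [2, 0, 1, 3, 4, 3, 4, 3, 4, 0, 4, 3, 4, 0]), (218, true, [0, 2, 4, 3, 4, 3, 1, 0, 4, 0]), (185, true, [0, 1, 3, 1, 0, 1, 0, 1, 0, 4, 3, 4, 0]), (66, true, [1, 0, 1, 2, 0, 1, 3, 4, 0, 4, 0, 4, 3, 4, 3, 1, 0]), (90, false, [2, 0, 4, 0, 1, 3, 1, 3, 4]), (152, false, [3, 1, 3, 1, 3, 4, 3, 4, 0, 1, 3, 1, 0, 4, 3, 1]), (111, false, [1, 2, 0, 1, 0, 4, 0, 4, 3, 1, 0, 1, 3, 4, 3, 4]), (73, true, []), (194, false, [0, 1, 0, 4, 0, 4, 3, 4, 3, 4, 0, 1]), (254, true, [2, 4, 3, 4, 3, 4, 3, 1, 0, 4, 0, 4, 3, 4]), (177, false, [1, 3, 1, 0, 1, 3]), (154, true, [0, 1, 0, 1, 2, 0, 1,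 0, 4, 3, 1, 3, 1, 0]), (36, false, [0, 1, 0, 4, 0, 4, 3, 4, 0, 1, 0, 4]), (9, true, [0, 1, 0, 4, 3, 1, 3, 1, 0, 1, 0, 1, 3, 1, 3, 4]), (83, true, [1, 2, 0, 1, 0, 4, 3, 1, 0, 4]), (103, false, [2, 0, 4, 0, 4, 0, 1, 3, 4, 0, 1]), (260, false, [1, 0, 1, 0, 1, 0, 1, 3, 4, 0, 4, 3, 1, 0, 4]), (135, true, [1, 0, 1, 2, 0, 1, 0, 1, 0, 4, 3, 4, 0]), (171, false, [1, 3, 1, 3, 1, 0, 1, 0, 1, 0, 4, 0, 4, 3, 4]), (87, false, [3, 1, 0, 1, 3, 4, 3, 4, 0, 4, 0, 4, 3, 1]), (184, false, [0, 4, 0, 1, 0, 1, 3, 1, 3, 1, 3, 4]), (3, false, [0, 2, 4, 3, 4, 0, 4, 0, 1, 3, 4]), (125, false, [1, 2, 0, 1, 0, 4, 3, 4, 0, 1, 0, 1, 3, 4, 3, 4]), (65, true, [2, 4, 0, 4, 0, 1, 3, 1, 0, 1, 3, 1, 3, 1]), (7, true, [0, 2, 4, 0, 4, 3, 1, 3, 4, 0, 4, 0,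 4, 0, 4]), (98, true, [2, 4, 0, 4, 3, 1, 3, 1, 0, 4, 3, 1, 0, 1, 0, 4]), (261, false, [1, 0, 2, 4, 0, 4, 3, 4, 0]), (231, true, [0, 4, 3, 4, 3, 4, 0, 4, 3, 4, 0, 4, 3, 4]), (92, false, [2, 4, 0, 1, 3, 1, 3, 1, 3, 1, 3, 1, 0, 4, 0, 4, 3]), (128, true, [2, 0, 1, 3, 4, 3, 4, 0, 4, 3, 4, 0, 4]), (236, false, [2, 0, 1, 0, 4, 0, 4, 0, 1, 3, 4, 0, 1]), (263, false, [4, 0, 4, 3, 1, 3, 1, 0, 1, 0, 4, 3, 4, 3]), (260, true, [4, 3, 1, 0, 4, 3, 4, 3, 4, 0, 1, 3, 1, 0]), (122, true, [0, 4, 3, 4, 0, 4, 0, 4, 3, 1, 0, 1, 0, 4, 0]), (280, true, [3, 1, 3, 1, 0, 1, 3, 4, 0, 4, 0, 4, 0]), (65, false, [1, 3, 1, 3, 1, 0, 4, 3, 4, 3, 4]), (92, false, [1, 0, 2, 4, 3, 1, 0, 4, 0, 4, 3, 4, 0, 1, 0]), (103, true, [1, 3, 1, 3, 1, 3, 1, 3, 4, 3]),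 (35, true, [1, 3, 4, 0, 4, 0, 4, 3, 1, 0, 4, 0]), (217, true, [2, 0, 1, 3, 1, 0, 4, 0, 4, 0, 1, 3, 4]), (158, false, [0, 4, 3, 1, 3, 1, 3, 1, 0, 4, 0]), (92, true, [4, 0, 1, 3, 1, 3, 4, 3, 4, 0, 4, 0, 4, 3, 4, 3]), (167, true, [1, 0, 1, 0, 1, 2, 0, 1, 0, 4, 0, 4, 0, 4]), (184, false, [0, 4, 3, 4, 0, 4, 3, 4, 3, 4, 0, 4, 3, 1, 0, 1]), (57, false, [0, 1, 0, 4, 3, 1, 0, 1, 0, 4, 0, 4, 3, 1]), (192, false, [0, 1, 2, 0, 1, 3, 1, 3, 1, 0, 4, 3, 1, 3]), (51, false, [2, 0, 4, 3, 4, 3, 4, 3, 4, 0, 1, 0, 1, 0]), (168, false, [1, 2, 0, 1, 0, 4, 0, 4, 3, 4, 3, 4, 3, 4]), (110, false, [2, 4, 0, 1, 0, 1, 0, 4, 0, 4, 3, 1, 0, 1, 0, 1]), (12, false, [0, 1, 0, 2, 4, 0, 4, 3, 4, 3, 1]), (126, false, [4, 0, 1, 0, 4, 3, 4, 3, 1, 0, 1, 0,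 1, 0, 1]), (28, false, [0, 1, 3, 1, 0, 1, 3, 4, 0, 1, 0, 1, 3, 1, 0]), (67, false, [2, 0, 1, 3, 1, 0, 1, 0, 1, 3, 4, 3, 1, 0, 1, 3]), (153, true, [2, 4, 3, 4, 0, 1, 3, 1, 3, 4, 3, 4, 0, 4, 0, 4]), (220, true, [3, 1, 3, 4, 0, 1, 0, 1, 3, 4, 3, 1, 0, 1]), (253, true, [2, 0, 4, 0, 4, 0, 1, 3, 4, 0, 4, 0, 4, 3, 4, 0, 1]), (64, true, [2, 4, 0, 4, 3, 4, 3, 4, 0, 1, 3, 1, 3, 4]), (110, true, [4, 0, 1, 3, 4, 3, 1, 0, 1, 3, 1, 3, 4, 0, 1, 3]), (154, true, [3, 1, 0, 1, 3, 4, 3, 1, 0, 4]), (222, true, [2, 0, 1, 3, 1, 0, 1, 3, 1, 0, 4, 0, 1]), (66, true, [2, 4, 3, 1, 3, 1, 3, 4, 3, 4, 0, 1, 3, 4]), (64, true, [1, 3, 1, 0, 4, 3, 4, 0, 1, 3, 1, 3, 4, 0, 4, 0]), (178, false, [2, 4, 0, 1, 3, 1, 3, 1, 0, 1, 0, 4, 3, 1, 3, 4]), (277, false,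 [3, 4, 0, 4, 0, 4, 0, 1, 3, 4, 0, 4, 0, 4]), (232, false, [0, 4, 3, 4, 0, 1, 0, 1, 0, 1, 3, 4, 0, 4, 3, 1]), (124, true, [3, 1, 0, 1, 3, 4, 0, 4, 3, 4, 3, 4, 3]), (192, true, [2, 4, 0, 1, 3, 4, 3, 1, 0, 1, 0, 4, 3, 1, 3, 4, 0]), (69, true, [2, 4, 3, 1, 3, 1, 0, 1, 0, 1, 3, 4, 3, 1]), (123, false, [2, 0, 1, 0, 4, 3, 4, 0, 4, 3, 4, 3, 4, 3, 1]), (38, true, [0, 4, 3, 1, 0, 1, 0, 1, 0, 1, 3, 1, 3, 1, 3])]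
def r74 : List (ℕ × Bool × List ℕ) := [(256, true, [1, 0, 1, 0, 1, 0, 2, 4, 0, 4, 3, 1, 0, 1, 3, 1, 3]), (256, true, [1, 0, 1, 0, 1, 0, 2, 4, 0, 4, 3, 1, 0, 1, 3, 1]), (267, false, [4, 3, 4, 3, 1, 0, 1, 3, 1, 0]), (256, true, [1, 0, 1, 0, 1, 0, 4, 3, 4, 0, 1, 3, 1, 0, 1, 0]), (256, true, [1, 0, 1, 2, 0, 1, 0, 1, 3, 4, 0, 4, 3, 4, 0, 1]), (79, true, [1, 0, 4, 3, 1, 3, 4, 0, 1]), (256, false, [1, 0, 2, 4, 3, 1, 0, 1, 3, 1, 0, 1, 0, 1, 3, 4]), (256, true, [1, 0, 1, 0, 1, 0, 4, 3, 4, 0, 1, 3, 1, 0, 1]), (223, true, [0, 1, 2, 0, 1, 0, 1, 3, 1, 0, 4, 0, 4, 0, 1, 3, 1, 3]), (267, false, [4, 3, 4, 3, 1, 0, 1, 3, 1, 3]), (267, false, [4, 3, 4, 3, 1, 0, 1, 3, 1]), (256, true, [1, 0, 1, 3, 1, 3, 1, 0, 4, 3, 4, 0, 4, 3, 1]), (79,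 true, [0, 1, 0, 4, 3, 1, 3, 4, 0, 1]), (238, true, [4, 3, 1, 3, 1, 0, 4, 0, 4, 3, 4]), (63, false, [1, 0, 2, 4, 0, 4, 0, 1, 3, 4, 3, 4, 0, 1]), (79, true, [1, 0, 4, 3, 1, 3, 4, 0, 1, 3]), (256, false, [1, 2, 0, 4, 3, 4, 3, 1, 0, 4, 0, 4, 3, 4, 0, 4]), (256, false, [1, 0, 4, 0, 1, 3, 1, 0, 1, 3, 1, 3, 1, 0, 4]), (256, false, [2, 0, 4, 3, 1, 0, 1, 0, 4, 3, 1, 3, 1, 0, 1]), (223, true, [0, 1, 3, 1, 3, 1, 0, 1, 3, 4, 3, 4, 3, 1, 0, 1, 0]), (223, true, [0, 1, 2, 0, 1, 0, 1, 3, 1, 0, 4, 0, 4, 0, 1, 3, 1]), (223, true, [2, 0, 1, 3, 1, 0, 1, 3, 4, 3, 1, 0, 1, 0, 1, 0, 1]), (281, true, [0, 1, 3, 1, 3, 4, 3, 4, 0, 4, 0, 4, 3, 4, 3]), (238, false, [4, 0, 1, 0, 4, 3, 4, 3, 1, 0, 1, 0, 1]), (238, true, [0, 4, 3, 4, 0, 4, 3, 1, 3,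 1, 3, 1]), (63, false, [1, 0, 4, 3, 4, 3, 1, 0, 4, 0, 4, 3, 1]), (238, true, [4, 0, 1, 0, 1, 0, 1, 3, 4, 0, 4]), (63, false, [0, 4, 3, 1, 3, 1, 0, 1, 3, 1, 0, 1, 0, 4]), (156, false, [4, 0, 4, 3, 1, 0, 1, 0, 1, 3, 4, 0, 1]), (271, true, [0, 4, 3, 1, 0, 1, 3, 4, 0, 4, 0, 1, 3, 1, 0]), (238, false, [3, 4, 0, 1, 0, 1, 3, 4, 0, 4, 0, 4, 3, 1]), (256, false, [1, 3, 4, 0, 4, 0, 1, 3, 4, 3, 4, 0, 4, 3, 4]), (62, true, [1, 0, 1, 3, 1, 3, 4, 3, 4, 0, 4, 0, 4, 3, 1]), (256, false, [3, 4, 0, 1, 3, 1, 3, 4, 0, 1, 0, 1, 3, 1]), (156, true, [1, 2, 0, 4, 0, 4, 3, 4, 0, 1, 3, 1]), (196, false, [0, 1, 3, 1, 0, 1, 0, 4, 3, 1, 0, 1, 0, 1, 3]), (223, true, [3, 1, 0, 1, 0, 1, 3, 4, 3, 1, 0, 1, 3, 1, 3, 1]), (223, true, [0, 1, 3, 1, 3, 1,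 0, 1, 3, 4, 3, 4, 3, 1, 0, 1]), (79, false, [1, 0, 1, 0, 4, 3, 1, 0, 4, 0, 4]), (156, false, [4, 0, 4, 3, 1, 0, 1, 0, 1, 3, 4, 0, 1, 0]), (244, false, [0, 1, 3, 4, 0, 4, 3, 4, 3, 1, 0, 1]), (281, false, [3, 1, 0, 4, 0, 4, 0, 1, 3, 1, 0, 1, 3]), (281, true, [0, 1, 3, 1, 3, 4, 3, 4, 0, 4, 0, 4, 3, 4]), (281, true, [0, 1, 2, 0, 1, 0, 4, 0, 4, 3, 4, 3, 4, 0, 4]), (238, false, [4, 0, 1, 0, 4, 3, 4, 3, 1, 0, 1, 0, 1, 3]), (267, true, [1, 0, 1, 3, 4, 0, 4, 0, 4, 0, 4, 3, 1, 0, 1]), (74, true, [1, 0, 4, 3, 1, 3, 4, 0, 1]), (74, true, [4, 0, 1, 3, 4, 3, 1, 0, 4]), (244, true, [1, 0, 1, 3, 1, 3, 4, 0, 1, 0, 1, 3, 1, 0, 4, 3]), (156, false, [4, 0, 4, 3, 1, 0, 1, 0, 1, 3, 4, 0, 1, 3]), (271, true, [0, 2, 4, 0, 1, 3, 1, 0, 4, 3, 4,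 3, 1, 0, 1]), (271, true, [0, 4, 3, 1, 0, 1, 3, 4, 0, 4, 0, 1, 3, 1]), (62, true, [4, 3, 1, 3, 1, 3, 1, 0, 1, 0, 4, 0, 4, 0, 4]), (62, true, [0, 1, 3, 1, 3, 1, 3, 4, 3, 4, 0, 4, 0, 4, 0, 1]), (156, true, [1, 3, 4, 3, 4, 0, 4, 3, 1, 0, 1]), (196, false, [0, 1, 3, 1, 0, 1, 0, 4, 3, 1, 0, 1, 0, 1, 0]), (156, true, [0, 4, 3, 4, 0, 1, 3, 1, 0, 1, 0, 4]), (196, false, [0, 1, 3, 1, 0, 1, 0, 4, 3, 1, 0, 1, 0, 1]), (244, false, [0, 1, 2, 0, 4, 3, 4, 0, 4, 0, 1, 3, 1]), (281, false, [3, 1, 0, 4, 0, 4, 0, 1, 3, 1, 0, 1, 0]), (79, false, [0, 1, 0, 1, 0, 4, 3, 1, 0, 4, 0, 4]), (79, false, [1, 0, 1, 0, 4, 3, 1, 0, 4, 0, 4, 0]), (244, false, [0, 1, 3, 4, 0, 4, 3, 4, 3, 1, 0, 1, 0]), (281, false, [3, 1, 0, 4, 0, 4, 0, 1, 3, 1, 0, 1]),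 (223, false, [4, 3, 1, 3, 1, 3, 4, 0, 4, 3, 1, 3, 1, 3, 1]), (244, true, [1, 0, 1, 3, 1, 3, 4, 0, 1, 0, 1, 3, 1, 0, 4]), (223, false, [2, 4, 0, 1, 0, 1, 0, 4, 3, 4, 0, 1, 0, 1, 0, 1]), (244, true, [1, 0, 1, 2, 0, 1, 0, 4, 3, 1, 3, 1, 0, 1, 3, 4]), (267, true, [3, 4, 0, 4, 3, 1, 0, 1, 0, 1, 3, 4, 0, 4]), (267, true, [2, 0, 4, 3, 4, 0, 1, 3, 1, 3, 1, 0, 4, 3, 4]), (68, false, [0, 1, 0, 1, 2, 0, 4, 3, 4, 3, 4, 0, 4, 0, 1, 3, 1, 3]), (68, false, [0, 1, 0, 1, 3, 4, 0, 4, 0, 4, 3, 4, 3, 1, 0, 1, 0]), (267, false, [4, 0, 1, 3, 4, 3, 1, 0, 1, 3, 4, 3, 4, 0]), (271, false, [1, 0, 1, 3, 4, 3, 1, 0, 1, 0, 1, 3, 1, 0]), (74, true, [4, 0, 1, 3, 4, 3, 1, 0, 4]), (202, false, [0, 1, 3, 4, 3, 1, 0, 1, 3, 1, 0, 1, 0, 4]), (63, true, [0,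 1, 3, 1, 0, 4, 0, 4, 3, 4, 0]), (74, true, [1, 0, 4, 3, 1, 3, 4, 0, 1]), (202, true, [0, 4, 3, 4, 0, 1, 3, 4, 3, 4, 3, 4, 0]), (196, true, [0, 1, 0, 4, 3, 4, 0, 1, 3, 1]), (223, false, [4, 3, 1, 3, 1, 3, 4, 0, 4, 3, 1, 3, 1, 3, 1, 0]), (223, false, [0, 4, 0, 1, 0, 1, 3, 1, 3, 1, 0, 4, 0, 4, 3, 4]), (223, false, [0, 2, 4, 3, 1, 3, 1, 0, 1, 0, 1, 3, 4, 3, 4, 0, 4]), (223, false, [2, 4, 0, 1, 0, 1, 0, 4, 3, 4, 0, 1, 0, 1, 0, 1, 3]), (68, false, [0, 1, 0, 1, 2, 0, 4, 3, 4, 3, 4, 0, 4, 0, 1, 3, 1]), (68, false, [2, 0, 1, 3, 4, 0, 1, 3, 1, 3, 1, 0, 1, 0, 1, 3, 1]), (68, false, [3, 1, 0, 4, 3, 1, 0, 1, 0, 1, 3, 1, 3, 1, 0, 1]), (68, false, [0, 1, 0, 1, 3, 4, 0, 4, 0, 4, 3, 4, 3, 1, 0, 1]), (267, false, [0, 1, 0, 1, 0, 4, 0,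 4, 3, 1, 3, 4, 0, 1]), (267, false, [4, 0, 1, 3, 4, 3, 1, 0, 1, 3, 4, 3, 4]), (271, false, [1, 0, 4, 3, 4, 3, 4, 0, 4, 0, 1, 3, 4]), (271, false, [1, 0, 1, 3, 4, 3, 1, 0, 1, 0, 1, 3, 1]), (202, false, [0, 1, 3, 4, 3, 1, 0, 1, 3, 1, 0, 1, 0, 4, 0]), (202, false, [0, 1, 3, 4, 3, 1, 0, 1, 3, 1, 0, 1, 0, 4, 3]), (63, true, [0, 1, 2, 0, 1, 3, 4, 3, 4, 0, 4]), (63, true, [0, 1, 3, 1, 0, 4, 0, 4, 3, 4]), (202, true, [0, 2, 4, 0, 4, 3, 1, 0, 4, 0, 4, 0, 4]), (202, true, [0, 4, 3, 4, 0, 1, 3, 4, 3, 4, 3, 4]), (196, true, [0, 1, 0, 4, 3, 4, 0, 1, 3, 1, 0]), (196, true, [0, 1, 0, 4, 3, 4, 0, 1, 3, 1, 3]), (267, true, [0, 2, 4, 3, 4, 0, 1, 0, 1]), (68, true, [2, 4, 0, 4, 3, 4, 3, 4, 3, 4, 0, 1, 3]), (68, true, [4, 3, 4, 0, 4, 0,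 4, 0, 4, 3, 1, 0]), (267, true, [0, 4, 0, 4, 3, 1, 3, 1]), (62, false, [0, 4, 3, 4, 3, 4, 3, 4, 0, 1, 3, 4, 0]), (62, false, [0, 4, 3, 4, 3, 4, 3, 4, 0, 1, 3, 4, 3]), (68, true, [4, 3, 4, 0, 4, 0, 4, 0, 4, 3, 1]), (68, true, [2, 4, 0, 4, 3, 4, 3, 4, 3, 4, 0, 1]), (68, true, [4, 3, 4, 0, 4, 0, 4, 0, 4, 3, 1, 3]), (68, true, [2, 4, 0, 4, 3, 4, 3, 4, 3, 4, 0, 1, 0]), (267, true, [0, 4, 0, 4, 3, 1, 3, 1, 0]), (62, false, [0, 4, 3, 4, 3, 4, 3, 4, 0, 1, 3, 4])]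
def r75 : List (ℕ × Bool × List ℕ) := [(134, true, [0, 1, 0, 1, 0, 1, 3, 4, 0, 4, 3, 4, 0, 1, 0]), (217, false, [0, 4, 0, 4, 0, 4, 3, 1, 0, 1, 3, 4, 0, 1]), (119, true, [3, 4, 0, 1, 3, 1, 3, 4, 3, 4, 3, 1, 0]), (235, true, [0, 1, 0, 1, 0, 1, 0, 4, 3, 4, 0, 1, 3, 1, 0]), (233, true, [1, 3, 4, 3, 1, 0, 1, 3, 4, 0, 4, 3]), (107, true, [0, 1, 0, 1, 3, 4, 0, 4, 3, 4, 3, 4, 0, 4, 3, 4, 3]), (65, true, [4, 0, 1, 0, 1, 0, 4, 0, 4, 3, 1, 3, 4, 0]), (226, true, [0, 1, 0, 4, 3, 4, 3, 4, 3, 1, 0, 1, 3, 1, 3]), (127, true, [0, 4, 0, 4, 3, 1, 3, 4, 0, 4, 3, 1]), (170, false, [1, 2, 0, 4, 3, 1, 0, 1, 3, 1, 0, 1, 0, 4, 0, 4]), (189, false, [0, 2, 4, 0, 4, 0, 1, 3, 1, 0, 4, 3, 4, 0, 4]), (258, false, [0, 4, 0, 1, 0, 1, 3, 4, 0, 1, 3,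 1, 0]), (20, false, [0, 1, 0, 1, 3, 1, 3, 4, 3, 4, 3, 4, 3, 4, 0]), (170, false, [0, 1, 0, 1, 3, 1, 3, 1, 3, 1, 0, 1, 0, 1, 0, 1, 3]), (79, false, [1, 0, 1, 0, 1, 3, 1, 3, 4, 3, 4]), (221, false, [1, 0, 1, 0, 1, 2, 0, 1, 0]), (153, true, [0, 1, 3, 4, 0, 1, 3, 1, 0, 1, 0, 4, 3, 4, 3]), (167, true, [0, 2, 4, 3, 4, 0, 4, 0, 1, 3, 4, 0, 4, 0, 1]), (61, false, [3, 1, 0, 1, 3, 1, 3, 1, 3, 4, 3, 4, 3, 4, 0, 4]), (198, true, [1, 0, 2, 4, 0, 4, 3, 1, 0, 1, 3, 1, 3, 1]), (122, true, [2, 0, 4, 3, 1, 0, 1, 3, 4, 0, 1, 3]), (247, false, [1, 0, 1, 3, 4, 3, 4, 0, 4, 0, 4, 0]), (7, false, [0, 1, 2, 0, 4, 0, 4, 0, 4, 3, 1, 3, 4, 0, 4]), (206, true, [4, 0, 4, 3, 4, 3, 4, 0, 4, 3, 1, 0, 4]), (220, false, [2, 0, 4, 3, 1, 0, 4, 3, 4, 0, 4,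 0, 4, 3, 1, 0, 4]), (219, false, [1, 0, 2, 4, 0, 4, 3, 1, 3]), (212, true, [0, 1, 3, 4, 3, 4, 0, 1, 3, 1, 3, 4]), (187, false, [4, 0, 4, 0, 4, 3, 1, 0, 1, 0]), (127, true, [2, 4, 3, 1, 0, 4, 0, 4, 3, 1, 3, 4, 0, 4, 3, 1]), (92, false, [0, 1, 0, 1, 0, 1, 0, 2, 4, 3, 4, 3, 4, 0, 4, 3, 1]), (191, true, [1, 3, 4, 3, 4, 0, 4, 0, 4, 3, 4, 3, 1]), (1, true, [1, 0, 2, 4, 0, 4, 3, 4, 0, 4, 0, 4]), (216, false, [2, 0, 1, 3, 4, 3, 4, 0, 4, 0, 4]), (107, true, [1, 3, 4, 3, 1, 0, 1, 3, 1, 0, 1, 0, 4, 3]), (84, true, [1, 0, 2, 4, 3, 1, 0, 4, 0, 4, 3, 1, 3, 1]), (226, false, [3, 1, 3, 4, 0, 4, 0, 4, 3, 4, 3, 1, 0, 1, 0, 1]), (212, true, [0, 1, 0, 1, 2, 0, 4, 3, 4, 0, 4, 0, 4, 3, 4, 0, 4, 0]), (226, true, [0, 1, 0, 2, 4, 0, 4, 0, 4,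 0, 4, 3, 4, 3, 4, 3, 4]), (112, true, [0, 1, 0, 4, 0, 4, 0, 4, 3, 1, 3, 1, 3]), (170, false, [1, 0, 1, 2, 0, 1, 3, 1, 0, 1, 3, 1, 3, 1, 0]), (148, false, [0, 4, 3, 1, 0, 1, 0, 1, 3, 1]), (276, false, [0, 4, 0, 1, 3, 1, 3, 1, 3, 1, 0]), (81, true, [2, 4, 0, 1, 0, 1, 3, 4, 0, 1, 3, 1, 3, 1]), (187, false, [2, 4, 0, 4, 0, 4, 3, 1, 0, 1, 0]), (235, true, [0, 2, 4, 0, 1, 3, 4, 0, 4, 0, 1, 3, 1, 0, 4, 3, 4]), (269, false, [1, 0, 4, 3, 1, 0, 4, 0, 4, 0, 1]), (226, true, [0, 1, 0, 2, 4, 0, 4, 0, 4, 0, 4, 3, 1, 3]), (77, false, [4, 3, 1, 3, 1, 3, 4, 3, 4, 3, 1]), (75, true, []), (87, true, [3, 4, 0, 1, 0, 1, 0, 1, 0, 1, 0, 1]), (215, false, [2, 0, 1, 3, 1, 3, 1, 0, 4, 3, 4, 0, 1, 3, 1]), (119, false, [1, 2, 0, 1, 3, 4, 0, 4, 3,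 1, 3, 1, 3, 4, 0]), (191, false, [1, 2, 0, 4, 3, 1, 3, 1, 3, 4, 0, 4, 3, 1, 3]), (268, true, [0, 1, 0, 1, 0, 1, 3, 1, 3, 1, 0, 4, 3, 1, 0]), (221, false, [1, 0, 4, 0, 1, 3, 4, 0, 4, 3, 1, 0, 1, 0]), (141, true, [2, 0, 1, 0, 4, 3, 1, 0, 1, 3, 1, 3, 4]), (65, true, [1, 0, 2, 4, 0, 4, 0, 1, 3, 1, 0, 4, 0, 4, 0, 4, 0]), (191, false, [1, 0, 1, 3, 4, 0, 1, 3, 1, 0, 1]), (57, true, [1, 0, 2, 4, 0, 4, 3, 4, 3, 4, 0, 4, 3, 1, 0, 4]), (215, false, [0, 1, 0, 4, 3, 1, 0, 1, 0, 4, 0, 4, 3, 1]), (205, false, [4, 3, 1, 3, 1, 0, 1, 3, 4, 0]), (170, false, [4, 0, 4, 3, 4, 0, 4, 3, 1, 0, 4, 0, 4, 3, 4]), (26, true, [1, 0, 1, 2, 0, 4, 0]), (112, true, [1, 2, 0, 4, 0, 1, 3, 1, 0, 4, 0, 4, 3]), (212, false, [4, 3, 1, 0, 4, 3, 4, 3, 1, 0,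 1, 0, 1, 0, 1, 0]), (20, false, [1, 3, 1, 3, 1, 3, 1, 3, 4, 3, 4, 3, 4, 0]), (177, true, [1, 3, 4, 0, 1, 3, 4, 3, 4, 0]), (61, false, [0, 1, 3, 1, 0, 4, 3, 4, 3, 4, 3, 4, 0, 4, 0]), (134, false, [0, 1, 3, 1, 0, 4, 3, 1, 3, 1, 0, 4]), (191, true, [1, 0, 2, 4, 3, 4, 3, 4, 0, 1, 0, 1, 3, 1]), (6, false, [3, 1, 3, 1, 0, 1, 0, 4, 0, 4, 0, 4, 3, 4, 3]), (148, false, [2, 4, 0, 4, 0, 1, 3, 4, 3, 4, 3, 4, 0, 4]), (215, false, [3, 1, 3, 1, 3, 1, 0, 4, 0, 4, 3, 1, 0, 1, 3]), (225, false, [0, 2, 4, 3, 4, 3, 4, 0, 4, 3, 4, 0, 1, 3, 1, 3, 1]), (176, false, [0, 2, 4, 0, 4, 3, 4, 0, 1, 0, 1, 3, 4, 3, 1]), (212, false, [0, 1, 2, 0, 1, 3, 1, 0, 1, 0, 1, 3, 4, 0, 4, 3, 4]), (276, false, [1, 2, 0, 4, 0, 1, 3, 1, 0, 4, 0, 4, 3, 1, 3]), (153,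 true, [1, 0, 2, 4, 0, 1, 3, 1, 3, 1, 3, 4, 0, 4, 3]), (245, true, [2, 4, 3, 4, 3, 1, 0, 1, 3, 1, 0, 4]), (219, false, [1, 0, 4, 3, 1, 0, 1, 3, 1, 3]), (220, false, [4, 0, 1, 3, 1, 3, 1, 3, 4, 0, 1, 0, 1, 3, 1]), (216, false, [2, 0, 4, 3, 4, 3, 4, 0, 1, 0, 1]), (225, false, [0, 4, 3, 1, 3, 1, 3, 1, 0, 1, 3, 4, 0]), (87, true, [1, 0, 1, 0, 1, 0, 1, 0, 1, 2, 0, 1, 0, 4, 3, 4, 3]), (75, false, [2, 4, 3, 1]), (197, false, [2, 4, 0, 4, 0, 4, 0, 1, 3, 1, 0, 4, 0, 4, 3]), (92, false, [0, 1, 0, 1, 3, 4, 3, 1, 0, 4, 3, 4, 3, 4, 0, 4, 3]), (77, false, [2, 4, 3, 4, 0, 4, 3, 4, 0, 1, 0, 1, 3, 4]), (6, false, [0, 2, 4, 0, 4, 3, 1, 3, 1, 3, 1, 0]), (57, true, [1, 3, 4, 0, 4, 3, 4, 3, 4, 0, 4, 3, 1, 0, 4]), (19, true, [1, 2, 0, 1, 3,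 4, 3, 4, 0, 4, 0]), (122, true, [3, 4, 0, 1, 3, 1, 0, 4, 0, 4, 0, 1, 3, 1, 3]), (19, true, [4, 0, 4, 0, 1, 3, 1, 3, 1, 0, 1, 3, 4, 3]), (226, true, [4, 3, 4, 0, 1, 3, 1, 3, 1, 0, 1, 0, 1, 0]), (244, false, [3, 4, 3, 4, 0, 4, 3, 1, 0, 4, 3]), (189, false, [0, 1, 0, 4, 3, 4, 0, 4, 0, 1, 3, 1, 3, 1, 3, 1, 3]), (226, false, [1, 0, 2, 4, 0, 4, 0, 4, 0, 4, 3, 1, 0, 1, 3, 4, 0]), (214, true, [4, 3, 1, 3, 1, 0, 4, 0, 4, 0]), (113, true, [0, 4, 0, 4, 0, 1, 3, 4, 0, 4, 3, 1, 3, 1, 0, 4]), (5, false, [1, 0, 1, 2, 0, 1, 3, 4, 3, 4, 3, 1]), (233, false, [0, 1, 0, 4, 0, 4, 0, 4, 3, 1, 3, 1, 3]), (176, false, [0, 1, 3, 4, 3, 1, 0, 1, 0, 4, 3, 1, 3, 4, 0, 4]), (100, true, [0, 2, 4, 3, 1, 3, 1]), (7, false, [1, 0, 1, 3, 4, 3, 4, 0, 4,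 0, 1, 3, 1, 0, 1]), (269, false, [2, 4, 0, 1, 3, 4, 3, 1, 0, 1, 0, 1, 0]), (206, false, [4, 0, 1, 0, 1, 0, 1, 0, 4, 3]), (141, true, [1, 3, 1, 3, 1, 3, 1, 0, 1, 0, 1, 3, 1, 0, 4]), (214, true, [2, 4, 3, 4, 3, 1, 0, 1, 3, 1, 0, 1, 0, 4, 0]), (120, false, [1, 3, 4, 0, 1, 3, 1, 3, 4, 3, 4]), (268, true, [2, 0, 4, 3, 1, 0, 1, 3, 4, 3, 4]), (5, false, [1, 0, 4, 3, 1, 0, 1, 3, 4, 3, 4, 0, 1, 0]), (258, false, [0, 1, 0, 1, 0, 4, 3, 4, 0, 1, 3, 4, 0])]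
def r76 : List (ℕ × Bool × List ℕ) := [(232, true, [4, 3, 1, 0, 1, 0, 4, 0, 4, 3, 4, 3, 4, 0]), (187, false, [3, 4, 3, 1, 0, 1, 0, 1, 3, 1, 3, 4]), (68, false, [1, 0, 2, 4, 0, 4, 0, 4, 0, 1, 3, 4, 3, 4, 0, 4]), (224, false, [1, 0, 1, 3, 1, 3, 1, 3, 4, 3, 4, 0, 4, 3, 4]), (177, true, [0, 4, 3, 1, 0, 4, 3, 4, 0, 4, 0]), (108, true, [0, 1, 3, 4, 3, 4, 0, 1, 0, 1, 0, 1, 3, 4]), (40, false, [0, 1, 3, 1, 0, 4, 0, 4, 0, 1, 0]), (185, true, [3, 1, 3, 1, 3, 1, 3, 1, 0, 4, 3, 1]), (94, false, [2, 0, 4, 3, 4, 0, 1, 3, 1, 3, 1]), (187, false, [0, 1, 3, 1, 0, 4, 0, 4, 0, 4, 3, 1, 3, 4, 0, 4]), (172, true, [0, 1, 0, 1, 0, 1, 2, 0, 1, 3, 4, 3, 1]), (143, false, [2, 4, 0, 4, 0, 4, 0, 1]), (256, false, [1, 0, 1, 3, 4, 3, 1, 0, 1, 0, 1,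 3]), (255, true, [1, 2, 0, 4, 0, 1, 3, 1, 3, 4, 0, 4, 0, 1, 3, 1, 3]), (189, true, [1, 3, 1, 0, 1, 3, 1, 0, 1, 0, 1, 3, 4, 3]), (226, false, [1, 2, 0, 4, 0, 1, 3, 1, 3, 1, 3, 1, 0, 1, 3]), (215, true, [0, 1, 3, 4, 3, 4, 0, 4, 3, 4, 0, 4]), (96, true, [0, 2, 4, 3, 4, 3, 1, 0, 1, 3, 1, 3, 4, 0, 4, 0]), (256, false, [1, 0, 2, 4, 0, 4, 3, 4, 3, 1, 0, 1, 0, 1, 3]), (140, false, [0, 4, 0, 4, 3, 4, 3]), (151, false, [2, 0, 1, 3, 1, 3, 1, 0, 4, 0, 4, 3, 1, 0]), (134, true, [3, 1, 0, 1, 3, 1, 3, 1, 0, 1]), (226, true, [0, 1, 0, 1, 0, 1, 2, 0, 1, 0, 1, 0, 1, 3, 1, 3, 4]), (44, false, [3, 1, 0, 4, 3, 1]), (257, true, [2, 0, 4, 0, 1, 3, 4, 3, 4, 0, 4, 0, 4]), (123, false, [1, 3, 1, 3, 4, 0, 4, 3, 4, 3, 4, 0, 4, 3, 4]), (247, true,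 [2, 0, 4, 0, 1, 0, 1, 0, 1, 3, 1, 0, 1]), (257, false, [3, 4, 3, 1, 0, 4, 0, 4, 3, 1]), (40, false, [1, 3, 4, 0, 1, 3]), (226, false, [4, 3, 4, 3, 4, 3, 1, 0, 4, 0, 4, 3, 4, 3, 1]), (134, false, [0, 1, 0, 1, 0, 1, 3, 4, 3, 4, 0, 1, 0, 4]), (249, true, [1, 2, 0, 1, 0, 1, 3, 4, 0, 4, 3, 1, 3]), (191, false, [1, 0, 2, 4, 0, 1, 3, 1, 3, 1, 0, 1, 3, 4, 0, 1, 0]), (108, true, [3, 1, 0, 4, 3, 4, 0, 1, 3, 4, 3]), (151, true, [2, 0, 1, 3, 1, 3, 1, 3, 1, 3, 1, 0, 1]), (50, false, [0, 2, 4, 3, 1, 0, 1, 0, 4, 3, 1]), (83, false, [0, 1, 0, 1, 3, 4, 0, 1, 3, 1, 3, 1, 0, 4]), (94, false, [1, 2, 0, 4, 0, 4, 0, 4, 0, 1, 3]), (185, true, [1, 0, 1, 3, 1, 0, 1, 3, 1, 3, 1, 0, 1, 0]), (235, true, [0, 2, 4, 3, 4, 0, 1, 3, 1, 0, 4, 0, 4, 0,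 4, 3]), (0, false, [0, 4, 0, 1, 3, 1, 0, 1, 0, 1, 3, 4, 0, 1, 0]), (246, true, [0, 1, 3, 1, 3, 1, 0, 4, 3, 1, 3, 1, 0, 1, 3]), (217, false, [2, 4, 3, 1, 3, 1, 3, 4, 3, 4, 0]), (140, false, [1, 2, 0, 4, 3, 1, 0, 1, 0, 4, 0, 4, 3, 4, 0]), (195, true, [0, 2, 4, 3, 4, 0, 4, 3, 4, 3, 4, 0, 1]), (4, true, [3, 4, 3, 4, 0, 1, 3, 1, 0, 1, 3, 1]), (261, false, [0, 4, 0, 1, 3, 4, 0, 4, 0, 4, 0, 1, 3, 4, 3, 4]), (121, false, [2, 0, 4, 3, 4, 0, 4, 3, 4, 0, 1, 3, 1]), (121, true, [0, 1, 3, 1, 3, 4, 0, 4, 3, 1, 3, 1, 3, 1]), (261, true, [1, 3, 4, 0, 4, 0, 4, 0, 1, 3, 4, 0, 4, 0]), (40, false, [2, 0, 1, 3, 4, 3, 4, 3, 4, 0, 1, 0, 1, 0]), (96, true, [0, 1, 3, 4, 0, 4, 0, 4, 0, 4, 3, 1, 0, 4, 3]), (190, true, [4, 3, 4, 3, 4, 0, 4, 0, 4,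 3, 1, 0, 1, 3, 1]), (197, true, [4, 0, 1]), (246, false, [4, 3, 4, 3, 1, 3]), (123, true, [2, 0, 4, 3, 1, 3, 1, 0, 1, 0, 1, 3, 4, 3, 1]), (216, false, [1, 0, 2, 4, 0, 1, 0, 1, 0, 4, 3, 4, 0, 1, 0, 1]), (172, true, [4, 0, 4, 0, 1, 3, 1, 0, 1, 0, 1, 3, 4, 0, 4]), (0, true, [3, 1, 0, 1, 3, 1, 3, 1, 0, 1, 0, 1]), (215, true, [1, 0, 1, 3, 1, 3, 1, 0, 1, 0, 1, 3, 4, 0, 1]), (187, false, [2, 0, 4, 0, 4, 0, 1, 3, 1, 3, 4]), (246, false, [4, 0, 1, 3, 4, 0, 4, 3, 1, 3, 1, 3, 1, 3]), (0, false, [4, 0, 1, 3, 1, 0, 4, 0, 4, 3, 1, 3, 4]), (261, false, [0, 1, 2, 0, 4, 3, 4, 3, 1, 0, 1, 0, 4, 0, 4]), (79, false, [3, 4, 3, 4, 3, 4, 0, 1, 0, 1, 3, 4, 3, 4, 0, 4]), (121, true, [1, 0, 4, 0, 4, 0, 1, 3, 1, 0, 4, 3, 4, 0, 4]), (257, true,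 [0, 1, 3, 4, 0, 4, 0, 1, 3, 4, 0]), (121, true, [4, 0, 1, 0, 1, 3, 4, 3, 4, 0, 4, 0, 1]), (151, false, [4, 0, 1, 3, 4, 3, 1, 0, 1, 0, 4, 0, 4]), (94, false, [1, 0, 4, 0, 4, 0, 4, 0, 1, 3]), (247, true, [1, 0, 2, 4, 0, 1, 3, 1, 3, 1, 0, 4, 3, 4, 3, 4]), (177, true, [0, 1, 0, 4, 3, 1, 3, 4, 0, 4, 0, 1, 3, 4, 0]), (216, false, [1, 2, 0, 1, 3, 1, 0, 1, 3, 1, 0]), (246, false, [0, 1, 0, 1, 3, 1, 0, 1, 3, 4, 3, 4, 0, 1]), (226, true, [0, 1, 0, 1, 0, 1, 3, 4, 0, 1, 3, 1, 3, 4]), (228, true, [3, 1, 3, 1, 0, 1, 0, 1]), (228, false, [0, 4, 3, 1, 0, 4, 0, 4, 0, 1, 3]), (174, true, [0, 2, 4, 0, 4, 0, 4, 0, 1, 3, 4, 0]), (245, false, [3, 4, 3, 4, 0, 1, 0, 1, 3, 4, 3, 1, 0]), (4, false, [0, 1, 2, 0, 4, 3, 4, 0, 1, 0, 1, 3, 4, 0, 1]),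 (50, false, [3, 1, 0, 1, 3, 1, 3, 1, 3, 4, 3, 4, 3, 4]), (68, false, [1, 0, 1, 3, 4, 0, 1, 0, 1, 3, 4, 0, 1, 0]), (187, false, [1, 3, 1, 3, 4, 0, 1, 0, 1, 3, 4, 0]), (123, true, [4, 3, 4, 3, 1, 0, 4, 0, 4, 3, 1, 0]), (174, false, [0, 2, 4, 3, 4, 3, 4, 0, 1, 0, 1, 0, 4]), (151, true, [3, 4, 3, 1, 0, 1, 0, 1, 0, 4, 3, 1, 3, 1]), (246, false, [4, 3, 1, 3, 1, 0, 1, 0, 4, 3, 1]), (217, false, [1, 0, 2, 4, 0, 4, 3, 4, 0, 1, 3, 4, 3]), (247, true, [1, 2, 0, 1, 0, 4, 3, 4, 0, 1, 3, 4]), (177, true, [1, 0, 4, 0, 4, 3, 1, 3, 1, 0, 4, 0]), (224, false, [1, 0, 1, 0, 2, 4, 0, 4, 3, 1, 3, 1, 3, 1]), (232, true, [1, 2, 0, 1, 0, 4, 3, 4, 0, 1, 3, 1, 3, 1]), (195, false, [3, 1, 0, 1, 0, 4, 3, 4, 3, 4, 3, 4, 0, 4, 0]), (134, true, [3,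 4, 0, 1, 3, 1, 3, 1, 0, 1, 3, 4]), (191, false, [3, 1, 3, 1, 0, 4, 3, 4, 0, 1, 0, 1, 0, 1, 3]), (190, true, [1, 0, 2, 4, 0, 4, 0, 4, 0, 1, 3, 1, 0, 1]), (257, true, [0, 1, 0, 2, 4, 0, 4, 3, 1, 0, 4, 0, 4, 3, 1]), (255, true, [1, 0, 4, 0, 1, 3, 1, 3, 4, 0, 4, 0, 1, 3, 1, 3]), (140, false, [2, 4, 0, 1, 0, 4, 3, 1, 3, 1, 3, 4, 3]), (94, false, [0, 2, 4, 3, 4]), (204, true, [2, 0, 1, 3, 1, 0, 1, 3, 1, 0, 4, 3, 4, 3, 1]), (249, true, [0, 4, 3, 4, 0, 1, 3, 1, 3, 4, 3, 4, 3, 4, 0]), (204, true, [0, 4, 3, 4, 0, 1, 3, 1, 0, 1, 3]), (249, true, [2, 4, 0, 1, 3, 1, 3, 4, 0, 1, 3, 1, 3, 4, 3, 4]), (123, false, [1, 2, 0, 1, 0, 1, 0, 4, 0, 4, 3, 4, 0]), (189, true, [1, 2, 0, 4, 0, 4, 0, 4, 3, 1, 3, 1, 0, 4, 0, 4]), (261, true, [1, 0,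 1, 0, 2, 4, 0, 1, 0, 1, 3, 4, 3, 1, 0]), (235, true, [4, 0, 1, 0, 1, 3, 4, 0, 1, 0, 1, 0, 4]), (246, true, [0, 1, 3, 1, 3, 1, 0, 4, 3, 1, 3, 1, 0, 1, 3]), (208, false, [3, 4, 0, 4, 3, 4, 3, 4, 0, 1, 3]), (40, false, [2, 0, 1, 3, 1, 0, 1, 0, 4, 3, 1]), (196, false, [1, 0, 1, 0, 4, 3, 1, 0, 1, 0, 1, 0])]
def r77 : List (ℕ × Bool × List ℕ) := [(90, false, [1, 2, 0, 4, 3, 4, 0, 1, 3, 1, 0, 1, 3]), (125, true, [1, 3, 1, 3, 4, 0, 1, 3, 1, 0, 4, 0, 4, 0]), (254, true, [2, 0, 1, 3, 1, 0, 1, 0, 1, 3, 4, 0, 1, 0, 4]), (65, true, [1, 0, 2, 4, 3, 1, 0, 1, 0, 4, 3, 1, 0, 1, 3]), (77, true, [0, 1, 3, 4, 0, 1, 0, 1, 0, 4, 0, 4]), (69, true, [0, 1, 0, 4, 3, 1, 0, 1, 3, 4, 3, 1, 0, 4, 0, 4, 0]), (69, false, [0, 4, 0, 1, 3, 1, 3, 1, 3,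 4, 0, 4]), (42, false, [1, 0, 4, 0, 4, 0, 4, 3, 1, 0, 1]), (260, false, [2, 0, 1, 0, 1, 0, 4, 0, 4, 3, 4, 3, 4, 3, 4, 0]), (176, true, [1, 0, 1, 0, 1, 2, 0, 4, 0, 4, 3, 4, 3, 4]), (172, false, [3, 1, 0, 1, 0, 1, 0, 4, 0, 4, 3, 4]), (172, true, [4, 0, 4, 3, 1, 3, 1, 3, 4, 0, 4, 3, 4, 3, 4, 0]), (85, true, [2, 0, 4, 3, 1, 0, 1, 3, 4, 3, 4, 0]), (94, false, [1, 0, 1, 0, 1, 0, 2, 4, 3, 4, 0, 1, 3, 4, 3]), (128, true, [0, 1, 0, 4, 3, 1, 3, 1, 0, 1, 3, 4, 0]), (23, true, [4, 0, 4, 3, 4, 0, 4, 3, 1, 3, 1, 0, 4, 0]), (110, false, [0, 4, 0, 1, 3, 4, 0, 4, 3, 4, 0]), (170, false, [1, 0, 1, 3, 1, 3, 4, 0, 1, 0, 1, 3, 4, 0, 1]), (180, true, [1, 0, 1, 0, 1, 2, 0, 1, 0, 1, 3, 1, 3, 1, 3, 4, 0, 4]), (171, false, [2, 0, 1, 3, 1, 0, 1,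 0, 1, 3, 4, 3, 4, 0, 1, 3, 1]), (166, false, [4, 0, 4, 3, 4, 3, 4, 0, 4, 0, 4, 3, 4]), (254, true, [2, 0, 1, 0, 1, 0, 1, 3, 1, 0, 4, 0, 4, 0, 4]), (77, true, [0, 1, 3, 4, 0, 1, 0, 1, 0, 4, 0, 4]), (85, false, [3, 4, 3, 1, 0, 1, 3, 4, 3, 4, 3, 4, 0, 1]), (225, false, [0, 1, 3, 4, 0, 4, 3, 1, 3, 1, 0, 1, 3, 4]), (21, true, [4, 0, 1, 0, 1, 0, 1, 3, 4, 3, 4, 0, 1]), (258, true, [2, 4, 0, 1, 3, 1, 3, 4, 0, 4, 3, 4, 0]), (274, false, [0, 4, 3, 1, 0, 1, 0, 1, 3, 1, 3, 4, 0]), (61, true, [1, 3, 1, 0, 1, 3, 4, 0, 1, 0, 1, 3, 4, 0]), (180, false, [2, 4, 3, 1, 3, 1, 3, 1, 0, 4, 3, 1, 3, 4]), (260, true, [1, 0, 1, 2, 0, 4, 0, 1, 3, 1, 3, 1, 3, 1, 0, 1]), (66, true, [0, 2, 4, 3, 1, 0, 1, 0, 4, 3, 4, 3, 4, 3, 4, 0, 4, 0]), (263, false,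 [0, 2, 4, 3, 4, 0, 4, 0, 4, 3, 4, 0, 1, 3, 4, 0]), (153, true, [2, 4, 0, 4, 3, 4, 3, 1, 0, 4, 0, 4, 3, 4, 0, 4]), (23, false, [3, 4, 0, 1, 3, 1, 3, 1, 3, 4, 3]), (111, false, [1, 0, 1, 0, 1, 0, 1, 3, 4, 3, 1, 0, 4, 3]), (223, false, [0, 2, 4, 3, 1, 0, 4, 0, 4, 0, 4, 3, 4]), (234, false, [0, 1, 2, 0, 1, 3, 4, 0, 4, 3, 4, 3, 1]), (128, false, [0, 1, 3, 4, 3, 4, 0, 4, 0, 4, 3, 4, 3]), (225, true, [1, 3, 4, 0, 4, 3, 1, 0, 1, 3, 4, 3, 1, 0, 4, 3]), (110, true, [1, 3, 4, 0, 1, 3, 1, 3, 1, 3, 1, 0, 4]), (90, true, [2, 4, 3, 1, 0, 1, 0, 1, 0, 4, 3, 1, 3, 4]), (275, true, [2, 4, 0, 4, 3, 4, 3, 1, 0]), (199, true, [2, 0, 4, 0, 1, 3, 4, 0, 4, 3, 1, 3, 1, 0, 1, 3]), (275, false, [0, 1, 3, 4, 0, 1, 0, 1, 0, 1, 3, 4, 3, 4, 3, 1]),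 (234, false, [3, 4, 0, 1, 0, 1, 0, 4, 0, 4, 3, 4]), (260, false, [1, 2, 0, 1, 0, 1, 3, 1, 3, 1, 0, 4, 0]), (75, false, [4, 0, 1, 0, 1, 0, 4, 0, 4, 0, 1]), (77, true, []), (180, false, [0, 1, 2, 0, 1, 3, 1, 0, 1, 3, 1, 3, 1, 0, 1, 0]), (77, true, []), (65, true, [2, 4, 3, 1, 0, 1, 0, 4, 0, 4, 3, 1, 0, 4, 3]), (108, false, [3, 1, 3, 4, 0, 4, 0, 4, 3, 4, 0, 1, 3, 4]), (234, true, [1, 0, 1, 0, 1, 0, 2, 4, 3, 4, 3, 4, 0, 1, 3]), (35, false, [2, 0, 4, 3, 1, 0, 1, 3, 4, 0, 4, 3, 4]), (85, true, [2, 4, 0, 4, 0, 1, 3, 1, 0, 1, 3]), (69, true, [0, 2, 4, 3, 4, 3, 4, 0, 4, 0, 4, 0, 4, 3, 1, 3, 1, 3]), (260, true, [0, 2, 4, 3, 4, 0, 1, 3, 1, 0]), (95, false, [4, 0, 4, 0, 4, 0, 1, 3, 4, 3, 4, 0, 4, 0, 4]), (59, false, [4, 3, 1, 0,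 4, 0, 4, 3, 4, 0, 1, 3, 4]), (178, true, [0, 1, 0, 1, 0, 1, 0, 4, 0, 4, 3, 4, 3, 4, 3]), (258, false, [4, 3, 1, 3, 1, 3, 1, 3, 4, 0]), (35, true, [3, 1, 3, 1, 0, 4, 3, 1, 3, 1, 3]), (193, false, [0, 1, 3, 1, 3, 4, 3, 4, 3, 4, 3, 1, 0, 4]), (108, true, [1, 3, 4, 3, 4, 0, 4, 0, 1, 3, 1, 0, 4, 3, 1]), (95, true, [2, 4, 0, 1]), (125, false, [0, 1, 0, 1, 0, 4, 0, 4, 3, 4, 3, 4, 0, 1, 3, 1, 0]), (168, true, [1, 3, 1, 0, 1, 3, 4, 0, 4, 3, 4, 0, 4, 0]), (85, false, [2, 4, 3, 4, 3, 4, 0, 1, 0, 1, 3, 1, 3, 1, 0, 4]), (111, true, [1, 0, 4, 3, 1, 0, 1, 0, 1, 3, 1, 3, 1, 3, 1]), (75, true, [0, 1, 0, 4, 0, 4, 3, 1, 3, 4, 0, 4, 3, 1, 3]), (69, false, [2, 4, 3, 1, 0, 1, 0, 4, 3, 4, 0, 4, 0, 1]), (65, false, [1, 0, 1, 2, 0, 4, 3, 1, 0,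 1, 0, 1, 0, 1, 0]), (61, false, [1, 0, 2, 4, 0, 1, 3, 4, 3, 4, 3, 1]), (234, true, [1, 3, 4, 3, 4, 0, 1, 0, 1, 0, 1, 3, 4, 3, 4, 0]), (123, false, [0, 4, 0, 1, 3, 4, 3, 1, 0, 1, 3, 1, 0, 1]), (274, true, [0, 1, 2, 0, 4, 3, 4, 3, 4, 0, 1, 3, 4]), (153, false, [0, 2, 4, 3, 1, 3, 1, 3, 4, 3, 4, 3, 1, 3]), (166, true, [2, 0, 1, 3, 1, 0, 4, 3, 1, 3, 4]), (88, true, [0, 1, 0, 1, 0, 2, 4, 3, 4, 3, 4, 0, 4, 3, 1, 0]), (38, true, [4, 0, 1, 0, 1, 0, 1, 3, 4, 3, 1, 0]), (65, false, [0, 2, 4, 0, 4, 3, 4, 3, 1, 0, 1, 0, 1, 0, 1, 3, 1]), (275, false, [3, 1, 3, 4, 0, 4, 3, 4, 3, 4, 0, 1, 3, 1]), (85, true, [4, 3, 4, 3, 4, 0, 1, 0, 1, 3, 4, 3, 1, 0, 1]), (66, false, [0, 1, 0, 2, 4, 0, 1, 3, 1, 3, 1, 3, 4, 0]), (170, true, [4, 0, 1, 0,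 1, 3, 4, 3, 4, 3, 1]), (194, true, [4, 3, 1, 3, 4, 0, 4]), (168, false, [0, 2, 4, 0, 4, 0, 4, 3, 4, 0, 4, 3, 4, 3]), (194, false, [3, 4, 0, 4, 0, 1, 3, 1, 3, 1, 3]), (85, false, [2, 0, 1, 0, 4, 0, 4, 3, 4, 3, 4, 3]), (86, true, [0, 2, 4, 0, 4, 3, 1, 3, 4, 0, 4, 3, 1, 0, 1, 0, 1]), (178, false, [0, 1, 0, 1, 0, 4, 3, 1, 0, 1, 3, 4, 3, 4, 0]), (21, false, [0, 1, 3, 4, 0, 4, 3, 4, 3, 1, 0, 1, 0, 1, 0]), (86, false, [1, 0, 1, 0, 1, 0, 2, 4, 0, 1, 0, 1, 3, 1, 3, 4]), (222, false, [0, 4, 3, 1, 3, 4, 0, 1, 0, 1, 3, 4, 0, 4]), (94, true, [2, 4, 3, 1, 0, 1, 3, 1, 0, 4, 3]), (275, true, [2, 4, 0, 1, 0, 4, 3, 4, 0, 4, 0, 1, 3, 1, 0, 1]), (59, true, [1, 2, 0, 1, 0, 1, 3, 4, 0, 4, 0, 4, 3, 4, 3]), (263, true, [2, 4, 3, 4, 3, 4, 0,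 4, 0, 4, 3, 4, 3, 4, 0, 1]), (42, true, [4, 0, 4, 3, 4, 0, 4, 3, 1, 0, 1, 0, 4]), (180, true, [2, 4, 0, 1, 0, 1, 0, 1, 3, 1, 3, 1, 3, 4]), (176, false, [0, 1, 0, 1, 0, 1, 3, 1, 3, 1, 3, 1, 0, 4]), (254, false, [0, 2, 4, 0, 4, 0, 1, 3, 1, 0, 4, 3, 1, 3, 1, 0, 4]), (222, true, [3, 4, 3, 1, 0, 1, 0, 4, 3, 4, 3, 4, 3, 1, 3]), (223, true, [2, 4, 3, 4, 0, 1, 0, 1, 0, 4, 3, 4, 0]), (254, false, [1, 2, 0, 1, 3, 4, 3, 4, 3, 4, 0, 4, 0]), (199, false, [2, 0, 4, 3, 1, 0, 1, 0, 4, 0, 4, 3, 1, 3]), (171, true, [1, 2, 0, 4, 3, 4, 3, 4, 3, 4, 0, 1, 3, 4]), (193, false, []), (88, false, [1, 0, 2, 4, 0, 1, 3, 4, 3, 4, 3, 1, 3]), (123, true, [1, 0, 4, 3, 1, 0, 4, 0, 4, 0, 4, 3]), (38, false, [2, 0, 1, 3, 1, 3, 4, 0, 1, 0, 1, 3])]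
def r78 : List (ℕ × Bool × List ℕ) := [(78, false, [2, 4, 3, 4, 0, 1, 3, 1]), (171, true, [2, 0, 1, 0, 4, 3, 1, 3, 1, 3, 4, 0, 1, 3, 1]), (31, true, [1, 0, 4, 0, 4, 3, 1]), (218, true, [0, 2, 4, 3, 4, 0, 1, 3, 1, 3, 4, 0, 4, 0, 4, 0, 1]), (11, false, [4, 0, 4, 3, 1, 0, 1, 0, 1]), (73, true, [0, 1, 3, 1, 0, 4, 3, 4, 3, 1, 0, 1, 3, 4]), (192, false, [1, 0, 4, 3, 4, 3, 1, 0, 1, 0, 1, 3]), (94, false, [2, 4, 3, 1, 3, 1, 3, 1, 3]), (154, false, [1, 3, 1, 0, 1, 0, 4, 3, 1, 0, 1, 3, 4, 0]), (81, false, [1, 2, 0, 1, 3, 1, 3, 4, 0, 1, 0, 1, 3, 4, 3, 1, 0, 1]), (69, true, [3, 1, 0, 1, 0, 4, 3, 1, 0, 1, 0, 1, 0, 4, 3]), (118, false, [1, 3, 4, 0, 1, 0, 1, 3, 1, 3, 1, 0, 4, 3]), (126, false, [1, 0, 1, 0, 4, 0, 4, 3, 1, 0, 1, 0, 4,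 0, 4]), (254, false, [3, 4, 3, 4, 0, 4, 0, 1, 3, 1, 3, 1, 3, 4, 3]), (78, false, [2, 0, 1, 3, 1, 3, 1, 3, 4, 3, 4, 3, 4, 0]), (59, true, [2, 0, 4, 0, 1, 3, 4, 0, 4, 0, 1, 3, 4, 0]), (59, false, [1, 2, 0, 4, 3, 4, 3, 1, 0, 4, 0, 1]), (122, true, [0, 2, 4, 0, 1, 0, 1, 0, 1, 3, 1, 0, 4, 3, 1]), (126, false, [0, 2, 4, 3, 1, 3, 1, 3, 4, 3, 4, 3, 1, 3]), (172, true, [1, 3, 1, 3, 1, 3, 1, 0, 1, 0, 1, 0, 1, 3, 4]), (278, false, [4, 0, 4, 3, 1, 3, 1, 3, 4, 0, 4, 3, 4]), (120, true, [2, 0, 1, 0, 4, 3, 4, 3]), (265, false, [4, 0, 4, 3, 4, 0, 1, 0, 1, 3, 1, 0, 1]), (29, true, [1, 0, 4, 0, 4, 3, 4, 3, 4, 3, 1, 3]), (170, false, [1, 0, 1, 3, 1, 0, 4, 3, 1, 3, 1, 3]), (187, true, [0, 1, 0, 1, 0, 1, 0, 2, 4, 3, 4, 0, 1, 3, 1]), (217,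 true, [1, 2, 0, 4, 3, 4, 0, 4, 3, 1, 0, 4, 0]), (186, false, [2, 4, 0, 1, 0, 4, 3, 4, 0, 4, 3, 4, 0, 1, 3]), (250, false, [3, 4, 3, 4, 0, 4, 3, 1, 3, 4, 0, 4, 0, 4, 3]), (59, true, [0, 1, 0, 1, 0, 1, 0, 2, 4, 3, 4, 0, 4, 3, 4, 3]), (173, false, [0, 1, 3, 1, 0, 1, 3, 1, 0, 1, 0, 4, 3]), (145, false, [4, 0, 1, 3, 4, 3, 1, 0, 1, 3, 1, 0]), (10, false, [1, 2, 0, 1, 3, 4, 3, 4, 3, 4, 3, 1, 0]), (73, true, [2, 0, 4, 0, 4, 0, 4, 0, 4, 3, 4, 3, 4, 0, 1]), (182, true, [0, 1, 0, 1, 3, 1, 3, 1, 0, 1, 0, 1, 3, 4, 3, 1, 0]), (82, false, [2, 4, 3, 1, 0, 4, 3, 4, 3, 1, 0, 4, 0]), (140, true, [0, 1, 0, 1, 0, 1, 3, 4, 3, 1, 0, 4, 3, 4, 3]), (254, true, [0, 4, 3, 4, 0, 1, 0, 1, 0, 4, 3, 4, 0, 1, 0, 4]), (94, false, [1, 3, 4, 0, 4, 3, 4,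 3, 4, 0, 1, 3, 4, 3]), (275, true, [0, 1, 0, 1, 2, 0, 1, 0, 4, 3, 1, 0, 1, 3]), (26, true, [1, 0, 1, 2, 0, 1, 0, 4, 3, 4, 0, 1, 3, 4, 3]), (12, false, [1, 3, 4, 0, 1, 3, 1, 0, 4, 0, 4, 3]), (265, true, [4, 0, 1, 3, 1, 3, 4, 0, 1]), (78, true, []), (122, false, [0, 4, 3, 4, 0, 1, 0, 1, 3, 4, 0, 1, 0, 1, 3]), (27, false, [2, 4, 3, 4, 0, 4, 3, 1, 0, 1, 3, 4, 3, 1]), (7, true, [1, 0, 4, 0, 1, 3, 1, 3, 1, 0, 1, 0, 1, 0, 1]), (131, true, [1, 0, 1, 0, 1, 0, 2, 4, 0, 4, 3, 1, 3]), (131, false, [2, 0, 4, 3, 4, 3, 1, 0, 4, 0, 4, 0]), (55, false, [1, 2, 0, 4, 3, 1, 3, 1, 0, 1, 3, 1, 0, 1]), (192, false, [0, 2, 4, 3, 1, 0, 1, 0, 1, 3]), (122, true, [0, 4, 0, 4, 0, 4, 3, 4, 0, 1, 0, 1, 0, 1, 3]), (153, false, [1, 3, 1, 3, 4, 0, 4,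 3, 4, 0, 1]), (243, true, [1, 3, 4, 3, 1, 0, 1, 0, 4, 3, 1, 0, 1]), (199, false, [1, 2, 0, 4, 0, 1, 3, 1, 3, 1, 0, 1, 0, 4, 0]), (122, true, [0, 1, 3, 1, 0, 4, 3, 1, 3, 1, 0, 4, 3, 1]), (154, false, [3, 4, 3, 1, 0, 1, 0, 4, 3, 4, 0, 1, 3, 4]), (69, true, [1, 0, 2, 4, 0, 1, 3, 1, 3, 1, 3, 4, 0, 1]), (26, true, [2, 4, 3, 1, 0, 1, 3, 1, 0, 4]), (248, false, [1, 3, 4, 0, 4, 3, 1, 3, 1, 0, 1, 3, 4]), (171, true, [3, 1, 0, 1, 3, 4, 3, 4, 0, 1, 0, 4]), (92, false, [2, 0, 1, 0, 1, 0, 4, 3, 4, 3, 1, 0, 1, 0, 1, 0, 1]), (114, false, [1, 2, 0, 1, 3, 4, 0, 1, 0]), (7, true, [1, 0, 2, 4, 3, 4, 3, 1, 0, 1, 0, 1, 0, 1]), (38, true, [1, 3, 1, 0, 4, 3, 1, 0, 1, 0, 1, 3, 4, 0]), (78, true, []), (131, false, [2, 0, 4, 3, 4, 3, 1, 0, 4,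 0, 4, 0]), (78, true, []), (278, false, [1, 0, 2, 4, 3, 4, 3, 4, 3, 4]), (254, true, [2, 0, 1, 0, 1, 0, 1, 3, 1, 0, 1, 3, 1, 0, 4, 0]), (218, true, [3, 4, 3, 1, 0, 4, 0, 4, 3, 1, 0, 4, 0]), (27, false, [0, 2, 4, 0, 4, 3, 1, 0, 1, 3, 1, 0, 1]), (154, false, [1, 2, 0, 1, 0, 1, 0, 1, 3, 1, 3, 1, 0, 4, 3]), (92, false, [4, 0, 4, 3, 1, 3, 4, 0, 4, 3, 4, 3, 1, 0, 4, 3]), (265, false, [1, 3, 1, 3, 4, 0, 4, 3, 4, 0, 4, 0]), (49, false, [3, 4]), (177, true, [1, 0, 4, 3, 1, 3, 1, 3, 4, 0, 1, 0, 1]), (165, false, [4, 0, 4, 3, 1, 0, 1, 0, 4, 3, 4]), (176, false, [0, 1, 0, 1, 0, 1, 3, 1, 0, 1, 3, 1, 0, 1, 0, 1, 3]), (27, false, [3, 1, 0, 1, 0]), (82, false, [1, 3, 1, 3, 4, 3, 4, 0, 4, 3, 4, 0, 4]), (31, true, [0, 1, 0, 4, 3, 1, 3,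 1, 3, 4, 3, 4]), (81, false, [1, 0, 1, 0, 1, 3, 1, 3, 1, 0, 4, 3, 4, 0, 1, 0]), (122, true, [1, 0, 1, 2, 0, 1, 0, 1, 3, 1, 0, 1, 3, 1, 0, 1, 0, 1, 3, 1]), (140, false, [3, 1, 0, 4, 0, 4, 3, 1, 0, 1, 0]), (182, true, [1, 0, 2, 4, 0, 4, 0, 1, 3, 4, 0, 4, 0, 1, 3, 1]), (199, false, [1, 3, 4, 0, 1, 3, 4]), (131, true, [1, 0, 2, 4, 0, 4, 0, 1, 3, 1, 3, 1, 3]), (218, true, [1, 0, 1, 0, 1, 0, 1, 2, 0, 4]), (27, false, [3, 4, 0, 4, 3, 1, 3, 1, 0, 1, 3, 1]), (218, true, [1, 0, 4, 3, 4, 3, 4, 0, 4, 0, 4, 3, 4, 3]), (78, false, [1, 2, 0, 4, 3, 1, 0, 4]), (122, false, [1, 0, 1, 2, 0, 4, 0, 1, 3, 1, 3, 1, 3, 1, 0, 1]), (173, false, [2, 0, 1, 0, 4, 3, 4, 0, 4, 3, 1]), (10, false, [1, 3, 1, 3, 4, 3, 4, 3, 4, 3, 1, 0]), (153, false,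 [2, 0, 1, 3, 1, 0, 1, 3, 1, 0, 4, 0, 4, 3, 4, 0]), (170, false, [2, 4, 3, 1, 0, 1, 0, 1, 3, 1, 0, 4, 3, 1, 3, 4]), (254, false, [2, 0, 4, 0, 1, 0, 1, 0, 4, 3, 4, 0, 1, 0, 4]), (172, true, [1, 0, 1, 0, 1, 0, 1, 2, 0, 4, 3, 1, 0, 1, 3, 1]), (154, false, [2, 4, 3, 1, 0, 1, 0, 1, 0, 1, 3, 4, 3, 1, 0, 4]), (28, true, [0, 1, 3, 4, 3, 1, 0, 1, 0, 1, 3, 1, 3]), (126, true, [0, 1, 2, 0, 1, 3, 4, 0, 4, 3, 1, 3, 4, 0, 4, 0]), (28, true, [2, 4, 3, 1, 3, 1, 3, 1, 0, 4]), (126, true, [1, 0, 1, 3, 4, 3, 1, 0, 1, 0, 4, 3, 1, 3, 1]), (187, true, [3, 4, 0, 1, 3, 1, 0, 1, 3, 1, 3]), (78, false, [0, 4, 0, 4, 3, 4, 0, 1, 0, 1, 3, 1, 0, 4, 3]), (55, false, [1, 2, 0, 4, 3, 4, 3, 1, 0, 1, 3]), (275, true, [0, 1, 3, 4, 3, 4, 3, 1, 0, 1, 0, 1,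 0, 4]), (78, true, []), (176, true, [1, 0, 1, 3, 4, 3, 4, 0, 1, 0, 1, 0, 1, 3, 4, 3]), (250, false, [3, 4, 0, 1, 3, 4, 0, 4, 3, 1, 3, 1, 0, 1, 3]), (259, false, [1, 0, 1, 0, 2, 4, 0, 4, 0, 4, 0, 4, 3])]
def r79 : List (ℕ × Bool × List ℕ) := [(253, true, [0, 2, 4, 0, 1, 3, 1, 0, 4, 0, 4, 0]), (188, false, [1, 0, 4, 3, 1, 3, 1, 3, 1, 3, 4, 0]), (31, true, [0, 1, 3, 4, 0, 4, 3, 1, 3, 1, 0, 1, 0]), (72, false, [3, 4, 3, 1, 0, 1, 3, 4, 0, 4, 3, 4]), (72, false, [0, 2, 4, 3, 4, 0, 1, 3, 1, 0, 1, 3, 4]), (242, false, [1, 3, 4, 0, 1, 3, 1, 3, 4, 0, 4, 0, 4, 0, 1]), (90, true, [2, 4, 0, 4, 3, 1, 3, 1, 0, 1, 0, 4, 3, 1, 0]), (253, true, [0, 4, 3, 1, 0, 1, 3, 4, 3, 4, 0]), (253, true, [0, 1, 0, 1, 3, 1, 0, 4, 3, 1, 0, 1, 0, 1, 0]),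 (218, false, [2, 0, 1, 3, 1, 0, 4, 0, 4, 3, 1, 0, 1, 3, 4, 3, 1]), (218, false, [3, 4, 0, 4, 0, 4, 3, 4, 0, 4, 3, 1, 3, 4, 0, 1]), (188, false, [1, 0, 2, 4, 0, 1, 0, 1, 0, 1, 0, 4, 0]), (157, false, [1, 2, 0, 1, 0, 1, 0, 1, 3, 1, 3, 4, 0, 4]), (76, false, [0, 1, 3, 1, 0, 4, 3, 1, 0, 1, 0, 4, 0, 4, 3, 1]), (231, false, [0, 4, 3, 1, 0, 1, 0, 1, 3, 4, 0, 4, 0, 1, 0]), (157, false, [1, 3, 1, 3, 1, 3, 1, 0, 1, 0, 4, 3, 4, 3]), (58, true, [3, 1, 0, 4, 3, 4, 0, 4, 0, 4, 3, 1, 3, 1]), (276, true, [1, 3, 4, 0, 4, 3, 1, 0, 1, 0, 1, 3, 4, 0]), (276, true, [2, 4, 3, 1, 3, 1, 0, 1, 3, 4, 0, 4, 0, 4]), (230, false, [3, 1, 0, 1, 3, 1, 0, 4, 3, 4, 3, 4, 3]), (244, false, [3, 4, 0, 1, 3, 1, 3, 1, 3, 4]), (230, false, [2, 0, 1, 3, 1, 0,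 1, 3, 4, 0, 4, 0, 4]), (253, true, [2, 0, 1, 0, 1, 3, 1, 0, 4, 0, 1]), (262, true, [0, 1, 0, 4, 0, 4, 3, 4, 3, 4, 3, 4, 0, 4, 3]), (21, true, [1, 3, 1, 3, 4, 0, 4, 3, 4, 3, 1, 0, 4, 3]), (231, true, [0, 1, 0, 1, 3, 4, 3, 4, 0, 1, 0, 1, 0, 1, 3, 4, 3]), (21, true, [1, 2, 0, 1, 0, 4, 3, 4, 0, 4, 0, 1, 3, 4]), (231, true, [0, 1, 0, 1, 2, 0, 4, 0, 4, 3, 1, 3, 1, 3, 1, 0, 4]), (263, false, [1, 3, 4, 0, 4, 3, 1, 0, 1, 0, 1, 3, 4, 0, 4]), (259, true, [0, 1, 3, 1, 3, 1, 0, 1, 3, 4, 3, 1, 0]), (203, false, [3, 1, 3, 1, 3, 1, 0, 1, 3, 1, 0, 4, 3, 1]), (90, true, [4, 0, 4, 3, 1, 3, 1, 0, 1, 0, 4, 3, 1, 0]), (98, false, [2, 0, 4, 0, 4, 3, 4, 3, 4, 0, 1, 3, 1, 3, 1, 0, 4]), (58, true, [2, 0, 1, 3, 1, 3, 4, 3, 4, 3, 4, 0, 4, 3, 4,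 0]), (91, true, [4, 3, 4, 0, 4, 3, 4, 3, 4, 0, 4, 3, 1, 0]), (245, false, [3, 4, 3, 4, 3, 1, 0, 4, 0]), (244, false, [2, 0, 4, 3, 1, 0, 1, 0, 1, 0, 4, 3]), (253, true, [2, 0, 1, 0, 1, 3, 4, 0, 1, 0, 1, 3, 4, 3, 1]), (281, false, [0, 4, 3, 4, 0, 4, 0, 4, 3, 1, 0, 1, 3, 4]), (56, false, [0, 4, 3, 4, 0, 4, 3, 4, 3, 4, 0, 4, 3, 4]), (183, true, [2, 0, 1, 0, 4, 3, 1, 3, 1, 3, 1, 0]), (128, true, [0, 4, 3, 4, 3, 4, 0, 4, 3, 4, 0, 4, 3, 4, 3, 4, 0]), (204, true, [2, 0, 4, 3, 4, 3, 4, 0, 4, 0, 4, 3, 1]), (253, true, [3, 1, 3, 1, 3, 1, 0, 4, 0, 1]), (262, true, [0, 1, 0, 2, 4, 3, 4, 0, 4, 0, 4, 0, 4, 3, 4]), (128, false, [2, 0, 4, 0, 4, 0, 4, 3, 4, 3, 4, 3, 4, 0, 4]), (75, false, [1, 0, 1, 0, 4, 0, 4, 3, 4, 3, 4]), (244, true,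 [1, 0, 1, 3, 1, 3, 4, 0, 1, 0, 1, 3, 1, 0, 4]), (244, false, [1, 0, 1, 2, 0, 1, 0, 4, 3, 1, 3, 1, 0, 1, 3, 4]), (263, false, [1, 2, 0, 4, 3, 4, 0, 1, 3, 1, 3, 1, 0, 4, 3, 4, 3]), (79, false, [0, 1, 3, 4, 0, 1, 3, 4]), (259, true, [0, 1, 2, 0, 1, 0, 1, 0, 1, 3, 4, 3, 1]), (63, false, [1, 2, 0, 4, 0, 4, 3, 1]), (98, false, [1, 0, 1, 3, 1, 0, 1, 0, 1, 0, 4, 0, 4, 3, 4, 3, 4]), (139, true, [4, 3, 4, 0, 4, 0, 4, 3, 4, 0, 4, 0]), (129, true, [1, 0, 1, 0, 1, 0, 1, 3, 1, 3, 1, 0, 4, 3, 4]), (91, true, [2, 4, 0, 4, 3, 4, 0, 4, 0, 4, 3, 4, 0, 1, 0]), (245, false, [3, 4, 3, 4, 3, 1, 0, 4]), (267, false, [2, 4, 0, 4, 0, 4, 0, 4]), (271, false, [3, 1, 3, 1, 3, 4, 3, 4, 0, 4, 0, 4, 0, 4]), (274, false, [4, 0, 1, 3, 1, 3, 4, 0, 4, 3,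 1, 3, 1]), (281, false, [4, 0, 4, 3, 4, 0, 1, 3, 1, 3, 1, 0, 1, 3, 1]), (183, true, [3, 1, 3, 4, 0, 1, 0, 1, 0, 1, 0]), (128, true, [0, 2, 4, 0, 4, 0, 4, 3, 4, 0, 4, 3, 4, 0, 4, 0, 4, 0]), (60, false, [0, 1, 2, 0, 4, 3, 1, 3, 1, 3, 1, 3, 1]), (74, true, [4, 0, 1, 3, 4, 3, 1, 0, 4]), (189, false, [2, 4, 0, 4, 3, 1, 0, 1, 3, 4, 3, 4, 0, 4, 0, 1]), (244, false, [1, 0, 1, 3, 1, 3, 4, 0, 1, 0, 1, 3, 1, 0, 4, 3]), (240, true, [4, 3, 4, 0, 4, 3, 1, 3, 1, 3, 1]), (128, false, [3, 4, 3, 4, 3, 4, 0, 4, 0, 4, 0, 4, 3, 4, 3]), (269, false, [1, 0, 2, 4, 3, 4, 0, 4, 0, 1, 3, 1]), (88, true, [3, 4, 0, 1, 3, 4, 0, 4, 0, 1, 3, 1, 0]), (230, true, [1, 0, 1, 0, 2, 4]), (169, false, [0, 1, 0, 1, 0, 1, 0, 1, 0, 4, 0, 4, 0, 1]), (244, true,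 [1, 0, 1, 3, 1, 3, 4, 0, 1, 0, 1, 3, 1, 0, 4]), (167, false, [4, 3, 1, 3, 4, 0, 1, 0, 1, 3, 4, 0]), (189, true, [2, 0, 4, 0, 4, 3, 1, 3, 1, 0, 1, 3]), (202, false, [0, 1, 2, 0, 1, 3, 1, 0, 1, 0, 4, 0, 4, 3, 1]), (164, true, [2, 0, 1, 0, 1, 3, 4, 0, 4, 0]), (128, false, [3, 1, 3, 4, 0, 4, 0, 4, 3, 4, 0, 1, 3, 4]), (112, true, [4, 3, 1, 3, 1, 0, 1, 0, 1, 3, 1, 3, 4, 0, 1]), (189, false, [4, 0, 4, 0, 4, 3, 4, 0, 1, 0, 1, 0, 1, 3, 1]), (112, true, [0, 2, 4, 0, 4, 3, 4, 3, 4, 3, 1, 0, 4, 0, 4, 3, 1]), (60, false, [0, 4, 0, 1, 3, 4, 3, 4, 3, 4, 3, 4]), (71, true, [3, 4, 3, 1, 0, 1, 0, 1, 3, 1, 3, 1, 0]), (88, true, [2, 0, 4, 3, 1, 0, 4, 3, 4, 3, 1, 0, 1, 0]), (71, true, [2, 0, 4, 0, 1, 3, 1, 3, 1, 0, 1, 0, 1, 0]), (269, false,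 [1, 0, 4, 0, 4, 3, 4, 3, 1, 0, 1, 3]), (215, true, [1, 2, 0, 4, 0, 1, 3, 1, 3, 4, 3, 4, 3, 1, 0, 1]), (230, true, [1, 0, 1, 0, 4, 3]), (108, true, [4, 0, 1, 3, 4, 0, 4, 0, 4, 0, 1]), (169, false, [3, 4, 3, 4, 0, 1, 0, 1, 3, 1, 0, 4, 0, 4, 3]), (83, true, [1, 2, 0, 4, 0, 4, 0, 4, 3, 1, 0, 1, 3, 4]), (167, false, [2, 4, 0, 1, 0, 4, 3, 1, 3, 1, 0, 4, 0]), (118, true, [1, 2, 0, 4, 0, 4, 3, 4, 3, 4, 0, 1]), (189, true, [3, 4, 3, 4, 0, 1, 0, 1, 3, 1]), (245, false, [4, 0, 1, 0, 4, 3, 4, 3, 4, 0, 4, 3, 1]), (164, true, [3, 1, 3, 1, 0, 4, 3, 4, 0]), (271, true, [4, 0, 1, 3, 1, 3, 1, 0, 1, 0, 4, 3, 4, 3, 4]), (128, false, [1, 0, 2, 4, 3, 4, 3, 4, 0, 1, 3, 1, 0, 1, 3, 1]), (84, false, [1, 3, 4, 3, 1, 0, 4, 3, 4, 3, 1, 0]), (221,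 true, [0, 1, 0, 1, 2, 0, 4, 0, 1, 3, 1, 0, 1, 3, 1, 3, 4]), (150, false, [4, 3, 1, 0, 4, 0, 4, 0, 1, 3, 1, 0, 1]), (89, false, [3, 1, 3, 4, 3, 4, 3, 1, 0, 4, 0, 4, 3]), (142, false, [0, 4, 0, 4, 3, 4, 0, 4, 0]), (178, true, [0, 2, 4, 0, 1, 3, 4, 0, 4, 0, 4, 0, 4, 3, 1]), (221, true, [0, 4, 0, 4, 3, 1, 3, 4, 0, 4, 0, 1, 3, 1, 3, 4]), (158, false, [0, 1, 3, 4, 3, 4, 3, 4, 3, 1, 0, 4, 3, 4]), (158, false, [0, 1, 2, 0, 4, 0, 4, 0, 4, 0, 1, 3, 4, 0, 4, 3]), (150, true, [1, 0, 2, 4, 3, 4, 3, 4, 0, 1, 3, 1, 3, 4]), (89, false, [2, 0, 1, 0, 4, 0, 4, 0, 1, 3, 4, 3, 4]), (178, true, [0, 4, 3, 1, 0, 4, 3, 4, 3, 4, 3, 4, 0, 1, 3])]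
def r80 : List (ℕ × Bool × List ℕ) := [(42, false, [0, 4, 3, 1, 0, 4, 3, 4, 0, 4, 0, 4, 0]), (10, false, [0, 4, 3, 1, 0, 1, 0, 1, 3, 4, 0, 4, 0, 1, 3]), (58, true, [2, 4, 0, 4, 3, 4, 3, 4, 3, 4, 0, 4, 0, 4, 3, 1]), (141, false, [1, 0, 1, 3, 1, 3, 4, 0, 1, 0, 1, 0, 1, 3, 4, 0]), (80, true, []), (84, false, [1, 2, 0, 1, 3, 1, 0, 1, 3, 4, 3, 1, 0]), (250, false, [0, 4, 0, 4, 3, 4, 3, 4, 3]), (80, false, [1, 2, 0, 4, 3, 4, 0, 4, 3, 4, 0, 1, 3, 1, 0]), (178, false, [1, 0, 1, 0, 1, 3, 4, 3, 4, 0, 4, 3, 1, 0, 4]), (153, false, [0, 1, 3, 1, 0, 4, 0, 1]), (117, true, [2, 4, 0, 4, 3, 4, 0, 4, 0, 4, 3, 4, 3]), (179, false, [2, 4, 3, 4, 3, 1, 0, 1, 0, 1, 0, 1, 3, 1, 3, 1, 3]), (42, false, [3, 1, 0, 1, 0, 1, 0, 4, 0, 4, 3, 4, 3, 4]),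 (56, false, [4, 0, 1, 0, 1, 0, 1, 0, 4, 3, 1]), (72, true, [2, 0, 1, 3, 1, 0, 1, 3, 1, 0, 1, 0]), (151, false, [2, 0, 1, 0, 4, 3, 1, 0, 1, 0, 1, 0, 1, 3, 4, 0, 4]), (197, true, [4, 3, 1, 3, 1, 0, 1, 0, 1, 3, 1, 3, 4, 0]), (164, true, [1, 0, 1, 0, 1, 0, 1, 2, 0, 4, 0, 4]), (276, true, [0, 2, 4, 3, 4, 3, 4, 3, 4, 0, 1, 0, 1, 3, 4, 3, 4]), (117, false, [0, 1, 0, 1, 2, 0, 1, 0, 1, 3, 1, 0, 1, 3, 4]), (72, true, [1, 0, 4, 0, 4, 3, 1, 3, 4, 0, 4, 3, 4, 3, 1]), (165, true, [1, 0, 1, 2, 0, 4, 3, 4, 3, 4, 3, 4, 0, 1, 3, 1]), (193, false, [0, 4, 3, 4, 3, 1, 0, 1, 0, 4, 3, 4, 0]), (179, false, [3, 1, 3, 1, 0, 1, 0, 4, 0, 4, 0, 1, 3, 4]), (178, true, [2, 4, 0, 4, 0, 4, 3, 4, 0, 4, 3, 4, 0, 4]), (214, false, [0, 1, 0, 4, 3, 1, 3,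 1, 0, 1, 3, 4, 3, 1, 0, 4, 0]), (164, true, [3, 1, 3, 4, 0, 4, 3, 1, 0, 1, 3, 1]), (231, true, [0, 1, 3, 4, 3, 4, 3, 4, 0]), (110, true, [0, 4, 3, 4, 0, 4, 0, 4, 3, 1, 0]), (10, false, [0, 2, 4, 0, 4, 3, 4, 0, 4, 0, 4, 3, 4, 3, 1]), (199, true, [1, 2, 0, 4, 0, 4, 0, 4, 0, 1, 3, 4, 0, 4]), (257, false, [0, 4, 3, 4, 0, 1, 0, 1, 3, 4, 3, 4, 0, 4]), (167, true, [3, 1, 0, 4, 0, 4, 0, 4, 3, 1, 3, 4, 0, 1]), (263, true, [0, 1, 0, 1, 0, 1, 0, 4, 3, 1, 3, 4]), (88, false, [0, 1, 2, 0, 1, 0, 1, 0]), (51, false, [1, 0, 2, 4, 0, 1, 0, 4, 3, 4, 3]), (63, true, [4, 3, 4, 0, 4, 0, 4, 0, 4, 3, 1, 3, 4, 0, 4]), (24, true, [0, 1, 0, 1, 0, 4, 3, 1, 3, 1, 0, 4, 3, 4]), (179, false, [2, 4, 3, 4, 3, 1, 0, 1, 0, 1, 0, 1, 3, 1, 3, 1, 3]), (21,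 true, [2, 4, 3, 4, 3, 4, 0, 1, 3, 1, 3]), (168, false, [1, 3, 4, 3, 4, 0, 4, 3, 4, 3, 1, 3]), (112, false, [0, 1, 3, 1, 3, 1, 0, 1, 3, 4]), (141, false, [1, 0, 1, 2, 0, 4, 3, 1, 0, 1, 3, 1, 3, 1, 0]), (88, false, [0, 1, 0, 1, 3, 1, 0, 4, 3, 4, 3, 1, 0, 1, 0]), (47, true, [0, 4, 0, 1, 0, 1, 3, 4, 3, 4, 0, 1, 3, 4]), (69, true, [2, 0, 1, 3, 1, 0, 1, 3, 4, 3, 1, 0]), (20, true, [1, 0, 4, 0, 1, 3, 1, 0, 1, 0, 1, 0, 4, 0, 4, 0]), (171, true, [0, 1, 0, 4, 3, 4, 0, 4, 0, 4, 3, 4, 0, 1, 0]), (171, false, [0, 2, 4, 0, 1, 3, 4, 0, 4, 0, 1, 3, 4, 3, 1]), (113, false, [2, 4, 0, 4, 3, 4, 0, 1, 0, 1, 0, 1, 3]), (141, false, [2, 4, 0, 1, 0, 1, 3, 1, 0, 1, 3, 1, 0, 4]), (112, false, [0, 2, 4, 0, 1, 3, 1, 3, 4, 3, 4, 3, 1, 3]), (153,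 false, [1, 0, 2, 4, 0, 4, 3, 1, 0, 1, 3, 4, 3, 1]), (256, true, [2, 0, 4, 0, 4, 0, 4, 0, 4, 3, 4, 3, 1, 3]), (42, false, [0, 2, 4, 0, 1, 3, 1, 0, 4, 0, 4, 0]), (110, true, [2, 0, 4, 3, 4, 0, 1, 3, 1, 3, 1, 0, 1, 0, 1, 3]), (110, false, [0, 1, 3, 1, 3, 4, 3, 4, 0, 1, 3, 4, 0]), (165, true, [0, 1, 3, 1, 0, 1, 3, 1, 3, 1, 0, 4, 3, 4, 3, 1]), (69, true, [0, 1, 3, 1, 0, 1, 0, 1, 0, 1, 3, 4, 3, 4, 3]), (23, true, [0, 2, 4, 0, 4, 0, 4, 3, 4, 3, 1, 0, 1, 3, 1]), (272, false, [4, 0, 1, 0, 4, 3, 4, 0, 4, 3, 1, 0, 4, 0]), (42, false, [2, 4, 3, 4, 0, 4, 3, 4, 0, 4, 0, 4, 3]), (199, true, [3, 1, 0, 1, 3, 1, 0, 1, 0, 4, 0, 4, 3, 1, 0]), (179, false, [3, 4, 3, 4, 0, 4, 3, 4, 0, 1, 3, 4]), (63, true, [0, 2, 4, 0, 1, 0, 1, 3, 4, 0, 1,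 0, 1]), (165, true, [0, 1, 3, 1, 0, 1, 3, 4, 3, 4, 0, 4, 0, 1]), (171, true, [1, 0, 2, 4, 0, 1, 3, 1, 3, 1, 3, 1, 3, 4]), (100, true, [3, 4, 3, 4, 3, 1, 0, 4, 3, 4, 3]), (166, false, [0, 1, 3, 1, 0, 4, 0, 4, 0, 4, 0]), (202, false, [1, 2, 0, 1, 3, 1, 3, 1, 0]), (58, true, [0, 1, 3, 4, 0, 1, 3, 1, 3, 1, 0, 1, 0, 4]), (167, true, [4, 3, 1, 3, 1, 0, 1, 3, 1, 0, 1, 0, 4, 0]), (178, false, [0, 2, 4, 0, 1, 0, 4, 3, 4, 0, 1, 3, 1, 3, 4]), (166, false, [0, 1, 3, 1, 3, 4, 3, 4, 3, 4, 0]), (257, false, [0, 1, 0, 1, 3, 1, 3, 1, 0, 4]), (253, false, [3, 4, 3, 1, 3, 1, 0, 4, 3, 4, 3, 4, 0, 1]), (156, false, [3, 1, 3, 1, 3, 4, 0, 4, 3, 1, 0, 4, 0, 4]), (165, true, [1, 3, 1, 0, 4, 0, 4, 3, 1, 3, 1, 3]), (21, true, [0, 4, 3, 1, 0, 1,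 0, 4, 0, 4]), (51, true, [1, 0, 2, 4, 0, 4, 3, 4, 3, 1, 0, 4, 0, 1]), (179, false, [3, 4, 3, 4, 0, 4, 3, 4, 0, 1, 3, 4]), (202, false, [3, 4, 3, 1, 0, 1]), (151, false, [0, 1, 0, 4, 3, 4, 0, 1, 3, 4, 3, 4, 0, 1, 3]), (67, true, [1, 0, 4, 3, 4, 3, 4, 0, 4, 0, 4, 0, 4, 3]), (20, true, [3, 1, 0, 4, 3, 4, 0, 1, 0, 4]), (253, false, [2, 4, 3, 1, 3, 4, 0, 4, 0, 4, 0, 4, 3, 1, 3]), (251, true, [1, 0, 4, 0, 1, 3, 1, 3, 1, 3, 1, 0, 4, 3, 1, 0]), (3, false, [1, 0, 4, 0, 4, 0, 4, 0, 1, 3, 4, 3, 1]), (242, false, [1, 0, 1, 0, 2, 4, 0, 4, 0, 4, 0, 1, 3, 1]), (154, true, [1, 3, 1, 0, 4, 3, 4, 3, 4, 3, 4, 0, 1, 0, 1, 0]), (179, false, [0, 1, 2, 0, 1, 0, 4, 0, 4, 0, 1, 0]), (162, false, [0, 4, 3, 1, 3, 1, 0, 1, 0, 4, 3, 1, 0]), (239,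 false, [2, 0, 1, 0, 4, 3, 1, 3, 1, 0, 1, 0]), (256, true, [4, 0, 4, 0, 1, 3, 1, 3, 1, 3, 4, 3, 4, 3, 1]), (67, true, [1, 0, 2, 4, 3, 1, 0, 1, 3, 4, 0, 4, 0]), (272, true, [1, 2, 0, 4, 3, 4, 0, 4, 3, 4, 0, 1, 3, 1]), (171, false, [3, 4, 3, 1, 0, 4, 0, 4, 0, 4, 3, 1, 0, 1, 3, 4]), (244, false, [1, 3, 1, 0, 4, 3, 4, 3, 1, 0, 1, 0, 4, 3]), (263, true, [0, 1, 2, 0, 4, 0, 1, 3, 4, 0, 4, 3, 4, 3, 4, 0]), (73, false, [2, 0, 4, 0, 4, 3, 4, 3, 1, 0, 4, 3, 4, 0, 4]), (214, false, [2, 0, 4, 0, 1, 3, 1, 3, 4, 0, 4, 0, 4, 3]), (162, true, [0, 4, 3, 1, 3, 1, 0, 1, 3]), (110, false, [0, 2, 4, 0, 1, 3, 1, 0, 1, 3, 1, 3, 1, 0]), (24, true, [2, 4, 0, 4, 0, 1, 3, 4, 0, 4, 3, 4, 0, 4]), (73, false, [1, 3, 1, 3, 1, 3, 4, 0, 4, 0, 1, 3, 1,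 3]), (276, true, [1, 3, 4, 0, 4, 3, 1, 3, 1, 3, 4, 0, 4, 3, 1]), (141, false, [4, 0, 4, 3, 4, 0, 4, 3, 1, 0, 1, 0, 1, 0]), (23, true, [0, 1, 0, 1, 0, 4, 0, 4, 0, 1, 3, 1]), (26, true, [3, 1, 0, 4, 3]), (193, false, [2, 4, 3, 1, 0, 1, 3, 4, 3, 1, 0, 1, 3, 4]), (154, true, [2, 4, 3, 4, 3, 1, 0, 1, 3, 4, 0, 4, 3, 1]), (178, true, [1, 0, 1, 0, 1, 3, 4, 0, 4, 0, 1, 3, 1])]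
def r81 : List (ℕ × Bool × List ℕ) := [(225, true, [2, 4, 3, 1, 3, 4, 0, 4, 3, 4, 0, 4, 0, 4, 0]), (180, true, [2, 4, 3, 4, 0, 1, 3, 1, 0, 1, 0]), (278, true, [0, 2, 4, 3, 1, 0, 1, 3, 1, 0, 4, 0, 4]), (38, false, [0, 1, 2, 0, 1, 3, 1, 0, 1, 0, 4, 3, 1]), (170, true, [3, 4, 0, 4, 0, 4, 3, 1, 3, 1, 0, 4]), (24, false, [0, 4, 0, 4, 3, 1, 0, 1, 3, 4, 3]), (41, true, [1, 2, 0, 4, 3, 1, 0, 1, 0, 4, 3, 1, 3, 1]), (248, false, [4, 3, 1, 3, 4, 0, 4, 0, 4, 0, 4, 3, 1, 0, 4]), (267, true, [1, 0, 1, 3, 1, 0, 1, 3, 1, 3, 4, 3, 4]), (35, true, [3, 1, 3, 4, 0, 4, 0, 4, 3, 4, 0, 1, 3, 1]), (199, true, [2, 4, 3, 1, 3, 1, 3, 1, 0, 1, 0, 1, 0, 4, 3, 4]), (92, true, [0, 1, 2, 0, 1, 0, 4, 3, 1, 3, 4, 0, 4, 0, 4]), (155, true, [3, 1, 3, 4,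 3, 4, 3, 4, 3, 4]), (162, false, [0, 4, 3, 1, 3, 1, 0, 1, 3, 4, 0, 4, 0, 1]), (275, true, [1, 3, 1, 0, 1, 0, 4, 0, 4, 0, 4, 0, 1, 3]), (275, true, [1, 3, 4, 0, 1, 3, 1, 0, 4, 0, 4, 0]), (48, false, [0, 1, 0, 1, 2, 0, 4, 3, 1, 0, 1, 0]), (59, false, [3, 1, 3, 1, 3, 1, 0, 4, 3, 1]), (110, true, [0, 1, 0, 1, 0, 4, 0, 4, 3, 1, 0, 1, 0, 1, 3]), (81, false, [1, 0, 2, 4, 3, 4, 0, 1, 0]), (81, true, []), (24, false, [0, 2, 4, 3, 4, 0, 1, 3, 1, 3, 4, 3]), (199, false, [0, 1, 0, 1, 2, 0, 1, 3, 1, 0, 4, 3, 4, 3, 1, 3]), (173, false, [1, 3, 1, 3, 1, 0, 4, 0, 4, 0, 4]), (46, false, [2, 0, 4, 0, 1, 3, 4, 0, 4, 0, 4, 0, 4]), (244, false, [2, 4, 3, 4, 0, 4, 3, 1, 3, 4, 0, 1, 0]), (72, true, [0, 1, 3, 4, 3, 4, 0, 1, 3, 1, 3, 4]), (126,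 true, [1, 0, 4, 3, 4, 3, 4, 3, 4, 3, 1]), (171, false, [2, 4, 0, 4, 3, 4, 0, 4, 0, 1, 3, 1, 0, 1]), (46, false, [4, 0, 1, 3, 4, 0, 4, 0, 4, 0, 4]), (187, false, [2, 4, 0, 4, 3, 1, 0, 1, 0, 1, 0, 4, 3]), (171, false, [3, 4, 3, 4, 0, 1, 3, 1, 0, 1, 3, 1, 3]), (187, false, [4, 3, 4, 0, 1, 3, 1, 0]), (12, false, [3, 4, 0, 1, 3, 1, 3, 4, 0, 4, 0, 4]), (250, true, [0, 1, 0, 1, 0, 1, 2, 0, 1, 3, 1, 0, 4, 0]), (56, true, [0, 4, 3, 1, 3, 1, 3, 4, 3, 4, 3, 4, 3, 4, 0]), (168, false, [1, 3, 4, 3, 4, 0, 4, 3, 4, 0, 1, 0, 1]), (126, true, [2, 4, 3, 1, 3, 1, 3, 1, 3, 4, 3, 4, 3]), (168, false, [4, 3, 4, 3, 4, 0, 1, 0, 1, 3, 4, 3, 1]), (178, false, [3, 1, 0, 1, 3, 1, 3, 4, 3, 4, 3, 1, 0, 4]), (122, false, [0, 1, 3, 1, 0, 1, 0, 1, 0,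 4, 0, 4, 0, 4, 3, 4, 0]), (171, false, [2, 4, 0, 4, 3, 4, 0, 4, 0, 1, 3, 1, 0, 1]), (218, false, [0, 4, 0, 4, 0, 4, 3, 1, 0, 1, 3, 1, 0, 4, 0]), (41, true, [0, 1, 0, 1, 3, 4, 3, 4, 0, 1, 0, 1, 0]), (170, true, [2, 4, 3, 4, 0, 4, 0, 1, 3, 1, 0, 1, 3, 1]), (19, true, [0, 4, 3, 1, 0, 1, 3, 4, 0, 4, 3, 4]), (180, true, [0, 1, 3, 4, 3, 4, 0, 4, 3, 4, 0, 1, 3, 1]), (155, true, [0, 4, 3, 1, 3, 1, 3, 1, 3, 4, 3]), (35, true, [1, 0, 2, 4, 0, 4, 0, 4, 3, 1, 0, 1, 3, 1]), (192, false, [1, 0, 1, 2, 0, 1, 0, 4, 3, 4, 0, 1, 0, 1, 0, 1]), (29, true, [0, 1, 2, 0, 4, 0, 4, 3, 1, 3, 1, 0, 1]), (199, true, [0, 1, 3, 4, 3, 4, 3, 1, 0, 1, 3, 4, 0, 4, 0]), (92, true, [1, 0, 4, 3, 4, 0, 1, 3, 1, 3, 4, 3, 4, 0, 4]), (154, true, [0, 1, 3, 4,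 0, 4, 0, 1, 3, 1, 0, 4]), (215, false, [1, 0, 1, 0, 1, 2, 0, 4, 0, 4]), (154, true, [0, 1, 0, 1, 0, 2, 4, 0, 1, 0, 4, 3, 4, 0, 1, 0, 1]), (69, false, [2, 4, 3, 1, 0, 1, 3, 4, 0, 4, 3, 1, 3, 4, 0, 4]), (225, true, [4, 3, 1, 3, 1, 0, 1, 3, 1, 0, 1, 0, 4, 0]), (37, false, [0, 4, 0, 4, 3, 4, 0, 4, 0, 4, 3, 4, 0, 1, 3]), (178, false, [2, 0, 1, 3, 1, 0, 1, 0, 1, 0, 1, 3, 4, 3, 1, 0, 4]), (155, false, [1, 0, 1, 0, 1, 2, 0, 4, 3, 4, 3, 4, 0, 4, 0]), (75, true, [2, 4, 3, 1, 3, 1, 0, 4, 3, 1, 0, 1, 0, 1]), (81, true, []), (110, true, [0, 1, 2, 0, 1, 0, 4, 0, 4, 3, 1, 0, 1, 0, 1, 3]), (170, true, [0, 1, 3, 1, 3, 1, 3, 4, 0, 4, 0]), (211, true, []), (275, true, [1, 3, 1, 0, 1, 0, 4, 0, 4, 0, 4, 0, 1, 3]), (72, true, [1, 0, 2, 4,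 3, 4, 0, 1, 0]), (78, false, [0, 1, 0, 1, 3, 4, 0, 1, 0, 1, 0, 1, 3, 4, 3, 4, 3, 1]), (265, false, [2, 4, 3, 4, 3, 4, 0, 1, 3, 4, 3, 4]), (81, true, []), (199, false, [3, 4, 3, 1, 0, 1, 0, 4, 0, 4, 0, 4, 3, 4, 0, 4]), (252, true, [4, 3, 4, 0, 4, 3, 1, 3, 4, 0, 1]), (24, true, [2, 4, 3, 1, 0, 1, 0, 4, 3, 1, 3, 4, 0]), (110, false, [2, 4, 0, 4, 3, 4, 3, 4, 0, 4, 0, 4, 0, 1, 0]), (122, false, [2, 0, 1, 3, 1, 0, 1, 0, 1, 0, 4, 0, 4, 0, 1, 3]), (225, false, [0, 1, 3, 4, 0, 4, 0, 4, 0, 4, 3, 1, 3, 1, 3]), (81, false, [2, 0, 4, 0, 1, 3, 1, 3, 4]), (97, false, [1, 0, 1, 0, 4, 0, 4, 3, 1, 0, 1, 0, 4, 0, 4]), (250, true, [2, 4, 0, 1, 3, 1, 0, 1, 3, 4, 3, 4, 0, 4]), (225, false, [0, 1, 2, 0, 4, 3, 4, 3, 4, 0, 4, 3, 1, 3, 1, 3]),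 (155, true, [0, 2, 4, 0, 1, 0, 1, 0, 1, 3, 4, 3]), (119, false, [0, 1, 0, 1, 3, 4, 3, 1, 0, 1, 3, 4, 0, 1, 0]), (35, false, [1, 0, 1, 0, 1, 2, 0, 4, 3, 4, 0, 4]), (24, true, [4, 0, 1, 3, 1, 0, 4, 0]), (192, true, [1, 0, 4, 0, 1, 3, 1, 3, 1, 3, 4, 3, 4, 3, 4]), (171, false, [3, 4, 3, 4, 0, 1, 3, 1, 0, 1, 3, 1, 3]), (81, false, [0, 4, 3, 1, 0, 1, 3, 1, 0, 1, 3, 1]), (275, true, [1, 3, 4, 0, 1, 3, 1, 0, 4, 0, 4, 0]), (64, false, [1, 0, 1, 0, 1, 2, 0, 4, 3, 4, 0, 1, 3, 4]), (218, false, [0, 2, 4, 0, 4, 0, 1, 3, 1, 0, 4, 3, 4, 3, 4, 3]), (59, false, [2, 0, 1, 3, 1, 3, 1, 0, 1, 3, 4, 0, 1, 3, 1]), (81, false, [0, 2, 4, 0, 4, 0, 4, 3, 1, 0, 1, 0, 1, 3]), (69, false, [4, 3, 1, 3, 4, 0, 4, 0, 1, 3, 1, 3, 1, 3, 1]), (252, false,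 [0, 2, 4, 3, 4, 0, 4, 3, 1, 0, 1]), (216, false, [3, 4, 3, 4, 3, 1, 0, 1, 3, 4, 3, 1]), (183, true, [0, 1, 0, 4, 3, 4, 3, 1, 0, 1, 0, 1, 0, 4, 0]), (87, true, [3, 4, 0, 1, 0, 1, 0, 4, 3, 1, 3, 4, 0, 4, 0]), (131, false, [2, 4, 3, 1, 3, 1, 3, 4, 3, 4, 3, 1]), (81, true, []), (64, false, [1, 0, 1, 0, 1, 3, 1, 0, 1, 3, 4]), (49, false, [2, 0, 1, 3, 1, 3, 4, 0, 1, 0, 1]), (110, false, [0, 4, 0, 4, 3, 1, 3, 1, 3, 4, 0, 4, 3, 1, 3, 1, 0]), (170, true, [1, 0, 2, 4, 3, 1, 0, 1, 3, 4, 3, 4, 3, 4]), (192, true, [2, 0, 1, 3, 1, 0, 1, 0, 4, 0, 4, 0, 4, 0, 1]), (183, true, [2, 0, 1, 0, 1, 0, 1, 3, 1, 0, 1, 3, 1, 3, 1, 3]), (19, true, [2, 4, 3, 4, 0, 1, 3, 1]), (246, false, [0, 4, 0, 1, 3, 4, 0, 4, 3, 4, 3, 4, 0, 4]), (87, true, [0,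 2, 4, 0, 1, 3, 4, 0, 4, 0, 4, 0, 4, 3, 1, 0]), (192, false, [0, 1, 0, 1, 0, 4, 3, 4, 0, 1, 0, 1, 0, 1, 3, 1]), (215, false, [1, 0, 1, 0, 1, 2, 0, 4, 0, 4]), (78, false, [3, 4, 3, 1, 0, 1, 3, 4, 0, 4, 0, 4, 3, 4, 3, 4])]
def r82 : List (ℕ × Bool × List ℕ) := [(47, true, [0, 4, 0, 1, 3, 1, 3, 4, 0, 1, 0]), (210, true, [1, 0, 1, 0, 1, 3, 1, 0, 4, 0, 4, 3, 4, 3]), (8, true, [0, 4, 3, 1, 0, 1, 0, 4, 3, 1, 0, 4]), (114, false, [0, 4, 3, 1, 0, 4, 3, 4, 3, 4, 0, 4, 0, 1, 0]), (194, true, [3, 4, 0, 1, 0, 1, 0, 1, 3, 4, 0, 4, 3, 1, 3, 1]), (234, true, [2, 4, 3, 1, 3, 1, 0, 1, 0, 1, 0, 4, 0, 4, 3, 1]), (64, false, [1, 0, 1, 3, 4, 3, 4, 3, 4, 0, 1, 3, 1]), (59, true, [0, 2, 4, 3, 1, 0, 1, 3, 1, 3, 4, 3, 4, 3, 1]), (239, false, [1,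 0, 1, 2, 0, 4, 0, 1, 3, 1, 3, 1, 0]), (260, false, [0, 1, 3, 1, 0, 4, 0, 4, 0, 4, 0]), (178, false, [0, 1, 0, 1, 2, 0, 4, 3, 4, 3, 4, 0, 4, 0, 4, 3, 4, 0]), (110, true, [1, 2, 0, 4, 0, 1, 3, 1, 3, 4, 0, 4, 0, 4, 0]), (194, true, [4, 0, 1, 0, 1, 3, 1, 0, 1, 3, 4, 3, 1, 0, 1]), (180, true, [4, 3, 1, 3, 4, 0, 1, 0, 1]), (257, false, [0, 1, 0, 2, 4, 0, 1, 3, 1, 0, 1, 0, 1, 3]), (279, true, [1, 2, 0, 1, 0, 1, 3, 1, 3, 1, 3, 4]), (180, true, [2, 4, 0, 1, 3, 4, 0, 4, 0, 4, 3, 4, 3, 4]), (211, true, [3, 1, 3, 1, 0, 4, 3, 4, 3, 4, 3, 1]), (57, false, [0, 2, 4, 3, 1, 0, 1, 0, 1, 3, 4, 3]), (78, false, [0, 1, 3, 4, 0, 1, 3, 1, 0, 4, 0, 4, 3, 4, 3]), (104, true, [4, 0, 1, 3, 1, 0, 4, 3, 4, 0, 1, 0, 1, 0]), (226, false, [1, 2, 0,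 1, 3, 1, 0, 1, 3, 1, 0, 1, 0, 4, 0, 4]), (210, true, [1, 2, 0, 4, 0, 4, 0, 1, 3, 4, 0, 4]), (122, false, [3, 4, 0, 1, 3, 1, 3, 4, 3, 4, 0, 1, 3]), (272, true, [1, 0, 1, 0, 1, 0, 2, 4, 3, 4, 0, 1, 3, 4, 3]), (220, false, [1, 0, 1, 0, 4, 3, 4, 3, 4, 0, 4, 3, 1, 0, 1, 0]), (84, true, [2, 4, 3, 4, 3, 4, 3, 4, 0, 1, 0]), (78, false, [1, 3, 1, 0, 1, 3, 1, 0, 1, 0, 4, 0, 4]), (106, false, [0, 1, 0, 2, 4, 3, 4, 0, 4, 3, 1, 3, 4, 0, 4]), (46, false, [4, 3, 4, 3, 4, 0, 4, 3, 4, 3, 1, 3]), (25, false, [1, 0, 1, 0, 1, 2, 0, 1, 0, 4, 0, 4, 3, 4, 3]), (182, true, [2, 4, 0, 4, 0, 1, 3, 4, 0, 4, 3, 1, 3, 1, 0, 4]), (269, true, [0, 2, 4, 0, 1, 3, 1, 0, 4, 3, 4, 0, 1]), (113, false, [4, 0, 1, 3, 4, 0, 4, 3, 4, 3, 4, 0, 1, 3]), (28, true,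 [4, 3, 1, 3, 1, 0, 1, 3, 1, 0, 1, 3, 1, 0]), (168, true, [2, 4, 0, 1, 0, 4, 3, 1, 3, 1, 3, 4, 3]), (182, true, [1, 0, 2, 4, 3, 4, 0, 1, 3, 1, 3, 4, 3]), (82, false, [0, 1, 2, 0, 1, 0, 1, 3, 1, 3, 4]), (194, true, [0, 4, 0, 4, 0, 1, 3, 4, 0, 4, 3, 1, 3, 1]), (260, false, [2, 0, 4, 0, 4, 0, 1, 3, 4, 0, 4, 3, 1, 3, 4, 0]), (37, false, [4, 3, 4, 0, 4, 0, 1, 3, 1, 3, 1, 3, 4]), (110, true, [4, 3, 4, 3, 4, 0, 1, 3, 1, 3, 1, 0, 4, 3, 1]), (229, true, [3, 4, 0, 1, 0, 1, 0, 1, 3, 4]), (28, true, [2, 0, 1, 3, 4, 0, 4, 0, 4, 0]), (275, false, [2, 4, 0, 1, 3, 4, 3, 1, 0, 1, 0, 4, 0, 4, 3]), (218, true, [1, 0, 1, 0, 4, 0, 4, 0, 1, 3, 1, 0, 4, 0]), (171, true, [1, 2, 0, 1, 0, 1, 3, 4, 0, 4, 3, 4, 0, 4, 0, 1]), (272, false, [4, 0, 4,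 0, 1, 3, 4, 0, 4, 0, 1, 3]), (201, true, [1, 3, 1, 3, 4, 0, 1, 0, 1, 3, 4, 3]), (47, false, [2, 0, 1, 3, 1, 0, 1, 3, 1, 0, 1, 0, 4, 0, 4]), (114, false, [2, 0, 1, 0, 4, 3, 4, 3, 1, 3]), (110, true, [0, 1, 0, 1, 2, 0, 4, 0, 1, 3, 1, 3, 1, 3, 4, 0]), (222, true, [0, 1, 0, 1, 3, 1, 0, 4, 3, 1, 3, 4, 0, 4, 3, 1, 0]), (260, false, [0, 1, 0, 2, 4, 3, 4, 3, 4, 0, 4, 3, 1, 3, 1, 3]), (127, true, [0, 4, 3, 1, 3, 1, 3, 1, 0, 4, 3]), (201, true, [2, 4, 3, 4, 0, 4, 3, 4, 0, 4, 0, 1, 0]), (110, true, [0, 4, 0, 1, 3, 1, 0, 1, 3, 1, 0]), (260, false, [1, 0, 1, 3, 1, 3, 1, 3, 1, 0, 4, 0, 4]), (122, false, [0, 2, 4, 0, 4, 3, 4, 0, 1, 0, 1, 3, 1, 0, 1]), (47, true, [1, 0, 4, 3, 1, 0, 1, 3, 1, 3, 4, 0, 1, 0, 1]), (194, true, [0, 1, 0, 1,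 0, 4, 3, 1, 3, 1, 0, 4, 3]), (89, false, [0, 2, 4, 3, 4, 0, 1, 0, 1, 0, 4, 3, 4, 0, 4, 0, 1]), (82, true, []), (110, false, [3, 4, 3, 1, 3, 1, 3, 4, 3, 4, 0, 1]), (234, true, [3, 4, 3, 1, 0, 1, 0, 4, 0, 4, 3]), (86, false, [0, 4, 3, 1, 3, 1, 0, 4, 3, 4, 3, 4, 0, 4, 3, 1]), (194, true, [1, 0, 1, 0, 2, 4, 0, 4, 3, 1, 0, 4, 0, 4, 3]), (118, true, [4, 3, 1, 3, 1, 0, 1, 0, 1, 3, 1, 3, 4]), (82, true, []), (265, false, [0, 1, 0, 1, 0, 1, 3, 4]), (104, true, [4, 0, 1, 3, 1, 0, 4, 3, 4, 0, 1, 0, 1, 0]), (171, true, [3, 4, 3, 4, 3, 1, 0, 1, 3, 4, 0, 4, 0, 4, 3, 4]), (121, false, [2, 4, 0, 4, 3, 4, 3, 4, 0, 4, 3, 1, 0, 1]), (25, false, [0, 1, 3, 1, 0, 1, 0, 4, 0, 4, 3]), (57, false, [3, 1, 3, 1, 3, 1, 0, 4]), (133, true, [0, 1,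 0, 1, 0, 1, 3, 1, 0, 1, 3, 4]), (254, false, [1, 3, 4, 0, 4, 3, 1, 0, 4, 0, 4, 0, 4]), (82, false, [1, 0, 2, 4, 3, 4, 0, 4, 0, 4, 3]), (86, false, [1, 0, 1, 0, 1, 2, 0, 4, 3, 4, 0, 4, 3, 4, 0, 1, 0]), (64, false, [0, 2, 4, 3, 4, 3, 1, 0, 1, 3, 1, 0, 1, 3, 4, 3, 4, 3]), (272, false, [0, 2, 4, 3, 4, 0, 4, 0, 4, 3, 1, 3, 4]), (254, false, [1, 0, 2, 4, 3, 1, 0, 4, 3, 4, 3, 1, 0, 4, 0]), (83, false, [3, 1, 0, 1, 3, 4, 0, 4, 3, 4, 3, 4, 0, 1]), (194, true, [4, 0, 1, 0, 1, 0, 1, 0, 1, 0, 1]), (269, true, [0, 1, 0, 1, 0, 1, 3, 1, 0, 1, 3, 4, 3, 4]), (239, false, [1, 0, 1, 2, 0, 4, 0, 1, 3, 1, 3, 1, 0]), (178, false, [0, 1, 0, 4, 3, 4, 3, 1, 0, 4, 0, 4, 3, 4, 3]), (104, false, [0, 1, 0, 1, 0, 2, 4, 0, 4, 3, 1, 3, 4, 0]), (182,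 true, [4, 3, 1, 0, 4, 0, 4, 3, 1, 3, 4, 0, 1, 3]), (226, true, [0, 1, 2, 0, 1, 0, 4, 3, 4, 0, 4, 3, 4, 0, 1, 0, 1]), (218, true, [1, 0, 2, 4, 3, 4, 0, 1, 3, 1, 3, 1, 0, 1, 0, 1]), (37, false, [1, 3, 4, 0, 4, 3, 4, 3, 4, 3, 4, 0, 1]), (104, false, [2, 0, 1, 3, 1, 3, 1, 0, 4, 3, 4, 0, 1, 0, 4]), (222, true, [2, 0, 1, 3, 1, 0, 4, 3, 4, 3, 1, 0, 1, 3, 1]), (247, true, [3, 1, 3, 4, 0, 4, 3, 1, 3, 1]), (89, false, [1, 0, 1, 0, 1, 0, 1, 3, 4, 3, 4, 0, 1, 0, 1, 0]), (106, false, [0, 4, 3, 1, 3, 1, 0, 4, 3, 1, 0, 1, 0, 1]), (135, false, [0, 4, 3, 1, 0, 1, 3, 4, 3, 1, 0, 1, 3]), (82, true, []), (126, true, [2, 0, 1, 0, 4, 3, 1, 3, 1, 0, 4, 3, 1, 0]), (226, true, [1, 0, 1, 0, 1, 3, 4, 0, 4, 3, 1, 0, 1]), (114, true, [1, 0, 2, 4,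 0, 4, 3, 4, 0, 1, 0, 4]), (110, false, [1, 0, 1, 2, 0, 1, 0, 1, 3, 1, 3, 1, 3]), (226, false, [1, 0, 1, 3, 4, 0, 1, 0, 1, 0, 1, 3, 4, 3, 4, 3, 1]), (272, true, [1, 0, 4, 3, 4, 0, 1, 0, 1, 3, 1, 3, 1, 0, 4]), (182, true, [4, 0, 4, 0, 4, 0, 1, 3, 4, 3]), (229, true, [1, 0, 2, 4, 0, 1, 0, 1, 3, 4, 3, 1, 0]), (127, true, [2, 0, 4, 3, 4, 3, 4, 0, 4, 0, 4, 3, 1, 0, 4, 3]), (250, true, [0, 1, 3, 4, 0, 4, 0, 4, 3, 4, 3, 1, 0, 1, 0, 4]), (46, false, [1, 2, 0, 4, 3, 1, 0, 1, 3, 4, 3, 4, 3, 4]), (220, false, [2, 0, 1, 3, 1, 0, 1, 0, 1, 0, 4, 3, 4, 0, 1, 0, 1]), (126, true, [3, 1, 0, 4, 0, 4, 3, 4, 0, 4, 3, 4, 3, 4, 0])]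
def r83 : List (ℕ × Bool × List ℕ) := [(149, false, [4, 3, 4, 0, 4, 0, 4, 3, 4, 0, 4, 0]), (212, false, [4, 0, 1, 0, 4, 3, 1, 3, 1, 0, 4, 0, 4, 3, 1]), (245, false, [0, 1, 3, 4, 0, 1, 3, 1, 3, 4, 3, 4, 0, 4]), (260, false, [2, 4, 0, 4, 3, 4, 3, 1, 0, 4, 0, 4, 0, 4, 3, 1, 3, 4]), (83, false, [0, 1, 0, 1, 2, 0, 4, 0, 4, 0, 4, 3, 4, 0, 4]), (125, false, [1, 0, 1, 0, 2, 4, 3, 4, 0, 4, 3]), (10, true, [4, 0, 4, 0, 4, 0, 4, 3, 4, 0, 1, 0]), (139, true, [0, 2, 4, 3, 1, 3, 1, 3, 1, 3]), (166, true, [0, 1, 3, 4, 0, 4, 3, 1, 3, 4, 0, 1]), (214, false, [1, 3, 1, 0, 4, 0, 4, 3, 1, 0, 4, 0, 4, 3]), (85, true, [1, 0, 4, 3, 1, 0, 1, 3, 1, 3, 1, 0, 4, 3, 1, 0]), (58, false, [2, 0, 4, 3, 1, 0, 1, 3, 4, 0, 4, 0, 4, 0, 1, 3]), (268, false,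 [2, 4, 3, 4, 0, 4, 3, 1, 0, 1, 3, 4, 3, 1]), (169, false, [4, 0, 1, 0, 4, 3, 4, 0, 4, 0, 4, 3, 1, 3]), (100, false, [4, 3, 4, 3, 4, 3, 1, 0, 1, 0]), (82, false, [4, 3, 1, 0, 1, 0, 1, 3, 1, 0, 4, 3, 4, 0]), (169, false, [3, 1, 0, 4, 3, 4, 3, 1, 0, 1, 0, 1, 3, 1, 0]), (266, false, [3, 4, 0, 1, 3, 4, 0, 4, 0, 1, 3, 4, 3, 4]), (234, true, [0, 1, 2, 0, 1, 0, 1, 0, 4, 3, 4, 0, 1, 3, 1, 3]), (188, true, [0, 1, 0, 1, 3, 1, 3, 1, 3, 1, 0, 1, 0, 4, 0, 4]), (217, true, [0, 4, 3, 4, 0, 1, 3, 1, 0, 1, 3, 4]), (73, true, [1, 2, 0, 4, 3, 1, 0, 4, 0, 4]), (212, false, [0, 2, 4, 3, 1, 0, 1, 3, 1, 3, 1, 0, 1, 3, 1, 0]), (137, true, [3, 1, 3, 1, 0, 1, 0, 4, 3, 1, 3, 1, 0, 4, 0]), (270, false, [1, 0, 1, 3, 4, 3, 1, 0, 4, 3, 4, 0, 1, 3]),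 (30, true, [0, 4, 3, 4, 3, 4, 0, 4, 0, 4, 3, 1, 3, 4, 0]), (63, false, [3, 4, 0, 1, 3, 1, 3, 4, 3, 4, 0, 1, 3]), (188, true, [1, 2, 0, 1, 3, 4, 0, 1, 3, 1, 3, 4, 3, 4, 0]), (68, false, [4, 3, 4, 3, 4, 0, 4, 3, 4, 0, 1, 0, 1]), (262, false, [2, 4, 0, 4, 0, 4, 0, 4, 0]), (129, false, [3, 4, 0, 1, 3, 1, 0, 4, 3, 4]), (141, true, [0, 4, 0, 1, 0, 1, 0, 1, 0, 1, 0, 4, 0, 4, 3, 1]), (125, false, [3, 1, 3, 4, 3, 4, 0, 1, 0, 1, 0, 1, 3, 1]), (135, true, [3, 1, 3, 1, 0, 4, 0, 4, 3, 4, 3, 4, 3]), (251, false, [1, 3, 1, 0, 1, 0, 1, 3, 1, 3, 4, 3, 4]), (114, false, [2, 0, 1, 0, 4, 3, 4, 0, 1, 3, 1, 3, 1, 0, 1]), (124, true, [0, 1, 2, 0, 4, 0, 1, 3, 1, 3, 4, 3, 4]), (85, false, [3, 4, 3, 1, 0, 1, 0, 4]), (220, false, [4, 3, 1, 0, 1,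 0, 1, 0, 4, 0, 4, 0, 4, 3, 4]), (254, true, [2, 0, 1, 3, 1, 3, 1, 3, 4, 0, 1, 0]), (16, true, [2, 4, 0, 4, 0, 4, 3, 4, 3, 4, 0, 4]), (181, true, [0, 4, 0, 1, 3, 1, 3, 1, 0, 4, 3, 1, 0]), (269, true, [0, 1, 3, 1, 0, 4, 3, 4, 0, 1, 0, 1, 0, 4, 3, 4]), (251, false, [1, 0, 1, 3, 1, 3, 1, 0, 4, 0, 4, 3, 4, 3, 4]), (185, false, [2, 4, 3, 4, 0, 1, 3, 1, 3, 1, 3]), (171, false, [0, 1, 3, 4, 3, 4, 3, 4, 0, 4, 0, 4, 3, 1]), (262, true, [0, 4, 3, 4, 3, 4, 3, 4, 0, 1, 3, 1, 0, 1, 3, 1]), (272, true, [0, 2, 4, 0, 4, 3, 4, 3, 4, 0, 4, 0, 4, 3]), (169, false, [4, 3, 4, 3, 1, 0, 1, 0, 1, 3, 1, 0, 4, 0, 4]), (79, true, [0, 1, 3, 4, 0, 4, 3, 1, 0, 1, 0, 1, 0, 4]), (260, false, [0, 1, 3, 4, 0, 4, 0, 1, 3, 1, 3, 4, 0]), (181, true, [0, 2,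 4, 3, 4, 3, 4, 0, 4, 3, 4, 0, 4, 3, 4, 3, 4, 0]), (262, false, [4, 0, 1, 3, 4, 0, 4, 3, 1, 0, 1, 0, 1, 0]), (214, false, [1, 0, 2, 4, 3, 4, 3, 4, 3, 1, 0, 4, 0, 1]), (179, false, [2, 0, 1, 3, 4, 0]), (169, false, [0, 4, 0, 4, 3, 1, 0, 1, 3, 4, 3, 1, 0, 1, 0, 4]), (58, false, [0, 1, 0, 4, 3, 1, 3, 4, 0, 1]), (254, true, [0, 4, 3, 4, 3, 1, 0, 4, 3, 4, 3, 4, 3, 4]), (137, false, [0, 2, 4, 3, 1, 3, 1, 3, 4, 3, 4, 3, 1, 3]), (149, false, [1, 0, 2, 4, 3, 4, 3, 1, 0, 1, 3, 1, 3, 4]), (268, false, [0, 1, 3, 1, 0, 1, 3, 4, 3, 4, 0, 4, 3, 1, 0, 4]), (276, false, [1, 2, 0, 4, 3, 1, 0, 1, 0, 1, 0, 1, 3, 1, 3, 1]), (70, true, [0, 1, 3, 4, 3, 4, 0, 1, 3, 1, 3, 4]), (208, false, [3, 1, 3, 1, 0, 4, 0, 4, 3, 4, 3, 4, 3, 4]), (125, false,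 [1, 0, 4, 0, 4, 3, 4, 3, 4, 3, 4, 0, 1, 3, 1, 0, 4]), (66, true, [0, 1, 2, 0, 1, 0, 1, 3, 1, 3, 4]), (220, false, [2, 0, 4, 0, 1, 3, 1, 0, 4, 0, 4, 0, 1, 3, 4]), (231, true, [3, 1, 0, 4, 0, 4, 3, 1, 3, 1, 3, 1, 0, 1, 0]), (70, true, [0, 1, 2, 0, 1, 0, 1, 3, 1, 3, 4]), (165, true, [0, 1, 0, 4, 3, 4, 3, 1]), (167, true, [4, 0, 1, 0, 1, 0, 4, 0, 4, 3, 1, 0, 4]), (262, true, [0, 2, 4, 0, 1, 0, 4, 3, 4, 3, 1, 0, 1, 3, 4, 3]), (239, true, [0, 1, 3, 1, 3, 4, 0, 1, 0, 1, 0, 4, 0, 4]), (129, false, [0, 4, 0, 1, 0, 1, 3, 4, 3, 1, 0, 4, 0]), (234, true, [4, 0, 1, 0, 4, 3, 4, 0, 4, 0, 4, 3, 4, 0]), (133, true, [2, 0, 1, 0, 4, 3, 1, 0, 1, 3]), (197, false, [1, 0, 1, 0, 1, 2, 0, 1, 3, 4, 0, 4, 3, 1]), (85, false, [0, 1, 0, 1, 2, 0,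 4, 3, 4, 0, 4, 3, 4, 0, 1, 0, 4]), (66, true, [0, 1, 3, 4, 3, 4, 0, 1, 3, 1, 3, 4]), (10, false, [3, 4, 3, 4, 0, 4, 0, 4, 3, 4, 3, 4, 0]), (272, false, [0, 1, 0, 1, 3, 4, 3, 4, 3, 1, 0, 4]), (197, false, [4, 3, 4, 0, 1, 3, 1, 0, 4, 3, 1, 3, 4]), (83, false, [1, 2, 0, 1, 3, 1, 0, 1, 0, 1, 0, 4, 3, 4, 3]), (279, true, [3, 4, 3, 1, 3, 1, 3, 1, 0, 4]), (125, false, [2, 0, 1, 0, 1, 3, 1, 3, 4, 0, 1, 0, 1, 0, 1, 3, 1]), (273, false, [1, 3, 1, 3, 1, 3, 1, 3, 4, 3, 4, 3, 1, 0]), (85, true, [2, 0, 4, 0, 1, 3, 1, 3, 1, 3, 4, 0, 1, 3]), (224, true, [0, 2, 4, 3, 1, 0, 1, 3, 4, 0, 1, 3]), (124, true, [0, 1, 3, 4, 3, 1, 0, 4, 0, 4, 3, 4, 3, 4]), (112, true, [2, 0, 1, 0, 1, 3, 1, 3, 1, 0, 1, 0, 1, 0]), (171, false, [0, 1, 0, 1, 2, 0,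 4, 0, 1, 3, 4, 0, 4, 3]), (76, false, [1, 3, 4, 0, 1, 0, 1, 3, 4, 0, 1, 3, 1, 3]), (224, true, [1, 3, 1, 3, 4, 0, 4, 3, 1, 3, 1, 0, 4, 0, 4, 3]), (262, false, [2, 4, 3, 1, 3, 1, 0]), (94, true, [1, 0, 1, 2, 0, 4, 0, 1, 3, 4, 3, 4, 3, 1, 0]), (276, false, [0, 4, 3, 4, 0, 1, 3, 1, 3, 4, 0, 1, 0]), (68, false, [2, 0, 1, 0, 1, 3, 4, 0, 1, 0, 1, 0, 1, 0, 4, 3]), (203, false, [1, 2, 0, 1, 0, 1, 0, 1, 0, 1, 0, 1, 3]), (208, true, [2, 4, 3, 1, 0, 4, 3, 4, 3, 4, 0, 4, 3, 1]), (141, false, [2, 0, 1, 3, 1, 3, 1, 3, 4, 3, 4, 0, 1, 3]), (112, true, [3, 1, 0, 1, 3, 4, 3, 4, 0]), (203, true, [3, 1, 0, 4, 0, 4, 3, 1, 3, 1, 3, 1, 0, 1, 0]), (208, false, [2, 4, 0, 1, 0, 1, 0, 1, 0, 1, 0, 4]), (73, true, [3, 1, 0, 4, 3, 4, 0, 4, 3, 4, 3,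 4]), (270, false, [2, 0, 4, 0, 4, 3, 4, 3, 1, 0, 4, 3, 4, 0, 1]), (141, true, [2, 4, 0, 1, 0, 4, 3, 1, 3, 1, 0, 4, 0, 4, 3]), (269, true, [0, 2, 4, 0, 1, 0, 4, 3, 4, 0, 1, 0, 1, 3, 1]), (179, false, [3, 1, 0, 1, 0, 4, 0, 4, 3, 1, 0, 1, 0, 1, 0]), (166, false, [1, 0, 1, 3, 4, 3, 1, 0, 4, 3, 4, 3, 1, 0]), (262, false, [1, 0, 4, 3, 4, 3, 4, 0, 4, 3, 1, 3, 1, 3]), (30, true, [3, 4, 3, 4, 3, 1, 0, 1, 3]), (141, false, [3, 4, 3, 1, 0, 4, 3, 4, 0, 4, 0, 4, 3])]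

theorem q72 : closeb 18 ps18 base7 rgR om xs x72 orb r72 = true := by decide +kernel
theorem q73 : closeb 18 ps18 base7 rgR om xs x73 orb r73 = true := by decide +kernel
theorem q74 : closeb 18 ps18 base7 rgR om xs x74 orb r74 = true := by decide +kernel
theorem q75 : closeb 18 ps18 base7 rgR om xs x75 orb r75 = true := by decide +kernel
theorem q76 : closeb 18 ps18 base7 rgR om xs x76 orb r76 = true := by decide +kernel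
theorem q77 : closeb 18 ps18 base7 rgR om xs x77 orb r77 = true := by decide +kernel
theorem q78 : closeb 18 ps18 base7 rgR om xs x78 orb r78 = true := by decide +kernel
theorem q79 : closeb 18 ps18 base7 rgR om xs x79 orb r79 = true := by decide +kernel
theorem q80 : closeb 18 ps18 base7 rgR om xs x80 orb r80 = true := by decide +kernel
theorem q81 : closeb 18 ps18 base7 rgR om xs x81 orb r81 = true := by decide +kernel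
theorem q82 : closeb 18 ps18 base7 rgR om xs x82 orb r82 = true := by decide +kernel
theorem q83 : closeb 18 ps18 base7 rgR om xs x83 orb r83 = true := by decide +kernel

theorem c6 : Rows xc6 :=
  Rows.cons q72 (Rows.cons q73 (Rows.cons q74 (Rows.cons q75 (Rows.cons q76 (Rows.cons q77 (Rows.cons q78 (Rows.cons q79 (Rows.cons q80 (Rows.cons q81 (Rows.cons q82 (Rows.cons q83 Rows.nil)))))))))))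

end Cfsg.Agent.H698.U33.Clo
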