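import Cfsg.Agent.H698.U33.Clo.Rows

/-!
# S5525: the closure certificate, rows 84 to 95 (helper698; data of helper819, helper763)
-/

set_option autoImplicit false
set_option maxRecDepth 100000
set_option Elab.async false

namespace Cfsg.Agent.H698.U33.Clo

def r84 : List (ℕ × Bool × List ℕ) := [(212, true, [1, 0, 4, 0, 1, 3, 1, 3, 4, 0, 4, 0]), (193, true, [2, 0, 1, 0, 4, 3, 4, 3, 4, 0, 4, 0, 1]), (229, true, [0, 1, 0, 1, 2, 0, 4, 0, 4, 0, 1]), (234, false, [2, 4, 3, 1, 3, 1, 0, 1, 0, 4, 3, 1, 3, 1, 3, 1]), (237, true, [2, 0, 4, 0, 1, 0, 1, 0, 1, 3]), (86, true, [2, 4, 3, 1, 0, 1, 3, 4, 0, 4, 3, 1]), (213, false, [4, 3, 4, 0, 4, 3, 4, 0, 4, 3, 4, 3]), (137, false, [4, 3, 1, 0, 4, 3, 4, 0, 1, 0, 1, 3, 4, 0]), (237, true,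 [3, 4, 3, 1, 0, 1, 0, 1, 3, 1, 0, 4, 3, 4]), (75, true, [2, 4, 3, 4, 3, 1, 0, 1, 0, 4, 3, 1, 3, 4]), (151, false, [0, 1, 0, 1, 0, 1, 3, 1, 0, 1, 3, 1, 0, 1, 0, 1, 3]), (97, true, [1, 3, 4, 3, 1, 0, 1, 0, 1, 0, 4, 3, 1, 3]), (43, false, [0, 1, 0, 1, 2, 0, 4, 3, 4, 3, 1, 0, 1, 3, 4, 3]), (190, false, [2, 4, 0, 1, 0, 1, 0, 1, 3, 4, 3, 4, 0, 4, 0]), (276, true, [2, 0, 1, 3, 1, 3, 4, 0, 4, 0, 4, 0, 4, 0]), (273, true, [1, 3, 4, 0, 4, 3, 1, 3, 1, 3, 1, 0, 1, 0]), (57, false, [3, 1, 0, 1, 0, 4, 0, 4, 3, 1, 0, 1, 0, 1, 0]), (274, true, [0, 2, 4, 3, 4, 0, 4, 3, 1, 0]), (237, true, [0, 2, 4, 0, 1, 3, 1, 3, 4, 3, 4, 0, 1, 3, 4, 3, 1]), (90, true, [1, 2, 0, 4, 3, 1, 0, 1, 3, 4, 3, 4, 3]), (118, true, [1, 2, 0, 4, 3, 1, 0, 1, 0,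 4, 3, 1, 3, 1, 0]), (135, false, [4, 0, 1, 3, 4, 0, 4, 0, 4, 0]), (193, false, [0, 4, 0, 4, 3, 4, 3, 1, 0, 4, 0, 4, 0]), (227, false, [3, 1, 3, 4, 0, 1, 3, 1, 0, 1]), (190, true, [1, 0, 2, 4, 0, 4, 0, 4, 0, 4, 0, 4, 3, 4]), (277, false, [1, 2, 0, 1, 0, 4, 0, 4, 3, 1, 0, 4, 0, 4]), (84, false, [1, 0, 1, 0, 1, 3, 4, 0, 4, 0, 1, 3, 1]), (190, true, [3, 1, 3, 4, 0, 1, 3, 1, 3, 4, 0, 4, 0, 4, 3]), (84, true, [1, 0, 1, 0, 1, 0, 4, 3, 1, 0, 1, 0, 1]), (85, true, [4, 0, 4, 0, 1, 3, 1, 3, 1, 3, 1, 3, 1, 0, 4, 0]), (185, true, [4, 0, 1, 0, 1, 3, 4, 3, 1, 0, 4, 3, 4, 3]), (234, false, [4, 0, 4, 3, 4, 3, 4, 0, 4, 3, 1, 0, 4, 0]), (223, false, [0, 2, 4, 3, 1, 3, 1, 3, 1, 0, 4, 0, 4, 3, 4, 0]), (211, true, [2, 4, 0, 1, 0, 4, 3, 4,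 0, 4, 0, 1, 0]), (223, true, [4, 0, 1, 0, 1, 3, 1, 3, 4, 0, 4, 3, 4, 3, 1, 3]), (90, true, [2, 4, 3, 4, 0, 4, 3, 4, 0, 1, 0, 1, 3, 4, 3]), (23, false, [1, 3, 1, 3, 4, 0, 4, 3, 1, 0, 4, 0, 1]), (213, false, [0, 2, 4, 0, 4, 0, 1, 3, 1, 3, 1, 3, 1, 0, 1, 0, 4]), (133, true, [1, 0, 1, 0, 1, 3, 1, 0, 1, 0, 4, 0, 4]), (79, false, [3, 4, 0, 1, 0, 1, 3, 4, 0, 1, 0, 4]), (114, true, [1, 2, 0, 4, 3, 4, 0, 4, 0, 4, 3, 1, 3, 4, 0]), (208, false, [3, 1, 0, 1, 3, 1, 3, 1, 3, 4, 3, 4, 3, 1]), (213, false, [2, 4, 0, 4, 0, 4, 3, 1, 3, 4]), (85, true, [2, 4, 0, 4, 3, 1, 0, 1, 0, 1, 0, 4, 3]), (242, false, [0, 2, 4, 0, 4, 3, 4, 0, 4, 3, 4, 0, 4]), (136, false, [4, 0, 4, 0, 1, 3, 1, 3, 1, 0, 1, 0, 4, 0]), (43, false, [1, 3, 1, 0, 1, 3,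 4, 0, 4, 0, 4, 3, 4]), (151, false, [0, 1, 0, 1, 0, 2, 4, 0, 1, 0, 1, 3, 4, 3, 1, 0]), (190, false, [3, 1, 3, 1, 3, 4, 3, 4, 0, 1, 3, 4, 3, 4, 0, 4]), (96, true, [3, 1, 0, 1, 3, 1, 3, 4, 3, 4, 3, 4, 0, 4, 0, 1]), (276, false, [0, 2, 4, 3, 4, 0, 4, 0, 1, 3, 1, 3, 4]), (97, true, [3, 4, 0, 1, 3, 1, 3, 4, 0, 4, 0, 4, 3, 4]), (152, true, [2, 4, 0, 4, 0, 1, 3, 1, 3, 4, 3]), (242, true, [0, 1, 3, 4, 0, 4, 3, 1, 0, 4]), (223, false, [3, 4, 3, 1, 3, 1, 0, 4, 3, 1, 3, 1, 0, 1, 0]), (57, false, [2, 4, 0, 1, 3, 1, 3, 4, 0, 1, 3, 1, 0, 4]), (208, false, [4, 0, 4, 0, 1, 3, 1, 0, 1, 0, 1, 3, 4, 0]), (120, true, [0, 1, 3, 1, 3, 1, 3, 1, 0, 1, 0, 4, 3]), (23, false, [2, 4, 3, 4, 0, 4, 3, 1, 0, 4, 0, 1]), (42, true, [3, 1, 0, 1, 3, 1,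 0, 4, 3, 4, 0, 4]), (112, false, [3, 1, 0, 4, 3, 1, 0, 1, 3, 4, 3, 4, 0, 4, 3, 1]), (42, true, [2, 0, 4, 0, 4, 3, 4, 3, 4, 3]), (88, false, [1, 3, 4, 3, 4, 0, 1, 3, 1, 3, 4, 0]), (84, false, [0, 1, 3, 4, 0, 1, 3, 1, 0, 4, 3, 1]), (98, false, [1, 2, 0, 1, 3, 1, 3, 1, 3, 4, 3, 4, 0, 1]), (98, false, [0, 1, 3, 1, 3, 1, 3, 4, 3, 4, 0, 4, 0, 4, 0, 1]), (18, false, [2, 4, 0, 1, 0, 4, 3, 1, 3, 1, 3, 4, 3]), (174, false, [0, 4, 0, 4, 3, 1, 3, 1, 3, 4]), (70, false, [2, 0, 4, 0, 1, 3, 1, 3, 1, 3, 1]), (276, true, [1, 0, 4, 3, 1, 0, 1, 0, 4, 3, 1, 3]), (208, false, [0, 1, 0, 4, 3, 4, 3, 4, 0, 4, 0, 4, 0, 1, 0]), (112, false, [0, 2, 4, 0, 1, 0, 1, 0, 4, 3, 1, 0, 1, 0, 1]), (273, true, [1, 2, 0, 4, 3, 1, 0, 1, 3, 4, 0, 1]), (84,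 true, [4, 3, 4, 3, 4, 0, 1, 3, 4, 3, 4, 3, 4]), (213, false, [0, 2, 4, 0, 4, 3, 4, 0, 1, 3, 1, 3, 4, 3, 4, 0, 1]), (137, true, [1, 2, 0, 1, 0, 1, 0, 4, 3, 4, 3]), (112, false, [4, 3, 1, 0, 1, 3, 1, 0, 1, 0, 4, 0, 4, 3]), (88, true, []), (86, true, []), (88, true, [2, 4, 3, 1, 0, 1, 3, 4, 0, 4, 3, 1]), (124, true, [2, 0, 1, 0, 4, 3, 4, 0, 1, 0, 1, 3, 1, 3, 1]), (152, true, [0, 4, 0, 1, 3, 1, 3, 1, 3, 1, 0, 1, 0, 1, 3]), (123, true, [2, 0, 1, 3, 1, 0, 1, 0, 1, 0, 4, 0, 4, 0, 1]), (266, true, [0, 4, 0, 1, 0, 1, 0, 4, 0, 4, 0, 4, 0, 1]), (232, true, [4, 0, 4, 0, 4, 0, 4, 3, 4, 3]), (208, false, [3, 4, 0, 4, 0, 1, 3, 1, 0]), (124, true, [3, 4, 3, 4, 3, 4, 0, 4, 0, 1, 3, 1, 3, 4]), (70, false, [1, 0, 1, 0, 4, 3, 1, 3, 1, 3,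 1, 0, 1]), (227, false, [0, 4, 3, 4, 0, 1, 0, 1, 3, 4, 3, 4, 3]), (213, false, [3, 1, 3, 4, 0, 4, 0, 4, 3, 1, 0, 4]), (274, true, [0, 1, 0, 1, 0, 1, 2, 0, 4, 0, 4, 3, 4, 0]), (229, true, [0, 4, 0, 1, 3, 1, 3, 4, 0, 1, 0, 1, 0, 4]), (88, false, [0, 1, 2, 0, 4, 0, 1, 3, 1, 3, 1, 0, 1, 3, 4, 3, 4]), (112, false, [2, 4, 0, 4, 3, 1, 0, 1, 0, 1, 0, 4, 3, 1]), (90, true, [3, 4, 0, 4, 0, 1, 3, 1, 3, 1, 3, 1, 0, 4, 3, 1]), (212, true, [2, 4, 0, 1, 0, 4, 3, 4, 3, 1, 0, 1, 0, 1, 0, 4, 3]), (114, true, [2, 4, 3, 4, 3, 4]), (139, true, [0, 1, 2, 0, 4, 3, 1, 0, 1, 3, 1, 0, 4]), (96, true, [0, 1, 0, 1, 2, 0, 1, 3, 4, 0, 4, 0, 4, 0, 1, 3]), (119, false, [1, 0, 4, 0, 4, 3, 4, 3, 4, 0]), (237, true, [3, 1, 0, 4, 0, 4, 3, 1, 3, 1, 3, 1,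 0, 1, 0]), (84, false, [0, 1, 3, 4, 0, 1, 3, 1, 3, 1, 0, 4, 3, 4, 3, 4]), (84, false, [1, 0, 2, 4, 0, 1, 3, 1, 0, 4, 3, 1]), (82, true, [2, 0, 4, 0, 1, 3, 1, 3, 1, 3, 1]), (90, true, [4, 0, 4, 3, 1, 0, 1, 0, 1, 0, 1, 3, 4, 0, 1]), (276, false, [4, 0, 4, 3, 4, 0, 1, 0, 1, 3, 1, 3, 1]), (277, false, [0, 4, 0, 1, 3, 1, 0, 1, 0, 4, 0, 4, 0, 1, 3]), (232, true, [0, 2, 4, 0, 4, 0, 4, 0, 4, 3, 4, 3]), (123, true, [3, 4, 0, 1, 0, 1, 0, 4, 0, 4, 0, 1]), (223, true, [2, 4, 3, 1, 3, 1, 3, 4, 3, 4, 0, 1, 0, 1, 3]), (213, false, [4, 0, 1, 0, 4, 3, 4, 0, 4, 3, 4, 3, 4]), (80, false, [0, 2, 4, 0, 1, 0, 4, 3, 4, 3, 4, 0, 4])]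
def r85 : List (ℕ × Bool × List ℕ) := [(154, false, [2, 4, 0, 4, 0, 4, 0, 1, 3, 4, 0, 4, 0]), (3, false, [0, 4, 0, 1, 0, 1, 0, 1, 3, 4, 0, 4, 3, 4, 0]), (77, false, [0, 1, 0, 1, 0, 1, 2, 0, 1, 0, 4, 0]), (114, true, [3, 4, 3, 1, 3, 1, 0, 4, 0, 4, 3]), (68, true, [0, 1, 0, 4, 0, 4, 0, 4, 3, 4, 0, 1, 3, 4]), (47, true, [2, 0, 1, 0, 1, 3, 4, 3, 4, 3, 1, 3]), (184, false, [0, 4, 0, 1, 3, 1, 0, 4, 0, 4, 3, 4, 3, 4, 3, 4]), (47, true, [0, 4, 0, 4, 3, 4, 3, 4, 0, 4, 0, 4, 3, 1]), (254, false, [0, 2, 4, 0, 4, 3, 4, 0, 4, 0, 4, 3, 1, 0, 1]), (220, true, [4, 3, 1, 0, 1, 3, 4, 0, 1, 3, 1, 3, 4]), (113, false, [0, 2, 4, 0, 4, 0, 4, 3, 1, 3]), (125, true, [3, 1, 3, 1, 3, 1, 3, 4, 3, 4, 0, 1]), (42, true, [1, 0, 4, 3, 1, 3, 1, 0,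 1, 0, 1]), (225, true, [0, 2, 4, 0, 1, 0, 4, 3, 4, 3, 4, 3, 4, 3, 4, 0, 1, 0, 1]), (87, false, [4, 0, 4, 3, 4, 0, 1, 3, 1, 0, 4, 0, 4, 0, 4, 0]), (268, true, [1, 0, 1, 2, 0, 4, 0, 1, 3, 1, 0, 4, 3, 1, 3, 1]), (66, false, [0, 4, 3, 4, 0, 4, 0, 4, 0, 1, 3, 4, 3, 1, 0]), (194, false, [3, 4, 3, 1, 0, 4, 3, 4, 3, 1, 0, 1]), (42, true, [0, 4, 3, 1, 0, 1, 0, 1, 3, 1, 3, 4, 0, 4]), (114, false, [1, 3, 1, 3, 4, 0, 1, 3, 1, 3, 4, 0, 1, 3, 1]), (60, false, [2, 4, 0, 1, 3, 4, 0, 4, 3, 4, 3, 4, 0, 1]), (153, false, [1, 2, 0, 1, 0, 4, 3, 1, 3, 1, 0, 1, 0, 4, 3, 4]), (193, false, [2, 4, 0, 4, 3, 1, 0, 1, 0, 4, 3, 4, 3, 1]), (122, false, [0, 4, 0, 1, 3, 1, 3, 4, 0, 4, 3, 1, 3, 1, 3]), (69, false, [0, 2, 4, 3, 4, 0, 1, 0, 1, 3, 4, 0,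 1, 3, 1, 3]), (135, false, [0, 1, 3, 4, 3, 4, 0, 1, 3, 4, 3, 4, 3, 4]), (85, true, []), (268, false, [0, 1, 3, 1, 3, 1, 3, 1, 0, 1, 0]), (47, true, [1, 0, 2, 4, 3, 4, 0, 4, 3, 4, 3]), (96, true, [4, 0, 4, 0, 4, 3, 1, 0, 1, 3, 4, 3, 4, 3, 1]), (7, true, [1, 3, 1, 3, 4, 0, 4, 3, 1, 0, 1, 0, 1, 3, 1]), (77, true, [0, 2, 4, 0, 4, 3, 4, 0, 1, 0, 1]), (258, true, [2, 4, 3, 1, 3, 1, 3, 4, 0, 4]), (154, false, [1, 2, 0, 4, 3, 1, 0, 1, 0, 1, 3, 1, 0, 4, 0]), (168, false, [3, 1, 3, 1, 3, 1, 0, 1, 3, 1, 0, 4, 0]), (83, true, [0, 2, 4, 0, 1, 3, 4, 3, 4, 3, 4, 0, 1, 0]), (69, false, [0, 1, 2, 0, 1, 0, 1, 3, 1, 3, 1, 3, 1]), (214, false, [1, 0, 1, 3, 1, 0, 4, 3, 4, 3, 4]), (193, true, [2, 0, 1, 0, 1, 0, 4, 3, 4, 0, 4, 3, 4, 0, 4]),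 (166, false, [0, 1, 2, 0, 1, 3, 1, 0, 1, 3, 1, 3, 4]), (110, false, [2, 0, 4, 0, 4, 0, 4, 0, 4, 0, 4, 0]), (254, true, [4, 3, 4, 3, 1, 0, 1, 3, 1, 3, 1, 0, 4, 3, 4]), (225, true, [0, 1, 3, 1, 0, 1, 0, 4, 0, 4, 3, 1, 0, 4, 3]), (199, true, [4, 0, 4, 0, 1, 3, 1, 0, 4, 3, 4, 3, 4, 0, 1]), (211, true, [2, 4, 3, 1, 3, 1, 0, 4, 3, 1, 3, 4]), (66, false, [1, 2, 0, 4, 3, 4, 3, 4, 0, 4, 3, 1, 3, 4, 0, 1, 0]), (59, true, [3, 1, 0, 1, 0, 1, 3, 1, 3, 4]), (208, false, [0, 1, 3, 1, 3, 1, 0, 1, 0, 1, 3, 4]), (272, false, [4, 0, 1, 0, 1, 3, 1, 3, 1, 0, 1, 0]), (182, true, [2, 0, 1, 3, 1, 0, 4, 3, 4, 3, 4, 0, 1, 3, 1]), (255, false, [2, 0, 4, 3, 1, 3, 1, 0, 1, 3]), (59, true, [3, 4, 0, 4, 0, 4, 3, 4, 0, 1, 0, 1, 3]), (127, false, [3,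 4, 0, 1, 3, 1, 3, 4, 0, 1, 0, 1, 3, 1]), (275, false, [1, 0, 4, 0, 1, 3, 4, 0, 4, 3, 1, 3, 4, 0, 4]), (57, true, [0, 2, 4, 3, 4, 3, 1, 0, 4, 0, 4]), (90, true, [4, 3, 1, 3, 1, 3, 1, 0, 4, 0, 1]), (70, true, [0, 1, 0, 4, 3, 4, 3, 1, 0, 4, 0, 4, 0, 1, 0]), (148, true, [1, 0, 4, 3, 1, 3, 4, 0, 4, 0, 4, 3, 4, 3, 4, 0]), (110, false, [1, 0, 4, 0, 4, 0, 1, 3, 4, 3, 4, 0, 4]), (47, true, [1, 0, 4, 3, 1, 0, 1, 3, 4, 3, 4, 3, 4, 3]), (29, false, [1, 3, 1, 0, 1, 3, 1, 0, 1, 3, 4, 3, 4, 0, 1]), (89, true, [4, 3, 4, 0, 4, 3, 4, 3, 4, 0, 1, 3, 1, 0, 4, 0]), (83, false, [1, 3, 4, 3, 4, 0, 1, 0]), (85, true, [1, 3, 1, 3, 1, 0, 4, 3, 4, 3, 1, 0, 1]), (113, false, [1, 3, 1, 3, 4, 0, 1, 0, 1, 0, 4, 3]), (64, true, [2, 0, 4, 3, 1, 0, 4,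 3, 4, 3, 4, 0, 1, 0]), (19, true, [3, 1, 3, 1, 0, 1, 0, 1, 3, 1, 0, 4, 3, 1]), (171, false, [2, 0, 4, 3, 1, 3, 1, 3, 4, 3, 4, 0, 1, 0, 4]), (263, true, [3, 1, 3, 1, 3, 1, 3, 4, 3, 4, 0, 1]), (10, true, [0, 1, 2, 0, 1, 3, 4, 0, 4, 3, 1, 0, 4]), (278, true, [0, 1, 2, 0, 4, 3, 1, 3, 1, 3, 4, 0, 1]), (165, true, [1, 0, 2, 4, 3, 1, 0, 4, 0, 4, 3, 4, 0]), (88, false, [0, 4, 0, 4, 3, 4, 3, 4, 3, 4, 0, 1, 0, 4]), (171, false, [0, 4, 0, 1, 3, 4, 0, 4, 0, 1, 0]), (47, true, [1, 0, 1, 2, 0, 1, 0, 4, 0, 4, 0, 1, 3, 1, 3]), (12, true, [1, 3, 1, 0, 4, 3, 4, 0, 4, 0, 1, 3, 4]), (277, false, [0, 1, 0, 1, 3, 1, 3, 1, 0, 1, 0, 4, 0, 4, 3]), (84, true, [0, 1, 2, 0, 4, 0, 4, 0, 4, 3, 1, 0, 1]), (67, false, [0, 1, 0, 4, 0, 4, 3, 1, 0, 1,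 0, 4, 0]), (178, true, [4, 0, 4, 0, 4, 3, 1]), (141, true, [4, 0, 4, 3, 1, 0, 1, 0, 4, 3, 4, 0, 1, 0, 4]), (199, true, [1, 3, 1, 0, 4, 3, 4, 3, 4, 3, 1]), (38, false, [1, 2, 0, 1, 0, 1, 0, 4, 3, 4, 0, 4]), (223, false, [1, 0, 1, 0, 1, 0, 2, 4, 3, 4, 0, 1, 3, 1, 3, 4]), (85, false, [3, 1, 0, 4, 3, 1, 0, 1, 3, 4, 0, 1]), (123, false, [1, 0, 2, 4, 3, 1, 0, 1, 3, 4, 0, 1, 0, 1, 3, 1, 3]), (54, false, [3, 1, 0, 1, 3, 1, 0, 1, 0, 1]), (105, true, [4, 0, 1, 0, 4, 3, 4, 0, 4, 3]), (38, false, [0, 4, 0, 1, 0, 1, 3, 1, 0, 1, 3, 1]), (72, true, [2, 0, 4, 0, 4, 3, 4, 0, 1, 0, 1, 0]), (77, false, [3, 4, 3, 1, 0, 1, 3, 4, 3, 4, 3, 4, 0, 1]), (69, true, [0, 1, 0, 1, 0, 4, 0, 4, 3, 1, 3, 1, 3, 1, 0]), (125, true, [0, 2, 4, 0, 1, 0,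 1, 0, 4, 0, 4, 3, 1, 3, 1]), (254, false, [0, 4, 3, 4, 0, 1, 3, 1, 3, 1, 0, 1, 0]), (258, true, [1, 0, 1, 0, 4, 0, 4, 0, 4]), (21, false, [4, 3, 1, 3, 1, 0, 4, 0, 4, 3, 4, 3]), (100, true, [1, 2, 0, 4, 3, 4, 0]), (277, false, [0, 2, 4, 0, 1, 3, 1, 3, 1, 3, 1, 0, 1, 0, 4]), (85, false, [0, 4, 0, 1, 3, 4, 0, 1, 0, 1, 3, 4]), (109, false, [3, 1, 0, 1, 3, 4, 0, 4, 0, 1, 3, 1, 0, 4, 0]), (126, true, [0, 1, 0, 1, 3, 1, 3, 1, 0, 4, 3, 1, 3, 1]), (180, true, [2, 0, 4, 0, 1, 3, 1, 3, 4]), (73, true, [1, 0, 1, 2, 0, 1, 0, 1, 0, 1, 3, 4, 3, 4, 0]), (85, true, [1, 3, 1, 3, 1, 0, 4, 3, 4, 3, 1, 0, 1]), (47, false, [3, 1, 3, 1, 3, 1, 0, 4, 3, 1, 3, 1, 3]), (69, true, [0, 1, 2, 0, 1, 0, 1, 0, 4, 3, 4, 0, 4, 0, 1, 3, 1]), (97, false,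 [1, 0, 1, 0, 2, 4, 0, 4]), (229, false, [1, 3, 1, 3, 4, 0, 1, 0, 1, 0, 1]), (96, true, [1, 0, 1, 2, 0, 4, 3, 4, 3, 4, 0, 1, 3]), (260, false, [1, 0, 1, 0, 2, 4, 0, 4, 0, 4, 3, 4, 0, 1, 0, 1]), (111, true, [2, 0, 1, 0, 1, 3, 1, 3, 4, 0, 4, 0, 4, 3, 4]), (168, false, [3, 1, 0, 4, 3, 1, 3, 1, 0, 1, 3])]
def r86 : List (ℕ × Bool × List ℕ) := [(205, true, [1, 3, 4, 0, 1, 0, 1, 3, 1, 3, 4]), (64, false, [0, 1, 2, 0, 4, 3, 4, 3, 4, 0, 4, 3, 4, 0, 4, 3, 4, 3, 4]), (268, false, [0, 4, 0, 4, 3, 4, 3, 1, 0, 1, 0, 4, 3, 4]), (276, false, [0, 2, 4, 3, 1, 0, 1, 0, 1, 3, 4, 0, 4, 0, 4]), (261, true, [4, 0, 4, 3, 4, 3, 4, 0, 1, 3, 1, 3, 1, 0, 4]), (251, false, [4, 3, 1, 0, 1, 0, 1, 0, 4, 3, 4, 0]), (207, false, [4, 3, 4, 3, 4, 0, 4,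 3, 1, 3, 4, 0, 1]), (86, true, [0, 2, 4, 0, 1, 0, 1, 0, 4, 3, 1, 3, 4]), (217, true, [1, 0, 1, 3, 1, 0, 1, 3, 1, 3, 1, 0, 4, 0]), (29, false, [3, 4, 3, 1, 3, 1, 0, 4, 3, 4, 0, 1, 0, 4]), (46, false, [1, 2, 0, 1, 0, 1, 3, 4, 0, 1, 0]), (151, false, [4, 0, 1, 0, 1, 3, 1, 3, 1, 3, 1, 0, 4, 3]), (137, false, [0, 2, 4, 3, 1, 0, 1, 3, 1, 0, 4, 3, 1]), (256, true, [1, 0, 2, 4, 3, 1, 0, 1, 0, 1, 3]), (163, false, [0, 1, 3, 4, 0, 1, 0, 1, 0, 4, 3, 1, 0, 1]), (112, true, [2, 4, 3, 4, 3, 4, 3, 1, 0, 1, 3, 4, 0, 4, 3, 4]), (67, true, [2, 4, 0, 4, 3, 4, 0, 4, 0, 4, 3, 1]), (268, false, [0, 1, 3, 4, 3, 1, 0, 1, 3, 1, 0, 1]), (97, true, [0, 1, 3, 4, 3, 4, 3, 1, 0, 4, 3, 1]), (65, true, [0, 1, 2, 0, 1, 0, 1, 0, 1, 0, 1, 3]), (30, false,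 [0, 1, 2, 0, 4, 0, 1, 3, 1, 3, 4, 0, 4, 3, 1]), (113, true, [0, 2, 4, 0, 4, 3, 1, 3, 4, 0, 4, 3, 1, 0, 1, 3]), (260, true, [2, 0, 4, 3, 1, 3, 1, 3, 1, 3, 1]), (227, false, [1, 3, 1, 0, 4, 3, 1]), (109, false, [0, 1, 2, 0, 1, 0, 1, 3, 1]), (254, false, [0, 1, 3, 1, 3, 4, 0, 4, 3, 1, 0, 4, 0, 4, 0]), (82, false, [3, 4, 0, 4, 0, 1, 3, 4, 0, 4, 3, 1, 3, 1, 0, 4]), (153, false, [1, 0, 1, 0, 1, 3, 1, 3, 1, 3, 1, 0, 1, 3]), (101, true, [4, 3, 1, 0, 4, 3, 4, 0, 4, 3, 4]), (182, true, [0, 1, 2, 0, 4, 3, 4, 0, 1, 0, 1, 0, 1, 3, 1, 0]), (50, true, [0, 1, 0, 1, 0, 1, 0, 4, 0, 4, 3, 4, 0, 1]), (233, false, [4, 3, 4, 3, 4, 0, 4, 3, 1, 3, 1, 3, 1]), (219, true, [3, 4, 0, 1, 3, 4, 3, 1, 0]), (106, false, [0, 1, 0, 1, 0, 1, 2, 0, 1,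 0, 1, 0, 4, 0, 4]), (57, false, [1, 0, 1, 2, 0, 1, 0, 1, 3, 1, 0, 4, 0]), (111, true, [0, 2, 4, 3, 4, 0, 4, 3, 1, 0, 1, 3, 4, 3, 4, 3]), (225, true, [0, 2, 4, 0, 4, 0, 1, 3, 4, 3, 4, 0, 4, 0]), (245, false, [3, 1, 0, 4, 3, 1, 3, 1, 0]), (95, true, [0, 2, 4, 3, 1, 3, 1, 3, 1, 0, 1, 3, 4]), (231, false, [2, 4, 0, 1, 3, 1, 3, 1, 0, 1, 3, 1]), (6, true, [0, 1, 0, 2, 4, 0, 4, 3, 4, 0, 4, 0, 4, 3, 4, 3, 4, 3, 4]), (221, false, [3, 1, 3, 1, 3, 1, 3, 4, 3, 4, 3, 1, 0, 1]), (207, false, [4, 3, 1, 3, 1, 3, 4, 3, 4, 0, 4, 0, 4, 0, 1]), (89, false, [0, 1, 0, 1, 2, 0, 1, 0, 4, 3, 4, 3, 4, 3, 4, 0, 1, 0]), (219, true, [0, 4, 0, 4, 3, 4, 3, 1, 0, 1, 0, 1, 3, 1, 3, 1]), (6, true, [3, 4, 0, 4, 0, 4, 3, 1, 3, 4, 0]), (262, false, [0,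 1, 2, 0, 1, 0, 1, 0, 1, 3, 4, 3, 4, 0, 1, 0]), (57, false, [2, 4, 0, 4, 3, 4, 0, 1, 0, 1, 0, 1, 3, 4, 0]), (208, false, [0, 4, 3, 4, 0, 4, 0, 4, 0, 4, 3, 4]), (261, true, [2, 0, 4, 3, 4, 0, 4, 3, 1, 3, 1, 3, 1]), (234, false, [1, 0, 1, 2, 0, 4, 0, 1, 3, 1, 0, 4, 3, 1, 3, 4]), (120, true, [0, 4, 0, 1, 0, 1, 3, 4, 3, 1]), (7, true, [2, 4, 3, 4, 0, 1, 0, 1, 3, 4, 0, 4, 0]), (86, true, [1, 0, 2, 4, 3, 1, 0, 4, 0, 4, 0, 1, 3]), (111, true, [0, 4, 3, 4, 0, 4, 0, 1, 3, 4, 3, 4, 3, 4]), (277, true, [2, 4, 0, 4, 0, 4, 3, 1, 0, 1, 0]), (217, true, [1, 3, 1, 0, 1, 0, 1, 3, 4, 0, 1, 0, 1]), (97, true, [1, 2, 0, 1, 3, 1, 3, 1, 3, 4, 0, 4, 3, 1, 3, 1, 3]), (22, false, [4, 3, 4, 0, 4, 3, 1, 0, 4, 0, 1]), (268, true, [0, 2, 4, 3, 4,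 3, 4, 0, 4, 0, 4, 3, 1, 0, 1, 3, 1]), (123, true, [3, 1, 3, 1, 3, 4, 0, 4, 3, 1, 0, 4, 0, 4, 0]), (68, true, [0, 1, 2, 0, 1, 3, 1, 3, 1, 0, 1, 3, 4, 3, 1, 0, 1, 3]), (60, false, []), (90, false, [2, 0, 4, 3, 4, 3, 1, 0, 1, 3, 1, 3, 4]), (77, false, [1, 0, 2, 4, 3, 4, 0, 4, 0, 1, 3, 4, 3, 4, 3, 4]), (65, false, [0, 2, 4, 0, 4, 0, 1, 3, 4, 0, 4, 3, 1, 3, 1, 0, 4]), (90, false, [1, 2, 0, 1, 0, 4, 0, 4, 0, 4, 3, 4, 0, 4]), (30, false, [4, 0, 1, 0, 4, 3, 4, 0]), (166, false, [3, 4, 3, 4, 0, 1, 3, 1, 0, 4, 0, 4, 3]), (64, true, [0, 1, 3, 1, 3, 1]), (220, false, [0, 1, 2, 0, 4, 0, 4, 0, 4, 3, 1, 0]), (6, true, [3, 4, 3, 1, 0, 1, 0, 1, 0, 1, 3, 4, 0, 1, 3]), (221, false, [4, 3, 1, 0, 1, 3, 4]), (86, false, [0, 1, 3, 1, 3, 1,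 0, 4, 3, 4, 3, 1, 0, 1, 3]), (181, true, [0, 1, 2, 0, 1, 3, 1, 0, 1, 0, 4, 0, 4, 0, 1, 3]), (122, true, [1, 2, 0, 4, 3, 1, 0, 1, 0, 1, 0, 1, 3]), (204, false, [1, 3, 4, 0, 4, 0, 4, 0, 1, 3, 4, 0]), (92, true, [0, 2, 4, 0, 4, 3, 4, 0, 1, 0, 1, 3, 1, 0, 1]), (84, true, []), (220, true, [1, 0, 2, 4, 0, 1, 3, 1, 3, 1, 0, 4, 3, 4]), (242, true, [0, 1, 2, 0, 1, 0, 4, 3, 1, 3, 1, 0, 4]), (155, true, [0, 2, 4, 0, 1, 3, 1, 0, 4, 3, 4, 0, 1]), (182, true, [2, 4, 3, 4, 3, 4, 3, 4, 0, 4, 0, 4, 0, 1, 3]), (6, true, [0, 1, 0, 1, 2, 0, 4, 0, 4, 0, 4, 3, 1, 3, 1]), (20, true, [3, 4, 3, 4, 0, 4, 0, 4, 3, 1, 0]), (262, false, [2, 0, 1, 3, 1, 0, 4, 0, 4, 0, 1, 3, 1]), (181, false, [3, 1, 0, 4, 3, 1, 0, 1, 0, 4, 3, 4, 0]), (192, false,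 [0, 1, 0, 2, 4, 0, 1, 3, 1, 3, 4, 0, 1, 0]), (66, true, [2, 0, 4, 0, 1, 3, 4, 3, 1, 0, 1, 0, 1, 0, 1, 3]), (181, true, [2, 0, 4, 0, 1, 3, 1, 3, 4]), (226, false, [2, 0, 1, 3, 4, 3, 4, 0, 1, 3, 1, 0, 1, 0]), (194, true, [2, 4, 3, 1, 0, 1, 0, 4, 0, 4, 0, 4, 0, 4, 0, 1]), (247, false, [1, 3, 1, 3, 1, 3, 1, 0, 4, 0, 4, 3, 1]), (157, true, [0, 2, 4, 3, 1, 3, 1, 3, 4, 0, 1, 0, 1, 3, 4]), (86, false, [0, 1, 3, 1, 3, 1, 0, 4, 3, 4, 3, 1, 0, 1, 3]), (234, true, [0, 4, 3, 1, 0, 1, 0, 1, 3, 4, 0, 1]), (141, true, [0, 4, 3, 4, 3, 4, 3, 4, 0, 4]), (181, false, [3, 4, 0, 1, 0, 1, 0, 1, 3, 4, 3, 4, 0, 4, 0]), (5, true, [3, 1, 0, 4, 3, 4, 0, 4, 3, 4, 3]), (118, false, [0, 4, 3, 4, 0, 1, 3, 1]), (71, false, [0, 1, 3, 1, 0, 4, 3, 4, 0,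 4, 3, 1]), (198, true, [1, 3, 1, 3, 4, 0, 1, 3, 1, 0, 4, 0, 4, 0, 4, 0]), (73, false, [0, 1, 3, 1, 3, 1, 0, 1, 0, 4, 3, 4, 0, 1]), (226, false, [3, 4, 0, 1, 3, 1, 3, 4, 0, 4, 3, 1, 0, 4, 0]), (248, false, [4, 0, 4, 0, 1, 3, 4, 3, 4, 3, 1]), (268, true, [2, 0, 1, 3, 1, 3, 4, 0, 4, 3, 4, 0, 4, 3, 4]), (54, false, [1, 3, 4, 3, 1, 0, 4, 0, 1]), (150, false, [4, 3, 4, 3, 4, 0, 4, 0, 1, 3, 1, 0, 1, 0]), (107, true, [1, 0, 4, 3, 1, 0, 1, 3, 1, 3, 4, 0, 1]), (71, false, [1, 0, 4, 3, 4, 0, 4, 0, 1, 3, 4, 0, 4, 0, 4, 3]), (249, false, [0, 4, 3, 4, 3, 1, 0, 1, 3, 1]), (198, true, [2, 4, 0, 1, 3, 1, 0, 1, 3, 1])]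
def r87 : List (ℕ × Bool × List ℕ) := [(255, false, [4, 3, 1, 3, 1, 3, 1, 3, 4, 3, 4, 3, 1, 0]), (254, false, [3, 4, 0, 1, 0, 1, 3, 4, 0, 4, 0, 4, 3, 1]), (266, false, [3, 4, 0, 1, 0, 1, 3, 4, 3, 1, 0, 4]), (170, true, [2, 0, 1, 0, 1, 3, 1, 3, 1, 0, 4, 3, 4, 3, 4, 0]), (195, false, [1, 0, 4, 3, 4, 3, 1, 0, 1, 3, 1, 3, 4]), (5, true, [0, 1, 0, 4, 3, 4, 3, 1, 0, 1, 3]), (10, true, [3, 1, 3, 1, 3, 4, 3, 4, 3, 1, 0, 1, 0, 1]), (210, true, [0, 4, 3, 1, 3, 1, 0, 4, 0, 4, 3, 1, 3, 1]), (51, false, [0, 1, 2, 0, 1, 0, 1, 0, 4, 3, 4, 0, 4, 0, 4, 0]), (72, false, [0, 4, 0, 1, 3, 4, 3, 4, 0, 1, 3, 4, 3, 4, 0]), (256, true, [1, 2, 0, 1, 3, 1, 3, 1, 0, 1, 0, 1, 3, 1, 3, 4]), (137, true, [0, 2, 4, 3, 4, 0, 1, 3, 4, 3, 4, 0, 1, 3]),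 (101, false, [4, 3, 4, 0, 4, 3, 1, 0, 1, 3, 4, 3]), (225, false, [0, 1, 0, 2, 4, 0, 4, 0, 4, 3, 4, 3, 1, 0]), (191, true, [0, 4, 0, 1, 0, 1, 3, 4, 3, 1, 0, 1, 3, 4, 0, 4, 3]), (73, false, [4, 0, 1, 3, 1, 3, 1, 0, 1, 0, 4, 3, 4, 0]), (178, false, [1, 0, 1, 2, 0, 1, 0, 4, 0, 4, 0, 4, 0, 4, 0, 1]), (7, false, [2, 4, 0, 1, 0, 4, 3, 4, 3, 4, 3, 4, 0, 1]), (226, false, [2, 4, 3, 4, 0, 1, 3, 1, 3, 1, 0, 1, 0, 4, 0, 4]), (127, false, [2, 4, 3, 1, 0, 1, 0, 1, 3, 4, 0, 1, 0, 1, 0, 1]), (222, false, [1, 2, 0, 4, 3, 4, 3, 4, 3]), (191, true, [2, 4, 0, 4, 0, 4, 0, 1, 3, 1, 0, 1, 0, 4, 3]), (122, false, [2, 4, 3, 1, 0, 1, 3, 4, 3, 4, 3, 4, 0, 1, 0, 4]), (195, false, [0, 1, 3, 1, 0, 4, 3, 1, 3, 1, 3, 1, 3, 4]), (154, true, [3, 1, 0,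 1, 3, 1, 3, 1, 3, 4, 0, 4, 3, 1, 3, 1]), (175, true, [0, 1, 2, 0, 4, 3, 4, 0]), (68, true, [0, 2, 4, 0, 4, 3, 4, 0, 1, 0, 1, 3, 1, 0, 1]), (4, false, [0, 1, 2, 0, 1, 0, 1, 0, 1, 0, 4, 0, 4, 3, 4, 0, 1]), (87, false, [0, 1, 0, 1, 2, 0, 1, 3, 1, 0, 1, 3, 1, 0, 1, 0]), (87, true, []), (275, true, [0, 1, 0, 4, 3, 1, 0, 1, 0, 1, 0, 1, 3, 4, 3, 1]), (75, true, [0, 4, 3, 1, 3, 1, 3, 1, 3, 1, 3, 1]), (213, true, [0, 1, 3, 1, 3, 4, 0, 4, 0, 4, 3, 4, 3]), (27, true, [2, 0, 1, 3, 1, 0, 1, 0, 4, 3, 4, 3, 4, 3, 4]), (222, false, [0, 1, 0, 1, 3, 4, 3, 4, 0, 4, 0, 1, 3, 4]), (97, true, [0, 2, 4, 0, 4, 0, 1, 3, 4, 0, 4, 0, 4, 0, 1]), (124, true, [1, 2, 0, 4, 3, 4, 3, 1, 0, 1, 3, 1, 3]), (116, false, [2, 0, 1, 0, 1, 3, 4, 3, 1, 0, 4,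 3, 4, 3]), (274, true, [1, 0, 1, 3, 1, 3, 4, 3, 4, 0, 1, 3, 1, 3, 1]), (258, false, [0, 1, 0, 1, 2, 0, 1, 0, 4, 3, 1, 0, 1, 3, 1, 0, 4]), (25, true, [1, 3, 1, 3, 1, 0, 4, 3, 1, 0, 1, 0, 4, 3, 1]), (179, true, [1, 0, 1, 0, 1, 3, 1, 0, 1, 0, 4, 0]), (122, false, [0, 1, 2, 0, 4, 0, 4, 3, 4, 0, 1, 0, 1, 0, 1]), (27, false, [0, 4, 3, 4, 3, 4, 3, 4, 0, 4, 3, 1]), (222, false, [3, 4, 3, 1, 3, 1, 0, 4, 3, 1, 3, 1, 0, 4, 0]), (200, true, [0, 2, 4, 0, 4, 3, 1, 0, 1, 0, 4, 0, 4, 3, 4, 3, 4, 0]), (141, true, [4, 3, 1, 3, 4, 0, 4, 0, 4, 3, 4, 0, 1, 3]), (170, true, [1, 0, 1, 0, 1, 2, 0, 4, 0, 4, 3, 1, 3, 1]), (26, false, [1, 0, 2, 4, 0, 1, 0, 1, 3, 4, 3, 1]), (200, true, [0, 2, 4, 0, 4, 3, 1, 0, 1, 0, 4, 0, 4, 3, 4, 3, 4, 0]), (41,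 true, [4, 0, 4, 3, 1, 3, 4, 0, 4, 0, 4, 0, 1, 3, 1, 3]), (126, true, [1, 3, 4, 3, 1, 0, 4, 3, 4, 3, 4, 0, 4, 3]), (237, true, [1, 0, 4, 0, 4, 3, 1, 0, 4, 0, 4, 0]), (214, false, [1, 3, 1, 0, 1, 0, 4, 3, 1, 3, 1, 0, 4, 3]), (127, false, [2, 4, 3, 1, 0, 1, 0, 1, 3, 4, 0, 1, 0, 1, 0, 1]), (163, false, [3, 4, 3, 4, 0, 4, 3, 1, 0, 1]), (12, true, [0, 2, 4, 0, 4, 0, 1, 3, 4, 0, 4, 3, 4, 0]), (252, false, [1, 2, 0, 4, 0, 4, 3, 4, 3, 1, 0, 4, 0, 4, 3, 1]), (25, false, [2, 0, 4, 0, 4, 3, 4, 0, 1, 0, 1, 3, 4]), (214, true, [1, 3, 1, 0, 1, 3, 4, 3, 1, 0, 4, 3, 4, 0, 4]), (234, true, [2, 4, 0, 1, 3, 1, 3, 1, 0, 4, 3, 1, 0, 1, 0, 1]), (97, true, [1, 3, 1, 3, 1, 0, 1, 0, 1, 3, 4, 0, 4, 3, 1, 3]), (87, true, []), (171, true, [0, 2,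 4, 0, 1, 3, 1, 3, 1, 0, 1, 3, 1, 3]), (153, false, [3, 1, 0, 1, 3, 1, 3, 1, 0, 4, 3, 1, 3, 1, 3]), (183, false, [0, 2, 4, 0, 4, 3, 4, 0, 1, 0, 1, 3, 1, 0, 1]), (218, true, [1, 2, 0, 4, 0, 4, 3, 4, 3, 1, 0, 1, 3]), (194, true, [1, 0, 1, 0, 4, 0, 4, 3, 1, 3, 1, 3, 4, 3]), (215, true, [0, 4, 0, 1, 3, 1, 3, 1, 3, 1, 0, 4, 3, 1, 3]), (67, false, [1, 2, 0, 4, 3, 4, 0, 4, 3, 4, 3, 4, 0, 4, 0]), (95, true, [3, 4, 3, 4, 3, 4, 0, 4, 3, 1, 0, 4, 3]), (67, false, [2, 0, 4, 3, 4, 3, 1, 0, 4, 3, 1]), (123, true, [1, 2, 0, 1, 3, 1, 0, 1, 0, 1, 3, 1, 0, 4, 3, 1]), (10, true, [4, 0, 4, 0, 1, 3, 1, 0, 4, 3, 4, 0, 4]), (98, false, [3, 4, 0, 1, 3, 1, 3, 1, 0, 1, 3, 4, 3, 1, 0]), (33, false, [2, 4, 0, 4, 3, 4, 0, 1, 3, 1, 3, 1, 0, 1, 3]),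 (171, false, [1, 0, 1, 2, 0, 1, 0, 4, 0, 4, 3, 4, 3, 4, 3, 1]), (81, true, [3, 1, 0, 1, 3, 4, 3, 1, 0, 4, 3, 4, 3, 1, 0]), (64, false, []), (33, false, [0, 2, 4, 0, 1, 0, 4, 3, 1, 3, 1, 0]), (277, true, [0, 4, 0, 1, 0, 1, 3, 4, 0, 1]), (252, true, [4, 0, 1, 0, 1, 3, 1, 3, 4, 0]), (212, true, [0, 1, 0, 4, 3, 4, 3, 4, 3, 4, 0, 1, 3, 1, 0, 1]), (276, false, [0, 1, 0, 4, 3, 1, 3, 1, 3, 1, 0, 4, 3, 4]), (122, true, [4, 0, 1, 0, 4, 3, 1, 0, 1, 3, 4, 3, 1, 0]), (69, false, [0, 1, 0, 1, 3, 4, 0, 4, 3, 4, 0, 4, 0]), (87, false, [0, 1, 0, 1, 2, 0, 1, 3, 1, 0, 1, 3, 1, 0, 1, 0]), (222, false, [0, 2, 4, 0, 4, 0, 1, 3, 1, 0, 4, 3, 1, 0, 1, 0]), (104, true, [0, 4, 0, 1, 0, 1, 3, 4, 0, 1, 0, 1, 3, 1, 0]), (215, true, [0, 4, 0, 1, 3,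 1, 3, 1, 3, 1, 0, 4, 3, 1, 3]), (85, false, [3, 1, 3, 1, 3, 1, 3, 4, 0, 4, 3, 1, 0, 1, 3, 1]), (41, true, [0, 1, 0, 4, 0, 4, 0, 4, 3, 1, 0]), (261, true, [4, 3, 1, 0, 1, 3, 4, 0, 4, 0, 4, 3, 4]), (241, true, [1, 2, 0, 1, 3, 1, 0, 1]), (172, false, [3, 4, 0, 1, 0, 1, 3, 1, 0, 1, 0, 4]), (72, true, [0, 1, 0, 1, 3, 4, 3, 1, 0, 1, 3, 4, 3, 4, 3, 1]), (218, true, [2, 0, 1, 0, 4, 3, 4, 0, 4, 3, 4, 3, 4, 3, 1, 3]), (109, false, [0, 1, 3, 4, 3, 4, 0, 4, 3, 1, 0, 4, 3]), (7, true, [3, 1, 3, 1, 0, 1, 0, 4, 3, 1, 3, 4, 0, 4, 3]), (7, false, [0, 1, 0, 1, 2, 0, 1, 0, 4, 3, 1, 3, 4, 0, 4, 3]), (4, true, [1, 0, 2, 4, 0, 4, 3, 4, 0, 1, 3]), (66, true, [1, 3, 1, 3, 4, 3, 4, 3, 4, 3, 1, 0, 4, 3]), (151, false, [1, 0, 1, 0, 2, 4, 3, 4,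 3, 4, 3, 1, 0, 4, 3]), (213, true, [1, 3, 4, 0, 4, 0, 1, 3, 1, 0]), (243, true, [1, 0, 4, 3, 1, 0, 1, 0, 4, 3, 1, 3]), (61, true, [0, 1, 0, 1, 3, 4, 0, 4, 0, 1, 3, 1, 3, 4]), (235, false, [3, 1, 0, 4, 3, 4, 0, 4, 0, 1, 3, 4, 3, 4, 3, 4]), (235, false, [1, 0, 1, 0, 1, 0, 2, 4, 3, 4, 0, 4, 3, 1, 3]), (69, true, [4, 0, 1, 3, 1, 3, 1, 0, 1, 3, 4, 0]), (56, false, [0, 1, 0, 1, 0, 4, 3, 4, 0, 4, 0, 4, 3, 1, 3, 1]), (225, false, [1, 0, 1, 0, 2, 4, 0, 4, 0, 1, 3, 4, 3, 4, 3, 4, 0, 1]), (130, false, [3, 4, 3, 4, 0, 4, 0, 4, 0, 4, 3, 4])]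
def r88 : List (ℕ × Bool × List ℕ) := [(269, true, [4, 0, 4, 0, 4, 3, 4, 3, 4, 3, 1]), (57, true, [1, 2, 0, 4, 3, 1, 3, 1, 0, 1, 3]), (98, false, [0, 1, 0, 2, 4, 3, 4, 0, 4, 0, 4, 0, 1]), (171, true, [2, 0, 1, 0, 1, 0, 4, 0, 4, 0, 4, 3, 4]), (71, false, [2, 4, 3, 1, 3, 4, 0, 4, 0, 1, 3, 4, 0]), (220, true, [1, 3, 4, 0, 1, 3, 1, 3]), (90, false, [1, 2, 0, 1, 3, 4, 3, 4, 0, 4, 0, 4, 3, 1, 0, 1, 0]), (90, true, [1, 0, 1, 0, 1, 2, 0, 1, 3, 1, 0, 1, 3, 1, 3, 1, 0, 4]), (263, true, [1, 3, 1, 0, 4, 0, 4, 3, 4, 0, 1, 0, 1, 0, 4]), (170, false, [2, 4, 3, 4, 3, 4, 0, 4, 3, 4, 0, 1, 3]), (130, true, [0, 2, 4, 0, 1, 3, 4, 3, 4, 0, 1]), (152, true, [2, 0, 4, 0, 4, 0, 4, 0, 1, 3, 4, 0, 4, 0, 4]), (34, true, [3, 4, 0, 1, 3, 1, 3, 4,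 0, 1, 3, 1, 0]), (123, false, [4, 0, 4, 0, 4, 3, 4, 0, 4, 3, 1, 0]), (276, true, [0, 1, 0, 2, 4, 0, 1, 3, 1, 3, 4, 3, 4, 3, 1]), (277, true, [1, 0, 1, 3, 4, 3, 1, 0, 1, 0, 1, 0, 4, 3, 1]), (269, false, [3, 1, 0, 1, 0, 1, 0, 4, 0, 4, 0, 4, 3, 4, 3, 4]), (132, true, [2, 4, 0, 1, 3, 1, 3, 1, 0, 4]), (198, true, [0, 1, 0, 1, 0, 4, 0, 4, 3, 1, 0, 1, 0, 1]), (262, true, [3, 1, 0, 1, 0, 1, 3, 4, 0, 4, 3, 4]), (65, true, [2, 4, 0, 4, 0, 1, 3, 1, 0, 4, 0, 4, 3, 1, 3, 4]), (231, true, [0, 1, 3, 1, 0, 1, 0, 1, 3, 1, 3, 1, 3, 1, 0]), (166, false, [0, 1, 0, 1, 0, 1, 0, 4, 3, 4, 0, 1, 0, 1, 3]), (137, true, [1, 0, 4, 3, 4, 3, 1, 0, 1, 0, 1, 0, 4]), (227, false, [4, 3, 4, 0, 1, 0, 1, 3, 4, 0]), (30, false, [0, 2, 4, 3, 1, 3, 1, 3,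 4, 0, 4, 3, 1, 3, 1]), (72, false, [0, 2, 4, 0, 4, 3, 4, 0, 1, 0, 1, 3, 1, 0, 1]), (80, false, [2, 0, 4, 0, 4, 0, 4, 3]), (70, false, [1, 2, 0, 4, 0, 4, 3, 1, 0, 1, 0, 4]), (77, false, [0, 2, 4, 3, 1, 3, 1, 3, 4, 0, 1, 3, 4]), (156, true, [4, 3, 4, 0, 4, 3, 4, 0, 1, 0, 1, 3, 1, 0]), (254, true, [0, 1, 2, 0, 4, 0, 1, 3, 1, 0, 1, 3, 1, 0, 4, 3]), (223, true, [1, 0, 1, 2, 0, 1, 3, 4, 0, 1, 0, 1, 3, 1, 3]), (276, true, [0, 1, 3, 1, 3, 1, 3, 1, 0, 4, 0, 4, 0]), (181, true, [0, 1, 3, 4, 0, 4, 3, 4, 0, 4, 0, 1, 3, 1]), (29, true, [4, 0, 4, 3, 4, 3, 4, 0, 4, 0]), (23, true, [1, 0, 1, 0, 1, 3, 4, 0, 4, 0, 4, 0]), (90, false, [0, 1, 0, 1, 0, 4, 3, 4, 0, 4, 3, 4, 0, 1, 0, 4]), (277, true, [0, 1, 0, 1, 3, 1, 0, 1, 3, 4, 0, 4, 0,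 4, 0, 4]), (72, true, [2, 0, 1, 0, 1, 0, 4, 3, 4, 3, 4, 3, 1, 0, 4, 0]), (23, false, [3, 1, 3, 1, 3, 4, 0, 4, 0]), (127, true, [1, 2, 0, 1, 0, 4, 0, 4, 3, 1, 0, 4, 0, 4, 3, 4, 0]), (193, false, [1, 2, 0, 4, 3, 1, 3, 1, 0, 4, 0, 4, 0]), (135, false, [1, 3, 1, 3, 4, 3, 4, 0, 4, 3, 1, 3, 1]), (62, true, [0, 2, 4, 3, 4, 3, 4, 3, 4, 0, 4, 0, 4, 0]), (49, false, [1, 2, 0, 4, 0, 1, 3, 1, 0, 1, 0, 4, 3, 4, 0]), (268, false, [2, 0, 4, 0, 1, 3, 1, 0, 1, 0, 1, 0, 4, 0, 4, 3]), (151, false, [0, 1, 0, 1, 2, 0, 4, 3, 4, 0, 1, 0, 1, 0, 4, 0]), (190, true, [1, 0, 1, 3, 1, 3, 1, 3, 1, 3, 1, 3, 4, 3]), (128, true, [2, 4, 3, 1, 3, 1, 0, 1, 0, 1, 3, 1, 3, 4]), (276, true, [2, 0, 4, 3, 4, 0, 1, 0, 1, 0, 4, 0, 4, 3, 4]), (6, true, [0, 1,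 0, 1, 2, 0, 1, 0, 4, 0]), (258, false, [4, 0, 4, 0, 1, 3, 4, 0, 4, 0, 4]), (253, true, [2, 4, 3, 4, 0, 1, 3, 1, 3, 4, 0, 4, 0, 4, 0, 4]), (79, true, [3, 4, 0, 4, 3, 1, 3, 1, 0, 4, 3, 1, 0]), (105, true, [1, 3, 4, 3, 4, 0, 1, 0, 1]), (172, false, [0, 1, 0, 1, 2, 0, 4, 3, 4, 3, 4, 3, 1]), (120, false, [0, 1, 3, 1, 0, 1, 0, 4, 0, 4, 3]), (114, true, [0, 1, 0, 1, 3, 4, 0, 4, 3, 4, 0, 4, 3]), (229, true, [4, 3, 4, 0, 1, 0, 1, 0]), (156, true, [4, 0, 1, 3, 1, 3, 4, 3, 4, 3, 1, 0, 1, 3, 1]), (124, false, [2, 0, 1, 0, 4, 0, 4, 3, 1, 0, 1, 3, 4]), (84, false, [1, 3, 4, 3, 4, 0, 1, 3, 1, 3, 4, 0]), (181, true, [4, 0, 4, 3, 4, 3, 4, 0, 4, 0, 4]), (5, true, [3, 1, 0, 4, 3, 1, 0, 1, 3, 4, 3, 1, 0, 1]), (140, false, [3, 4, 3, 1, 3,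 1, 0, 4, 3, 1]), (27, false, [1, 0, 4, 0, 4, 3, 4, 0, 4, 3, 4]), (96, false, [1, 3, 1, 3, 1, 0, 4, 3, 4, 3, 4]), (88, false, [1, 0, 1, 3, 1, 0, 1, 3, 1, 0, 1, 3, 1]), (235, true, [0, 1, 0, 4, 0, 4, 3, 4, 0, 4, 3, 4, 0, 1]), (96, false, [0, 1, 3, 1, 3, 4, 0, 1, 3, 1, 0, 4, 3, 4]), (57, true, [0, 2, 4, 3, 4, 3, 4, 0, 1, 0, 1, 3, 1, 0]), (73, false, [4, 0, 1, 0, 1, 0, 4, 0, 4, 0, 4, 0, 4, 3]), (237, true, [3, 4, 3, 1, 0, 1, 3, 4, 0, 1, 3]), (85, false, [1, 3, 4, 3, 1, 0, 1, 0, 1, 0, 1, 3, 1, 3]), (133, false, [2, 0, 4, 3, 4, 0, 4, 3, 4, 3, 4, 3]), (112, true, [4, 3, 1, 0, 1, 3, 1, 3, 1, 3, 4, 3, 4, 3]), (84, true, []), (97, true, [0, 1, 0, 4, 3, 4, 0, 1, 0, 1, 3, 1, 3, 1, 3]), (17, false, [0, 4, 0, 4, 0, 1, 3, 1, 3, 1,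 3, 4, 0]), (112, false, [1, 2, 0, 4, 3, 4, 0, 1, 3, 1, 3, 1, 0, 1, 3]), (197, true, [0, 1, 3, 1, 0, 1, 0, 1, 0, 1, 3]), (89, false, [0, 4, 3, 4, 0, 4, 0, 4, 3, 4, 0, 1, 3, 4, 3]), (199, false, [0, 4, 0, 4, 0, 1, 3, 1, 3, 4, 3, 4, 0, 4]), (216, true, [1, 3, 1, 3, 4, 0, 4, 0, 4, 0, 1, 3, 1, 3]), (88, false, [0, 1, 0, 4, 3, 4, 0, 4, 0, 1, 3, 1, 0, 1, 3, 1, 3]), (10, false, [0, 2, 4, 3, 4, 0, 4, 0, 1, 3, 4, 3, 1]), (63, false, [3, 4, 3, 4, 0, 4, 3, 1]), (189, false, [0, 4, 0, 1, 3, 4, 0, 4, 3, 4, 3, 4, 0, 1]), (153, true, [3, 1, 0, 1, 3, 1, 0, 4, 3, 4, 3, 4, 3, 1, 0, 1]), (234, true, [2, 0, 4, 3, 4, 0, 1, 0, 1, 3, 4, 0, 4, 3, 1, 3]), (260, true, [3, 4, 0, 1, 3, 4, 0, 4, 3, 4, 3, 4, 0, 4, 3]), (58, false, [2, 4, 3, 1, 0,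 1, 0, 1, 3, 1, 0, 4, 3, 1, 0]), (253, false, [0, 1, 3, 4, 3, 1, 0, 4, 0, 4, 3, 1, 3, 4]), (213, true, [0, 1, 0, 2, 4, 0, 1, 0, 1, 3, 4, 3, 1, 0, 1, 3, 4]), (21, false, [1, 0, 4, 0, 4, 0, 4, 3, 4, 0, 1, 3, 1]), (190, false, [1, 0, 1, 0, 1, 2, 0, 4, 0, 4, 0, 1, 3, 1, 0]), (102, true, [2, 0, 4, 3, 1, 3, 4]), (71, false, [1, 0, 1, 3, 1, 3, 4, 0, 4, 3, 4, 0, 1]), (172, false, [4, 0, 1, 0, 1, 3, 1, 0, 4, 0, 4, 0, 1, 0]), (70, true, [1, 2, 0, 1, 3, 4, 0, 4, 0, 1, 3, 4, 3]), (190, false, [1, 0, 1, 0, 1, 3, 4, 3, 4, 0, 4, 0]), (237, false, [4, 0, 1, 3, 1, 3, 4, 3, 4, 0, 1, 3, 1, 3, 1]), (220, false, [3, 1, 3, 1, 0, 1, 0, 1, 3, 1, 0, 1, 3]), (199, false, [2, 4, 3, 1, 0, 1, 0, 1, 3, 1, 0, 4, 3, 1, 0]), (71, true, [2, 0, 1, 3, 4,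 0, 4, 0, 1, 3, 1, 3, 1, 3]), (277, true, [0, 4, 0, 1, 0, 1, 3, 1, 0, 1, 3, 1, 3, 1, 0]), (222, true, [2, 0, 4, 3, 4, 3, 1, 3]), (137, false, [1, 3, 1, 0, 4, 3, 1, 0, 1, 3, 1, 3, 1, 0, 4]), (223, false, [2, 0, 4, 0, 1, 0, 1, 0, 1, 3, 4, 0, 4, 3, 1, 3]), (97, true, [4, 3, 1, 3, 4, 0, 4, 3, 1, 0, 1]), (190, true, [3, 1, 3, 4, 0, 4, 0, 4, 3, 4, 3, 4, 0, 4])]
def r89 : List (ℕ × Bool × List ℕ) := [(262, true, [1, 3, 1, 3, 1, 3, 4]), (88, false, [0, 1, 0, 4, 3, 1, 0, 1, 3, 1, 3, 1, 0, 1, 3]), (225, false, [0, 2, 4, 0, 4, 3, 1, 0, 1, 0, 4, 0, 4, 0, 4, 0]), (221, true, [1, 3, 1, 0, 4, 0, 4, 3, 1, 0, 4, 0]), (232, true, [0, 1, 2, 0, 1, 0, 1, 0, 4, 0, 4, 3, 1]), (222, true, [0, 4, 3, 4, 0, 1, 3, 1, 3, 1, 3, 4]), (218, true, [4,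 0, 1, 0, 4, 3, 1, 3, 1, 0, 4, 3, 4]), (123, false, [0, 1, 3, 1, 3, 1, 0, 1, 0, 1, 3, 1]), (198, true, [1, 0, 1, 0, 1, 3, 1, 3, 1, 0, 4, 3, 4, 3]), (266, true, [0, 4, 0, 1, 3, 4, 3, 4, 0, 4, 3, 1, 3, 4]), (226, false, [0, 2, 4, 0, 1, 0, 1, 0, 4, 3, 1, 3, 1, 0, 4]), (70, false, [0, 1, 0, 1, 0, 1, 3, 4, 0, 1, 0, 1, 0, 4, 3]), (178, false, [2, 0, 1, 3, 4, 0, 4, 3, 1, 3, 4, 0, 4, 0, 1]), (244, false, [0, 1, 0, 2, 4, 3, 4, 0, 4, 3, 1, 3, 1, 0, 4, 3]), (225, false, [0, 4, 0, 1, 0, 1, 3, 1, 0, 4, 0, 4, 0]), (51, false, [0, 2, 4, 3, 1, 0, 4, 3, 4, 3, 1, 0, 1, 3, 1, 3]), (90, true, [4, 0, 4, 0, 4, 3, 1, 0, 1, 0, 4, 0, 4, 0, 1]), (125, false, [4, 0, 1, 0, 1, 0, 4, 3, 4, 0, 4, 0, 4, 0, 1]), (256, true, [0, 1, 0, 1, 0, 4, 0, 4, 3,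 4, 0, 4, 0, 4]), (226, false, [0, 2, 4, 0, 1, 0, 4, 3, 1, 0, 1, 0, 1, 3]), (0, false, [0, 4, 3, 1, 0, 4, 0, 4, 3, 4, 0]), (109, true, [0, 4, 0, 1, 3, 1, 3, 1, 0, 1, 3, 4, 0, 4, 0]), (225, true, [4, 0, 4, 0, 1, 3, 1, 3, 1, 3, 4, 0, 4, 0]), (40, true, [2, 0, 4, 0, 1, 3, 1, 3, 4, 0, 1, 0]), (277, false, [2, 0, 4, 0, 1, 3, 1, 3, 1, 3, 1, 3]), (212, false, [0, 1, 3, 4, 0, 4, 0, 4, 3, 1, 0, 1, 3, 4, 3, 4, 0]), (89, false, [1, 0, 1, 0, 1, 3, 4, 0, 4, 0, 1, 3, 1]), (165, false, [4, 0, 4, 0, 4, 3, 1, 0, 1, 3, 4, 3, 4]), (89, false, [3, 1, 0, 4, 3, 1, 0, 1, 3, 1, 0, 1]), (97, false, [3, 1, 3, 1, 0, 1, 0, 1, 3, 1, 3, 1, 3]), (221, true, [0, 4, 0, 4, 3, 4, 0, 4, 0, 1, 3, 1]), (71, false, [4, 0, 4, 0, 4, 3, 1, 0, 1, 3]), (196, false,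 [0, 1, 3, 4, 3, 4, 3, 4, 0, 4, 0, 4, 3, 4, 3, 4]), (86, false, [0, 1, 0, 1, 2, 0, 1, 3, 1, 0, 1, 0, 1, 0, 4, 0, 4, 0]), (96, true, [0, 1, 3, 4, 0, 4, 3, 4, 0]), (164, false, [4, 3, 1, 3, 1, 0, 1, 3, 4, 0, 1, 3]), (224, false, [1, 0, 2, 4, 3, 4, 0, 1, 0, 1, 3, 1, 3, 4]), (151, false, [1, 3, 4, 3, 1, 0, 1, 3, 4, 3, 4, 3, 4]), (33, false, [1, 0, 2, 4, 3, 4, 0, 4, 0, 4, 3, 1, 3, 4]), (212, true, [4, 3, 4, 0, 4, 0, 4, 3, 4, 0, 1, 3, 4, 3]), (124, false, [0, 1, 3, 4, 0, 4, 0, 4, 3, 4, 0, 4, 3, 4, 0, 4, 0, 1]), (220, true, [3, 1, 0, 1, 0, 4, 0, 4, 0, 4, 3, 4, 3, 4, 0]), (270, true, [3, 4, 3, 4, 3, 1, 0, 1, 3, 1, 3, 4, 0, 1]), (82, false, [1, 0, 1, 0, 4, 3, 4, 3, 1, 0, 1, 0, 1, 0, 1, 0]), (237, false, [1, 0, 2, 4, 3, 4, 0, 4,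 0, 4, 3, 1, 0, 1, 3, 1]), (181, false, [1, 0, 2, 4, 0, 4, 0, 1, 3, 1]), (212, true, [3, 4, 0, 1, 3, 4, 3, 1, 0, 1, 0, 4]), (167, false, [1, 2, 0, 4, 0, 1, 3, 4, 0, 4, 0, 4, 0, 1]), (158, true, [2, 0, 1, 3, 1, 3, 1, 3, 1, 0, 1, 0, 1, 3, 4, 3]), (111, true, [1, 0, 2, 4, 0, 4, 3, 1, 0, 4, 0, 4, 0, 4]), (90, true, [4, 3, 4, 0, 4, 0, 4, 3, 4, 0, 4, 3, 4, 0, 4, 0, 4, 3]), (205, true, [0, 1, 3, 4, 3, 1, 0, 1, 3, 1, 3, 1, 0]), (208, false, [3, 4, 0, 4, 3, 4, 3, 4, 0, 1, 3, 1, 0, 4, 0, 1]), (281, true, [0, 2, 4, 3, 4, 0, 1, 3, 1, 0, 1, 3, 4]), (139, true, [3, 4, 3, 1, 0, 1, 3, 1, 0, 1, 3]), (107, false, [1, 3, 4, 3, 1, 0, 1, 3, 1, 0, 1]), (112, false, [0, 1, 2, 0, 1, 3, 1, 0, 1, 3, 1, 3]), (197, true, [4, 0, 4, 0, 1, 3, 4, 3,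 4, 3, 1]), (113, false, [3, 1, 0, 4, 3, 4, 3, 1, 0, 1, 3, 4, 3]), (57, false, [0, 1, 2, 0, 1, 0, 1, 0, 1, 3, 1, 3, 4, 3, 4, 3, 1]), (276, false, [0, 1, 0, 4, 3, 4, 3, 1, 0, 1, 3, 4, 3, 4, 0]), (122, false, [3, 1, 3, 4, 0, 4]), (98, false, [0, 1, 0, 1, 0, 2, 4, 0, 4, 3, 1, 3, 1, 3, 1, 0, 1, 0]), (214, true, [1, 0, 2, 4, 0, 4, 3, 1, 0, 1, 3, 4, 3, 1, 0, 4, 3, 4]), (237, false, [3, 1, 3, 4, 3, 4, 0, 4, 3, 4, 0, 4, 0]), (71, true, [1, 2, 0, 1, 0, 1, 0, 1, 3, 1, 3, 1, 3, 1, 0, 1, 3]), (25, false, [2, 4, 3, 4, 0, 4, 3, 1, 0, 1, 0, 4, 0, 4, 3, 1, 0]), (128, false, [4, 0, 4, 3, 4, 3, 4, 3, 1, 0, 1, 0, 4, 3]), (50, true, [1, 0, 1, 0, 1, 2, 0, 1, 0, 1, 0, 1, 3, 4, 0, 1]), (224, false, [2, 4, 0, 4, 3, 1, 3, 1, 3, 4, 0, 4, 3, 4,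 3, 4]), (221, true, [2, 0, 4, 0, 1, 3, 4, 0, 4, 3, 1, 3, 4, 0, 4, 0]), (223, true, [3, 4, 0, 1, 3, 1, 3, 1, 3, 4, 3]), (216, false, [4, 3, 1, 3, 4, 0, 4, 0, 1, 3, 1, 3, 1, 3, 1]), (157, false, [0, 1, 0, 1, 3, 1, 0, 4, 0, 4, 3, 4]), (246, false, [0, 1, 0, 1, 2, 0, 1, 3, 1, 3, 1, 0, 4]), (195, false, [1, 0, 1, 2, 0, 1, 0, 1, 3, 1, 0, 4, 3, 1, 0, 1]), (270, false, [1, 0, 2, 4, 0, 4, 0, 1, 3, 4, 3, 4, 0, 1, 0]), (72, true, [1, 3, 4, 3, 4, 0, 1, 3, 1, 3, 4, 0]), (60, false, [3, 1, 3, 1, 0, 1, 0, 1, 3, 4, 0, 1, 0, 1]), (221, false, [1, 2, 0, 1, 0, 1, 0, 1, 3, 1, 3, 4, 0, 4, 3, 1]), (269, true, [0, 2, 4, 3, 4, 0, 1, 0, 1, 3, 4, 3, 1, 0, 4, 0]), (42, true, [1, 0, 1, 0, 1, 0, 1, 3, 4, 3, 1, 0]), (237, true, [0, 2, 4, 3, 4, 3,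 1, 0, 1, 3, 1, 3, 4]), (89, false, [0, 1, 3, 1, 0, 1, 0, 1, 0, 4, 0, 4, 3, 4, 3, 4, 0]), (190, true, [1, 0, 1, 2, 0, 1, 0, 4, 3, 4, 3, 1, 0, 1, 3, 4, 3]), (262, false, [1, 2, 0, 1, 0, 1, 0, 1, 3, 4, 0, 1, 3, 1]), (217, false, [3, 1, 0, 4, 3, 4, 3, 4, 0, 1, 3, 4]), (123, false, [1, 0, 1, 2, 0, 1, 3, 1, 0, 4, 0, 4, 3, 1]), (216, false, [0, 4, 0, 4, 3, 1, 0, 1, 0, 4, 0, 4, 0]), (222, false, [1, 3, 1, 0, 4, 3, 4, 0, 1, 3, 1, 3]), (205, true, [1, 0, 4, 0, 4, 3, 1, 3, 1, 0, 4, 3, 4, 0, 1]), (85, true, [3, 1, 3, 4, 0, 4, 3, 1, 0, 1, 0, 1, 3, 1, 0, 1]), (94, false, [2, 0, 1, 0, 1, 3, 1, 0, 4, 0]), (277, true, [2, 4, 3, 1, 0, 1, 3, 4, 3, 4, 3, 4, 3]), (235, true, [3, 4, 3, 1, 3, 1, 0, 4, 3, 1, 3, 1, 3]), (232, true, [0, 1, 0,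 4, 3, 4, 0, 4, 3, 4]), (149, true, [2, 0, 1, 0, 1, 0, 1, 3, 1, 0, 1, 3, 4, 0]), (242, false, [0, 1, 0, 2, 4, 0, 1, 0, 1, 3, 4, 0, 1, 0, 1]), (167, true, [4, 3, 1, 3, 1, 3, 1, 3, 1, 3, 1, 0]), (122, true, [4, 0, 4, 3, 1, 3, 4, 0, 4, 0, 4, 0, 4, 0, 1]), (235, false, [1, 3, 1, 0, 4, 0, 4, 3, 1, 0, 1, 3, 1]), (203, false, [2, 0, 4, 3, 4, 3, 4, 3, 4, 3]), (263, false, [4, 3, 4, 0, 1, 3, 1, 0, 4, 0, 4, 0, 4, 3, 1]), (70, true, [1, 0, 1, 0, 1, 3, 4, 0, 4, 0, 1, 3, 1]), (213, true, [0, 4, 0, 4, 0, 1, 3, 1, 0, 4, 3, 4]), (70, true, [1, 0, 4, 3, 1, 3, 1, 3, 4, 0, 4, 3, 4, 3, 4, 3]), (153, false, [2, 4, 0, 1, 3, 4, 3, 4, 3, 4, 0, 1, 3, 1, 3]), (128, true, [0, 2, 4, 0, 4, 3, 1, 0, 1, 3, 4, 3, 4, 0, 1]), (183, true, [0, 1, 3, 4,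 0, 4, 0, 1, 3, 4, 3, 4, 0, 4]), (108, false, [1, 0, 4, 3, 1, 0, 1, 3, 1, 0, 1, 0, 4, 0, 4, 3]), (153, false, [3, 4, 0, 4, 3, 4, 3, 1, 0, 4, 0, 4, 3, 1, 3]), (79, false, [0, 1, 3, 1, 3, 4, 0, 1, 0, 1, 0, 4, 0])]
def r90 : List (ℕ × Bool × List ℕ) := [(277, true, [0, 1, 2, 0, 4, 0, 4, 3, 1, 3, 1]), (69, true, [0, 4, 0, 4, 0, 1, 3, 4, 0, 4, 3, 1, 0]), (6, true, [1, 0, 2, 4, 0, 4, 3, 1, 0, 1, 3, 4, 3, 1]), (90, false, [0, 4, 3, 1, 0, 4, 0, 4, 3, 1, 0, 1]), (266, false, [0, 1, 2, 0, 1, 3, 4, 0, 4, 0]), (66, true, [4, 0, 1, 3, 1, 3, 4, 0, 4, 3, 1, 3, 1, 3]), (211, false, [1, 0, 2, 4, 3, 1, 0, 1, 0, 1, 3]), (71, true, [3, 1, 0, 1, 0, 4, 0, 4, 0, 4, 3, 4]), (136, true, [2, 0, 1, 3, 4, 0, 1, 3, 1, 0]), (151, false, [2, 0, 1,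 0, 1, 0, 4, 3, 4, 0, 1, 3, 4]), (250, true, [0, 4, 0, 4, 0, 4, 3, 1, 3, 1, 0, 1, 0, 1, 0]), (152, true, [2, 4, 0, 1, 0, 1, 3, 1, 3, 1, 3, 1, 0, 4, 3]), (277, true, [1, 0, 2, 4, 3, 1, 0, 1, 3, 1, 0, 4, 3, 1, 3, 4, 0]), (199, true, [2, 0, 4, 3, 4, 3, 1, 0, 1, 0, 1, 0, 4, 3, 4]), (137, false, [1, 0, 1, 0, 1, 2, 0, 1, 0, 1, 0, 4, 3, 4, 3]), (139, false, [0, 4, 0, 4, 3, 4, 0, 1, 0, 1, 0, 4, 3, 4]), (219, true, [4, 0, 4, 3, 1, 0, 1, 0, 1, 3, 1, 0, 4, 3]), (127, false, [3, 1, 0, 4, 3, 4, 0, 1, 3, 1, 3, 1, 3, 1, 0, 4]), (122, false, [0, 1, 3, 1, 3, 4, 0, 4, 3, 1, 0, 1, 3]), (96, true, [0, 1, 0, 1, 2, 0, 4, 3, 4, 3, 4, 0, 4, 3, 4]), (113, false, [4, 0, 1, 3, 1, 0, 4, 0, 4, 0, 1, 3]), (234, true, [0, 1, 0, 4, 3, 4, 3, 1, 0, 4,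 3, 4, 0, 1]), (213, true, [0, 2, 4, 0, 1, 3, 4, 0, 4, 0, 4, 3, 4, 3, 1]), (137, false, [0, 1, 0, 1, 0, 1, 2, 0, 1, 0, 1, 3, 1, 3, 1, 0, 1]), (261, false, [0, 4, 0, 4, 3, 4, 3, 1, 0, 1, 0, 4, 3]), (270, true, [1, 3, 1, 3, 4, 3, 4, 3, 4, 0, 4, 3, 4, 0, 4, 0]), (140, false, [2, 0, 1, 0, 1, 0, 1, 3, 4, 0, 4, 0]), (222, true, [1, 0, 1, 3, 1, 3, 1, 0, 1, 0, 1, 3, 4, 0, 4, 0]), (270, true, [0, 4, 3, 4, 3, 4, 3, 1, 0, 4, 3, 4, 3, 4, 0]), (253, true, [0, 1, 0, 1, 3, 1, 0, 1, 0, 4, 3, 1]), (253, false, [2, 0, 4, 0, 1, 0, 1, 0, 4, 3, 4, 0, 4]), (66, false, [1, 0, 1, 3, 1, 3, 1, 0, 4, 3, 1]), (84, true, [0, 1, 0, 2, 4, 0, 4, 0, 1, 3, 1, 0, 1, 3, 1]), (49, true, [0, 2, 4, 0, 1, 3, 4, 3, 1, 0, 1, 3, 1, 0]), (263, true, [4, 0, 1, 3,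 1, 3, 1, 0, 4, 0, 1]), (89, true, [4, 3, 1, 3, 1, 3, 4, 3, 4, 0, 1, 3, 1, 3, 1]), (213, true, [3, 4, 0, 1, 0, 1, 0, 4, 3, 4, 0, 1, 3, 1, 0]), (231, true, [0, 1, 3, 1, 3, 1, 3, 1, 3, 1, 0, 1, 0]), (199, true, [0, 1, 0, 1, 0, 1, 0, 4, 3, 1, 3, 4]), (73, false, [1, 0, 2, 4, 3, 4, 0, 1, 0]), (209, true, [1, 0, 1, 0, 2, 4, 3, 4, 0, 1, 0, 1, 0, 1, 3]), (146, false, [4, 3, 1, 0, 4, 3, 4, 3, 4, 3, 4, 0]), (274, false, [3, 4, 3, 4, 0, 4, 3, 1, 0, 4, 0, 4]), (222, true, [3, 1, 0, 1, 3, 1, 3, 4, 3]), (88, true, [1, 2, 0, 4, 3, 4, 3, 4, 0, 4, 3, 4, 0, 4, 3, 4, 3, 4]), (232, false, [0, 1, 2, 0, 1, 3, 4, 0, 4, 3, 1, 3, 1, 3, 1, 3]), (86, false, [1, 0, 2, 4, 3, 4, 0, 4, 3, 1, 3, 1, 0]), (112, true, [2, 4, 3, 4, 0, 1, 0, 1, 3, 4, 0,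 4, 0]), (57, true, [2, 4, 3, 4, 3, 4, 3, 4, 0, 4, 0, 4, 3, 1, 0, 1]), (88, false, [2, 0, 1, 3, 1, 3, 4, 0, 1, 3, 1, 3, 1, 0, 1, 0, 1]), (237, true, [2, 0, 4, 3, 1, 0, 1, 0, 1, 3, 1, 3, 1, 0, 1, 3]), (85, true, [4, 3, 1, 3, 4, 0, 4, 0, 4, 0, 1]), (226, false, [1, 0, 2, 4, 3, 4, 0, 1, 3, 1, 0, 4, 0, 4, 0, 1, 3]), (154, false, [0, 1, 2, 0, 4, 3, 1, 0, 1, 3, 4, 3, 4, 3, 4]), (63, false, [3, 4, 0, 1, 0, 1, 3, 4, 0, 4, 0, 4, 3, 1]), (253, false, [4, 3, 4, 0, 4, 0, 4, 0, 4, 3, 4, 3, 4, 3, 4]), (223, false, [1, 0, 1, 3, 1, 3, 1, 0, 4, 0, 4, 3, 4, 3]), (65, false, [4, 0, 4, 3, 1, 0, 1, 0, 4, 0, 4, 3, 4, 3]), (250, false, [3, 4, 0, 4, 3, 4, 0, 4, 3, 4, 3]), (277, false, [0, 2, 4, 0, 4, 3, 1, 0, 1, 0, 4, 0, 4, 3, 4, 3]), (23, false,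 [2, 0, 1, 0, 1, 3, 4, 3, 4, 0, 1, 3, 4, 3, 4]), (262, true, [2, 0, 4, 0, 1, 0, 1, 0, 1, 3, 1, 3, 1, 0, 4, 3]), (30, false, [3, 4, 0, 4, 0, 4, 3, 4, 0, 1, 0, 4]), (24, true, [1, 3, 4, 0, 4, 3, 1, 3, 1, 0, 1, 0, 1]), (97, false, [0, 1, 2, 0, 4, 0, 1, 3, 1, 3, 4]), (65, true, [4, 0, 4, 3, 1, 0, 1, 3, 1, 3, 1, 3, 4, 3, 4, 0]), (261, true, [1, 0, 1, 3, 4, 0, 4, 3, 4, 3, 4, 3, 1]), (98, true, [1, 3, 4, 3, 4, 3, 1, 0, 1, 3, 4, 3, 4, 3, 4, 0]), (276, true, [2, 0, 4, 0, 4, 3, 4, 3, 1, 0, 4, 3, 4, 0, 4, 3, 1]), (123, false, [0, 2, 4, 0, 1, 0, 1, 3, 4, 0, 1, 0, 1, 3, 4, 3]), (127, true, [2, 0, 1, 3, 4, 3, 4, 0, 1, 0, 1]), (218, true, [1, 0, 4, 0, 1, 3, 4, 0, 4]), (89, true, [0, 1, 3, 1, 3, 1, 0, 1, 3, 1, 0, 1, 3, 1, 3, 1, 0, 1]),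 (212, false, [0, 1, 2, 0, 1, 0, 1, 3, 4, 3, 1, 0, 1, 3, 1, 3, 1]), (260, false, [1, 3, 4, 0, 1, 0, 1, 3, 1, 3, 1, 0, 1, 0]), (122, false, [3, 4, 0, 4, 0, 4, 3, 4, 0, 4, 3, 4, 0, 1, 0]), (280, false, [0, 1, 2, 0, 1, 3, 1, 0, 4, 0, 4, 3, 1, 0]), (88, false, [1, 3, 4, 3, 1, 0, 1, 3, 1, 0, 1, 3, 4, 3, 4, 3]), (90, false, [0, 4, 0, 1, 3, 4, 0, 4, 3, 1, 0, 4, 0]), (180, true, [1, 2, 0, 1, 3, 4, 3, 4, 0, 4, 0, 4, 0, 4]), (111, true, [4, 3, 1, 0, 1, 3, 4, 0, 4, 3, 1]), (223, true, [4, 0, 4, 3, 4, 0, 1, 3, 1, 3, 4, 3, 4, 0, 4, 3]), (114, false, [3, 1, 0, 1, 0, 1, 3, 4, 3, 4, 0, 1]), (86, false, [1, 2, 0, 1, 3, 1, 0, 1, 0, 1, 0, 4, 0, 4]), (107, true, [0, 4, 3, 4, 0, 4, 3, 4, 3, 4, 3, 1, 0]), (167, true, [1, 2, 0, 4, 0, 1, 3,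 1, 3, 1, 3, 4, 0, 4]), (148, false, [1, 3, 4, 3, 4, 0, 1, 0]), (98, false, [0, 1, 3, 4, 3, 4, 0, 4, 3, 1, 0, 1]), (153, false, [4, 3, 1, 0, 1, 3, 1, 3, 1, 0, 1, 3, 1, 0]), (49, true, [1, 0, 2, 4, 3, 4, 0, 4, 3, 1, 3, 4, 0]), (260, false, [2, 0, 1, 0, 1, 0, 4, 0, 4, 3, 4, 0, 4, 3, 4, 0]), (10, false, [0, 1, 2, 0, 4, 3, 4, 0, 1, 3, 1, 3, 4, 0]), (254, false, [1, 3, 4, 3, 1, 0, 1, 3, 4, 3, 4, 0, 1, 3, 4]), (64, false, [0, 1, 2, 0, 4, 0, 4, 3, 1, 0, 1, 0, 1, 0, 4, 3, 1]), (181, true, [1, 0, 1, 0, 4, 3, 4, 0, 1, 0, 1, 0, 4, 3]), (198, true, [3, 1, 3, 1, 0, 4, 3, 4, 3, 4, 0, 4, 0, 4, 3, 4]), (205, false, [1, 0, 4, 3, 1, 0, 1, 3, 4, 3, 4, 0, 1, 3]), (190, false, [2, 0, 1, 0, 1, 0, 4, 0, 4, 3, 4, 3, 4, 0, 1, 3, 1]), (109, false,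 [1, 3, 4, 0, 1, 3, 1, 0, 4, 0, 4, 0, 4, 0]), (213, true, [0, 2, 4, 0, 4, 0, 4, 3, 4, 3, 4, 0, 1, 3, 1, 0, 4, 0]), (213, true, [2, 0, 1, 0, 1, 3, 1, 0, 1, 3, 1, 0, 1, 0]), (79, true, [3, 4, 0, 1, 3, 4, 3, 4, 0, 4, 0, 1, 3, 1]), (248, false, [1, 3, 1, 0, 1, 0, 4, 0, 4, 3, 1, 3, 1, 0]), (77, false, [0, 2, 4, 0, 4, 3, 4, 0, 1, 3, 1, 0, 4]), (225, true, [1, 0, 4, 3, 4, 0, 4, 0, 1, 3, 4, 0, 4, 0, 4]), (276, true, [1, 2, 0, 1, 0, 4, 0, 4, 3, 1, 3, 4]), (66, true, [2, 0, 1, 3, 1, 0, 4, 0, 4, 3, 1, 0, 4, 0, 4, 0, 1]), (149, false, [0, 1, 0, 2, 4, 3, 4, 0, 1, 3, 4, 3, 4]), (29, true, [1, 0, 2, 4, 3, 1, 0, 1, 3, 4, 0, 1, 0, 4]), (84, true, [0, 1, 0, 1, 0, 2, 4, 0, 4, 3, 1, 0, 4]), (111, true, [2, 0, 4, 0, 4, 0, 1, 3, 1, 0, 4, 0,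 4, 0, 1, 3]), (172, false, [3, 4, 3, 4, 0, 4, 3, 4, 0, 4, 0, 4, 3, 1, 0])]
def r91 : List (ℕ × Bool × List ℕ) := [(235, false, [1, 3, 1, 3, 4, 0, 4, 0, 4, 0, 4, 3, 4, 3, 1, 3]), (262, true, [2, 4, 3, 4, 0, 1, 3, 1, 3, 1, 0, 1, 0, 1, 3, 1, 3]), (242, false, [3, 1, 0, 1, 0, 1, 3, 1]), (247, true, [0, 1, 0, 2, 4, 3, 4, 3, 4, 0, 1, 3, 1, 0]), (189, true, [4, 3, 4, 0, 1, 3, 4, 3]), (218, true, [2, 0, 1, 3, 1, 0, 1, 0, 1, 0, 1, 3]), (214, true, [2, 4, 3, 4, 3, 1, 0, 1, 3, 1, 0, 1, 3, 4, 3, 4, 3]), (234, true, [0, 2, 4, 0, 1, 0, 1, 0, 4, 0, 4, 3, 4, 0, 4]), (140, true, [1, 3, 4, 3, 4, 0, 4, 0, 4, 3, 4, 3, 4, 0]), (262, false, [0, 4, 3, 4, 0, 4, 3, 4, 3, 4, 0, 4, 3, 1, 0, 4]), (4, true, [4, 3, 1, 0, 1, 3, 4, 3, 4, 0, 4, 3, 4]),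 (195, false, [1, 0, 1, 3, 1, 0, 1, 3, 4, 3]), (211, false, [0, 2, 4, 0, 1, 0, 1, 0, 1, 3, 1, 3, 1, 0, 4, 0, 4]), (175, false, [4, 3, 4, 0, 1, 3, 1, 3, 4, 3, 4, 3]), (246, false, [1, 0, 4, 3, 4, 0, 4, 0, 1, 3, 1]), (91, false, [3, 1, 3, 1, 0, 1, 3, 4, 0, 1]), (224, true, [0, 1, 2, 0, 4, 3, 4, 0, 1, 3, 1, 3, 4, 3, 4, 0, 1, 0]), (123, false, [0, 4, 0, 1, 3, 1, 0, 1, 3, 1, 3, 4, 3, 4]), (151, false, [1, 2, 0, 1, 3, 1, 3, 1, 3, 4]), (4, true, [2, 4, 0, 4, 3, 1, 3, 1, 0, 1, 3, 4, 3, 4]), (252, false, [4, 3, 4, 3, 1, 0, 1, 3, 1, 0, 4, 3, 4]), (236, true, [0, 1, 0, 2, 4, 0, 1, 3, 1, 3, 1, 0, 4, 3, 4]), (68, false, [0, 1, 0, 1, 3, 1, 3, 4, 0, 4, 3, 1, 0, 4, 0, 4]), (195, false, [1, 0, 1, 2, 0, 1, 3, 4, 3, 4, 0, 1, 3, 1]), (191,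 false, [2, 4, 0, 4, 3, 4, 3, 1, 0, 1, 0, 4, 3, 1, 3, 4]), (193, false, [2, 0, 4, 0, 1, 3, 1, 3, 1, 0, 1, 3, 4, 0, 4, 0]), (64, true, [2, 0, 4, 3, 4, 0, 4, 3, 1, 3, 1, 0, 1, 3, 1]), (93, true, [0, 4, 3, 1]), (262, false, [1, 0, 2, 4, 3, 1, 0, 1, 0, 4, 3, 1, 3, 4]), (203, true, [1, 3, 1, 3, 1, 3, 1, 0, 4, 3, 4, 0, 1]), (251, true, [0, 1, 3, 4, 3, 4, 3, 4, 3, 1, 0, 4, 3, 4, 3]), (98, true, [1, 0, 1, 3, 4, 3, 4, 3, 1, 0, 1, 3, 1, 0]), (262, true, [4, 3, 1, 3, 1, 3, 4, 0, 4, 3, 4, 0]), (249, false, [3, 1, 0, 1, 3, 4, 3, 1, 0, 1, 0]), (269, true, [1, 0, 1, 2, 0, 4, 3, 4, 3, 1, 0, 1, 0, 1, 3]), (79, true, [3, 4, 0, 1, 3, 1, 0, 1, 0, 1, 3, 1, 0, 1]), (91, false, [4, 3, 1, 0, 4, 3, 4, 0, 4, 0]), (263, false, [1, 0, 4, 3, 4, 3,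 1, 0, 1, 0, 4, 3, 4, 0, 1, 0]), (151, false, [0, 1, 0, 2, 4, 3, 4, 0, 1, 3, 4]), (60, false, [1, 3, 4, 0, 4, 0, 4, 0, 1, 3, 4, 0, 4, 0, 1]), (124, true, [0, 1, 3, 1, 3, 1, 0, 4, 3, 1, 3, 4, 0, 4, 0]), (196, false, [2, 0, 1, 0, 1, 3, 4, 3, 4, 0, 1, 0, 1, 0]), (170, false, [4, 3, 4, 0, 4, 0, 1, 3, 4, 0, 4, 3, 1, 3, 4, 0]), (259, false, [0, 4, 3, 4, 0, 4, 3, 4, 3, 4, 3, 1, 0, 1, 0]), (128, true, [2, 4, 0, 1, 0, 4]), (256, true, [1, 0, 1, 2, 0, 4, 3, 1, 3, 1, 0, 1, 0, 4]), (190, true, [3, 1, 3, 4, 0, 4, 3, 4, 3, 4, 0, 1, 3, 4, 3, 1]), (130, true, [4, 0, 4, 0, 1, 3, 1, 3, 1, 3]), (189, false, [2, 0, 1, 3, 4, 0, 1, 3, 1, 0, 1, 0]), (68, false, [0, 1, 3, 4, 3, 1, 0, 1, 0, 1, 0, 4, 3, 1, 3]), (166, false, [4, 3, 4, 0, 4, 0,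 4, 0, 4, 3, 1, 3, 1]), (109, false, [1, 0, 2, 4, 3, 4, 3, 1, 0, 4, 3, 4, 3, 4, 0, 4, 0]), (191, false, [0, 1, 2, 0, 1, 3, 1, 3, 4, 0, 1, 3, 1, 3, 1, 0]), (256, true, [0, 2, 4, 3, 4, 0, 1, 3, 1, 3, 4, 0, 4, 3, 1, 3, 4, 0]), (174, false, [2, 4, 3, 4, 3, 4, 0, 1, 3, 4, 0]), (221, true, [0, 1, 0, 1, 0, 1, 2, 0, 1, 3, 1, 0, 4, 3, 4, 3, 4]), (177, true, [1, 3, 1, 0, 1, 3, 1, 0, 1, 0, 4, 3, 4]), (6, false, [1, 0, 2, 4, 0, 1, 3, 1, 0, 1, 0, 1, 0, 4, 0, 4, 0]), (124, false, [1, 2, 0, 4, 3, 4, 0, 4, 0, 1, 3, 1, 0, 1, 3, 1]), (189, true, [3, 1, 0, 1, 0, 1, 3, 1, 0, 1, 3, 1, 3, 4, 0]), (235, false, [3, 4, 3, 4, 0, 4, 0, 1, 3, 1, 0, 4, 0, 4]), (123, false, [3, 4, 0, 1, 3, 4, 3, 1, 0, 1, 3, 1, 0, 1]), (72, true, [4, 0, 1, 0, 1, 3,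 4, 0, 1, 3, 1, 0, 4, 0, 1]), (6, true, [1, 3, 4, 0, 4, 3, 1, 3, 1, 3, 4, 0, 4, 3, 4, 0]), (10, true, [2, 0, 4, 0, 1, 3, 1, 3, 4, 3, 4, 0]), (96, false, [0, 1, 2, 0, 1, 0, 1, 3, 1, 0, 1, 3, 1, 3, 4, 0]), (140, true, [2, 4, 0, 1, 0, 1, 3, 4, 0, 4, 3, 4, 0, 1]), (202, false, [1, 0, 4, 3, 1, 0, 1, 0, 4, 3, 1, 0, 1]), (246, true, [0, 1, 0, 4, 0, 4, 0, 1, 3, 4, 3]), (259, true, [1, 0, 1, 3, 1, 3, 4, 0, 4, 0, 4, 0, 1, 3]), (224, false, [0, 1, 3, 1, 0, 1, 3, 1, 3, 1, 3, 4, 3, 4, 0, 4, 3]), (96, true, [2, 0, 1, 3, 4, 0, 1, 3, 1, 3, 4, 3, 4, 0, 1, 3, 1]), (10, true, [4, 3, 1, 3, 4, 0, 4, 3, 4, 3, 4, 0, 1, 0]), (108, true, [4, 3, 4, 3, 1, 0, 4, 3, 4, 3, 1, 0, 4, 0, 4]), (98, false, [0, 1, 2, 0, 1, 0, 1, 3, 1, 0, 1, 3, 1, 3, 4,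 0]), (40, true, [4, 3, 4, 0, 1, 0, 1, 3, 4, 0, 1, 0]), (91, false, [3, 1, 3, 4, 3, 4, 3, 1, 0, 4, 3, 1]), (91, false, [1, 3, 4, 3, 4, 0, 1, 3, 1, 3, 4, 0]), (68, false, []), (188, false, [0, 1, 2, 0, 4, 3, 4, 3, 1, 0, 4, 3, 4, 0, 1]), (276, true, [3, 4, 0, 1, 0, 1, 0, 1, 3, 4, 0, 4, 3, 4, 3]), (256, true, [0, 1, 0, 1, 2, 0, 1, 3, 1, 0, 1, 0, 1, 3, 1, 0]), (169, false, [0, 4, 3, 4, 3, 4, 3, 4, 0, 4, 0, 4, 0]), (223, false, [2, 0, 1, 3, 4, 3, 4, 0, 4, 0, 4, 3, 4, 3, 4, 3, 4]), (156, false, [0, 1, 0, 2, 4, 0, 4, 0, 4, 3, 1, 0]), (219, true, [0, 4, 0, 1, 3, 1, 0, 1, 0, 1, 3, 4, 0, 1, 0, 4]), (224, false, [4, 0, 1, 3, 1, 0, 4, 0, 4, 3, 1]), (125, false, [1, 3, 1, 3, 1, 0, 4, 3, 1, 0, 1, 0, 1]), (224, true, [0, 2, 4, 0, 1,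 0, 1, 0, 4, 3, 4, 0, 4, 0, 4, 3, 4]), (223, true, [4, 3, 1, 3, 1, 0, 4, 3, 4, 0, 4]), (191, false, [1, 2, 0, 1, 3, 4, 3, 4, 3, 4, 3]), (134, false, [1, 3, 4, 0, 1, 3, 1, 3, 1, 0, 1, 3, 4]), (91, false, [0, 4, 3, 1, 3, 1, 0, 4, 3, 1, 0, 1, 0, 1, 3]), (212, false, [0, 4, 0, 4, 0, 1, 3, 1, 0, 1, 0, 1, 3, 4, 3, 1]), (221, false, [0, 4, 0, 1, 3, 1, 3, 4, 3, 4, 3, 1]), (223, false, [2, 0, 1, 3, 4, 3, 4, 0, 4, 0, 4, 3, 4, 3, 4, 3, 4]), (228, false, [2, 0, 4, 0, 4, 3, 4, 3, 1, 0]), (177, true, [3, 1, 3, 4, 3, 4, 3, 1, 0, 4, 0, 4, 0]), (235, false, [4, 0, 1, 3, 1, 3, 1, 0, 1, 0, 1, 3, 1, 3]), (108, false, [3, 1, 3, 4, 3, 4, 0, 4, 3, 4, 0, 4, 3, 4]), (119, false, [0, 1, 3, 1, 3, 1, 0, 4, 3, 4, 3, 4, 0, 4, 0, 1]), (40, false, [0,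 2, 4, 0, 4]), (185, true, [4, 3, 4, 0, 4, 0, 4, 3, 4, 3, 4, 0, 4]), (219, false, [2, 0, 1, 0, 4, 3, 4, 0, 1, 0, 1, 3, 4]), (280, true, [2, 0, 1, 0, 1, 0, 1, 0, 4, 3, 4, 3]), (185, false, [1, 0, 1, 0, 2, 4, 0, 4, 3, 4, 3, 4]), (237, true, [0, 1, 0, 2, 4, 3, 4, 3, 1, 0, 4, 0, 4, 0]), (189, false, [2, 4, 0, 4, 0, 1, 3, 1, 3, 1, 3, 1, 0, 1, 0, 1, 3]), (125, true, [3, 4, 3, 4, 0, 1, 3, 1, 3, 4, 0, 4, 3, 1]), (188, true, [0, 1, 2, 0, 1, 0, 1, 0, 1, 3, 4, 3, 4, 0, 4, 0]), (190, false, [1, 3, 4, 3, 4, 3, 4, 3, 1, 0, 4, 0, 1]), (0, true, [0, 1, 2, 0, 1, 3, 4, 0, 4, 0, 1, 3, 1, 0])]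
def r92 : List (ℕ × Bool × List ℕ) := [(199, false, [1, 0, 1, 3, 1, 0, 1, 0, 1, 3, 4, 0, 4, 3, 4, 0, 1]), (46, false, [1, 0, 4, 0, 4, 3, 1, 3, 1, 0, 1]), (46, false, [4, 3, 1, 3, 1, 0, 1, 0, 1, 3, 4, 0, 1]), (95, false, [2, 4, 0, 1, 0, 4, 3, 4, 0, 4, 3, 4]), (153, false, [0, 1, 0, 4, 0, 4, 3, 4, 3, 4, 0, 1, 3, 1, 0, 4]), (43, true, [0, 2, 4, 3, 1, 0, 1, 3, 4, 0, 4, 0, 1, 3]), (55, true, [1, 3, 1, 0, 1, 3, 4, 3, 4]), (192, false, [1, 0, 2, 4, 0, 1, 3, 1, 3, 1, 0, 1, 0, 4]), (25, true, [4, 0, 1, 3, 1, 3, 1, 3, 1, 0, 1, 3]), (254, true, [3, 1, 3, 1, 3, 1, 0, 4, 0, 4, 3, 1, 0, 4, 0]), (268, true, [2, 0, 1, 0, 1, 3, 1, 3, 1, 3, 1, 0, 1, 0, 4]), (221, false, [0, 1, 0, 1, 0, 1, 0, 1, 2, 0, 4, 0, 4, 3, 1, 3]), (250, true, [1,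 3, 4, 0, 1, 3, 1, 3, 4, 0, 4, 3, 1]), (248, false, [0, 1, 3, 1, 3, 4, 0, 4, 0, 1, 3, 1, 3, 4, 0, 1]), (178, true, [2, 0, 4, 3, 1, 3, 1, 0, 1, 0, 1, 0, 1, 3, 4]), (251, false, [0, 1, 3, 4, 3, 4, 3, 4, 0, 1, 3]), (155, true, [4, 0, 4, 0, 4, 0, 1, 3, 1, 0, 4, 3, 1, 0]), (220, true, [2, 0, 1, 0, 1, 3, 1, 0, 1, 0, 4, 0, 4, 0, 1, 3]), (197, true, [2, 0, 1, 3, 1, 3, 1, 0, 4, 3, 1, 3]), (182, true, [2, 4, 0, 4, 3, 4, 3, 4, 0, 4, 0, 4, 3]), (236, false, [0, 1, 0, 1, 3, 4, 3, 4, 3, 4, 3]), (199, true, [2, 4, 0, 1, 3, 1, 3, 4, 3, 4, 3, 4, 3, 1]), (192, false, [1, 2, 0, 1, 0, 4, 3, 4, 3, 4, 3, 4, 0, 4]), (122, false, [1, 2, 0, 4, 0, 4, 0, 4, 3, 1, 3]), (171, true, [0, 4, 3, 4, 3, 4, 0, 1, 3, 1, 3]), (182, true, [3, 4, 3, 4, 3, 1,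 0, 1, 0]), (92, true, []), (178, true, [1, 3, 4, 0, 4, 3, 1, 3, 1, 0, 4, 0, 4, 3, 1]), (65, false, [1, 0, 4, 0, 4, 3, 1, 3, 1, 0, 1, 0, 1, 3, 4, 3]), (235, false, [3, 1, 0, 1, 0, 1, 3, 4, 3, 4, 0, 4, 0, 4, 0]), (120, false, [1, 0, 1, 0, 1, 0, 1, 3, 4, 0, 4, 3, 1, 3, 1]), (167, true, [0, 4, 3, 1, 3, 1, 3, 1, 3, 4, 3, 4, 0]), (92, false, [1, 2, 0, 1, 3, 1, 3, 1, 3, 4, 3, 4, 0, 1, 3, 1, 0]), (3, false, [2, 4, 0, 4, 0, 4, 0, 1, 3, 1, 3, 4, 0]), (58, false, [1, 0, 1, 2, 0, 4, 0, 1, 3, 1, 0, 4, 3, 1, 3, 1, 0, 1]), (237, true, [2, 4, 0, 1, 0, 4, 3, 1, 3, 1, 0, 1, 0]), (153, true, [0, 2, 4, 0, 4, 3, 4, 3, 4, 0, 1, 3, 1, 0, 4, 0]), (6, true, [0, 1, 0, 1, 0, 4, 0, 4, 0, 4, 3, 4, 3, 4]), (49, true, [2, 0, 4, 0, 4, 0, 4, 0, 4, 3,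 1, 3, 4]), (277, false, [1, 0, 4, 0, 4, 3, 1, 0, 1, 0, 4, 0, 4, 0, 4, 3]), (116, false, [1, 0, 1, 0, 1, 3, 1, 3, 1, 3, 4, 3, 4, 3, 4, 0]), (180, true, [0, 2, 4, 3, 1, 0, 1, 0, 1, 0, 4, 3, 1, 3, 4]), (137, false, [1, 0, 2, 4, 3, 1, 0, 4, 0, 4, 3, 1, 0]), (210, false, [0, 1, 0, 1, 2, 0, 1, 0, 4, 3, 1, 0, 1, 0, 1]), (124, true, [4, 0, 4, 3, 4, 0, 4, 3, 1, 0, 1, 0, 1, 3]), (176, true, [0, 2, 4, 0, 4, 0, 1, 3, 1, 0, 1, 0, 4, 0, 4]), (180, true, [4, 0, 1, 0, 4, 3, 1, 3, 1, 0, 1, 3, 4, 3, 1]), (169, true, [0, 4, 0, 4, 3, 4, 3, 1, 0, 4, 3, 4, 3, 1]), (57, false, [4, 0, 1, 0, 4, 3, 4, 0, 1, 3, 4, 3, 4]), (5, true, [4, 0, 1, 3, 1, 0, 4, 3, 4, 3, 4, 0, 4]), (47, true, [1, 3, 4, 0, 1, 0, 1, 3, 4, 0, 4, 3, 4]), (261, false, [4, 0,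 1, 3, 1, 0, 4, 0, 4, 3, 1, 0, 1, 3]), (262, false, [3, 4, 0, 4, 3, 4, 3, 4, 0, 4, 0, 4, 0]), (220, true, [0, 1, 2, 0, 4, 0, 1, 3, 1, 0, 1, 3, 1, 3, 4, 3]), (73, false, [0, 1, 0, 2, 4, 0, 4, 0, 4, 0, 4, 0, 4, 3, 1, 3, 1]), (111, true, [1, 0, 1, 3, 1, 3, 1, 3, 4, 0, 1, 0, 4]), (105, false, [0, 2, 4, 3, 4, 0, 1, 0, 1]), (92, false, [1, 0, 2, 4, 0, 4, 0, 4, 0, 4, 3, 1, 0, 1, 3, 1, 0]), (115, false, [2, 0, 1, 3, 1, 3, 4, 0, 1, 0, 4]), (135, true, [1, 0, 2, 4, 3, 4, 0, 4, 3, 1, 3, 1, 3, 4, 3]), (154, true, [0, 2, 4, 0, 4, 0, 1, 3, 1, 0, 4, 0, 4, 0, 4, 3]), (56, false, [0, 1, 0, 1, 3, 4, 3, 4, 0, 1, 3, 4, 3, 4, 3]), (86, true, [2, 0, 4, 3, 4, 0, 4, 3, 1, 3, 1, 0, 1, 3, 1]), (81, true, [1, 2, 0, 1, 0, 1, 3, 4, 3, 1, 0, 4, 0,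 4, 3]), (251, false, [1, 0, 4, 3, 1, 3, 4, 0, 4, 0, 4, 3, 4, 3, 4, 0]), (153, false, [0, 1, 3, 4, 3, 4, 3, 1, 0, 1, 3, 4, 0, 4, 0]), (27, true, [2, 4, 0, 1, 0, 1, 3, 4, 0]), (103, true, [2, 0, 4, 3, 4, 0, 1, 0, 1, 3, 4]), (226, true, [0, 1, 2, 0, 4, 3, 1, 0, 1, 0, 1, 3, 4]), (208, true, [3, 1, 3, 4, 0, 4, 0, 4, 0, 4, 3, 1, 3, 1, 3]), (64, false, [2, 0, 4, 0, 1, 0, 1, 3, 4, 3, 1, 0, 4, 3, 4]), (183, false, [3, 1, 0, 1, 0, 1, 0, 4, 0, 4, 3, 4, 3, 4]), (128, true, [0, 4, 0, 1, 3, 1, 0, 1, 0]), (75, false, [0, 1, 0, 1, 0, 1, 3, 4, 3, 1, 0, 4, 3, 4, 3, 4, 0]), (34, false, [1, 3, 1, 0, 1, 0, 4, 3, 1, 3, 4, 0, 4]), (12, false, [0, 1, 0, 1, 3, 1, 3, 4, 0, 4, 0, 4, 3, 4, 3]), (248, false, [4, 0, 4, 3, 4, 3, 4, 0, 4, 3, 1, 3,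 1, 3, 4]), (96, true, [2]), (73, false, [2, 0, 4, 0, 1, 3, 1, 0, 1, 0, 4, 3, 1, 3, 4]), (167, true, [3, 1, 3, 1, 3, 1, 3, 1, 0, 4, 3, 4]), (98, true, [0, 1, 0, 1, 0, 1, 3, 1, 3, 1, 3, 1, 3, 1]), (146, true, [1, 0, 4, 0, 1, 3, 4, 0]), (56, false, [3, 4, 0, 4, 3, 4, 3, 1, 0, 4, 3, 4, 3]), (270, true, [1, 2, 0, 1, 0, 4, 0, 4, 3, 1, 0, 4, 0, 4, 0, 1]), (181, false, [2, 0, 4, 0, 1, 3, 1, 0, 1, 0, 1, 0]), (184, false, [3, 4, 0, 4, 0, 4, 0]), (92, false, [1, 3, 1, 0, 1, 3, 1, 3, 4, 0, 4, 3, 4, 0]), (92, false, [0, 1, 3, 4, 0, 1, 3, 1, 0, 4, 3, 1]), (120, true, [1, 0, 4, 3, 1, 3, 1, 0, 1, 0, 4, 3, 4]), (78, false, [0, 1, 3, 4, 0, 1, 0, 1, 0, 1, 3, 4, 3, 1, 0, 1]), (182, true, [2, 0, 1, 0, 1, 0, 4, 0, 4, 3, 1, 0, 1, 3, 4, 3,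 1]), (199, true, [3, 4, 0, 1, 0, 1, 3, 4, 0, 4, 0, 4, 3, 4]), (170, false, [3, 1, 0, 1, 0, 4, 3, 1, 0, 1, 0, 1]), (220, false, [0, 2, 4, 3, 1, 0, 1, 0, 4, 3, 4, 0, 1, 0, 1, 0, 1]), (36, false, [1, 3, 4, 0, 1, 3, 1, 0, 4, 0, 4, 0]), (241, false, [3, 4, 3, 1, 3, 1, 0, 1, 3, 1, 0, 1, 3, 1]), (210, false, [0, 2, 4, 3, 4, 3, 4, 0, 4, 0, 4, 3, 4, 0]), (184, false, [2, 0, 4, 0, 1, 0, 1, 0, 1, 0, 4, 0]), (233, true, [4, 0, 1, 3, 1, 3, 4, 0, 4, 0, 1, 3, 4, 3]), (57, false, [0, 1, 0, 1, 2, 0, 4, 0, 1, 3, 1, 3, 4, 0, 4, 0, 1]), (125, false, [0, 1, 0, 1, 3, 1, 3, 4, 3, 4, 0, 1, 3, 4, 3, 4]), (64, true, [4, 3, 1, 0, 1, 3, 1, 0]), (180, false, [2, 4, 0, 1, 0, 1, 3, 4, 0, 1, 0, 1, 0, 1, 3, 4]), (73, true, [0, 1, 0, 1, 3, 1, 3, 1, 0,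 1, 0, 4, 0, 4, 3, 1]), (107, false, [1, 0, 1, 0, 4, 0, 4, 3, 4, 3, 4, 0, 4, 0]), (176, false, [2, 4, 3, 1, 3, 1, 3, 1, 0, 1, 0, 1]), (9, false, [1, 0, 1, 3, 1, 0, 4, 3, 1, 0, 1, 0, 1]), (213, true, [0, 1, 3, 1, 0, 1, 0, 1, 0, 4, 0, 4, 0, 4, 3, 4, 0]), (277, false, [2, 0, 1, 0, 4, 0, 4, 3, 1, 0, 4, 0, 4, 0, 1, 3]), (53, false, [2, 0, 1, 0, 1, 0, 4, 3, 1, 0, 1, 0, 1]), (28, false, [2, 4, 0, 1, 3, 1, 3, 1, 3, 1, 0, 1, 3]), (254, false, [3, 4, 0, 4, 3, 4, 0, 1, 3, 1, 3, 1])]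
def r93 : List (ℕ × Bool × List ℕ) := [(91, true, [0, 1, 0, 1, 2, 0, 1, 3, 4, 0, 4, 0, 4, 0, 1, 0]), (230, true, [0, 2, 4, 3, 1, 3, 1, 3, 1, 0, 4, 3, 4, 0]), (264, true, [0, 1, 2, 0, 4, 3, 4, 3, 4, 3, 1, 3]), (271, false, [1, 0, 4, 3, 1, 0, 1, 0, 1, 0, 1, 3]), (271, false, [3, 1, 3, 4, 0, 4, 0, 1, 3, 1, 3, 4, 3]), (230, true, [1, 0, 1, 3, 1, 3, 1, 0, 4, 3, 1, 3, 1, 3]), (91, true, [1, 2, 0, 4, 3, 1, 0, 1, 3, 4, 3, 4, 3, 1, 3]), (91, true, [3, 1, 0, 1, 3, 4, 3, 4, 3, 4, 0, 4, 0, 4]), (238, false, [3, 1, 3, 4, 0, 1, 0, 1, 0, 1, 0, 4]), (186, true, [3, 1, 0, 1, 3, 4, 3, 4, 3, 4, 0, 4, 0, 4]), (186, true, [2, 4, 3, 4, 0, 4, 3, 1, 0, 4, 3]), (230, true, [0, 4, 3, 1, 3, 4, 0, 1, 0, 1, 3, 1, 0, 4, 0, 1]), (271, true, [4, 0,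 1, 3, 1, 3, 4, 3, 4, 0, 1, 0, 1]), (238, false, [3, 1, 0, 1, 0, 1, 3, 1, 3, 4]), (271, true, [0, 1, 0, 4, 0, 4, 3, 4, 0, 4, 0, 4, 3]), (271, true, [0, 2, 4, 3, 1, 3, 1, 3, 4, 0, 1, 0]), (91, true, [0, 1, 0, 1, 2, 0, 4, 3, 4, 3, 4, 0, 1, 3]), (91, false, [1, 2, 0, 4, 0, 1, 3, 1, 0, 1, 0, 4, 0]), (91, false, [1, 0, 1, 3, 1, 3, 4, 0, 4, 0, 1, 3, 4, 3, 4, 3, 4]), (186, false, [0, 1, 0, 1, 0, 1, 3, 1, 3, 1, 3, 1, 0, 1]), (91, false, [0, 2, 4, 0, 4, 0, 4, 3, 4, 0, 4, 3, 4, 0, 4]), (186, false, [1, 0, 1, 3, 1, 3, 4, 0, 4, 0, 1, 3, 4, 3, 4, 3, 4]), (91, true, [4, 0, 1, 3]), (271, false, [1, 0, 1, 3, 1, 0, 1, 3, 1, 0, 1, 0]), (186, true, [4, 0, 1, 3]), (238, false, [1, 0, 4, 0, 1, 3, 4, 3, 4, 3]), (186, true, [3, 1, 0, 4, 3,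 4, 0, 4, 3, 4, 0, 1, 0, 1]), (238, false, [0, 1, 0, 1, 0, 1, 0, 1, 0, 1, 3, 1, 3, 4]), (91, true, [0, 1, 0, 4, 0, 4, 0, 4, 3, 4, 0, 1, 3, 4, 0]), (230, false, [0, 4, 3, 4, 0, 4, 3, 4, 0, 4, 3]), (238, true, [0, 4, 3, 4, 0, 1, 3, 1, 3, 4, 0]), (91, true, [0, 4, 3, 1, 3, 1, 0, 4, 3, 4, 3, 4, 0, 4, 0]), (238, true, [0, 4, 0, 4, 3, 4, 3, 4, 0]), (91, true, [0, 4, 0, 1, 3, 1, 0, 1, 0, 4, 3, 1, 0]), (230, true, [0, 1, 0, 1, 3, 1, 0, 1, 0, 1, 3, 1, 0, 1]), (91, true, [0, 1, 0, 1, 3, 1, 0, 1, 3, 1, 0, 4, 0, 4, 0, 1, 0]), (91, false, [0, 4, 0, 4, 0, 1, 3, 1, 3, 1, 3, 1, 0, 1, 0]), (238, false, [1, 0, 2, 4, 3, 4, 3, 1, 0, 4, 0, 4, 3]), (91, false, [3, 1, 0, 4, 3, 1, 3, 1, 3, 1, 0, 4, 3, 4, 3]), (230, true, [0, 1, 0, 1, 2, 0, 4,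 3, 1, 0, 1, 0]), (230, true, [2, 0, 1, 0, 4, 3, 1, 0, 1, 0, 1, 3, 4]), (91, false, [1, 2, 0, 4, 0, 4, 0, 4, 0, 4, 0, 4, 0]), (186, true, [0, 1, 0, 4, 3, 4, 0, 4, 0, 4, 0, 1, 0]), (91, true, [2, 0, 1, 0, 4, 0, 4, 0, 1, 3]), (271, false, [4, 3, 4, 3, 1, 0, 1, 0, 4, 0, 4, 3]), (91, false, [0, 1, 0, 1, 2, 0, 1, 0, 1, 3, 4, 0, 4, 3, 1, 3, 4]), (186, false, [0, 1, 0, 1, 3, 1, 3, 1, 0, 1, 0, 1, 0, 4, 0]), (230, false, [2, 0, 1, 3, 1, 0, 4, 3, 4, 0, 4, 0, 1]), (230, false, [3, 1, 3, 4, 3, 4, 0, 4, 0, 4, 0, 4, 3, 4, 3]), (91, true, [2, 4, 3, 4, 0, 4, 3, 1, 0, 4, 3]), (271, false, [4, 0, 1, 0, 4, 3, 4, 3, 4, 3, 4, 0, 4, 0]), (230, false, [0, 4, 3, 4, 3, 1, 0, 4, 0, 4, 0, 4, 3, 4]), (186, false, [0, 4, 0, 4, 0, 1, 3, 1, 3, 1, 3,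 1, 0, 1, 0]), (238, true, [1, 2, 0, 1, 3, 4, 0, 1, 0, 1, 3, 4, 3]), (271, true, [1, 0, 1, 3, 4, 0, 4, 3, 4, 0, 4, 0, 4]), (238, true, [0, 1, 2, 0, 1, 3, 4, 0, 4, 3, 4, 3, 4]), (230, true, [0, 1, 0, 4, 3, 1, 0, 4, 0, 4]), (91, true, [2, 0, 1, 3, 4, 3, 4, 0, 4, 3, 4, 0, 1, 0, 1]), (264, false, [0, 1, 0, 1, 3, 1, 3, 1, 3, 4]), (186, false, [1, 2, 0, 4, 0, 1, 3, 1, 0, 1, 0, 4, 0]), (271, true, [4, 3, 1, 0, 1, 3, 1, 3, 1, 0, 4, 0]), (91, false, [0, 2, 4, 0, 4, 3, 4, 0, 1, 0, 1, 0, 4, 3, 1, 3, 1, 0]), (230, true, [2, 4, 0, 4, 3, 4, 0, 4, 0, 1, 3, 4, 3, 4, 0, 4]), (91, false, [3, 4, 0, 1, 0, 1, 0, 1, 0, 4]), (91, true, [3, 1, 0, 4, 3, 4, 0, 4, 3, 4, 0, 1, 0, 1]), (264, true, [0, 1, 2, 0, 4, 3, 4, 3, 4, 3, 1, 3]), (186, true,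 [0, 4, 0, 1, 3, 1, 0, 1, 0, 4, 3, 1, 0]), (230, false, [2, 4, 3, 1, 0, 1, 3, 1, 0, 4, 3, 4]), (238, false, [0, 4, 0, 1, 3, 1, 3, 1, 3, 1, 0, 1, 3, 4]), (91, false, [1, 0, 1, 0, 4, 3, 1, 0, 1, 0, 4, 3, 4, 3, 4, 0]), (91, false, [0, 1, 0, 1, 0, 1, 3, 1, 3, 1, 3, 1, 0, 1]), (91, true, [0, 1, 0, 4, 3, 4, 0, 4, 0, 4, 0, 1, 0]), (271, false, [2, 4, 3, 4, 3, 1, 0, 4, 0, 4]), (91, false, [1, 3, 1, 3, 1, 0, 4, 0, 4, 0, 1, 3, 1, 0, 4]), (186, true, [3, 4, 3, 4, 0, 1, 3, 1, 0, 4, 0, 4, 3, 1]), (186, false, [3, 4, 0, 1, 0, 1, 0, 1, 0, 4]), (238, true, [2, 4, 0, 1, 0, 4, 3, 4, 3, 4, 3, 4]), (230, true, [1, 2, 0, 4, 3, 4, 3, 1, 0, 4, 0, 4, 3, 4, 3]), (271, true, [0, 1, 0, 1, 0, 2, 4, 0, 1]), (186, false, [0, 1, 2, 0, 1, 0, 1, 3, 4,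 0, 1, 3, 1, 3]), (238, true, [1, 3]), (186, true, [0, 4, 3, 1, 3, 1, 0, 4, 3, 4, 3, 4, 0, 4, 0]), (238, true, [4, 3, 1, 3, 1, 3, 1, 3, 4, 3, 4, 3, 4]), (91, true, [0, 2, 4, 3, 4, 0, 4, 3, 4, 3, 4, 0, 1, 0]), (91, false, [1, 3, 4, 3, 1, 0, 4, 0, 4, 3, 1, 3, 4]), (91, true, [1, 2, 0, 4, 3, 4, 3, 1, 0, 1, 3, 4, 0, 4, 0, 4, 3]), (91, false, [2, 4, 0, 4, 0, 1, 3, 4, 0, 4, 0, 4, 3, 4, 0, 1, 3]), (91, false, [2, 4, 0, 1, 0, 4, 3, 4, 0, 1, 3, 1, 3, 4, 3, 4, 0]), (230, false, [4, 3, 1, 3, 4, 0, 4, 3, 4, 0, 4, 3, 4]), (271, false, [3, 1, 3, 4, 0, 1, 0, 1, 3, 4, 0, 1]), (230, false, [1, 3, 1, 3, 1, 3, 1, 3, 1, 0, 1, 0, 4, 3, 4, 0]), (91, false, [2, 0, 4, 3, 1, 3, 1, 0, 1, 3, 4, 3, 1, 0, 4]), (238, true, [0, 4, 3, 4, 3, 1, 3]),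 (186, false, [0, 2, 4, 0, 4, 0, 4, 3, 4, 0, 4, 3, 4, 0, 4]), (271, false, [1, 0, 1, 2, 0, 4, 0, 1, 3, 1, 0, 1]), (238, true, [2, 4, 0, 4, 3, 1, 0, 4, 3]), (238, false, [0, 2, 4, 3, 1, 0, 1, 0, 1, 0, 4, 3, 4]), (271, true, [3, 4, 0, 1, 3, 4, 3]), (264, false, [0, 1, 0, 1, 3, 1, 3, 1, 3, 4]), (186, false, [1, 3, 1, 3, 1, 0, 4, 0, 4, 0, 1, 3, 1, 0, 4]), (271, false, [4, 0, 1, 0, 4, 3, 1, 0, 1, 0]), (91, false, [0, 1, 0, 1, 3, 1, 3, 1, 0, 1, 0, 1, 0, 4, 0]), (230, false, [1, 3, 4, 0, 1, 3, 1, 0, 4, 0, 4, 3, 1, 3]), (91, true, [3, 4, 3, 4, 0, 1, 3, 1, 0, 4, 0, 4, 3, 1]), (186, true, [0, 2, 4, 3, 4, 0, 4, 3, 4, 3, 4, 0, 1, 0]), (238, false, [1, 3, 1, 3, 4, 0, 4, 3, 1, 3, 1, 3, 1, 3]), (91, false, [0, 1, 2, 0, 1, 0, 1, 3, 4,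 0, 1, 3, 1, 3]), (271, true, [0, 2, 4, 0, 1, 3, 4, 3]), (271, true, [1, 0, 2, 4, 3, 4, 0, 4, 0, 4, 0]), (230, false, [0, 1, 3, 4, 3, 4, 3, 4, 0, 4, 0, 4, 0]), (91, true, [2, 0, 1, 3, 1, 3, 4, 3, 4, 3, 4, 0, 4, 0, 4]), (238, false, [0, 2, 4, 0, 1, 3, 1, 3, 1, 3, 1])]
def r94 : List (ℕ × Bool × List ℕ) := [(179, true, [1, 3, 1, 0, 4, 3, 4, 3, 1, 0, 1]), (280, false, [0, 2, 4, 0, 4, 0, 1, 3, 1, 3, 4, 0, 4, 3]), (121, false, [3, 1, 3, 1, 0, 1, 3, 1, 3, 1, 0, 4, 3, 4]), (109, true, [2, 0, 1, 3, 1, 3, 4, 3, 4, 0, 4, 0, 4, 0, 4, 3, 1]), (67, false, [1, 0, 1, 0, 1, 0, 1, 0, 4, 3, 1, 3]), (179, true, [0, 1, 0, 1, 2, 0, 1, 0, 4, 3, 4, 3, 4, 0, 4, 0, 4]), (266, true, [0, 2, 4, 0, 1, 0, 4, 3, 4, 0, 4, 0, 4]), (178, true, [0, 4,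 0, 4, 3, 4, 0, 4, 3, 4, 0, 1, 0, 1, 0]), (232, true, [2, 0, 1, 0, 4, 0, 4, 3, 1, 3, 1]), (76, false, [0, 1, 0, 4, 3, 4, 0, 4, 0, 4, 3, 1, 0, 4, 0, 4]), (182, true, [0, 1, 2, 0, 4, 0, 4, 0, 4, 0, 1, 3, 1, 0, 4]), (255, true, [2, 0, 1, 0, 1, 3, 1, 0, 1, 0, 1, 3, 4, 0, 4]), (123, false, [4, 3, 4, 3, 4, 3, 1, 0, 4, 0, 4, 3, 1, 3]), (78, false, [1, 0, 2, 4, 0, 4, 0, 4, 3, 4, 0, 1, 0, 1, 0, 1]), (38, false, [0, 1, 0, 1, 0, 1, 0, 4, 0, 4, 0, 4]), (89, false, [0, 4, 3, 1, 3, 4, 0, 4, 3, 4, 0, 4, 3, 1, 0]), (115, false, [0, 4, 3, 1, 3, 1, 0, 1, 0, 4, 3, 1, 3]), (234, true, [1, 3, 1, 0, 4, 3, 4, 0, 1, 3, 1, 3, 1, 0, 1, 0]), (214, false, [3, 4, 3, 4, 0, 1, 3, 1, 3, 1, 3, 4, 0, 1, 0, 1]), (267, true, [0, 4, 3, 4, 0, 4, 3, 4, 0,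 4, 0, 4, 3, 4, 3]), (267, true, [3, 1, 0, 4, 0, 4, 3, 4, 0, 4, 3, 1, 3, 4]), (281, true, [4, 3, 4, 0, 4, 0, 4, 0, 4, 3, 4, 3]), (107, false, [1, 3, 4, 3, 4, 0, 4, 3, 4, 0, 4, 0, 4, 3, 4]), (77, true, [0, 1, 0, 1, 0, 4, 0, 4, 0, 4, 3, 4, 0, 4]), (7, false, [0, 1, 2, 0, 4, 0, 4, 3, 1, 0, 1, 3, 1, 3]), (20, true, [1, 0, 1, 0, 4, 0, 4, 0, 1]), (21, true, [1, 2, 0, 1, 0, 4, 3, 4, 3, 4, 0]), (135, true, [0, 4, 3, 4, 0, 4, 3, 1, 3, 1, 0, 1, 3, 1]), (259, true, [1, 0, 1, 0, 1, 0, 1, 0, 4, 0, 4, 0, 4]), (259, true, [2, 0, 4, 3, 1, 0, 1, 0, 4, 3, 1]), (126, false, [4, 3, 1, 0, 1, 0, 1, 0, 1, 3, 4, 3, 4, 0, 4, 0]), (209, false, [4, 3, 1, 3, 4, 0, 4, 0, 4]), (83, true, [2, 0, 4, 3, 1, 3, 1, 0, 4, 3, 1, 3, 4, 0, 4]), (58, false,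 [2, 0, 1, 3, 1, 0, 1, 0, 1, 0, 1, 3, 4, 3, 1, 0, 1, 3]), (76, false, [2, 4, 3, 4, 3, 4, 0, 1, 3, 1, 0]), (76, false, [0, 4, 3, 1, 3, 1, 3, 1, 3, 4]), (281, true, [1, 0, 1, 3, 4, 0, 4, 3, 1, 3, 1, 3, 4]), (232, true, [4, 0, 1, 0, 1, 0, 4, 3, 1, 0]), (267, false, [2, 4, 0, 4, 0, 4, 0, 4]), (168, false, [1, 3, 4, 3, 4, 3, 1, 0, 4, 3, 4, 3, 4]), (243, true, [4, 0, 1, 3, 1, 0, 1, 3, 4, 0, 4, 0]), (108, true, [0, 4, 3, 1, 3, 4, 0, 4, 3, 4, 3, 4]), (216, false, [1, 0, 1, 3, 4, 3, 1, 0, 4, 0]), (147, true, [4, 0, 4, 3, 4, 0, 4, 3, 4, 3, 4, 0, 4]), (272, false, [1, 3, 1, 3, 1, 3, 4, 0, 1, 3, 1, 0, 4]), (181, false, [2, 0, 4, 3, 4, 3, 1, 0, 1, 0, 4, 0, 4, 0, 4]), (20, false, [4, 3, 4, 0, 1, 3, 1, 0, 1, 3, 4]), (230, true, [1,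 0, 1, 0, 2, 4]), (230, false, [1, 0, 1, 0, 4]), (187, true, [1, 2, 0, 4, 0, 4, 3, 4, 0, 4, 3, 1, 3, 4, 0, 1]), (168, false, [0, 2, 4, 0, 1, 3, 4, 0, 4, 3, 4, 3, 1, 0, 4]), (187, true, [0, 4, 3, 1, 3, 1, 3, 1, 0, 1, 3, 1]), (267, true, [0, 1, 2, 0, 4, 3, 1, 3, 1, 0, 1, 3, 4, 3]), (35, false, [3, 1, 3, 4, 0, 4, 3, 1, 0, 1, 0, 1, 3, 1, 0, 1]), (141, true, [1, 0, 1, 3, 1, 3, 1, 3, 4, 0, 4, 3, 1]), (121, false, [0, 1, 0, 4, 0, 4, 3, 4, 3, 4, 3, 4, 0, 1, 0, 1, 0]), (158, false, [2, 4, 0, 4, 0, 4, 3, 1, 3, 1, 0, 4, 0]), (182, true, [0, 4, 3, 1, 0, 1, 3, 1, 3, 1, 3, 4, 3, 4]), (281, false, [0, 4, 3, 4, 0, 4, 0, 4, 3, 1, 0, 1, 3, 4]), (238, true, [4, 0, 1, 3, 1, 0, 1, 3, 4, 0, 4, 0]), (275, false, [0, 2, 4, 3, 1, 3]), (244, true,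 [0, 1, 3, 4, 3, 1, 0, 1, 0, 4, 3, 4, 3, 1, 0]), (117, false, [4, 0, 4, 3, 4, 3, 4, 3, 1, 0, 1, 3, 1, 3]), (251, false, [4, 0, 1, 0, 1, 3, 1, 3, 4, 0, 4, 3, 4, 3]), (70, true, [0, 2, 4, 0, 1, 0, 1, 3, 1, 3, 1, 3, 4]), (264, false, [4, 0, 4, 3, 1, 0, 1, 0, 1, 0, 4]), (70, true, [3, 1, 0, 4, 3, 1, 3, 1, 0, 1, 0, 4]), (230, false, [1, 0, 1, 0, 4, 0]), (186, false, [1, 3, 1, 0, 4, 0, 4, 0, 4, 3, 1, 3, 4, 0, 1]), (50, true, [0, 1, 0, 1, 0, 4, 3, 4, 0, 4, 0, 4, 3, 1]), (280, false, [2, 0, 4, 0, 1, 3, 1, 0, 1, 3, 1, 3, 1, 0, 4]), (178, true, [2, 0, 4, 3, 4, 0, 1, 3, 1, 3, 1, 0, 4, 3]), (244, true, [1, 0, 1, 3, 1, 3, 4, 0, 1, 0, 1, 3, 1, 0, 4]), (158, false, [3, 1, 3, 4, 3, 4, 3, 1, 0, 1, 3, 1, 3, 4]), (230, true, [1, 0, 1, 0,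 2, 4]), (77, true, [0, 1, 2, 0, 4, 3, 4, 0, 4, 3, 1]), (166, true, [1, 0, 4, 3, 1, 0, 1, 0, 1, 0, 4, 3, 4]), (156, false, [3, 4, 0, 4, 0, 1, 3, 4, 0, 4, 0, 1, 3, 1, 0]), (21, true, [0, 4, 0, 1, 3, 1, 0, 4, 3, 4, 3, 4, 3, 4]), (181, false, [4, 3, 4, 0, 1, 3, 1, 0, 4, 0, 4, 3, 1, 0, 1, 3]), (58, false, [2, 4, 3, 4, 0, 1, 0, 1, 0, 1, 3, 1, 3]), (68, false, [0, 1, 0, 2, 4, 0, 4, 3, 4, 0, 4, 3, 4, 3, 4, 0, 1, 0]), (58, false, [0, 1, 0, 4, 3, 1, 0, 1, 0, 4, 3, 1, 3, 4, 0]), (68, false, [0, 1, 3, 1, 0, 4, 3, 4, 0, 1, 0, 1, 0, 4]), (67, false, [2, 4, 3, 1, 0, 4, 0, 4, 0, 4, 0, 4]), (179, true, [2, 4, 0, 1, 0, 1, 3, 4, 0, 4, 0, 4, 3, 4, 3, 4, 0]), (109, true, [1, 3, 4, 3, 4, 0, 4, 0, 1, 3, 1, 0, 1, 0]), (255, true, [0, 1, 0,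 4, 0, 4, 3, 4, 3, 4, 3, 4, 0, 1, 0, 1, 0]), (275, false, [0, 1, 3, 1, 3, 1, 3, 1, 0, 1, 0, 4, 0, 4, 3]), (267, false, [3, 4, 0, 1, 3, 4, 0, 4, 0, 4, 0, 4]), (141, true, [1, 2, 0, 4, 0, 4, 0, 1, 3, 4, 3, 4]), (76, false, [1, 0, 1, 0, 2]), (126, false, [0, 2, 4, 0, 4, 0, 1, 3, 1, 0, 4, 3]), (272, false, [2, 0, 4, 0, 1, 3, 1, 3, 1, 3, 1]), (47, true, [0, 4, 3, 4, 0, 1, 0, 1, 0, 4, 3, 4, 0, 4, 0, 4]), (102, false, [0, 4, 3, 1, 0, 1, 3, 4, 0, 4]), (78, false, [0, 2, 4, 3, 4, 3, 4, 3, 1]), (7, false, [3, 4, 3, 4, 3, 4, 0, 1, 0, 1, 3, 4, 3, 1]), (186, false, [4, 3, 1, 3, 4, 0, 4, 3, 1, 0, 4, 0, 4, 3]), (50, true, [3, 4, 3, 4, 3, 4, 3, 1]), (179, true, [3, 4, 0, 1, 3, 1, 3, 4, 0, 1, 3, 1]), (214, false, [1, 0, 2, 4, 3, 1, 0,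 1, 3, 1, 3, 4, 0]), (58, false, [4, 0, 4, 3, 1, 0, 1, 3, 1, 3, 1, 3, 4]), (123, false, [1, 2, 0, 4, 3, 1, 3, 1, 3, 4, 0, 1, 0, 4]), (265, true, [4, 0, 1, 0, 4, 3, 4, 3, 1, 3]), (100, false, [0, 1, 3, 4, 3, 4, 0, 1, 3, 1, 3, 4]), (234, true, [2, 4, 0, 1, 0, 1, 3, 1, 3, 4, 0, 4, 3, 1, 0]), (266, true, [4, 0, 1, 0, 4, 3, 4, 0, 4, 0, 4]), (209, true, [1, 0, 1, 0, 2, 4, 0, 1, 3, 1, 0, 4, 3, 1, 3, 1]), (115, false, [1, 2, 0, 1, 0, 4, 0, 4, 3, 4, 0, 4, 0, 1]), (89, false, [2, 0, 1, 0, 4, 3, 4, 0, 4, 0]), (94, true, [])]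
def r95 : List (ℕ × Bool × List ℕ) := [(191, false, [1, 0, 1, 0, 1, 0, 2, 4, 0, 4, 0, 1, 3, 1, 3, 1, 3]), (95, false, [1, 3, 1, 3, 1, 0, 4, 3, 4, 0, 1, 0, 1, 0, 4, 0]), (234, false, [0, 1, 2, 0, 4, 3, 1, 0, 1, 0, 4, 0, 4, 3, 4, 3]), (65, false, [0, 1, 3, 4, 3, 4, 0, 1, 0, 1, 0, 1, 3, 1, 3]), (61, true, [3, 1, 3, 4, 0, 4, 0, 1, 3, 1, 0, 1, 3, 1]), (111, false, [1, 0, 1, 0, 1, 0, 2, 4, 3, 4, 3, 1, 0, 1]), (226, false, [3, 1, 0, 1, 0, 1, 3, 1, 0, 1, 3, 1, 0, 4, 0]), (261, false, [0, 4, 0, 1, 0, 1, 3, 1, 0, 1, 3, 1, 3, 4, 3]), (3, true, [0, 4, 0, 1, 3, 1, 0]), (110, true, [1, 3, 1, 0, 4, 3, 4, 3, 4, 0, 1, 3, 4, 3, 1]), (247, true, [4, 3, 4, 0, 4, 0, 1, 3, 4, 3, 1, 0]), (241, false, [2, 0, 1, 3, 4, 0, 4, 0, 1, 3, 4, 0, 1]),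 (66, false, [1, 2, 0, 4, 3, 4, 0, 4, 0, 4, 0, 4, 3, 1, 3, 4, 0, 4, 0]), (170, false, [2, 4, 0, 4, 3, 1, 3, 1, 0, 4, 0, 4, 3, 4]), (181, false, [0, 1, 3, 4, 0, 1, 3, 1, 3, 1, 0, 4, 3, 4, 0]), (277, false, [0, 1, 0, 1, 3, 1, 3, 4, 0, 1, 3, 1, 0, 1, 3, 4]), (104, false, [0, 1, 3, 1, 0, 4, 3, 1, 3, 4, 0]), (248, true, [0, 2, 4, 3, 4, 0, 4, 0, 4, 0, 4, 0, 4, 3, 1]), (66, false, [1, 0, 4, 3, 4, 3, 4, 0, 4, 3, 4, 0, 4, 3, 4, 3, 1]), (120, true, [3, 1, 0, 4, 0, 4, 3, 4, 3, 4, 3, 4, 3, 4, 3]), (27, true, [1, 0, 2, 4, 0, 4, 0, 4, 0, 4, 3, 4, 3, 4, 3]), (166, true, [4, 3, 4, 3, 1, 0, 1, 0, 1, 0, 1, 3, 1, 3, 1, 0]), (171, true, [0, 2, 4, 3, 1, 0, 4, 0, 4, 3, 4, 3]), (228, false, [0, 2, 4, 3, 4, 0, 4, 0, 4, 0, 1, 0]), (254, false,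 [1, 2, 0, 4, 3, 1, 3, 1, 0, 1, 0, 1, 3, 1, 3]), (190, false, [2, 0, 4, 0, 4, 0, 1, 3, 1, 0, 4, 0, 4]), (249, false, [1, 0, 1, 2, 0, 4, 0, 1, 3, 1, 3, 4, 0, 4, 3, 1]), (176, true, [2, 0, 1, 3, 1, 0, 1, 3, 4, 0, 4, 3]), (213, false, [1, 2, 0, 1, 3, 4, 3, 4, 3, 4, 0, 1, 0, 1, 3, 1]), (277, false, [1, 0, 2, 4, 0, 1, 3, 1, 3, 4, 0, 4, 0, 1, 0]), (133, true, [3, 1, 0, 1, 0, 1, 3, 1, 3, 1, 0]), (250, true, [2, 0, 4, 3, 4, 0, 4, 0, 1, 3, 1, 0, 4]), (124, false, [3, 4, 3, 4, 3, 4, 3, 4, 0, 1, 3]), (111, false, [0, 4, 0, 4, 3, 1, 0, 1, 0]), (261, true, [2, 0, 4, 0, 4, 0, 1, 3, 4, 0, 4, 3, 1, 3, 1, 3]), (154, true, [2, 0, 1, 0, 1, 0, 4, 3, 1, 3, 1, 0, 4, 3, 1]), (207, true, [4, 0, 4, 3, 4, 3, 1, 0, 1, 0, 1, 0, 1, 3]), (151, false,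 [0, 2, 4, 3, 1, 0, 1, 0, 4, 3, 4, 3, 1, 0, 1]), (261, false, [0, 2, 4, 3, 1, 3, 1, 3, 4, 0, 1, 0, 4]), (176, true, [0, 2, 4, 3, 1, 0, 4, 3, 1, 3, 4]), (6, false, [0, 1, 3, 1, 3, 1, 0, 1, 0, 4, 0, 4, 0, 4, 3]), (56, false, [1, 0, 1, 3, 4, 3, 1, 0, 4, 3, 4, 3, 4, 0, 4]), (241, false, [2, 0, 1, 3, 4, 0, 4, 0, 1, 3, 4, 0, 1]), (248, true, [3, 1, 0, 4, 3, 1, 3, 1, 0, 4, 3]), (137, false, [0, 4, 3, 1, 3, 1, 0, 4, 3, 4, 0, 4, 0, 1]), (213, false, [0, 2, 4, 0, 1, 0, 1, 3, 1, 3, 1, 0, 4, 0, 4, 3, 4, 3]), (192, false, [2, 4, 3, 1, 3, 4, 0, 4, 3, 4, 0, 1]), (95, false, [0, 4, 0, 1, 0, 1, 0, 4, 0, 4, 0, 1, 0]), (95, true, []), (233, true, [2, 0, 4, 0, 4, 0, 1, 3, 4, 0, 4, 3, 1]), (226, false, [2, 4, 3, 4, 0, 1, 0, 1, 0, 4, 3, 4,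 0, 1, 0, 4]), (248, true, [1, 0, 1, 2, 0, 1, 0, 1, 0, 1, 3, 4, 0, 4]), (40, false, [1, 0, 4, 3, 1, 3, 1, 3, 4, 0]), (211, true, [0, 4, 0, 4, 3, 4, 0, 4, 0, 1, 3]), (86, true, [1, 0, 2, 4, 0, 4, 3, 4, 3, 4, 3, 1, 3]), (87, true, [0, 1, 2, 0, 4, 0, 1, 3, 1, 3, 4, 0, 1, 0, 1, 3, 1, 3]), (64, true, [0, 1, 3, 4, 3, 1, 0, 1, 3, 1]), (247, true, [0, 1, 3, 4, 3, 4, 0, 4, 3, 1, 3, 4, 0]), (6, false, [0, 2, 4, 0, 4, 0, 1, 3, 1, 3, 1, 0, 1, 3, 4, 3, 1, 0]), (177, false, [3, 4, 3, 1, 0, 4, 3, 4, 0, 1, 0, 1, 0, 1]), (95, false, [1, 3, 4, 0, 1, 3, 1, 0, 4, 3, 1, 0]), (92, false, [3, 4, 3, 1, 3, 1, 3, 4, 0, 4, 3, 1, 0, 1, 3]), (26, false, [0, 1, 3, 4, 0, 4, 3, 1, 3, 4, 0]), (192, false, [0, 1, 3, 4, 3, 1, 0, 1, 0, 4, 3, 4, 3, 4, 3]),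 (211, false, [4, 0, 4, 3, 4, 3, 4, 3, 4, 0]), (136, false, [0, 1, 3, 4, 3, 4, 0, 1, 3, 1, 3, 4]), (207, true, [1, 0, 1, 0, 1, 3, 4, 0, 1, 3, 1, 3]), (136, false, [1, 3, 4, 3, 4, 0, 1, 3, 1, 3, 4, 0]), (27, true, [4, 3, 1, 0, 4, 0, 4, 0]), (151, false, [3, 1, 0, 1, 3, 1, 3, 1, 3, 1, 0, 1, 0, 1, 0, 1, 3, 4]), (148, true, [3, 1, 0, 4, 0, 4, 0, 4, 3, 4, 3, 4, 3, 4]), (229, true, [0, 2, 4, 0, 4, 3, 1, 3, 1, 0, 4, 3, 1, 0, 1]), (64, true, [1, 0, 1, 0, 1, 2, 0, 1, 0, 4, 0, 4, 0, 4, 3, 4]), (92, false, [1, 0, 1, 2, 0, 1, 3, 1, 0, 4, 0, 1]), (171, true, [3, 1, 0, 4, 0, 4, 0, 1, 3, 4, 0, 1]), (44, true, [3, 4, 3, 1, 0, 4, 3, 4, 0, 4, 3, 1]), (248, true, [0, 1, 3, 4, 0, 4, 3, 4, 0, 4, 3, 1, 3]), (1, true, [0, 1, 0, 4, 3, 4, 3,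 1, 0, 4, 3, 4, 0, 1]), (242, true, [0, 4, 3, 1, 0, 1, 3, 1, 0, 4, 3, 1]), (213, false, [0, 1, 3, 1, 0, 4, 3, 4, 0, 4, 3, 4, 0]), (154, true, [1, 0, 1, 3, 1, 0, 1, 3, 1, 3, 4, 3, 4, 3, 4, 3, 1]), (234, false, [3, 4, 0, 4, 0, 4, 3, 4, 0, 1, 3]), (110, true, [1, 2, 0, 4, 3, 4, 0, 1, 3, 1, 3, 1, 3, 4, 0, 1, 3]), (87, true, [0, 1, 3, 4, 0, 1, 3, 1, 0, 1, 0, 1, 0]), (146, false, [3, 4, 3, 1]), (261, true, [0, 1, 0, 4, 0, 4, 0, 4, 3, 1, 3, 1, 0, 1, 3]), (86, true, [0, 4, 0, 1, 0, 1, 0, 4, 0, 4, 3, 1, 3, 1, 3]), (146, true, [4, 3, 4, 0, 1, 3, 1, 3, 4, 0, 1]), (148, true, [2, 4, 0, 1, 0, 4, 3, 1, 0, 1, 3, 4, 0]), (229, true, [0, 4, 0, 1, 3, 1, 0, 1, 0, 1, 0, 4, 3]), (65, false, [0, 2, 4, 3, 4, 3, 4, 0, 4, 0, 4, 0, 4, 3, 4, 3,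 1, 3]), (191, false, [0, 4, 0, 4, 3, 4, 3, 1, 0, 4, 3, 4]), (137, false, [2, 0, 4, 0, 4, 3, 4, 0, 4, 3, 1, 0, 1]), (133, true, [2, 0, 4, 0, 4, 0, 4, 0, 4, 3, 4, 3, 4, 0]), (124, false, [2, 0, 1, 0, 1, 0, 1, 0, 4, 3, 1, 0, 1, 0, 1, 0]), (40, false, [0, 2, 4, 3, 1, 0, 1, 0, 4, 3, 1, 0]), (254, false, [1, 0, 4, 0, 1, 3, 1, 3, 1, 0, 1, 0, 4, 0, 4, 0]), (170, false, [3, 4, 0, 4, 3, 1, 3, 1, 0, 4, 0, 4, 3, 4]), (120, true, [0, 4, 3, 4, 0, 1, 3, 1, 0, 1]), (3, true, [0, 1, 0, 4, 0, 4, 0, 4]), (77, false, [1, 3, 1, 3, 1, 0, 1, 0, 4, 3, 1, 3, 1, 3, 1]), (248, true, [1, 0, 2, 4, 3, 1, 0, 1, 0, 1, 3, 1, 0, 1, 3]), (77, true, [2, 4, 0, 1]), (248, true, [0, 4, 3, 1, 3, 1, 0, 1, 0, 4, 3, 4, 0, 1, 3]), (190, false, [1, 0, 4, 0, 4,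 3, 1, 0, 1, 3, 1, 0, 1, 0]), (181, false, [0, 1, 2, 0, 4, 3, 4, 3, 4, 0, 4, 3, 4, 0, 4, 3, 4]), (233, true, [1, 0, 1, 0, 1, 2, 0, 1, 3, 4, 3, 4, 3]), (176, true, [0, 4, 0, 1, 0, 1, 3, 1, 0, 1, 0, 4, 0]), (251, false, [0, 1, 3, 4, 3, 4, 3, 4, 0, 4, 0, 4, 0, 4, 3, 1]), (97, false, [1, 0, 2, 4, 0, 1, 3, 1, 0, 4, 3, 4, 3]), (213, false, [1, 3, 1, 3, 1, 0, 4, 0, 4, 3, 4, 0, 1, 0, 1]), (61, false, [1, 3, 1, 3, 1, 3, 1, 0, 4, 0, 4, 3, 4, 0])]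

theorem q84 : closeb 18 ps18 base7 rgR om xs x84 orb r84 = true := by decide +kernel
theorem q85 : closeb 18 ps18 base7 rgR om xs x85 orb r85 = true := by decide +kernel
theorem q86 : closeb 18 ps18 base7 rgR om xs x86 orb r86 = true := by decide +kernel
theorem q87 : closeb 18 ps18 base7 rgR om xs x87 orb r87 = true := by decide +kernel
theorem q88 : closeb 18 ps18 base7 rgR om xs x88 orb r88 = true := by decide +kernel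
theorem q89 : closeb 18 ps18 base7 rgR om xs x89 orb r89 = true := by decide +kernel
theorem q90 : closeb 18 ps18 base7 rgR om xs x90 orb r90 = true := by decide +kernel
theorem q91 : closeb 18 ps18 base7 rgR om xs x91 orb r91 = true := by decide +kernel
theorem q92 : closeb 18 ps18 base7 rgR om xs x92 orb r92 = true := by decide +kernel
theorem q93 : closeb 18 ps18 base7 rgR om xs x93 orb r93 = true := by decide +kernel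
theorem q94 : closeb 18 ps18 base7 rgR om xs x94 orb r94 = true := by decide +kernel
theorem q95 : closeb 18 ps18 base7 rgR om xs x95 orb r95 = true := by decide +kernel

theorem c7 : Rows xc7 :=
  Rows.cons q84 (Rows.cons q85 (Rows.cons q86 (Rows.cons q87 (Rows.cons q88 (Rows.cons q89 (Rows.cons q90 (Rows.cons q91 (Rows.cons q92 (Rows.cons q93 (Rows.cons q94 (Rows.cons q95 Rows.nil)))))))))))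

end Cfsg.Agent.H698.U33.Clo
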