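import Cfsg.Agent.H698.U33.Clo.Rows

/-!
# S5525: the closure certificate, rows 96 to 107 (helper698; data of helper819, helper763)
-/

set_option autoImplicit false
set_option maxRecDepth 100000
set_option Elab.async false

namespace Cfsg.Agent.H698.U33.Clo

def r96 : List (ℕ × Bool × List ℕ) := [(102, true, [0, 1, 0, 1, 3, 1, 3, 1, 0, 4, 3, 4, 3, 4]), (194, false, [3, 1, 0, 4, 3, 1, 0, 1, 0, 4, 3, 4]), (277, false, [1, 3, 1, 3, 1, 3, 1, 0, 1, 0, 1, 3, 1, 0, 1]), (43, true, [1, 2, 0, 1, 3, 1, 0, 4, 3, 1, 0, 1, 0, 1, 0, 1]), (121, false, [3, 1, 0, 1, 3, 1, 3, 1, 0, 4, 3, 1, 0]), (90, true, [1, 0, 1, 2, 0, 1, 3, 1, 3, 1, 0, 4, 3, 4, 3]), (229, true, [4, 0, 4, 3, 4, 0, 4, 3, 4, 3, 4, 0, 1, 0]), (272, true, [1, 0, 1, 3, 4,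 3, 1, 0, 1, 0, 4, 3, 4, 0]), (213, false, [3, 1, 0, 1, 3, 1, 3, 1, 3, 4, 3, 4, 3, 1, 0]), (158, false, [1, 2, 0, 4, 3, 4, 3, 1, 0, 1, 0, 1, 0, 1]), (128, true, [0, 1, 0, 1, 2, 0, 1, 0, 1, 3, 1, 3, 4, 3, 4, 0, 1]), (276, false, [1, 0, 1, 3, 4, 3, 4, 0, 4, 0, 1, 3, 4, 3, 4]), (151, true, [1, 0, 2, 4, 0, 1, 3, 1, 0, 1, 0, 1, 3, 1, 0, 4, 3]), (158, false, [2, 0, 1, 0, 4, 3, 1, 0, 1, 3, 1, 3, 1, 3]), (270, false, [0, 1, 3, 4, 0, 1, 3, 1, 3, 4, 0, 4, 0, 4, 3]), (268, false, [4, 0, 1, 0, 4, 3, 4, 3, 4, 0, 4, 0, 4, 0]), (221, true, [2, 0, 4, 0, 4, 0, 1, 3, 1, 0]), (152, false, [0, 1, 0, 1, 0, 4, 0, 4, 3, 1, 0]), (268, true, [3, 1, 3, 1, 0, 1, 0, 4, 3, 4, 3, 4, 3, 4, 0]), (183, true, [0, 1, 2, 0, 1, 0, 1, 3, 1, 3, 4, 0, 4, 3]),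 (68, false, [0, 1, 2, 0, 1, 3, 1, 3, 1]), (190, false, [1, 0, 4, 0, 4, 0, 4, 3, 1, 3, 1, 0, 1, 0, 1]), (270, true, [0, 1, 0, 2, 4, 3, 4, 3, 1, 0, 1, 0]), (122, false, [1, 0, 2, 4, 0, 4, 0, 1, 3, 1, 3, 1, 3, 4]), (183, false, [0, 1, 0, 2, 4, 0, 1, 0, 1, 3, 4, 3, 1, 0, 1]), (281, true, [3, 1, 3, 1, 0, 1, 3, 1, 0, 4, 3, 4, 0]), (66, true, [1, 2, 0, 4, 0, 4, 3, 1, 0, 1, 0, 4, 3]), (270, true, [1, 2, 0, 1, 0, 4, 3, 1, 0, 1, 0, 1, 3, 1]), (189, false, [0, 1, 0, 1, 2, 0, 4, 3, 1, 0, 1, 0, 1, 3, 1, 3]), (91, true, [2, 4, 3, 4, 0, 1, 3, 1, 3, 4, 3, 4, 0, 1, 3, 4, 0]), (261, true, [1, 2, 0, 1, 0, 1, 0, 1, 3, 1, 3, 4]), (109, false, [0, 1, 2, 0, 1, 0, 1, 0, 4, 3, 4, 3, 1, 0, 1, 0, 1, 3, 1]), (189, false, [2, 4, 0, 4, 3, 1, 0, 1,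 0, 1, 3, 4, 0]), (89, true, [3, 1, 0, 1, 3, 1, 0, 4, 3]), (70, true, [0, 4, 3, 1, 3, 1, 3, 1, 0, 1, 0, 1, 3, 4, 3, 1]), (123, true, [1, 2, 0, 1, 3, 4, 0, 4, 0, 4, 3, 1]), (96, false, [1, 0, 4, 3, 4, 3, 4, 0, 1, 3, 1, 0, 4, 0, 4, 0]), (112, false, [2, 0, 4, 3, 4, 3, 1, 0, 1, 3, 1, 0, 1, 3, 4, 0]), (199, false, [0, 1, 3, 1, 3, 1, 0, 1, 3, 1, 0, 1, 3, 1]), (68, true, [0, 1, 0, 1, 2, 0, 4, 0, 4, 0, 1, 3, 1, 0, 4, 0, 4]), (6, false, [0, 2, 4, 0, 4, 0, 4, 3, 1, 3, 1, 0, 4, 0, 4]), (219, true, [0, 1, 0, 4, 0, 4, 0, 4, 3, 1, 3, 4, 0, 4, 0]), (219, true, [3, 4, 0, 4, 3, 1, 0, 4, 0]), (225, true, [1, 2, 0, 4, 3, 4, 3, 1, 0, 1, 0, 1, 0, 4]), (256, false, [1, 3, 1, 0, 4, 3, 4, 0, 4, 0, 4, 3, 4, 0, 4, 3]), (181, true, [4, 0, 1, 3,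 4, 0, 4, 0, 4, 3, 4, 0, 4]), (149, true, [3, 1, 0, 1, 3, 4, 3, 4, 0, 4, 0, 1, 3]), (169, true, [1, 2, 0, 1, 0, 1, 0, 4, 0, 4, 3, 1, 0, 1, 0, 1]), (272, true, [0, 1, 3, 4, 3, 4, 0, 4, 0, 4, 0, 4, 3, 4, 3]), (57, false, [1, 0, 1, 0, 2, 4, 3, 4, 3, 1, 0, 4, 0, 4, 0]), (188, true, [4, 0, 1, 3, 4, 0, 4, 0, 1, 0]), (85, true, [4, 0, 1, 0, 1, 0, 4, 3, 4, 0, 1, 3, 1, 3, 1]), (237, false, [2, 0, 4, 0, 4, 0, 4, 3, 1, 0, 1, 3, 1]), (124, true, [3, 1, 0, 1, 0, 4, 3, 4, 0, 1, 0, 1, 0, 4, 3]), (21, true, [4, 0, 1, 0, 1, 3, 4, 0, 4, 3, 4]), (281, false, [3, 1, 3, 1, 3, 4, 0, 4, 0, 4, 0, 1, 3]), (151, false, [0, 4, 3, 1, 0, 1, 3, 4, 3, 1, 0, 1, 3]), (42, false, [0, 1, 0, 1, 3, 4, 0, 1, 0, 1, 0, 1]), (23, true, [4, 3, 4, 3, 1, 0, 1, 0,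 4]), (105, true, [1, 0, 1, 0, 4, 3, 4, 0, 1, 0, 1, 0, 1, 0]), (276, false, [4, 3, 1, 3, 4, 0, 1, 3, 1, 0, 4, 0, 4]), (98, true, [0, 4, 0, 1, 3, 1, 0, 1, 3, 4]), (60, false, [3, 4, 0, 4, 3, 4, 0, 1, 0, 1, 3, 1, 0, 1]), (70, false, [3, 1, 3, 1, 0, 1, 3, 1, 0, 1, 3, 1, 3, 1]), (272, true, [0, 2, 4, 3, 4, 0, 4, 3, 4, 0, 1, 3, 1, 3, 4, 3]), (88, false, [1, 0, 1, 0, 1, 3, 4, 0, 4, 0, 4]), (226, true, [0, 4, 0, 4, 3, 4, 3, 1, 0, 1, 0, 4, 3, 4, 0, 1]), (184, false, [2, 0, 4, 0, 1, 0, 1, 0, 1, 0, 1, 0, 4]), (244, true, [1, 2, 0, 1, 0, 1, 0, 4, 0, 4, 3, 4, 0]), (68, false, [3, 4, 0, 1, 3, 1, 3, 1, 0, 1, 0, 4, 3, 4, 3, 4]), (205, true, [0, 4, 0, 4, 3, 4, 3, 4, 3, 4, 0, 1, 3, 1]), (68, false, [0, 4, 0, 4, 0, 1, 3, 1, 3, 4, 3, 4,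 0, 1]), (128, true, [1, 0, 1, 0, 1, 2, 0, 1, 0, 1, 3, 4, 0, 4, 3]), (157, false, [0, 1, 3, 1, 0, 1, 3, 1, 0, 4, 0, 4, 3, 4, 3]), (212, false, [2, 4, 0, 1, 0, 1, 0, 1, 3, 1, 0, 4, 0]), (227, true, [2, 4, 0, 1, 0, 1, 3, 4, 3, 4, 3, 4]), (205, false, [3, 1, 3, 1, 3, 4, 0, 4, 3, 1, 3, 1, 3, 1, 0, 1]), (92, true, [2]), (63, false, [3, 4, 0, 4, 3, 4, 0, 1, 0, 1, 3, 1, 0, 1]), (21, false, [1, 0, 1, 0, 4, 3, 4, 0, 4, 3, 4, 0, 1]), (71, false, [2, 4, 3, 1, 0, 4, 3, 4, 3, 4, 0, 4, 0, 4]), (157, false, [3, 1, 0, 1, 3, 1, 0, 4, 3]), (242, false, [1, 2, 0, 1, 3, 4, 0, 4, 0, 4, 0, 4, 3, 4]), (152, true, [0, 1, 0, 1, 0, 1, 2, 0, 1, 0]), (58, false, [0, 1, 2, 0, 4, 3, 1, 0, 1, 3, 4, 3, 4, 3, 1]), (58, false, [0, 1, 0, 1, 2, 0, 4, 3,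 4, 0, 1, 0, 1, 0, 1, 0]), (84, true, [0, 1, 0, 1, 0, 1, 0, 4, 0, 4, 0, 4, 3, 4, 3, 1]), (245, true, [0, 1, 3, 4, 0, 4, 0, 4, 3, 4, 0, 4, 3, 1]), (223, true, [2, 0, 1, 3, 1, 3, 4, 0, 4, 3, 4, 0, 4, 3, 1, 3, 1]), (76, true, [0, 1, 3, 4, 0, 1, 3, 1, 3, 1, 3, 1, 0, 4, 3]), (85, true, [0, 2, 4, 0, 1, 3, 1, 3, 1, 0, 4, 3, 4]), (270, false, [2, 0, 4, 3, 1, 0, 1, 3, 1, 3, 4, 0, 4, 3, 4]), (108, false, [0, 4, 0, 4, 3, 1, 3, 4, 0, 4, 3, 4, 3, 4, 3]), (189, true, [2, 0, 4, 3, 4, 0, 4, 3, 1, 0, 1]), (202, true, [4, 0, 1, 3, 4, 3, 1, 0, 1, 3, 1]), (269, false, [0, 4, 3, 4, 3, 4, 3, 4, 0, 1, 0, 1, 0]), (190, false, [4, 0, 1, 3, 1, 0, 1, 3, 1, 3, 4, 3, 4, 3, 4, 0]), (128, false, [3, 1, 3, 4, 0, 4, 0, 4, 3, 4, 0, 4, 3]), (223, false,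 [1, 2, 0, 4, 0, 4, 0, 1, 3, 1, 0, 1, 0, 4]), (70, true, [3, 4, 0, 4, 3, 1, 0, 1, 3]), (236, false, [4, 0, 1, 0, 1, 0, 1, 0, 1, 0, 1]), (212, false, [4, 3, 1, 3, 1, 0, 1, 0, 1, 3, 4, 0, 4, 0, 4]), (40, true, [4, 0, 4, 0, 1, 3, 4, 3, 4, 3, 4, 0]), (224, true, [1, 0, 1, 3, 1, 0, 1, 3, 4, 0, 4, 0, 4, 3, 4]), (135, true, [0, 4, 3, 4, 0, 4, 0, 1, 3, 1, 0, 1, 0, 1]), (141, true, [3, 1, 0, 4, 0, 4, 0, 1, 3, 1, 0, 1, 3, 1]), (96, false, [2, 0, 1, 3, 4, 0]), (181, true, [0, 2, 4, 3, 4, 0, 1, 3, 1, 3, 1, 0, 1, 0, 4, 0, 4]), (166, true, [3, 1, 3, 1, 0, 1, 3, 1, 3]), (88, false, [0, 4, 0, 4, 3, 4, 3, 4, 0, 4, 3, 4, 3, 1]), (268, false, [3, 1, 3, 4, 0, 1, 3, 1, 3, 4, 0, 4, 3, 1, 0]), (91, false, [2, 0, 1, 3, 4, 3, 4, 0, 4, 3, 4, 0,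 4, 0, 4, 3])]
def r97 : List (ℕ × Bool × List ℕ) := [(213, false, [0, 1, 3, 4, 0, 1, 3, 1, 3, 4, 0, 4, 0, 4, 0]), (5, false, [1, 3, 4, 0, 4, 0, 1, 3, 1, 3, 1, 3, 1]), (194, false, [4, 0, 4, 0, 4, 3, 1, 0, 1, 3, 1, 0]), (223, true, [3, 1, 0, 1, 3, 1, 3, 4, 0, 1, 0, 1, 0]), (202, true, [2, 4, 3, 4, 0, 1, 3, 1, 3, 4, 0]), (154, true, [0, 1, 2, 0, 4, 0, 4, 0, 4, 3, 4, 3, 4, 0]), (273, true, [0, 4, 0, 4, 3, 4, 0, 4, 0, 4, 3, 4, 3, 4]), (51, true, [1, 3, 4, 3, 1, 0, 4, 3, 4, 0, 1]), (47, true, [1, 3, 4, 0, 1, 0, 1, 0, 4, 3, 4, 0, 1, 3]), (205, true, [0, 4, 0, 4, 3, 1, 3, 1, 0, 1, 3, 4, 3, 4, 0]), (254, false, [0, 2, 4, 0, 1, 3, 1, 3, 4, 3, 4, 0, 1, 3, 4, 0]), (67, false, [2, 0, 1, 3, 4, 0, 1, 0, 1, 0, 4, 3, 1, 0]), (181, false,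 [2, 4, 0, 1, 0, 4, 3, 4, 0, 1, 0, 1, 3, 1]), (213, false, [1, 3, 1, 0, 1, 3, 1, 3, 1, 0, 1, 0, 1, 0, 4, 0]), (136, true, [1, 0, 1, 0, 4, 3, 1, 3, 1, 0, 4, 3, 1]), (95, false, [0, 1, 0, 1, 2, 0, 4, 3, 4, 0, 1, 3, 4]), (213, false, [2, 0, 1, 0, 4, 0, 4, 3, 4, 3, 4, 0, 4, 0, 4, 0, 4]), (146, false, [0, 4, 0, 1, 3, 4, 3, 4, 3, 4, 3, 1, 0]), (86, true, [0, 4, 3, 4, 0, 4, 3, 1, 0, 1, 0, 4, 0, 4, 0, 1, 0]), (88, true, [0, 2, 4, 0, 4, 3, 1, 0, 1, 0, 1, 3, 1, 0, 4, 3, 1]), (136, false, [1, 2, 0, 4, 3, 1, 3, 1, 0, 4, 3, 4, 3]), (225, false, [1, 0, 4, 3, 1, 0, 1, 0, 1, 3, 1, 0, 4, 3, 1, 3]), (5, true, [0, 2, 4, 0, 4, 3, 1, 0, 1, 0, 1, 3, 4, 0, 4, 3]), (137, true, [1, 2, 0, 4, 0, 4, 3, 4, 3, 4, 0]), (276, false, [4, 0, 4, 3, 1, 3,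 1, 3, 4, 3, 4, 0, 4, 3, 4]), (218, false, [0, 1, 0, 1, 3, 1, 0, 4, 3, 4, 3, 4, 3, 1, 0]), (81, false, [1, 0, 1, 0, 4, 0, 4, 3, 1, 0, 1, 0, 4, 0, 4]), (88, true, [4, 3, 4, 0, 1, 3, 1, 0, 4, 0, 1]), (109, false, [1, 0, 1, 0, 4, 0, 4, 3, 1, 0, 4, 0, 1]), (87, true, [2, 4, 0, 1, 0, 1, 0, 1, 3, 4, 0, 1, 0, 1, 3]), (212, true, [1, 3, 1, 3, 1, 0, 1, 0, 1, 0, 4, 0, 4, 0, 4]), (270, true, [4, 3, 1, 3, 4, 0, 4, 0, 1, 3, 1, 3, 1, 3, 1]), (98, true, [4, 3, 4, 3, 1, 0, 1, 3, 1, 3, 1, 0, 4, 3, 4, 0]), (167, false, [0, 1, 3, 4, 3, 4, 0, 1, 3, 4, 3]), (86, true, [0, 2, 4, 0, 4, 3, 1, 0, 1, 0, 4, 0, 4, 3, 1, 0, 1]), (273, true, [0, 2, 4, 0, 4, 3, 4, 3, 4, 3, 4, 0, 1, 3]), (85, false, [1, 2, 0, 1, 3, 4, 3, 4]), (89, false, [0, 2, 4, 3,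 1, 3, 1, 0, 4, 3, 4, 3, 4, 0, 4, 0]), (87, true, [0, 4, 0, 1, 3, 1, 0, 4, 3, 4, 3, 4, 0, 4, 0, 4]), (229, true, [0, 1, 0, 1, 0, 1, 3, 1, 0, 4, 0, 4, 0]), (18, true, [0, 1, 0, 2, 4, 0, 1, 3, 1, 0, 1]), (6, true, [0, 1, 3, 4, 3, 1, 0, 1, 3, 4, 3, 4, 3, 4]), (57, false, [2, 0, 4, 3, 4, 3, 4, 0, 1, 3, 4, 3, 4, 3, 4, 3]), (86, true, [3, 1, 3, 4, 0, 4, 0, 1, 3, 4, 0, 1]), (15, false, [0, 1, 0, 4, 3, 4, 0, 1, 3, 1]), (268, true, [1, 0, 4, 0, 1, 3, 1, 0, 4, 3, 4, 0, 1, 0, 1, 0]), (6, true, [2, 0, 4, 0, 4, 0, 1, 3, 1, 0, 1, 0, 4, 0]), (112, true, [2, 4, 0, 1, 0, 1, 3, 1, 3, 4, 0, 1, 0, 1, 0]), (167, false, [2, 0, 1, 0, 4, 0, 4, 3, 1, 3, 1, 3, 4]), (156, false, [1, 0, 1, 0, 1, 2, 0, 4, 3, 1, 3, 1, 0, 4, 0]), (223, true, [2, 0,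 1, 0, 4, 3, 1, 0, 1, 0, 1, 3, 4]), (6, true, [0, 1, 2, 0, 4, 0, 1, 3, 1, 3, 4, 3, 4, 3, 4]), (237, true, [1, 0, 1, 3, 1, 3, 1, 0, 4, 3, 4, 3, 4, 0, 4, 0]), (205, true, [1, 3, 1, 0, 1, 0, 1, 0, 4, 0, 4, 0, 4, 3, 4]), (84, true, [0, 4, 0, 1, 3, 4, 3, 4, 3, 4, 0, 1, 0, 4]), (167, false, [3, 1, 3, 1, 0, 1, 0, 4, 3, 1, 3, 1, 3, 4]), (67, false, [1, 0, 4, 3, 1, 3, 1, 3, 4, 0, 4, 3, 4, 3, 4, 0]), (229, true, [1, 0, 2, 4, 3, 4, 3, 1, 0, 1, 3, 4, 0, 1, 3]), (137, false, [4, 0, 1, 0, 1, 3, 4, 3, 4, 0, 1]), (213, false, [0, 1, 0, 2, 4, 0, 4, 0, 1, 3, 1, 0, 1, 3, 1, 0]), (181, false, [1, 3, 1, 0, 4, 3, 4, 0, 1, 0, 1, 0, 4, 3, 4]), (170, false, [0, 1, 3, 4, 3, 4, 0, 1, 3, 1, 3, 1, 0, 1, 0, 4]), (73, false, [0, 1, 2, 0, 1, 3, 4, 0,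 4, 0, 4, 3, 4, 0, 1, 3, 4]), (270, true, [2, 0, 1, 0, 1, 0, 4, 3, 1, 3, 1, 0, 1]), (154, true, [1, 3, 4, 3, 1, 0, 1, 3, 1, 3, 4, 0, 4, 3, 1]), (88, true, [0, 4, 0, 4, 0, 4, 3, 4, 3, 1, 0, 1, 3, 4, 3]), (87, true, [0, 1, 2, 0, 1, 0, 1, 3, 4, 3, 1, 0, 1, 3, 1, 3, 1]), (184, true, [1, 0, 1, 0, 1, 0, 2, 4]), (73, false, [0, 4, 0, 1, 0, 1, 0, 1, 3, 4, 0, 4, 3, 1, 3, 4, 0]), (247, true, [1, 0, 1, 0, 1, 3, 1, 3, 4, 3, 4, 3, 4]), (249, true, [2, 4, 0, 1, 0, 1, 0, 4, 0, 4, 3, 1, 3]), (6, true, [0, 1, 0, 1, 3, 1, 0, 1, 0, 1, 3, 1, 0, 4, 3, 4, 3]), (241, true, [4, 0, 1, 3, 1, 3, 1, 0, 1, 0, 4, 3, 1, 3, 4]), (212, true, [2, 0, 4, 0, 4, 3, 1, 3, 1, 0, 1, 0, 4, 3, 1, 3]), (86, true, [0, 1, 0, 1, 2, 0, 1, 0, 1, 0, 4, 3, 4, 0, 1, 0,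 1]), (173, true, [1, 0, 1, 3, 1, 3, 1, 0, 1, 0, 4]), (124, false, [1, 0, 2, 4, 0, 4, 0, 4, 3, 1, 0, 1, 3, 4, 3, 4, 0]), (89, false, [0, 4, 0, 4, 0, 4, 3, 4, 3, 4, 0, 4, 0]), (88, true, [0, 1, 2, 0, 1, 3, 1, 0, 4, 3, 4, 0, 4, 3, 4]), (273, true, [0, 2, 4, 3, 4, 3, 4, 0, 1, 0, 1]), (112, true, [3, 4, 0, 1, 3, 4, 0, 4, 0, 1, 3, 4]), (124, false, [3, 1, 3, 1, 0, 4, 3, 4, 0, 4, 3, 4, 0, 1]), (279, true, [0, 1, 0, 1, 0, 1, 2, 0, 1, 3, 4, 3, 1]), (34, true, [1, 0, 4, 3, 4, 0, 1, 0, 1]), (98, true, [1, 0, 1, 0, 1, 0, 2, 4, 0, 1, 3, 1, 3, 4, 0, 1]), (103, true, [0, 4, 3, 4, 3, 1, 0, 4, 3, 4]), (254, false, [1, 3, 4, 3, 4, 0, 1, 3, 4, 0]), (90, false, [1, 0, 2, 4, 0, 4, 3, 1, 3, 4, 0]), (85, false, [1, 3, 4, 0, 4, 3, 4, 3, 4]),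 (148, false, [2, 0, 4, 3, 1, 3, 1, 3, 1, 0, 4, 0, 4, 0]), (268, true, [0, 2, 4, 3, 1, 0, 1, 0, 4, 3, 1, 0, 1, 0, 4]), (60, true, [2, 4, 0, 4, 3, 4, 0, 4, 0, 4, 3, 4, 0]), (90, false, [4, 3, 4, 3, 4, 0, 4, 0, 4, 0, 4, 3, 1, 3, 1, 3]), (237, true, [1, 0, 1, 2, 0, 4, 0, 4, 3, 4, 3, 4, 0, 4, 0]), (243, false, [0, 1, 0, 1, 3, 4, 0, 1, 3, 1, 3]), (170, false, [2, 0, 1, 3, 1, 3, 1, 0, 1, 3, 4, 3, 1, 0, 1, 3]), (109, false, [2, 0, 1, 0, 1, 0, 4, 3, 4, 0, 4, 0, 4, 3]), (275, false, [3, 1, 3, 1, 3, 4, 0, 4, 0, 4, 0, 4]), (258, false, [1, 3, 4, 0, 1, 3, 1, 0, 1, 0, 4, 3]), (223, false, [4, 3, 1, 0, 4, 0, 4, 3, 1, 0, 1, 3, 4]), (148, false, [3, 1, 3, 1, 0, 4, 3, 4, 3, 1, 0, 1, 3, 4]), (184, false, [1, 0, 1, 0, 1, 3, 4, 3, 1, 0, 4]),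 (270, true, [4, 0, 1, 3, 4, 0, 4, 3, 1, 3, 1, 3, 1, 0]), (225, false, [0, 2, 4, 0, 1, 3, 1, 3, 1, 0, 1, 3, 4, 3, 1, 0, 1]), (276, false, [1, 0, 1, 0, 1, 0, 1, 2, 0, 1, 0, 1, 3, 4]), (270, true, [0, 1, 2, 0, 1, 0, 4, 0, 4, 3, 1, 0, 4, 0, 4, 3, 4, 0]), (57, false, [0, 1, 0, 1, 3, 4, 0, 4, 0, 4, 0, 4]), (84, true, [1, 0, 1, 3, 1, 3, 1, 0, 4, 0, 4, 3, 1, 0]), (242, false, [1, 0, 1, 0, 1, 3, 1, 0, 4, 0, 4, 0, 4]), (87, true, [3, 4, 3, 1, 0, 1, 3, 4, 0, 4, 0, 4, 0, 1, 3, 4]), (218, false, [2, 4, 3, 1, 3, 1, 3, 4, 0, 1, 3, 1, 3, 1, 3]), (223, false, [1, 2, 0, 4, 0, 1, 3, 1, 0, 4, 0, 4, 3, 1])]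
def r98 : List (ℕ × Bool × List ℕ) := [(104, false, [0, 4, 0, 1, 3, 4, 3, 1, 0, 1, 3, 4, 0, 1, 3]), (268, true, [0, 1, 2, 0, 4, 0, 4, 3, 1, 0, 1, 0, 1, 3, 1, 0, 4]), (255, false, [3, 1, 0, 1, 0, 4, 0, 4, 3, 4, 0, 1]), (167, false, [0, 2, 4, 0, 1, 3, 1, 3, 1, 3, 1, 3]), (150, false, [0, 1, 3, 1, 3, 1, 0, 4, 3, 1, 3, 4, 0, 4, 0, 1]), (126, false, [0, 1, 3, 1, 3, 1, 3, 4, 0, 4, 3, 4, 3, 4, 3]), (90, true, [3, 1, 0, 1, 0, 1, 0, 4, 3, 4, 0, 1, 0, 1, 0, 4]), (224, true, [1, 2, 0, 4, 0, 4, 3, 1, 0, 1, 0, 1, 3, 4, 0]), (141, false, [4, 3, 4, 0]), (152, false, [0, 1, 0, 4, 3, 4, 0, 4, 0, 1, 3, 1, 3, 1]), (47, false, [3, 4, 3, 1, 0, 1, 0, 1, 0, 1, 3, 4, 0, 4]), (218, false, [0, 1, 2, 0, 4, 3, 4, 3, 4, 3, 4, 0, 4, 0, 1]), (242,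 false, [0, 4, 3, 4, 0, 4, 3, 4, 0, 1, 3, 1]), (273, true, [0, 2, 4, 0, 4, 0, 4, 0, 4, 3, 4, 0]), (91, true, [3, 4, 0, 4, 3, 4, 0, 1, 0, 1, 0, 4, 3, 4]), (213, false, [0, 2, 4, 0, 4, 3, 4, 3, 1, 0, 1, 3, 4, 0, 1, 0, 4]), (136, false, [1, 3, 4, 3, 1, 0, 1, 3, 1, 3]), (73, true, [1, 2, 0, 1, 3, 1, 3, 1, 0, 1, 3, 1, 0, 4, 3]), (149, false, [0, 1, 2, 0, 4, 0, 4, 3, 1, 3, 4, 0]), (121, true, [0, 1, 0, 4, 0, 4, 3, 1, 0, 1, 3, 4, 3]), (126, false, [2, 0, 4, 3, 1, 3, 1, 3, 1, 3, 1, 3]), (107, false, [0, 4, 3, 4, 0, 1, 3, 1, 3, 4, 3, 4, 0, 4]), (268, false, [0, 4, 0, 4, 0, 1, 3, 1, 0, 1, 0, 4, 3, 4]), (133, true, [0, 4, 0, 1, 3, 1, 0, 1, 0, 4, 3, 1]), (251, false, [0, 4, 0, 1, 0, 1, 3, 1, 3, 1, 3, 1, 0, 4, 3, 4, 0, 4]), (244, true,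 [0, 4, 0, 1, 3, 1, 3, 1, 3, 4, 3]), (62, false, [4, 3, 1, 3, 1, 3, 4, 3, 4, 3, 1]), (91, false, [2, 0, 1, 3, 4, 3, 4, 0, 4, 3, 4, 0, 4, 0, 4, 3]), (208, true, [0, 1, 3, 1, 3, 4, 0, 4, 0, 4, 0, 1, 3, 4]), (221, false, [0, 1, 0, 1, 2, 0, 1, 3, 1, 3, 1, 0, 4, 3, 4, 3]), (247, false, [1, 0, 2, 4, 3, 4, 0, 1, 3, 4, 3, 4, 3]), (179, false, [0, 4, 0, 1, 0, 1, 0, 1, 0, 1]), (235, false, [0, 1, 0, 1, 3, 1, 0, 4, 0, 4]), (222, false, [1, 3, 4, 0, 1, 0, 1, 0, 4, 3, 4, 0, 1, 3]), (125, true, [0, 1, 0, 1, 2, 0, 1, 0, 1, 0, 4, 0, 4, 3, 1, 0, 4]), (149, true, [3, 1, 0, 1, 0, 1, 3]), (205, false, [1, 3, 4, 0, 4, 0, 1, 3, 1, 3, 1, 3, 4, 3]), (212, false, [0, 4, 3, 1, 0, 4, 0, 4, 3, 1, 3, 4, 0, 1, 3]), (236, true, [1, 0, 1, 3, 1, 3, 1,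 3, 4, 0, 1, 0, 1]), (71, true, [0, 2, 4, 3, 1, 0, 1, 0, 4, 3, 4, 0, 1, 3]), (6, false, [1, 0, 4, 0, 1, 3, 4, 3, 4, 0, 4, 0, 1]), (137, true, [1, 0, 2, 4, 0, 4, 0, 4, 3, 1, 0]), (262, true, [1, 0, 1, 0, 4, 0, 4, 3, 4, 3, 4, 3, 4, 0, 4, 3]), (98, false, [0, 4, 3, 4, 0, 1, 3, 1, 3, 4, 0, 1, 0]), (79, false, [0, 1, 0, 4, 3, 4, 3, 4, 0, 1, 3, 1, 3, 1, 0, 1, 0]), (170, true, [4, 0, 4, 3, 1, 0, 1, 0, 1, 0, 1, 3, 1, 3, 1]), (6, true, [3, 1, 3, 1, 3, 4, 0, 4, 3, 4, 0, 4, 3, 4]), (158, false, [3, 1, 0, 1, 0, 4, 0, 4, 3, 1, 3, 1, 3, 4]), (107, false, [0, 1, 0, 4, 3, 4, 3, 4, 3, 1, 0, 1, 3, 1, 3]), (124, false, [0, 1, 0, 4, 3, 4, 3, 4, 0, 4, 0, 1, 3, 4, 3]), (63, true, [1, 0, 2, 4, 0, 1, 3, 1, 0, 4, 3, 1, 3, 1, 3]), (197, true, [1,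 0, 4, 0, 4, 3, 4, 0, 1, 0, 1, 0, 4, 0]), (141, false, [0, 4, 0, 1, 3, 1, 0, 4, 3, 4, 0, 1, 0, 1, 0, 1]), (97, true, [0, 2, 4, 0, 1, 3, 1, 3, 1, 3, 4, 3, 4, 3, 1, 0]), (181, true, [3, 1, 3, 4, 3, 4, 0, 1, 3, 1, 3, 1, 3]), (220, true, [0, 4, 3, 1, 3, 1, 0, 4, 3, 1, 3, 4, 0]), (203, false, [2, 0, 4, 3, 4, 0, 4, 0, 1, 3, 1, 0, 1]), (280, false, [4, 3, 1, 3, 4, 0, 1, 0, 1, 0, 4, 3, 1, 0]), (23, true, [2, 0, 4, 3, 1, 0, 4, 0, 4, 0, 1, 0]), (128, false, [0, 1, 2, 0, 4, 3, 1, 3, 1, 0, 1, 3, 4, 0, 1]), (219, false, [4, 0, 4, 0, 4, 0, 4, 0, 4, 3, 1, 3]), (230, true, [3, 4, 0, 4, 3, 1, 3, 1, 0, 4, 3, 1, 3]), (67, true, [1, 0, 1, 0, 4, 0, 4, 3, 1, 0, 1, 0, 4, 0, 4]), (96, true, [1, 0, 4, 3, 4, 0, 4, 3, 1, 3]), (213, true, [0, 1,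 2, 0, 4, 3, 1, 0, 1, 0, 4, 3, 4, 0, 1, 3, 4, 0]), (84, false, [2, 4, 0, 1, 3, 1, 3, 4, 3, 4, 3, 4, 0, 4]), (280, false, [0, 1, 0, 4, 3, 1, 0, 1, 3, 4, 3, 4, 0, 1, 0]), (135, false, [3, 1, 0, 1, 3, 1, 0, 1, 0, 4, 0, 4, 0]), (258, false, [3, 4, 3, 1, 0, 1, 0, 4]), (153, false, [2, 0, 4, 3, 1, 0, 1, 0, 1, 0, 4, 0, 4, 3]), (38, true, [4, 0, 4, 0, 1, 3, 4]), (98, false, [1, 3, 1, 0, 1, 3, 4, 0, 1, 3, 1, 0]), (152, false, [1, 0, 1, 2, 0, 4, 3, 4, 3, 4, 0, 4, 0, 1, 3]), (60, true, [3, 1, 3, 1, 0, 1, 3, 1, 3, 1, 0, 1, 3]), (92, true, [1, 0, 4, 0, 4, 3, 1, 3, 1, 3, 1, 0, 4, 3]), (122, false, [1, 0, 4, 0, 4, 0, 4, 3, 1, 3, 1, 0, 4]), (190, false, [1, 0, 2, 4, 3, 4, 0, 1, 0, 1, 0, 4, 0, 4, 0]), (89, false, [1, 0, 1, 0, 1, 2, 0,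 4, 0, 1, 3, 4, 0, 4, 0, 4, 3, 4]), (65, true, [0, 1, 0, 1, 0, 2, 4, 0, 4, 3, 1, 3, 1, 3, 1, 0, 1, 0]), (73, true, [1, 2, 0, 1, 0, 1, 3, 4, 0, 1, 3, 1, 3, 1, 0, 1]), (256, false, [0, 1, 0, 1, 0, 2, 4, 3, 4, 0, 4, 3, 1]), (123, false, [3, 1, 0, 1, 3, 4, 3, 4, 3, 4, 0, 1, 0]), (87, false, [0, 4, 3, 1, 3, 4, 0, 4, 0, 4, 0, 4, 3, 1, 0]), (29, true, [0, 4, 0, 1, 3, 1, 0, 4, 0, 4, 0, 1, 3, 1, 0, 1]), (51, true, [0, 1, 3, 4, 0, 4, 0, 4, 0, 1]), (122, true, [1, 2, 0, 4, 3, 1, 0, 1, 0, 4, 3, 4, 0, 4, 3]), (209, true, [1, 0, 1, 0, 1, 0, 1, 0, 2, 4, 3, 4, 0, 4]), (260, false, [1, 0, 1, 0, 1, 0, 1, 2, 0, 1, 0, 1, 0, 4, 3, 4, 3]), (234, true, [1, 0, 1, 0, 1, 0, 1, 2, 0, 4, 3, 1, 3, 4]), (276, false, [2, 4, 3, 1, 0, 4, 3, 4, 0, 1, 3,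 1, 3, 4]), (88, false, [2, 4, 0, 1, 0, 1, 0, 1, 3, 1, 3, 4, 3]), (188, false, [0, 2, 4, 0, 4, 0, 4, 3, 4, 0, 4, 3, 4, 3, 4, 3]), (241, true, [4, 3, 4, 3, 4, 0, 4, 3, 1, 3, 4, 0, 4, 3]), (62, false, [3, 4, 0, 4, 3, 1, 0, 1, 0, 1, 0, 4]), (156, false, [2, 4, 0, 1, 0, 4, 3, 4, 0, 1, 0, 1, 0]), (259, true, [0, 2, 4, 0, 1, 0, 4, 3, 4, 0, 4, 3, 4]), (236, false, [0, 1, 0, 2, 4, 3, 4, 3, 1, 0, 1, 3, 4, 3, 4]), (178, false, [3, 1, 0, 1, 3, 1, 0, 1, 0, 4, 0]), (170, false, [1, 0, 1, 3, 1, 0, 1, 0, 4, 0, 4, 3, 1, 0, 1, 3, 1]), (70, false, [4, 3, 4, 0, 1, 3, 1, 3, 4, 0, 4, 0, 4, 3, 4]), (90, false, [4, 3, 4, 0, 1, 3, 1, 0, 1, 0, 4, 3]), (117, true, [2, 4, 3, 4, 0, 4, 0, 1, 3, 4, 3]), (194, true, [1, 0, 2, 4, 3, 4, 3, 4, 3, 4, 0,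 1, 3, 4]), (112, false, [0, 2, 4, 0, 4, 3, 1, 0, 1, 3, 1, 3, 1, 0, 4, 3, 1]), (184, true, [2, 0, 1, 0, 4, 3, 1, 0, 1, 0, 4, 3, 4, 3]), (272, false, [0, 1, 2, 0, 1, 0, 1, 0, 4, 3, 4, 3, 1, 0, 1]), (254, false, [1, 2, 0, 1, 3, 4, 0, 4, 3, 1, 3, 1, 3, 1, 3]), (277, true, [0, 1, 0, 1, 0, 1, 0, 4, 3, 1, 0, 1, 3]), (203, false, [1, 3, 4, 0, 4, 0, 4, 0, 4, 3, 4, 3, 1]), (226, false, [0, 1, 0, 4, 3, 4, 0, 4, 0, 4, 0, 4, 3, 1, 3, 1]), (255, false, [3, 1, 3, 1, 3, 4, 0, 1, 3, 1, 3, 4, 0]), (270, true, [1, 2, 0, 1, 0, 4, 3, 1, 0, 1, 0, 1, 3, 1])]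
def r99 : List (ℕ × Bool × List ℕ) := [(41, false, [2, 0, 4, 0, 4, 3, 4, 3, 4, 0, 1, 3, 1, 3, 4, 3]), (41, false, [2, 0, 4, 0, 4, 3, 4, 3, 4, 0, 1, 3, 1, 3, 4]), (215, false, [0, 1, 3, 4, 0, 4, 3, 1, 3, 1, 0, 4, 3, 1, 0]), (41, false, [3, 4, 3, 4, 0, 4, 0, 4, 3, 1, 0, 1, 0, 4, 0]), (41, false, [2, 0, 4, 0, 4, 3, 4, 3, 4, 0, 1, 3, 1, 3, 4, 0]), (99, true, []), (22, false, [1, 0, 2, 4, 0, 4, 0, 4, 0, 1, 3, 4, 0, 4]), (41, false, [3, 4, 3, 4, 0, 4, 0, 4, 3, 1, 0, 1, 0, 4]), (41, true, [0, 1, 2, 0, 1, 3, 1, 3, 4, 3, 4, 3, 4, 3, 1]), (215, false, [0, 1, 3, 4, 0, 4, 3, 1, 3, 1, 0, 4, 3, 1, 3]), (215, false, [0, 1, 3, 4, 0, 4, 3, 1, 3, 1, 0, 4, 3, 1]), (41, false, [3, 4, 3, 4, 0, 4, 0, 4, 3, 1, 0, 1, 0, 4, 3]), (99, true, []),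 (250, false, [0, 1, 0, 4, 0, 4, 0, 4, 0, 4, 3, 1, 3, 4, 0, 4, 0]), (176, false, [3, 1, 0, 4, 3, 4, 0, 1, 3, 1, 3, 1, 3, 1, 0, 1]), (99, true, []), (22, false, [1, 2, 0, 1, 0, 1, 3, 1, 0, 1, 0, 4, 0, 4]), (22, false, [1, 0, 4, 3, 4, 3, 4, 3, 1, 0, 4, 3, 4]), (22, false, [2, 4, 0, 4, 0, 1, 3, 4, 3, 4, 0, 4, 0, 1]), (41, true, [0, 1, 3, 1, 0, 1, 0, 4, 0, 4, 0, 4, 0, 1]), (41, true, [0, 1, 2, 0, 1, 3, 1, 3, 4, 3, 4, 3, 4, 3, 1, 0]), (41, true, [0, 1, 2, 0, 4, 0, 4, 0, 1, 3, 1, 0, 4, 0, 1]), (59, false, [0, 1, 3, 1, 3, 4, 3, 4, 0, 1, 3, 1, 0, 1]), (113, true, [4, 3, 4, 0, 1, 3, 4, 3, 4, 3, 4]), (250, false, [3, 1, 0, 1, 3, 4, 3, 1, 0, 1, 3, 1, 3, 1, 3, 4]), (176, false, [2, 0, 1, 0, 1, 3, 1, 3, 1, 3, 1, 0, 4, 3, 4, 0, 1]),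 (250, false, [0, 1, 0, 4, 0, 4, 0, 4, 0, 4, 3, 1, 3, 4, 0, 4]), (176, false, [3, 1, 0, 4, 3, 4, 0, 1, 3, 1, 3, 1, 3, 1, 0, 1, 3]), (176, true, [0, 4, 0, 4, 3, 4, 3, 1, 0, 4, 0, 4, 3, 4]), (59, false, [1, 0, 4, 3, 4, 3, 4, 3, 4, 0, 1, 3, 4, 3]), (113, true, [4, 3, 4, 0, 1, 3, 4, 3, 4, 3, 4, 0]), (22, false, [1, 3, 1, 3, 1, 0, 1, 3, 1, 3, 4, 3, 4]), (215, true, [0, 1, 0, 1, 0, 1, 0, 1, 0, 2, 4, 3, 4, 3, 1]), (22, false, [4, 3, 4, 3, 1, 0, 4, 0, 4, 3, 4, 3, 1]), (59, true, [3, 1, 3, 4, 0, 1, 0, 1, 3, 1, 0, 4, 0, 1]), (275, false, [0, 4, 3, 4, 0, 1, 0, 1, 3]), (41, true, [0, 1, 3, 4, 3, 4, 3, 1, 0, 1, 3, 4, 3, 1]), (41, true, [0, 1, 3, 1, 0, 1, 0, 4, 0, 4, 0, 4, 0, 1, 3]), (37, false, [4, 3]), (176, true, [1, 2, 0, 4, 3,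 4, 3, 4, 0, 4, 0, 4, 3, 1]), (45, false, [0, 1, 0, 1, 0, 1, 2, 0, 4]), (113, false, [0, 1, 0, 4, 3, 4, 0, 4, 0, 4, 3, 4, 3, 1]), (59, false, [0, 4, 0, 1, 3, 1, 0, 1, 0, 1, 3, 4, 3, 4]), (59, false, [0, 1, 3, 1, 3, 4, 3, 4, 0, 1, 3, 1, 0, 1, 3]), (113, true, [4, 3, 4, 0, 1, 3, 4, 3, 4, 3, 4, 3]), (275, true, [0, 1, 3, 4, 3, 4, 3, 1, 0, 4]), (99, true, [1, 0, 4, 3, 1, 3, 4, 0, 1]), (99, true, [4, 0, 1, 3, 4, 3, 1, 0, 4]), (99, true, []), (176, true, [1, 3, 4, 0, 4, 0, 4, 3, 4, 3, 4, 0, 1]), (59, false, [1, 0, 4, 3, 4, 3, 4, 3, 4, 0, 1, 3, 4]), (59, false, [1, 0, 2, 4, 0, 4, 0, 4, 0, 4, 3, 1, 0, 4]), (215, true, [0, 1, 0, 1, 0, 1, 0, 1, 0, 4, 0, 4, 0, 1]), (215, true, [0, 1, 0, 1, 0, 1, 0, 1, 0, 4, 0, 4, 0, 1, 3]), (59,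 true, [2, 0, 1, 0, 4, 3, 1, 3, 1, 0, 1, 3, 4, 3, 1]), (275, false, [0, 4, 3, 4, 0, 1, 0, 1, 0]), (59, true, [3, 1, 3, 4, 0, 1, 0, 1, 0, 1, 3, 4, 3, 1]), (275, false, [0, 4, 3, 4, 0, 1, 0, 1]), (45, false, [0, 1, 0, 1, 0, 1, 3, 4]), (113, false, [4, 0, 4, 3, 4, 0, 1, 0, 1, 3, 4, 0, 4, 0]), (37, false, [4, 0]), (37, false, [4]), (45, false, [0, 1, 0, 1, 0, 1, 3, 4, 3]), (113, false, [4, 0, 4, 3, 4, 0, 1, 0, 1, 3, 4, 0, 4]), (210, true, [1, 0, 1, 0, 4, 3, 4, 0, 1, 3, 1, 0]), (99, true, []), (210, true, [1, 0, 1, 0, 2, 4, 0, 4, 3, 1, 0, 1, 3]), (99, true, []), (275, true, [0, 1, 3, 4, 3, 4, 3, 1, 0, 4, 0]), (275, true, [0, 1, 3, 4, 3, 4, 3, 1, 0, 4, 3]), (22, true, [0, 4, 3, 1, 0, 1, 0, 1, 0, 4]), (22, true, [0, 2, 4, 0,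 1, 3, 1, 3, 1, 3, 4]), (45, true, [0, 4, 3, 4, 0, 4, 3, 1, 3, 1, 0, 1, 3, 4]), (120, false, [1, 0, 1, 0, 4, 0, 4, 0, 4, 3, 1, 3, 4, 0]), (99, true, [4, 0, 1, 3, 4, 3, 1, 0, 4]), (250, true, [0, 1, 0, 1, 0, 1, 3, 1, 3, 1, 3, 1, 0, 1, 0, 4, 3]), (120, true, [4, 3, 1, 3, 1, 0, 1, 3, 4, 0, 4, 0, 1]), (99, true, [1, 0, 4, 3, 1, 3, 4, 0, 1]), (59, true, [3, 4, 3, 4, 0, 4, 3, 1, 3, 4, 0, 4, 0, 4, 3]), (61, false, [3, 4, 0, 4, 0, 4, 0, 4, 3, 1, 3, 1, 3]), (210, true, [1, 0, 1, 0, 4, 3, 4, 0, 1, 3, 1, 3]), (210, true, [1, 0, 1, 0, 4, 3, 4, 0, 1, 3, 1]), (210, true, [1, 0, 1, 0, 2, 4, 0, 4, 3, 1, 0, 1]), (210, true, [1, 0, 1, 0, 2, 4, 0, 4, 3, 1, 0, 1, 0]), (22, true, [0, 4, 3, 1, 0, 1, 0, 1, 0, 4, 0]), (22, true, [0, 4, 3, 1,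 0, 1, 0, 1, 0, 4, 3]), (22, true, [0, 2, 4, 0, 1, 3, 1, 3, 1, 3, 4, 0]), (22, true, [0, 2, 4, 0, 1, 3, 1, 3, 1, 3, 4, 3]), (45, true, [0, 1, 0, 2, 4, 0, 1, 0, 1, 3, 4, 0, 1, 0, 1]), (45, true, [0, 1, 0, 4, 3, 1, 3, 1, 0, 4, 3, 1, 3, 1]), (120, false, [1, 0, 1, 0, 4, 0, 4, 3, 4, 0, 1, 0, 4]), (120, false, [1, 0, 1, 0, 4, 0, 4, 0, 4, 3, 1, 3, 4]), (250, true, [0, 1, 0, 1, 0, 1, 3, 1, 3, 1, 3, 1, 0, 1, 0, 4]), (250, true, [0, 1, 0, 1, 0, 1, 2, 0, 1, 0, 1, 0, 1, 3, 1, 3, 4]), (120, true, [1, 0, 4, 0, 1, 3, 1, 3, 1, 0, 1, 3, 1]), (120, true, [1, 0, 2, 4, 3, 1, 0, 1, 0, 1, 3, 1, 0, 1]), (59, true, [3, 4, 3, 4, 0, 4, 3, 1, 3, 4, 0, 4, 0, 4]), (59, true, [2, 0, 4, 0, 4, 0, 4, 3, 1, 3, 4, 0, 4, 3, 4]), (61, false, [3, 4, 0, 4,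 0, 4, 0, 4, 3, 1, 3, 1]), (61, false, [2, 0, 4, 3, 4, 3, 4, 3, 4, 0, 1, 0, 1]), (37, true, [0, 4, 3, 1, 3, 4, 0, 1, 0]), (210, true, [1, 0, 1, 0, 4, 3, 4, 0, 1, 3, 1, 3]), (210, true, [1, 0, 1, 0, 2, 4, 0, 4, 3, 1, 0, 1, 0]), (37, true, [0, 4, 3, 1, 3, 4, 0, 1, 3]), (61, true, [2, 0, 1, 0, 1, 0, 1, 3, 1, 0, 4]), (61, true, [3, 1, 3, 1, 3, 1, 0, 1, 3, 4]), (210, true, [1, 0, 1, 0, 2, 4, 0, 4, 3, 1, 0, 1]), (210, true, [1, 0, 1, 0, 4, 3, 4, 0, 1, 3, 1]), (210, true, [1, 0, 1, 0, 2, 4, 0, 4, 3, 1, 0, 1, 3]), (210, true, [1, 0, 1, 0, 4, 3, 4, 0, 1, 3, 1, 0]), (37, true, [0, 4, 3, 1, 3, 4, 0, 1]), (61, true, [3, 1, 3, 1, 3, 1, 0, 1, 3, 4, 0])]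
def r100 : List (ℕ × Bool × List ℕ) := [(168, true, [1, 0, 1, 2, 0, 4, 0, 1, 3, 1, 3, 4, 0, 4, 3, 1]), (199, true, [0, 2, 4, 0, 1, 0, 4, 3, 4, 0, 1, 0, 1]), (36, false, [0, 1, 0, 1, 0, 4, 3, 1, 3, 1, 0, 4, 3]), (100, true, []), (7, true, [0, 2, 4, 0, 1, 3, 1, 0, 1, 3, 4, 0, 1]), (168, false, [0, 2, 4, 3, 4, 3, 4, 0, 4, 3, 4, 0, 1, 0, 4]), (12, false, [1, 3, 4, 0, 1, 3, 1, 0, 1, 0, 1, 3, 4, 3]), (278, false, [1, 2, 0, 4, 0, 1, 3, 1, 0]), (217, false, [0, 1, 3, 1, 0, 1, 3, 1, 0, 1, 3, 1, 3, 1]), (3, false, [0, 1, 3, 4, 0, 4, 3, 1, 0, 1, 0]), (172, true, [2, 4, 3, 1, 0, 1, 0, 1, 3, 4, 0, 1, 3, 1, 3]), (83, false, [1, 0, 1, 2, 0, 1, 0, 4, 3, 4, 3, 4, 3, 1]), (199, true, [2, 4, 0, 1, 0, 4, 3, 4, 0, 1, 3, 1, 3, 1, 3, 4, 0]),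 (59, true, [4, 3, 1, 0, 1, 0, 1, 3, 1, 3, 1, 3, 1, 0, 1]), (103, true, [3, 4, 3, 4, 0, 4, 3, 4, 3, 4, 0, 1, 3, 1, 0, 4]), (114, false, [4, 0, 4, 3, 4, 3, 4, 0, 1, 0, 1]), (94, false, [1, 2, 0, 4, 3, 4, 0, 4, 3, 4, 0, 4, 0]), (113, false, [1, 3, 4, 0, 4, 3, 4, 3, 1, 0, 4, 0, 4, 0, 4]), (275, false, [1, 0, 1, 2, 0, 1, 0, 4, 3, 4, 3, 1]), (36, false, [0, 1, 0, 1, 0, 1, 3, 4, 3, 4, 0, 1, 3, 4, 3]), (36, false, [3, 4, 3, 1, 0, 4, 0, 4, 0, 4, 0, 1]), (241, false, [0, 2, 4, 0, 4, 0, 4, 3, 4, 3]), (129, true, [4, 0, 1, 3, 4, 3, 4, 0, 1, 0, 1, 3]), (199, true, [2, 0, 4, 3, 1, 0, 1, 0, 1, 0, 4, 3, 1, 3, 4, 0, 4]), (7, true, [3, 4, 3, 4, 0, 1, 3, 1, 0, 1, 0, 1, 3, 4, 3]), (94, false, [0, 1, 3, 4, 3, 4, 0, 1, 3, 1, 3, 4]), (25, true,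 [3, 4, 3, 1, 0, 4, 0, 4, 3, 4, 0, 1, 0, 1]), (100, true, []), (7, true, [4, 0, 4, 3, 4, 0]), (7, true, [2, 4, 0, 4, 3, 4, 0, 1, 3, 1, 3, 4, 3, 4, 0]), (103, true, [0, 2, 4, 3, 1, 3, 1, 3, 4, 0, 1, 0]), (85, true, [0, 4, 0, 4, 3, 1, 0, 1, 3, 1, 3, 1, 0, 4]), (114, false, [2, 4, 3, 4, 0, 1, 3, 1, 3, 4, 0, 1, 0, 1]), (25, true, [0, 1, 3, 4, 3, 4, 0, 1, 0, 1, 3, 1, 3, 1, 3]), (176, false, [0, 1, 0, 1, 2, 0, 1, 3, 1, 0, 1, 3, 4, 3]), (3, false, [3, 1, 3, 1, 3, 1, 3, 4, 3, 4, 0, 1, 3, 1, 3, 1]), (241, false, [1, 0, 4, 3, 4, 3, 4, 3, 4, 0, 1, 0, 1, 3, 1]), (217, false, [4, 0, 1, 3, 4, 3, 1, 0, 1, 0, 1, 0, 4]), (25, true, [3, 4, 0, 4, 0, 1, 3, 1, 3, 1]), (168, false, [4, 0, 4, 3, 4, 3, 1, 0, 4, 3, 4, 3, 1, 3]), (80, true, [2,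 0, 1, 0, 1, 3, 4, 0, 1, 0, 1, 0]), (217, false, [1, 2, 0, 4, 3, 1, 3, 1, 3, 1, 0, 1, 3, 4, 3]), (168, true, [0, 1, 0, 2, 4, 0, 4, 3, 1, 0, 1, 3]), (75, true, [0, 4, 3, 4, 0, 4, 3, 1, 0, 1, 0, 1, 3]), (85, true, [2, 4, 3, 1, 3, 4, 0, 4, 3, 4, 0, 4, 3, 1]), (36, false, [3, 1, 3, 1, 0, 1, 3, 4, 3, 4, 0, 1, 0]), (145, true, [3, 4, 3, 1, 0, 4, 3, 4, 3, 4, 0, 1, 3]), (168, true, [0, 1, 0, 2, 4, 0, 4, 3, 1, 0, 1, 3]), (168, false, [1, 0, 1, 3, 1, 3, 1, 0, 4, 0, 4, 3, 4, 0, 1]), (18, true, [0, 1, 2, 0, 4, 3, 4, 3, 1, 0]), (168, false, [3, 1, 0, 4, 0, 4, 0, 4, 3, 1, 3]), (18, true, [0, 1, 0, 1, 3, 4, 3, 4, 0, 1, 0]), (265, false, [3, 4, 3, 4, 3, 1, 0, 1, 3, 1, 3]), (176, false, [1, 3, 4, 3, 4, 0, 1, 3, 1, 3, 4]), (59, false, [1,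 0, 4, 0, 1, 3, 1, 3, 1, 3, 4, 0]), (36, false, [0, 1, 0, 4, 3, 4, 3, 4, 0, 4, 0, 4, 0, 4, 0]), (85, true, [2, 0, 1, 3, 1, 0, 4]), (172, true, [0, 1, 0, 1, 3, 1, 3, 1, 3, 1, 0, 1, 0]), (275, false, [0, 4, 0, 1, 0, 1, 0, 1, 3, 1, 3, 1, 3, 1]), (3, false, [0, 1, 0, 1, 0, 4, 3, 4, 0, 4, 3, 4, 3]), (80, true, [0, 1, 0, 1, 3, 4, 0, 1, 0, 1, 0]), (103, false, [0, 1, 2, 0, 1, 0, 4, 3, 4, 3, 4]), (59, false, [1, 0, 1, 3, 4, 0, 1, 3, 1, 0, 1, 0, 1]), (174, true, [0, 1, 3, 4, 0, 4, 0, 4, 0, 4, 3, 1, 3, 1]), (145, true, [1, 0, 1, 0, 1, 3, 4, 0, 4, 0, 4, 3, 1]), (278, false, [4, 0, 4, 3, 4, 0, 4, 0, 1, 3, 1, 0, 1]), (145, true, [3, 4, 3, 4, 3, 4, 0, 4, 0, 1, 3, 1, 0]), (168, false, [0, 4, 3, 4, 3, 4, 0, 4, 3, 4, 0, 1, 0, 4]), (172,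 true, [4, 3, 4, 3, 4, 0, 4, 3, 4, 0, 4, 3, 4, 3, 4, 0, 1]), (168, true, [4, 0, 1, 0, 1, 3, 1, 0, 1, 3, 4, 0]), (199, true, [3, 4, 0, 1, 3, 1, 3, 1, 3, 4, 3, 4]), (278, false, [0, 2, 4, 3, 4, 0, 1, 0, 4]), (103, false, [3, 4, 3, 4, 0, 4, 0, 4, 0, 4, 3, 1, 0, 1]), (85, true, [3, 1, 0, 4, 0, 4, 0, 4, 3, 1, 0, 1, 0, 4, 0, 4]), (241, false, [2, 0, 1, 3, 1, 0, 4, 3, 4, 0, 4, 0, 4, 3]), (199, true, [0, 4, 0, 4, 3, 4, 3, 1, 0, 1, 3, 1, 0, 1, 0]), (12, false, [4, 0, 4, 0, 4, 3, 4, 0]), (113, false, [0, 2, 4, 3, 1, 0, 4, 0, 4, 0, 1, 3, 4, 3, 1]), (25, true, [1, 0, 2, 4, 3, 4, 3, 1, 0, 4, 0, 4, 0, 1, 3]), (36, false, [0, 4, 0, 1, 3, 4, 3, 1, 0, 1, 3, 1, 3]), (75, true, [4, 0, 1, 3, 1, 3, 1, 3, 1, 0, 1, 0, 4, 0, 4, 3]), (172, true,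 [2, 4, 0, 1, 0, 4, 3, 4, 0, 1, 3, 4, 3, 4, 0, 1]), (75, true, [2, 4, 3, 4, 3, 1, 3]), (172, true, [3, 4, 0, 4, 3, 1, 3, 1, 0, 4, 3]), (7, true, [0, 4, 0, 4, 3, 4, 3, 1, 0, 1, 3, 4, 0, 1, 0, 1]), (168, true, [4, 0, 1, 0, 1, 3, 1, 0, 1, 3, 4, 0]), (100, true, []), (83, false, [2, 4, 0, 1, 3, 4, 3, 4, 0, 1, 3, 4]), (80, true, [1, 3, 1, 0, 1, 0, 4, 3, 1, 3, 1, 0, 1, 3]), (25, true, [2, 0, 4, 3, 1, 0, 1, 0, 1, 3, 1, 3, 1]), (59, false, [1, 3, 4, 0, 1, 3, 1, 3, 1, 0, 1, 0, 1, 3, 1, 0]), (176, false, [1, 3, 1, 3, 4, 0, 4, 3, 1, 0, 4, 0, 4, 0, 4]), (103, true, [1, 3, 4, 3, 4, 0, 1, 0, 1, 3]), (85, true, [3, 1, 0, 4, 3, 4, 0, 4]), (59, true, [0, 4, 0, 4, 3, 4, 0, 1, 3, 1, 0, 4]), (83, false, [3, 4, 3, 4, 0, 1, 0, 1, 0, 1]), (59,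 true, [2, 0, 1, 0, 1, 3, 4, 0, 1, 3, 1, 0]), (7, true, [0, 2, 4, 3, 1, 3, 1, 3, 4, 3, 4, 3, 4, 0, 1, 0, 1]), (172, true, [0, 1, 2, 0, 1, 3, 1, 0, 4, 3, 1, 3, 1, 0, 4, 0]), (168, true, [1, 0, 1, 2, 0, 4, 0, 1, 3, 1, 3, 4, 0, 4, 3, 1]), (168, false, [2, 4, 0, 4, 3, 4, 0, 4, 3, 4, 3, 4, 0, 4, 3]), (275, false, [3, 4, 0, 4, 0, 4, 0, 1, 3, 4, 0, 4, 0, 4, 3, 4]), (25, true, [0, 1, 2, 0, 4, 3, 1, 3, 1, 3, 1, 3]), (199, true, [1, 3, 4, 3, 1, 0, 4, 3, 4, 3, 4, 3]), (160, true, [2, 0, 1, 3, 4, 3, 1]), (103, false, [0, 1, 0, 4, 0, 4, 3, 1, 0, 1, 0, 4]), (113, false, [1, 0, 4, 0, 4, 3, 1, 0, 1, 0, 1, 0, 4, 0]), (12, false, [3, 4, 3, 4, 0, 1, 3, 1, 3, 1, 0, 1, 3, 4, 3]), (85, true, [2, 0, 1, 3, 4, 3, 4, 3, 4, 0, 1, 3, 1, 0, 4, 0,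 4]), (94, false, [0, 1, 3, 1, 3, 4, 0, 4, 3, 1, 0, 4, 0, 4, 0, 4]), (114, false, [2, 0, 4, 0, 4, 3, 4, 0, 1, 3]), (18, true, [4, 3, 1, 3, 1, 3, 1, 3, 1, 0, 4])]
def r101 : List (ℕ × Bool × List ℕ) := [(41, true, [1, 3, 1, 3, 1, 3, 1, 0, 4, 3, 4, 0, 1]), (109, false, [2, 4, 0, 1, 3, 1, 0, 1, 0, 4, 3, 1, 0]), (276, false, [0, 1, 2, 0, 1, 0, 1, 3, 1, 3, 4, 3, 4, 0, 1]), (101, false, [3, 1, 0, 1, 3, 4, 0, 4, 0, 4, 3, 4, 3]), (41, false, [0, 1, 3, 1, 0, 1, 0, 1, 3, 1, 3, 1, 3, 1, 0]), (109, false, [0, 1, 2, 0, 4, 3, 4, 0, 1, 3, 4, 3, 4, 0, 4]), (106, false, [1, 0, 2, 4, 0, 1, 0, 4, 3, 4]), (235, false, [0, 1, 2, 0, 1, 3, 1, 3, 1, 0, 4, 3, 4, 0]), (101, false, [3, 1, 0, 1, 3, 4, 0, 4, 0, 4, 3, 4, 3]), (87, false, [1, 3, 1,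 0, 4, 0, 4, 3, 4, 3, 4, 0, 1]), (41, false, [4, 0, 4, 0, 4, 0, 1, 3, 1, 0, 1, 0, 1, 0]), (276, true, [2, 4, 0, 4, 3, 1, 3, 1, 0, 1, 3, 4, 0, 1]), (109, true, [1, 0, 2, 4, 0, 1, 3, 1, 0, 1, 0, 1, 3, 4, 3, 4]), (276, true, [0, 2, 4, 3, 4, 0, 4, 0, 4, 3, 1, 0, 1, 0, 4, 0, 4]), (72, false, [0, 1, 0, 1, 3, 1, 3, 4, 0, 4, 0, 4, 0, 4, 3, 4]), (106, false, [0, 1, 2, 0, 4, 0, 4, 3, 4, 0, 1, 0, 1, 3]), (86, true, [1, 0, 4, 3, 4, 0, 1, 3, 1, 3, 4, 3, 4, 3]), (86, true, [1, 0, 1, 3, 1, 0, 1, 3, 4, 0, 1]), (106, false, [1, 2, 0, 1, 3, 4, 0, 1, 0, 1, 3, 4, 0, 1, 0]), (72, true, [4, 0, 4, 0, 4, 0, 4, 0, 1, 0]), (211, true, [0, 4, 3, 4, 0, 4, 3, 1, 3, 4, 0, 4, 0, 4, 0, 4]), (71, false, [1, 3, 4, 3, 1, 0, 1, 0, 1, 3, 4, 0, 1]), (235,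 true, [2, 4, 0, 1, 0, 1, 3, 1, 3, 4, 0, 1, 0, 1]), (235, true, [0, 1, 0, 1, 2, 0, 1, 3, 1, 0, 1, 3, 4, 3, 4, 3, 1, 0]), (225, true, [0, 1, 0, 1, 0, 1, 2, 0, 1, 0, 4, 0, 4, 3, 1, 0, 4]), (225, false, [0, 2, 4, 3, 1, 3, 1, 3, 1, 3, 1, 3]), (71, false, [1, 0, 4, 0, 4, 0, 1, 3, 4, 3, 4, 0, 1, 0]), (200, true, [1, 0, 2, 4, 3, 4, 0, 4, 3, 1, 3, 4, 0, 4, 0, 4, 0]), (155, true, [0, 1, 2, 0, 4, 3, 1, 0, 1, 0, 4, 0, 4, 3]), (86, false, [1, 0, 4, 0, 4, 3, 4, 0, 1, 3, 1, 3]), (200, true, [2, 4, 3, 4, 3, 1, 0, 4, 3, 4, 3, 4, 0, 1, 0]), (106, false, [0, 1, 0, 2, 4, 0, 4, 3, 1, 3, 1, 0, 4, 0, 1]), (215, false, [1, 0, 4, 0, 1, 3, 4, 3, 4, 0, 1, 0, 1, 3, 1, 3]), (109, true, [0, 1, 0, 1, 2, 0, 1, 0, 1, 3]), (106, false, [0, 1, 2, 0, 4,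 3, 4, 3, 4, 0, 1, 3, 4, 0]), (101, false, [0, 1, 0, 4, 0, 4, 0, 4, 0, 1]), (109, true, [0, 2, 4, 3, 1, 0, 1, 0, 4, 3, 4, 3, 1, 0, 1, 3]), (72, false, [4, 0, 1, 0, 1, 0, 4, 3, 4, 0, 4, 0, 4, 3]), (101, true, [3, 1, 0, 4, 3, 4, 0, 1, 3, 1, 3, 1]), (41, false, [0, 1, 3, 1, 3, 1, 0, 1, 0, 1, 3, 1, 0, 4]), (106, true, [0, 2, 4, 3, 4, 0, 4, 3, 4, 0, 4, 3, 1]), (87, true, [1, 3, 4, 0, 4, 3, 4, 0, 4, 3, 4, 3, 4, 0, 1, 0]), (41, true, [4, 3, 1, 0, 1, 0, 1, 3, 4, 3, 1, 0, 4, 0]), (215, true, [1, 2, 0, 1, 0, 1, 3, 1, 0, 1, 3, 4, 0, 4, 0, 4]), (215, true, [0, 1, 0, 1, 2, 0, 4, 3, 1, 0, 1, 0]), (87, false, [0, 1, 0, 4, 3, 4, 0, 1, 3, 1, 0, 1]), (109, false, [2, 0, 1, 0, 1, 3, 1, 3, 4, 0, 1, 0, 1, 3, 4, 3, 1]), (46, false, [1, 0, 1,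 2, 0, 1, 0, 4, 3, 1, 3, 1]), (46, true, [2, 4, 0, 4, 3, 1, 0, 1, 3, 4, 3, 4, 0, 4, 0]), (225, true, [0, 1, 0, 1, 2, 0, 4, 0, 4, 3, 4, 0]), (101, false, [0, 4, 3, 4, 0, 4, 3, 4, 0, 4, 3, 1]), (46, true, [1, 2, 0, 4, 3, 4, 3, 4, 0, 1, 3, 1, 3, 1]), (211, false, [3, 4, 3, 4, 0, 1, 3, 1, 0, 1, 3, 1]), (72, false, [1, 0, 1, 0, 4]), (101, false, [0, 4, 3, 4, 0, 4, 3, 4, 0, 4, 3, 1]), (87, true, [1, 3, 4, 3, 4, 0, 4, 3, 4, 0, 4, 3, 4, 3, 4]), (86, true, [0, 4, 3, 1, 3, 1, 0, 4, 0, 4, 3, 1, 0, 4]), (215, false, [4, 3, 4, 0, 4, 3, 4, 3, 4, 3, 1, 0]), (106, true, [2, 4, 3, 1, 3, 1, 0, 1, 3, 4]), (155, true, [1, 0, 2, 4, 3, 1, 0, 1, 3, 4, 0, 1, 0, 4]), (71, true, [0, 4, 0, 1, 3, 4, 0, 4, 0, 4, 3, 1, 3, 4]), (276, false, [2, 4, 3,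 1, 3, 4, 0, 4, 0, 4, 3, 4, 3, 1, 0]), (106, false, [2, 0, 4, 3, 4, 0, 1, 0, 1, 0, 4, 0, 4, 3, 1]), (71, true, [3, 4, 0, 4, 3, 1, 0, 1, 0, 1, 3, 1, 3, 1, 0, 4, 3]), (109, false, [1, 2, 0, 1, 3, 1, 3, 1, 0, 4, 3, 1, 0, 1, 3]), (106, true, [1, 2, 0, 1, 3, 1, 3, 4, 3, 4, 0, 4]), (235, false, [2, 4, 3, 1, 3, 1, 0, 4, 3, 4, 3, 4, 0, 4, 0, 4]), (106, true, [1, 0, 2, 4, 3, 1, 0, 1, 0, 1, 3, 1, 3, 4, 3]), (215, true, [0, 2, 4, 0, 1, 3, 1, 3, 4, 3, 4, 0, 4, 0, 4, 0]), (101, false, [1, 3, 1, 0, 4, 3, 1, 0, 1]), (109, false, [0, 2, 4, 0, 1, 3, 4, 3, 1, 0, 1, 0, 4, 0, 4]), (106, false, [1, 0, 1, 0, 1, 0, 1, 0, 1, 0, 1, 0, 1, 2]), (46, true, [0, 2, 4, 0, 4, 3, 4, 0, 4, 3, 4, 3, 1, 0, 1]), (41, true, [1, 0, 1, 3, 1, 3, 4, 0, 4, 0, 1,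 3, 1]), (109, true, [2, 0, 1, 0, 1, 0, 1, 3, 4, 3, 1, 0, 4, 0]), (235, false, [2, 4, 3, 1, 3, 1, 3, 4, 3, 4, 0, 1, 3, 1, 3, 4]), (72, true, [0, 1, 3, 4, 3, 1, 0, 4, 3, 4, 0, 4, 3, 4]), (106, true, [0, 1, 0, 1, 2, 0, 1, 0, 1, 3, 1, 0, 1, 0, 4]), (71, true, [1, 0, 1, 0, 1, 0, 1, 0, 4, 0, 4, 3]), (155, true, [1, 0, 2, 4, 3, 1, 0, 1, 3, 4, 0, 1, 0, 4]), (200, false, [2, 0, 1, 3, 1, 0, 4, 3, 4, 0, 1, 3]), (200, true, [1, 0, 2, 4, 0, 1, 3, 1, 0, 4, 3, 1, 3, 4]), (101, false, [0, 1, 0, 4, 0, 4, 0, 4, 0, 1]), (276, true, [0, 2, 4, 0, 1, 0, 1, 0, 4, 0, 4, 0, 4, 3, 1, 0]), (46, false, [2, 0, 1, 0, 1, 3, 1, 0, 1, 0, 1, 3, 1, 0]), (86, false, [1, 3, 1, 0, 1, 3, 4, 0, 4, 0, 4, 3, 4, 3, 1, 0]), (46, false, [2, 0, 1, 3, 1, 0, 1, 0,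 1, 3, 4, 0, 4, 0, 4]), (86, false, [0, 4, 0, 1, 0, 1, 3, 4, 3, 1, 0, 1, 3, 4, 3]), (109, true, [0, 1, 0, 2, 4, 0, 1, 0, 4, 3, 4, 0, 1, 3, 4, 0]), (109, false, [1, 2, 0, 4, 0, 4, 3, 4, 3, 4, 0, 1, 3, 1, 3]), (155, true, [0, 1, 2, 0, 4, 3, 1, 0, 1, 0, 4, 0, 4, 3]), (225, false, [1, 2, 0, 1, 3, 1, 3, 1, 0, 1, 3, 4, 0, 1, 0]), (211, true, [0, 4, 0, 4, 0, 4, 3, 1, 0, 1, 0, 4]), (225, false, [0, 1, 0, 1, 0, 1, 2, 0, 1, 0, 1, 3, 1, 0, 1, 3, 4, 3, 1]), (200, false, [1, 2, 0, 4, 0, 4, 3, 1, 0, 1, 0, 1, 3, 1]), (225, true, [2, 0, 1, 3, 4, 3, 4, 3, 1, 0, 1, 3, 1, 0, 1, 3]), (72, true, [3, 1, 0, 1, 3, 1, 0, 1, 3, 4, 3, 4, 0]), (87, true, [4, 3, 4, 0, 4, 0, 1, 3, 4, 3, 4, 3, 1, 3]), (211, false, [0, 1, 0, 1, 0, 1, 0, 1, 3, 1, 3, 1,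 0, 4]), (215, false, [0, 1, 0, 4, 3, 1, 0, 1, 0, 4, 0, 4, 3, 1]), (235, true, [0, 1, 2, 0, 4, 0, 1, 3, 1, 3, 4, 0, 1, 3, 1, 3, 4]), (71, false, [0, 4, 3, 1, 3, 4, 0, 4, 0, 4, 3, 4, 0, 1, 3]), (109, true, [2, 0, 4, 0, 1, 0, 1, 0, 4, 0, 4, 3, 1, 3, 1]), (101, false, [0, 1, 0, 1, 3, 4, 0, 4, 0, 1, 3, 4]), (276, false, [2, 0, 4, 3, 1, 0, 1, 3, 1, 0, 1, 3, 4, 3]), (87, false, [3, 4, 0, 4, 3, 4, 0, 4, 3, 1, 0, 1, 0, 4, 3]), (155, false, [2, 0, 1, 0, 4, 3, 4, 0, 1, 0]), (101, false, [1, 3, 1, 0, 4, 3, 1, 0, 1]), (155, false, [2, 0, 1, 0, 4, 3, 4, 0, 1, 0]), (211, true, [2, 4, 3, 1, 3, 1, 3, 4, 0, 4, 3, 1, 3]), (211, false, [1, 3, 4, 0, 4, 3]), (200, false, [1, 0, 2, 4, 0, 4, 3, 4, 3, 4, 0, 4, 0, 1, 0])]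
def r102 : List (ℕ × Bool × List ℕ) := [(121, false, [1, 0, 1, 0, 1, 3, 4, 3, 4, 0, 4, 0, 1]), (115, false, [2, 4, 3, 4, 3, 4, 0, 4, 3, 1, 3, 4, 0, 1]), (88, false, [2, 4, 0, 4, 0, 1, 3, 1, 0, 4, 0, 4, 0, 4, 3]), (23, true, [2, 0, 4, 3, 1, 3, 1, 0, 4, 3, 1, 0, 1]), (166, false, [3, 4, 0, 1, 3, 4, 0, 4, 0, 4, 0, 4, 3, 1, 0, 1]), (121, true, [3, 1, 3, 1, 0, 1, 0, 1, 3, 4, 0, 4, 0]), (115, false, [4, 3, 4, 3, 4, 3, 1, 0, 1, 0, 4]), (193, false, [0, 2, 4, 3, 1, 0, 4, 3, 4, 3, 4, 0, 4, 3, 1, 3, 4]), (88, true, [1, 3, 1, 0, 4, 0, 4, 3, 1, 0]), (47, false, [4, 3, 4, 3, 4, 0, 1, 0, 1, 3, 1]), (276, true, [2, 4, 0, 1, 3, 1, 0, 1, 0, 4, 0, 4, 0, 4, 0]), (68, false, [0, 1, 0, 1, 0, 4, 0, 4, 3, 1, 0, 1, 0, 1, 3, 1]), (110, true,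 [0, 4, 3, 4, 3, 4, 0, 4, 3, 1, 3, 1, 3, 4, 0]), (63, false, [0, 1, 3, 4, 3, 4, 3, 1, 0, 4, 3]), (158, true, [0, 2, 4, 3, 1, 0, 4, 3, 4, 0, 4, 3, 1]), (68, true, [2, 0, 1, 0, 4, 3, 1, 3, 1, 0, 1, 3, 4, 3, 1, 0, 4]), (71, false, [4, 3, 4, 0, 4, 0, 1, 3, 4, 3, 4, 0, 4, 3, 1, 0]), (109, true, [4, 3, 4, 0, 4, 0, 1, 3, 1, 0, 4, 3, 4, 0]), (115, false, [0, 1, 3, 4, 3, 4, 3, 4, 0, 1, 0, 1]), (61, false, [0, 1, 2, 0, 4, 0, 1, 3, 4, 3, 4, 0, 4, 0, 4]), (96, true, [1, 0, 1, 2, 0, 1, 0, 1, 3, 4, 0, 4, 3, 1, 0, 1]), (272, true, [1, 3, 4, 3, 4, 3, 4, 0, 4, 0, 4, 3, 1, 3, 1]), (110, true, [0, 2, 4, 0, 1, 0, 1, 0, 1, 3, 4, 0, 4, 3, 1]), (178, false, [0, 1, 2, 0, 1, 0, 4, 0]), (109, false, [1, 2, 0, 4, 3, 1, 3, 1, 3, 1, 0, 4, 3, 4]),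 (179, true, [1, 2, 0, 1, 0, 1, 3, 1, 3, 1, 3, 4, 0, 4, 3, 1, 0]), (266, true, [1, 2, 0, 4, 3, 1, 0, 1, 0, 1, 0, 4, 3, 4]), (62, false, [0, 1, 3, 1, 0, 1, 0, 4, 3, 1]), (209, false, [2, 4, 3, 1, 3, 4, 0, 1, 3, 1, 3, 1, 0, 4]), (166, true, [2, 4, 0, 1, 0, 1, 3, 1, 3, 1, 0, 1, 0, 1]), (179, false, [2, 0, 4, 3, 1, 0, 1, 3, 4, 0, 4, 3, 4]), (158, true, [0, 4, 0, 1, 0, 1, 0, 4, 3, 4, 0, 1, 0, 1, 0, 4]), (267, true, [1, 3, 4, 3, 4, 0, 1, 3, 1, 3, 1, 3]), (23, false, [0, 4, 0, 1, 3, 4, 0, 4, 0, 4, 3, 4]), (203, true, [1, 2, 0, 1, 3, 4, 0, 4, 0, 4, 0, 1, 3, 1, 0, 1]), (126, false, [2, 4, 0, 1, 3, 1, 0, 1, 3, 1, 3, 1, 3, 4, 0, 4]), (276, false, [4, 0, 1, 0, 1, 0, 4, 0, 4, 3, 4, 0, 4]), (20, false, [0, 1, 0, 1, 0, 1, 3, 1, 3, 1,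 0, 1, 3]), (136, true, [0, 4, 3, 4, 3, 1, 0, 1, 0, 1, 0, 4]), (236, true, [3, 1, 0, 1, 3, 1, 0, 1, 3, 1, 3, 1, 0, 1, 3]), (178, false, [4, 3, 1, 3, 1, 0, 1, 0, 1, 0, 1, 3, 1, 3, 4]), (109, true, [2, 4, 0, 1, 0, 1, 0, 4, 3, 1, 0, 1, 0, 4, 3, 4, 0]), (214, true, [1, 0, 2, 4, 0, 4, 3, 4, 3, 1, 0, 1, 0]), (127, true, [1, 2, 0, 1, 0, 4, 0, 4, 3, 1, 0, 4, 0, 4, 3, 1, 3]), (109, true, [0, 4, 0, 1, 0, 1, 3, 4, 0, 4, 0, 4, 3, 4, 3]), (193, true, [2, 0, 4, 0, 1, 3, 4, 3, 4, 0, 4, 3, 1, 0]), (127, false, [1, 0, 1, 0, 1, 0, 4, 0, 4, 3, 4, 0, 1, 0]), (126, false, [4, 3, 1, 3, 4, 0, 4, 3, 4, 0, 4, 3, 1, 3]), (96, false, [2, 4, 0, 1, 0, 4, 3, 1, 3, 1, 3, 1, 0, 4, 3, 4]), (214, true, [0, 1, 3, 1, 3, 4, 0, 4, 3, 1, 3, 1, 3, 1, 0, 1]),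 (193, true, [0, 1, 0, 1, 3, 4, 0, 4, 3, 1, 0, 4]), (136, false, [0, 1, 3, 1, 0, 1, 3, 4, 0, 1, 3]), (158, false, [3, 4, 0, 1, 0, 1, 0, 1, 3, 4, 0, 4, 3, 1, 0]), (62, true, [1, 3, 1, 3, 1, 0, 1, 0, 1, 3]), (272, true, [1, 3, 4, 3, 4, 3, 4, 0, 4, 0, 4, 3, 1, 3, 1]), (20, true, [0, 1, 0, 4, 3, 1, 0, 1, 0, 4, 0, 4, 3, 1, 0, 1]), (162, true, [1, 0, 1, 0, 4, 0, 4]), (272, true, [2, 0, 1, 0, 1, 3, 1, 0, 1, 3, 4, 3, 4]), (194, false, [2, 4, 0, 1, 3, 1, 0, 1, 0, 1, 3, 4, 3]), (110, false, [4, 3, 4, 3, 4, 3, 4, 0, 4, 0, 4]), (109, false, [0, 1, 2, 0, 1, 0, 1, 3, 4, 0, 1, 0, 1, 0, 1, 3]), (71, true, [0, 1, 2, 0, 4, 0, 4, 3, 4, 3, 4, 3, 4, 0, 1]), (96, true, [1, 0, 1, 0, 1, 3, 4, 0, 4, 0, 4, 3, 4, 3]), (214, false, [0, 4, 3, 4, 3,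 1, 0, 4, 3, 4, 3, 1, 0, 1, 3]), (23, false, [0, 1, 2, 0, 1, 0, 1, 3, 4, 0, 1, 0, 1, 3, 1]), (194, true, [4, 0, 1, 0, 4, 3, 4, 3, 4, 3, 4, 0, 4, 3]), (193, true, [0, 4, 0, 4, 0, 1, 3, 4, 3, 4, 0]), (178, true, [2, 0, 4, 3, 1, 3, 1, 0, 4, 0, 4, 3, 1, 0]), (94, true, [1, 3, 4, 0, 4, 0, 1, 3, 4, 3, 4, 0, 1, 0, 4]), (126, true, [0, 1, 0, 1, 3, 4, 0, 4, 0, 4, 0, 1, 3, 4, 0, 4, 0]), (276, false, [2, 0, 1, 3, 1, 3, 4, 0, 4, 3, 4, 3, 4]), (236, false, [2, 4, 0, 4, 0, 4, 3, 4, 0, 1, 3, 1]), (68, false, [2, 0, 1, 0, 1, 0, 1, 3, 1]), (158, false, [2, 4, 3, 1, 0, 1, 0, 4, 0, 4, 0, 4, 3, 1, 3]), (109, false, [1, 3, 4, 3, 4, 0, 1, 3, 1, 3, 1]), (266, false, [0, 4, 3, 1, 3, 1, 3, 4, 3, 4, 3, 1]), (88, false, [0, 1, 0, 1, 0, 1, 0, 4,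 0]), (126, true, [0, 1, 2, 0, 1, 0, 4, 0, 4, 3, 1, 0, 4]), (178, true, [3, 4, 0, 1, 3, 4, 3, 1, 0]), (23, true, [3, 1, 3, 4, 0, 1, 3, 1, 3, 4, 3]), (94, false, [1, 3, 1, 0, 4, 3, 4, 0, 1, 3]), (61, true, [0, 4, 3, 1, 3, 4, 0, 1, 3, 1, 3, 1, 0, 1, 3, 1]), (62, true, [0, 2, 4, 0, 4, 0, 4, 0, 1, 3, 4, 0, 4, 0, 1]), (96, false, [4, 0, 4, 3, 1, 0, 1, 0, 1, 3, 1, 3, 4, 3, 4, 3]), (209, false, [0, 1, 0, 1, 0, 1, 0, 4, 3, 4, 0]), (127, true, [3, 4, 3, 1, 0, 1, 3, 4, 3]), (236, true, [0, 1, 2, 0, 1, 3, 1, 3, 4, 3, 4]), (109, true, [2, 4, 0, 1, 3, 4, 3, 4, 0, 4, 3, 1, 0, 4]), (60, false, [0, 1, 0, 4, 3, 4, 3, 4, 3, 1, 0, 1, 3, 1]), (214, false, [0, 2, 4, 0, 1, 0, 1, 3, 4, 3, 1, 0, 1, 3, 1, 3, 1]), (115, true, [0, 2, 4, 3, 1, 3,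 1, 0, 1, 3, 1, 0, 1]), (110, false, [1, 2, 0, 4, 0, 4, 0, 1, 3, 1, 0, 1, 3]), (63, true, [3, 1, 3, 1, 0, 1, 3, 4, 3, 1, 0, 1, 0, 1]), (71, true, [1, 3, 1, 3, 1, 3, 1, 0, 1, 0, 1, 0, 1, 3, 1]), (209, false, [0, 2, 4, 0, 1, 0, 4, 3, 4, 0]), (179, false, [3, 4, 3, 4, 3, 1, 0, 1, 3, 4, 3, 4, 0, 1]), (179, true, [0, 4, 3, 1, 0, 1, 0, 1, 0, 1, 3, 1, 3, 1, 0, 4]), (71, false, [1, 0, 1, 0, 2, 4, 3, 4, 3, 4, 0, 4, 3, 1, 0, 4]), (62, false, [0, 4, 0, 4, 3, 4, 3, 1, 0, 1, 0, 4, 3, 1]), (47, true, [1, 0, 2, 4, 3, 4, 0, 1, 3, 4, 3, 4, 0, 1]), (127, false, [2, 4, 0, 1, 3, 1, 3, 1, 0, 4, 3, 1, 3, 1, 3, 1]), (272, true, [2, 0, 1, 0, 1, 3, 1, 0, 1, 3, 4, 3, 4]), (236, false, [0, 1, 3, 4, 0, 4, 3, 1, 3, 1, 0, 4, 0, 4, 3, 1]), (203, false,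 [0, 2, 4, 3, 4, 0, 4, 3, 1, 0, 4]), (209, false, [1, 3, 1, 3, 4, 0, 1, 3, 1, 3, 1]), (267, false, [2, 0, 1, 0, 4, 0, 4, 0, 4, 0, 1, 3, 4, 0]), (60, true, [1, 3, 1, 0, 1, 3, 1, 0, 4, 3, 4, 3, 1]), (276, true, [0, 1, 3, 4, 3, 4, 3, 4, 0, 1, 3, 1, 0, 4]), (162, true, [4, 3, 4, 0, 4, 0, 1, 3, 1, 0, 1, 0]), (68, true, [4, 0, 4, 0, 4, 3, 1, 0, 4, 0, 4, 0, 1]), (109, false, [3, 4, 3, 1, 0, 1, 0, 1, 3, 1, 3, 4, 3, 4, 3]), (88, true, [1, 0, 2, 4, 3, 1, 0])]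
def r103 : List (ℕ × Bool × List ℕ) := [(154, true, [0, 1, 0, 1, 3, 4, 0, 4, 3, 4, 3, 4, 0, 4, 3, 1]), (154, false, [3, 4, 0, 1, 3, 1, 0, 4, 0, 4, 0, 1, 3, 1, 3, 1]), (65, true, [1, 0, 1, 0, 4, 3, 1, 3, 1, 0, 1, 3, 1]), (47, true, [2, 4, 0, 1, 3, 1, 0, 4, 0, 4, 3, 4]), (103, true, []), (254, false, [0, 1, 0, 4, 3, 4, 3, 4, 0, 4, 3, 1, 0, 1, 3]), (278, true, [3, 1, 0, 4, 3, 4, 3, 1, 0]), (248, true, [0, 2, 4, 0, 4, 3, 1, 0, 4, 3]), (73, false, [2, 4, 0, 1, 3, 4, 0, 1, 0, 1, 0]), (110, false, [1, 0, 2, 4, 0, 1, 3, 4, 3, 4, 0, 4, 0]), (154, false, [1, 0, 1, 0, 1, 0, 1, 3, 1, 3, 4, 0, 4]), (199, true, [2, 0, 4, 3, 1, 0, 1, 0, 1, 0, 4, 0, 4, 3]), (154, false, [0, 2, 4, 0, 4, 3, 4, 0, 4, 3, 4, 3, 4, 3, 1, 0, 4]), (28, false,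 [4, 0, 4, 3, 4, 3, 4, 0, 4, 3]), (13, false, [3, 1, 3, 1, 0, 1, 3, 1, 3, 1, 0]), (120, false, [0, 2, 4, 3, 1, 3, 1, 3, 1, 0, 1, 3, 4, 0, 4]), (34, true, [4, 0, 4, 3, 4, 3, 4, 0, 4]), (200, false, [0, 2, 4, 3, 1, 0, 1, 3, 4, 0, 4, 0, 4, 0]), (148, false, [1, 2, 0, 1, 0, 1, 0, 4, 0, 4]), (154, false, [4, 0, 1, 0, 1, 0, 1, 0, 4, 0, 4, 3, 4, 3, 4]), (154, false, [2, 4, 3, 1, 3, 4, 0, 4, 3, 1, 3, 1, 3, 4, 3, 4]), (3, false, [1, 0, 4, 3, 1, 0, 1, 0, 4, 0, 4, 3, 4, 0]), (97, true, [1, 0, 1, 3, 4, 0, 1, 0, 1, 3]), (199, false, [2, 0, 4, 0, 4, 3, 1, 0, 1, 3, 4, 3, 4, 0, 4]), (210, false, [2, 4, 0, 1, 0, 1, 0, 4, 3, 1, 0, 1, 0, 1, 3]), (37, true, [1, 3, 4, 3, 4, 3, 1, 0, 4, 0, 4, 0]), (7, false, [3, 4, 3, 4, 3, 4, 0, 1, 0, 1, 3,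 4, 3, 1, 0]), (20, true, [0, 1, 3, 1, 3, 4, 3, 4, 3, 1, 0]), (116, false, [3, 4, 3, 1, 0, 1, 0, 4, 3, 4, 3]), (116, true, [2, 0, 4, 0, 4, 0, 4, 3, 1, 0, 1, 3, 4, 0, 1]), (22, false, [0, 1, 0, 1, 0, 1, 2, 0, 4, 0, 4]), (12, true, [1, 0, 1, 0, 4, 0, 4, 3, 4, 0, 4, 3, 1]), (59, true, [0, 1, 0, 4, 0, 4, 0, 4, 0, 4, 3, 1, 0]), (38, false, [1, 2, 0, 4, 0, 4, 3, 1, 3, 1, 0, 4, 0, 4, 3, 1]), (154, false, [2, 4, 3, 1, 0, 1, 3, 4, 3, 4, 0, 1, 3, 4]), (110, false, [4, 0, 1, 3, 4, 0, 4, 3, 1, 3, 4, 0, 4, 0]), (3, false, [2, 4, 3, 1, 0, 1, 3, 4, 3, 4, 3, 4, 0, 4]), (73, false, [4, 3, 1, 3, 1, 0, 1, 3, 1, 3, 4, 3, 4, 0]), (59, true, [1, 3, 1, 3, 1, 0, 1, 3, 4, 3, 1, 0]), (254, false, [1, 0, 2, 4, 0, 1, 0, 1, 0, 1, 3, 4, 3, 1, 0, 4]),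 (279, false, [2, 0, 4, 0, 4, 3, 4, 0, 4, 0]), (165, false, [1, 0, 1, 3, 1, 3, 1, 0, 4, 3, 1, 3, 4, 0, 4]), (103, false, [1, 0, 1, 0, 1, 0, 2, 4, 3, 4, 3, 4]), (62, true, [1, 0, 1, 3, 4, 0, 1, 0, 1, 0, 1, 3, 4, 0]), (103, false, [1, 0, 4, 0, 1, 3, 1, 0, 4, 3, 1, 0, 1, 0, 4]), (69, true, [3, 1, 0, 1, 0, 1, 3, 1, 3, 1, 3, 1, 0, 4]), (176, true, [0, 4, 0, 1, 3, 4, 3, 4, 0, 1, 3, 1]), (38, true, [1, 0, 1, 0, 1, 0, 4, 0, 4, 0, 4, 0]), (38, false, [0, 4, 3, 4, 0, 4, 3, 1, 3, 1, 0, 1, 3, 4, 3]), (180, true, [1, 2, 0, 4, 0, 4, 3, 1, 0, 1, 0, 1]), (254, false, [0, 4, 0, 4, 3, 1, 0, 1, 3, 4, 0, 4, 0, 1, 0]), (180, true, [0, 1, 0, 4, 0, 4, 3, 1, 0, 1, 0, 1]), (45, true, [3, 4, 0, 1, 0, 1, 3, 4, 0, 1, 0, 1]), (114, true, [4, 0, 4,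 3, 4, 3, 1, 0, 4, 0, 4, 3, 1, 0]), (260, true, [2, 4, 3, 4, 3, 4, 3, 1, 0, 4]), (65, true, [2, 4, 3, 1, 3, 1, 3, 1, 3, 4, 3, 4, 0, 4, 0]), (92, true, [1, 0, 2, 4, 0, 4, 0, 1, 3, 1, 0]), (154, false, [2, 4, 3, 4, 0, 4, 3, 1, 0, 1, 0, 1]), (103, false, [0, 4, 3, 4, 0, 1, 3, 1, 3, 4, 0, 1, 0]), (1, true, [0, 1, 3, 1, 3, 4, 3, 4, 3, 1, 0, 1]), (124, true, [0, 1, 0, 2, 4, 0, 1, 3, 4, 3, 1]), (46, true, [4, 3, 1, 3, 4, 0, 4, 3, 4, 3, 4, 3, 1]), (187, true, [0, 2, 4, 0, 4, 0, 4, 3, 1, 0, 1, 3, 1]), (146, false, [1, 0, 1, 0, 4, 3, 1, 3, 1, 0, 1, 3, 4, 3, 1]), (67, false, [0, 1, 0, 1, 2, 0, 4, 3, 4, 3, 4, 3, 1, 0, 4]), (55, false, [0, 4, 0, 4, 3, 1, 3, 1, 0, 1, 3, 4]), (67, false, [4, 3, 1, 0, 4]), (258, true, [2, 4, 3, 4, 3,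 1, 0, 4, 3, 4, 0, 4, 3, 4]), (151, false, [3, 1, 0, 4, 0, 4, 3, 1, 0, 4, 0, 4, 0, 1, 3]), (73, true, [0, 1, 0, 4, 0, 4, 0, 4, 0, 4]), (154, false, [0, 2, 4, 0, 4, 3, 4, 0, 4, 3, 4, 0, 4, 0, 4, 0]), (248, true, [2, 4, 0, 4, 0, 4, 3, 4, 3, 4, 0, 4, 0]), (46, true, [2, 0, 1, 0, 1, 3, 4, 0, 4, 3]), (92, true, [0, 1, 3, 1, 3, 1, 0, 4, 3, 4, 3, 4, 0, 4, 0, 4]), (119, false, [0, 4, 3, 4, 3, 4, 0, 4, 0, 1, 0]), (199, false, [3, 1, 3, 4, 0, 1, 3, 1, 0, 4, 0, 4, 0, 4]), (120, false, [2, 0, 1, 0, 1, 3, 4, 3, 4, 0, 4, 0, 1, 3, 4]), (34, false, [4, 3, 4, 0, 4, 0, 4, 0, 1, 3, 4, 3, 4]), (7, false, [0, 1, 2, 0, 4, 0, 4, 3, 1, 0, 1, 3, 1]), (69, true, [0, 1, 0, 2, 4, 3, 4, 0, 4, 3, 4, 0, 4, 3, 4, 0]), (66, false, [0, 1, 0, 2, 4, 0, 1,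 0, 1, 3, 4, 0, 1, 0, 4]), (67, true, [0, 4, 3, 1, 0, 4, 3, 4, 0, 4, 0, 1, 3, 4, 3]), (66, false, [1, 3, 1, 3, 4, 0, 1, 0, 1, 0, 1, 3, 1]), (67, true, [1, 2, 0, 4, 0, 4, 0, 1, 3, 4, 0, 4, 0, 4, 3]), (103, true, []), (154, true, [2, 0, 1, 0, 1, 3, 1, 3, 4, 3, 4, 0, 1]), (47, true, [1, 2, 0, 4, 3, 4, 3, 1, 0, 1, 0, 4, 3, 1]), (199, true, [0, 4, 3, 1, 3, 4, 0, 4, 3, 1, 3, 1, 3]), (124, true, [0, 4, 0, 1, 3, 4, 3, 1, 0, 1, 3, 1, 3, 4, 0, 4]), (59, true, [0, 1, 2, 0, 1, 0, 1, 0, 1, 3, 4, 3, 4, 3]), (260, true, [0, 4, 3, 4, 3, 4, 3, 1, 0, 4]), (154, false, [0, 1, 0, 1, 0, 4, 3, 1, 3, 4, 0]), (22, false, [4, 0, 1, 0, 1, 0, 1, 0, 1, 3, 4, 3, 1]), (103, false, [1, 0, 1, 3, 4, 0, 4, 0, 1, 3, 4, 0]), (103, true, []), (248, false,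 [3, 1, 0, 1, 3, 1, 0, 4, 3, 4, 0]), (28, false, [0, 2, 4, 0, 4, 0, 4, 0, 4, 3, 1, 3, 1, 0, 1, 0]), (210, false, [1, 0, 4, 0, 4, 3, 4, 3, 4, 3, 4, 3, 4, 0]), (151, false, [2, 0, 4, 3, 1, 0, 1, 0, 1, 3, 4, 0, 4, 0, 1]), (73, true, [2, 0, 4, 0, 1, 0, 1, 0, 1, 0, 4, 3, 1, 3]), (254, false, [2, 4, 0, 4, 3, 1, 3, 4, 0, 4, 0, 4, 0, 1]), (148, false, [1, 0, 1, 0, 1, 0, 4, 0, 4]), (38, false, [1, 0, 4, 0, 4, 3, 1, 3, 1, 0, 4, 0, 4, 3, 1]), (154, false, [1, 3, 4, 3, 1, 0, 1, 3, 4, 0, 1, 3, 1]), (103, true, []), (100, true, [0, 4, 3, 4, 3, 1, 0, 1, 0, 4]), (200, false, [3, 4, 0, 4, 3, 1, 0, 1, 0, 4, 0, 4, 3, 1, 0, 4]), (278, true, [0, 1, 0, 1, 0, 1, 0, 4, 0, 4, 3, 4, 3]), (12, true, [1, 3, 1, 0, 4, 3, 4, 3, 1, 0, 1]), (34, true,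 [0, 4, 3, 4, 3, 4, 3, 4, 0, 1, 0, 1, 3, 1]), (120, false, [2, 0, 4, 3, 4, 3, 4, 0, 4, 3, 1, 3, 1, 3, 4]), (100, false, [1, 0, 1, 0, 1, 2, 0, 4, 0, 4, 3])]
def r104 : List (ℕ × Bool × List ℕ) := [(136, false, [4, 0, 4, 3, 4, 3, 4, 3, 4, 3, 4]), (6, true, [1, 3, 1, 3, 1, 3, 4, 3, 4, 3, 4, 3]), (234, true, [1, 3, 4, 3, 4, 0, 1, 0, 1, 0, 1, 3, 4]), (260, true, [2, 4, 0, 4, 0, 1, 3, 1, 0, 4, 3, 4, 3, 4, 3, 1]), (104, false, [0, 1, 0, 2, 4, 3]), (122, true, [4, 0, 4, 3, 1, 3, 1, 0, 4, 0, 4, 3, 4]), (104, true, []), (262, true, [0, 1, 2, 0, 1, 3, 1, 3, 1, 3, 4, 0, 4, 3, 1, 3, 1, 3]), (113, false, [3, 1, 0, 4, 3, 1, 3, 1, 0, 4, 3, 1, 0]), (279, false, [4, 3, 1, 0, 4, 3, 1]), (6, false, [2, 4, 0, 1, 3, 4, 0, 4, 0, 4, 0, 1, 3,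 4, 0, 4]), (218, true, [0, 1, 0, 1, 3, 1, 0, 1, 0, 1, 3, 4]), (180, false, [1, 0, 1, 0, 2, 4, 0, 4, 3, 1, 0, 4, 0, 4, 0, 4, 0]), (27, true, [0, 4, 3, 4, 0, 4, 0, 1, 3, 1, 0, 4]), (222, false, [1, 2, 0, 1, 0, 4, 0, 4, 3, 1, 3]), (18, false, [4, 3, 4, 3, 4, 0, 4, 0, 4, 3, 4, 0, 1, 0]), (5, true, [1, 0, 1, 3, 4, 0, 1, 3, 1, 3, 4, 0, 1]), (145, false, [1, 3, 4, 3, 4, 0, 1, 3, 1, 3, 4]), (153, false, [2, 0, 1, 0, 1, 0, 1, 3, 4, 3, 4, 0, 1, 0, 1]), (195, false, [0, 4, 0, 4, 0, 1, 3, 1, 3, 4, 0, 4, 0, 4, 0]), (69, true, [0, 2, 4, 0, 4, 3, 1, 0, 1, 3, 4, 3, 1, 0, 1, 0]), (258, true, [0, 1, 3, 4, 3, 1, 0, 1, 0, 1, 3, 1, 3, 1]), (222, false, [0, 4, 3, 4, 0, 4, 3, 1, 0, 1, 0, 1, 3, 1, 3, 1, 3]), (218, true, [2, 0, 4, 3, 1, 0, 1,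 3, 4, 0, 4, 0, 1, 3, 1, 3, 4]), (254, true, [0, 4, 0, 1, 3, 1, 3, 1, 3, 1, 0, 1, 0, 1, 0, 1, 3, 4]), (196, true, [2, 4, 0, 1, 0, 1, 3, 4, 3, 1, 0, 4, 0, 4, 3]), (255, true, [1, 0, 4, 0, 1, 3, 1, 3, 4, 0, 4, 0, 4]), (173, true, [0, 2, 4, 0, 1, 0, 1, 3, 4, 0, 4, 3, 4]), (249, false, [0, 1, 0, 1, 2, 0, 4, 3, 1, 0, 1]), (165, false, [1, 3, 1, 3, 1, 0, 1, 0, 4, 0, 4, 3, 1]), (14, false, [0, 1, 0, 4, 3, 4, 0, 4, 0, 4, 3, 4]), (180, false, [4, 3, 4, 3, 1, 0, 1, 3, 4, 0, 4, 0, 4]), (217, true, [0, 4, 0, 4, 3, 1, 0, 1, 0]), (82, true, [3, 4, 3, 4, 3, 1, 0, 1, 3, 4, 0, 4, 3, 1]), (122, true, [1, 0, 1, 0, 1, 2, 0, 1, 0, 1, 3, 4, 0, 1, 0, 1]), (126, false, [1, 0, 2, 4, 0, 1, 0, 1, 3, 1, 3, 4, 0, 1, 3]), (257, true, [0, 1, 3, 1, 3,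 4, 0, 4, 3, 1, 3, 1, 3, 4]), (27, true, [1, 2, 0, 1, 3, 1, 3, 1, 0, 1, 3]), (250, false, [3, 1, 0, 4, 3, 1, 0, 1, 0, 1, 0, 1, 3, 4]), (69, true, [4, 3, 1, 0, 1, 3, 1, 3, 1, 0, 4, 3]), (110, true, [3, 1, 0, 1, 0, 1, 0, 4, 0, 4, 3, 4, 3, 4, 3]), (275, false, [3, 4, 0, 4, 3, 4, 3, 4, 0, 4, 0, 4, 0, 4]), (25, false, [3, 4, 3, 4, 3, 4, 3, 4, 3, 1, 0]), (265, true, [2, 0, 1, 3, 1, 0, 1, 0, 1, 3]), (263, false, [1, 0, 1, 0, 4, 0, 4, 3, 1, 0, 4, 0, 4, 3, 1]), (263, false, [0, 1, 2, 0, 1, 3, 4, 3, 4, 3, 1, 0, 1, 3, 4, 0]), (260, true, [0, 4, 3, 4, 0, 1, 3, 1, 3, 1, 0, 1, 3, 4, 3, 4]), (111, false, [4, 3, 1, 3, 1, 3, 4, 3, 4, 3, 1]), (104, true, []), (254, true, [0, 1, 2, 0, 4, 0, 1, 3, 1, 0, 4, 3, 1, 3, 1, 0, 4]), (87, true, [1,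 0, 1, 2, 0, 1, 0, 1, 3, 1, 0, 1, 3, 1, 0, 1, 0, 1, 3, 1]), (170, false, [1, 0, 1, 2, 0, 1, 0, 4, 3, 1, 3, 1, 0, 4, 3, 1]), (204, true, [1, 0, 4, 0, 4, 3, 1, 0, 4]), (274, true, [0, 4, 3, 1, 0, 1, 3, 4, 0, 1]), (5, false, [0, 2, 4, 3, 1, 0, 4, 3, 4, 3, 1, 3]), (217, true, [3, 1, 0, 4, 3, 4, 0, 4, 3, 1, 3, 1]), (145, true, [0, 1, 3, 4, 3, 4, 3, 1]), (200, false, [1, 0, 4, 3, 1, 0, 1, 3, 1, 3, 1, 0, 1, 3, 1, 3]), (95, false, [0, 1, 3, 4, 3, 1, 0, 4, 0, 4, 3]), (118, true, [0, 1, 0, 1, 0, 2, 4, 0, 1, 0, 1, 0, 4, 0, 4]), (6, false, [0, 1, 0, 4, 3, 4, 3, 1, 0, 4, 3, 4, 0, 1]), (118, true, [4, 3, 4, 0, 4, 3, 4, 3, 1, 0, 4]), (26, false, [0, 1, 0, 1, 0, 1, 2, 0, 1, 0, 4]), (226, false, [2, 0, 4, 3, 4, 0, 4, 0, 1, 3, 1, 3, 1,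 3, 1]), (134, true, [0, 4, 0, 4, 3, 4, 3, 4, 3, 1, 0, 1, 3, 4]), (146, false, [0, 1, 0, 1, 3, 1, 3, 4, 3, 4, 0, 4, 0]), (249, false, [0, 1, 0, 1, 0, 4, 3, 1, 0, 1]), (18, false, [3, 1, 3, 1, 0, 4, 3, 4, 3, 1, 0, 1, 0]), (255, true, [2, 0, 1, 0, 1, 3, 1, 3, 1, 3, 1, 0, 1, 0, 4, 3]), (6, true, [1, 2, 0, 1, 3, 4, 0, 4, 3, 4, 0, 4, 0, 1, 0]), (194, true, [4, 3, 1, 3, 4, 0, 4, 3, 4, 3, 4, 3, 1, 3]), (111, false, [2, 4, 0, 4, 3, 4, 3, 4, 3, 1]), (110, true, [1, 0, 1, 0, 1, 0, 1, 2, 0, 1, 0, 1, 3, 4, 0]), (258, true, [3, 4, 0, 1, 3, 1, 3, 1, 3, 1, 0, 1]), (28, false, [0, 1, 3, 1, 3, 1, 0, 1, 0, 1, 3, 1, 0, 4]), (195, true, [0, 2, 4, 0, 1, 0, 4, 3, 1, 3, 1, 3, 4, 3, 4]), (234, true, [2, 4, 0, 1, 0, 1, 3, 1, 0, 1, 0, 4, 0, 4,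 0, 1]), (153, false, [3, 4, 3, 4, 0, 1, 0, 1, 3, 4, 3, 4, 0, 1, 0, 1]), (213, false, [0, 1, 0, 1, 2, 0, 4, 3, 4, 0, 4, 3, 4, 0, 1, 0, 4]), (126, false, [1, 2, 0, 1, 0, 1, 0, 1, 3, 4, 0, 4, 3, 1, 0]), (260, true, [4, 3, 4, 0, 4, 0, 1, 3, 1, 3, 4]), (255, true, [1, 0, 2, 4, 0, 4, 3, 1, 0, 4, 0, 4, 0, 4, 0]), (82, true, [3, 4, 3, 4, 3, 1, 0, 1, 3, 4, 0, 4, 3, 1]), (222, false, [2, 0, 4, 3, 4, 3, 4, 3, 1, 0, 1]), (82, false, [0, 1, 2, 0, 4, 0, 1, 3, 1, 3, 4, 3, 4, 3]), (114, true, [0, 4, 0, 4, 3, 4, 3, 4, 0, 4, 3, 4, 0, 1]), (26, false, [0, 4, 0, 4, 3, 1, 3, 1, 0, 1, 0, 4]), (87, true, [3, 4, 0, 4, 3, 4, 3, 1, 0, 4, 3, 4, 3, 1, 3]), (170, false, [1, 3, 1, 3, 4, 0, 4, 3, 4, 0, 4, 0, 4, 3, 4]), (82, false, [1, 0, 4, 0, 1, 3,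 1, 0, 4, 3, 1, 3, 4, 0]), (222, false, [3, 4, 0, 1, 3, 1, 0, 1]), (98, false, [0, 4, 3, 1, 0, 4, 0, 4, 3, 1, 3, 4, 0, 1, 3]), (260, true, [2, 4, 3, 1, 0, 1, 3, 1, 0, 1, 0, 1, 3, 1, 3, 1]), (98, false, [1, 2, 0, 4, 0, 1, 3, 1, 3, 1, 0, 1, 0, 1, 3, 1, 3]), (226, false, [1, 0, 4, 0, 1, 3, 1, 0, 4, 3, 4, 0, 4, 0]), (185, true, [3, 4, 0, 1, 0, 1, 0, 1, 3, 4, 3, 4, 0, 4, 3]), (265, false, [4, 0, 1, 3, 4, 0]), (200, false, [2, 0, 1, 3, 1, 3, 1, 0, 4, 3, 1, 3, 1, 3]), (173, true, [4, 3, 1, 0, 4, 3, 4, 0, 4, 0]), (249, false, [2, 0, 1, 3, 1, 3, 4, 3, 4, 3, 4, 0, 4]), (126, false, [4, 3, 4, 0, 1, 0, 1, 0, 1, 3, 4, 0, 4, 3, 1, 0]), (204, true, [0, 1, 2, 0, 4, 0, 4, 3, 1, 0, 4]), (126, false, [1, 3, 4, 3, 4, 0, 4, 3, 1, 3, 1, 0,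 1, 0, 4, 3]), (138, false, [2, 4, 3, 1, 0, 1, 3, 4, 3]), (262, true, [3, 4, 0, 1, 3, 1, 0, 4, 3, 1, 3]), (255, true, [3, 4, 0, 4, 0, 4, 0, 1, 3, 1, 0]), (176, true, [0, 4, 0, 4, 3, 4, 0, 4, 0, 4, 3, 1, 0, 4, 0]), (28, false, [2, 4, 3, 4, 0, 4, 3, 1, 3, 4, 0, 1, 0]), (143, false, [2, 0, 4, 3, 4, 3, 1, 0, 4, 0, 4, 0]), (213, false, [1, 3, 1, 3, 4, 0, 4, 3, 4, 3, 1, 0, 1, 0, 1, 0]), (25, false, [0, 1, 0, 1, 0, 1, 2, 0, 1, 0, 4, 3, 4]), (279, false, [2, 4, 3, 4, 3, 4, 0, 4, 0, 1, 3, 4])]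
def r105 : List (ℕ × Bool × List ℕ) := [(233, true, [4, 0, 4, 0, 4, 3, 4, 0, 4, 3, 1, 3, 4, 0, 4]), (208, true, [0, 1, 0, 1, 0, 1, 2, 0, 1, 0, 4, 0, 4, 0]), (217, true, [1, 3, 4, 3, 4, 3, 4, 0, 4, 3, 1, 0, 4]), (218, false, [4, 0, 1, 0, 1, 0, 4, 3, 1, 0, 1, 0, 1, 3]), (109, true, [2, 4, 3, 1, 3, 1, 0, 4, 3, 4, 3, 4, 0, 4, 0, 4]), (124, true, [2, 4, 0, 4, 3, 4, 3, 4, 3, 4, 0, 4, 0, 4]), (167, false, [2, 4, 0, 1, 0, 4, 3, 1, 0, 1, 0, 1, 3, 1, 0, 4]), (244, false, [0, 1, 0, 1, 3, 1, 0, 1, 3, 1, 3]), (5, false, [2, 0, 1, 0, 1, 0, 4, 0, 4, 3, 1, 3, 4, 0, 4]), (219, true, [4, 0, 1, 0, 4, 3, 1, 3, 1, 0, 4, 3]), (7, true, [0, 2, 4, 3, 1, 3, 1, 0, 1, 3, 1, 0, 4, 3, 4, 3]), (217, false, [4, 0, 1, 3, 4, 0, 4, 3, 1, 3, 4, 0]), (88,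 false, [0, 1, 3, 1, 0, 1, 3, 1, 0, 1, 0, 1, 3, 4, 0, 4, 3]), (127, false, [1, 0, 1, 0, 1, 0, 4, 3, 4, 3, 1, 0, 1, 0, 1, 3, 1]), (219, false, [0, 4, 3, 1, 0, 1, 3, 1, 0, 1, 3, 4, 3, 1, 0]), (28, true, [1, 0, 1, 0, 1, 3, 1, 3, 1, 3, 4, 3]), (1, false, [0, 1, 3, 4, 0, 4, 3, 4, 3, 4, 0, 4]), (6, true, [0, 2, 4, 0, 4, 3, 1, 0, 1, 0, 1]), (67, true, [2, 4, 3, 1, 3, 1, 3, 4, 3, 4, 3, 1]), (200, true, [4, 3, 4, 3, 4, 3, 4, 3, 1, 0]), (212, true, [0, 1, 3, 4, 3, 1, 0, 1, 3, 1, 0, 1, 0, 4, 0]), (235, false, [0, 1, 0, 2, 4, 3, 4, 3]), (187, false, [0, 1, 0, 4, 0, 4, 3]), (195, true, [3, 1, 0, 4, 3, 4, 0, 4, 3, 1, 3]), (268, true, [4, 3, 4, 0, 4, 0, 4, 3, 1, 0, 4, 0]), (200, true, [1, 2, 0, 1, 0, 4, 3, 4, 0, 1, 3, 4, 3, 4, 0, 1]),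 (258, true, [2, 0, 4, 3, 4, 0, 4, 0, 4, 0, 4, 3, 4, 0]), (204, false, [0, 2, 4, 3, 1, 0, 1, 3, 4, 0, 4, 0, 1]), (235, true, [0, 1, 2, 0, 4, 0, 4, 0, 4, 3, 1, 0, 1, 3, 4, 3, 1, 0]), (223, true, [3, 1, 0, 1, 3, 4, 0, 4, 0, 4, 3, 1]), (177, true, [4, 0, 4, 0, 4, 3, 4, 0, 4, 3, 4, 0, 4, 0, 4]), (66, false, [0, 1, 0, 1, 0, 1, 0, 1, 3, 4, 3, 1, 0, 4]), (235, false, [0, 1, 2, 0, 1, 0, 4, 0, 4, 3]), (66, true, [0, 1, 3, 1, 0, 1, 3, 4, 3, 4, 3, 1, 3]), (272, false, [1, 0, 1, 0, 1, 3, 1, 3, 4, 0, 1, 0, 4]), (268, false, [0, 4, 3, 4, 3, 1, 0, 1, 3, 1, 3, 4, 0, 4, 3]), (127, true, [4, 0, 4, 0, 4, 3, 1, 3, 1, 0]), (187, true, [0, 4, 0, 4, 0, 4, 3, 1, 0, 1, 3, 4, 3, 1, 0]), (172, false, [2, 0, 1, 3, 4, 3, 4, 0, 4, 0, 4, 3, 4, 0]),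 (220, false, [1, 0, 1, 0, 1, 0, 1, 0, 1, 2, 0, 1, 0, 1, 3]), (3, false, [0, 4, 3, 1, 3, 4, 0, 4, 3, 1, 0, 1, 3, 4]), (220, true, [0, 2, 4, 0, 4, 3, 4, 3, 4, 0, 4, 0]), (195, false, [1, 0, 1, 3, 4, 0, 1, 3, 1, 3, 4, 0]), (226, false, [2, 0, 4, 0, 4, 0, 4, 3, 1, 0, 1, 3, 4, 0, 4]), (204, true, [0, 1, 2, 0, 1, 0, 1, 0, 4, 0, 4, 0, 4, 0]), (224, true, [2, 4, 0, 4, 3, 4, 3, 4, 0, 4, 0]), (172, true, [1, 2, 0, 1, 0, 1, 0, 4, 3, 4, 0, 4, 0, 1, 3, 1, 3]), (58, false, [4, 3, 1, 3, 1, 3, 4, 3, 4, 3, 1]), (57, true, []), (253, false, [1, 0, 1, 0, 2, 4, 0, 1, 0, 1, 0, 4, 3, 4, 0, 1]), (274, false, [0, 4, 0, 1, 0, 1, 0, 4, 3, 4, 3]), (6, false, [2, 0, 1, 3, 1, 0, 4, 0, 4, 0, 4, 3, 4, 3, 4, 3, 1]), (263, false, [0, 2, 4, 0, 1, 3, 4,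 3, 1, 0, 1, 0, 4, 0]), (200, false, [1, 3, 1, 0, 1, 0, 4, 3, 4, 3, 1, 0, 1, 3]), (274, true, [2, 0, 1, 0, 4, 3, 1, 3, 1, 3]), (261, false, [2, 0, 1, 0, 4, 3, 1, 0, 1, 0, 1, 3, 4, 0, 1]), (223, false, [4, 3, 4, 0, 4, 3, 1, 3, 1, 0, 4, 3]), (253, true, [0, 2, 4, 0, 4, 3, 1, 0, 1, 3, 4, 3, 4, 0, 4, 0, 4]), (20, true, [3, 1, 0, 4, 0, 4, 3, 1, 3, 1, 3]), (166, false, [1, 2, 0, 4, 3, 4, 3, 4, 3, 4, 0, 4, 0, 4]), (151, true, [1, 0, 4, 0, 1, 3, 1, 3, 4, 0, 1, 0, 4]), (208, false, [0, 1, 0, 1, 2, 0, 1, 3, 4, 0, 4, 0, 4, 0, 1, 3, 1]), (124, false, [2, 4, 0, 4, 0, 4, 3, 4, 0, 4, 3, 1, 0, 1]), (225, true, [3, 1, 0, 1, 3, 1, 3, 4, 0, 1]), (122, false, [3, 1, 0, 4, 3, 4, 0, 4, 3, 4, 0]), (167, true, [1, 0, 1, 0, 4, 3, 4, 0, 1, 0, 1,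 0, 1, 3, 1]), (109, false, [2, 4, 3, 1, 0, 4, 0, 4, 3, 1, 0, 1]), (3, true, [0, 1, 0, 4, 3, 4, 3, 4, 3, 4, 0, 1, 0, 1, 3, 4]), (200, false, [0, 2, 4, 0, 4, 3, 1, 3, 1, 3, 1, 3, 4, 3, 4]), (177, false, [0, 1, 0, 2, 4, 0, 1, 0, 1, 3, 4, 0, 1, 0, 1]), (85, false, [0, 1, 0, 1, 0, 4, 0, 4, 3, 4, 3, 4, 0, 1, 0, 4]), (28, false, [0, 4, 0, 1, 3, 1, 0, 4, 0, 4, 3, 1, 3, 1]), (67, false, [1, 0, 1, 0, 2, 4, 0, 1, 3, 1, 3, 4, 3, 4, 0, 1]), (92, false, [2, 4, 0, 4, 0, 1, 3, 1, 3]), (25, false, [1, 0, 2, 4, 0, 1, 0, 1, 3, 1, 0, 1]), (218, true, [0, 4, 0, 4, 0, 1, 3, 1, 3, 1, 3, 4, 0, 4, 3, 1]), (200, true, [2, 0, 4, 3, 1, 0, 4, 0, 4, 3, 4, 3, 4]), (1, true, [2, 4, 3, 4, 0, 4, 3, 4, 0, 4, 3, 1]), (166, true, [1, 2, 0, 4, 0, 4, 3, 4,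 0, 4, 3, 1, 0, 1]), (7, false, [2, 0, 4, 3, 4, 0, 4, 3, 1, 3, 1]), (225, false, [1, 0, 1, 3, 1, 3, 1, 3, 4]), (280, true, [1, 0, 1, 0, 2]), (151, false, [0, 4, 3, 4, 0, 1, 3, 1, 3, 4, 0, 4, 0, 4, 3, 4]), (212, false, [0, 1, 3, 4, 0, 4, 3, 1, 3, 4, 0, 4, 0, 4, 0, 4]), (85, true, [0, 1, 3, 1, 0, 1, 3, 4, 3, 1]), (272, true, [0, 4, 3, 4, 0, 4, 0, 4, 0, 4, 3, 1, 3]), (20, false, [2, 0, 4, 3, 1, 0, 4, 3, 4, 0, 4, 0, 1]), (58, true, [0, 4, 0, 4, 0, 1, 3, 1, 0, 4, 3, 4, 3, 4, 3]), (57, false, [1, 0, 4, 3, 1, 0, 1, 3, 1, 3, 1, 0, 1, 3, 4, 0]), (88, true, [4, 3, 4, 3, 1, 0, 1, 0, 4]), (226, true, [1, 2, 0, 4, 0, 1, 3, 1, 0, 1, 3, 1, 3, 4, 0]), (224, false, [0, 2, 4, 0, 4, 0, 4, 3, 4, 3, 4, 3, 4, 3, 4, 0]), (122, true, [4, 0, 4,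 0, 1, 3, 1, 0, 1, 0, 4, 3, 4, 0]), (177, true, [0, 4, 0, 1, 3, 4, 0, 4, 3, 4, 0, 1, 0, 4]), (96, false, [1, 3, 4, 0, 4, 3, 1, 0, 1, 0, 1, 0, 4, 3, 1]), (261, true, [1, 2, 0, 1, 3, 4, 0, 4, 3, 1, 3, 1, 0, 1, 0, 1]), (244, true, [0, 4, 3, 4, 3, 4, 3, 1, 0, 4, 3, 1]), (200, false, [1, 2, 0, 1, 3, 4, 0, 1, 0, 1, 0, 1, 0]), (254, true, [0, 4, 0, 1, 3, 1, 0, 1, 0, 4, 3, 1, 3, 1, 0]), (96, true, [3, 4, 3, 4, 3, 4, 3, 1, 0, 1, 3, 4, 3, 4]), (5, true, [2, 0, 1, 3, 4, 0, 1, 3, 1, 3, 1, 0, 4]), (177, false, [1, 3, 1, 3, 1, 0, 1, 0, 4, 3, 1, 3, 4, 0, 4]), (54, false, [0, 1, 0, 2, 4, 3, 4, 3, 4, 3, 4, 0]), (25, true, [1, 2, 0, 1, 0, 4, 0, 4, 0, 4, 3, 1, 0, 1, 3]), (263, true, [2, 0, 4, 3, 4, 3, 4, 0, 4, 3, 4, 0, 1, 0]), (92, true,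 [0, 1, 2, 0, 1, 3, 1, 3, 4, 0, 1, 3, 1, 3, 1]), (233, false, [4, 3, 1, 3, 1, 3, 1, 3]), (258, false, [1, 0, 1, 3, 1, 3, 1, 0, 1, 0, 1, 0, 1, 0]), (235, true, [2, 4, 3, 1, 3, 4, 0, 4, 3, 4, 3, 4, 0, 4, 3]), (254, false, [3, 4, 0, 1, 0, 1, 0, 1, 3, 1, 3, 1, 0, 1, 0, 4]), (54, true, [4, 0, 4, 0, 4, 0, 4, 0, 1, 0]), (280, false, [3, 4, 0, 1, 3, 1, 0, 4, 0, 4, 3, 4, 3])]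
def r106 : List (ℕ × Bool × List ℕ) := [(260, false, [3, 4, 0, 4, 3, 4, 3, 4, 3, 1, 0, 1, 0, 4]), (41, true, [2, 4, 3, 1, 0, 1, 0, 4, 3, 1, 3]), (106, true, [0, 4, 3, 4, 0, 1, 0, 1, 0, 1, 3, 4, 3, 1, 0, 4]), (191, true, [0, 1, 0, 1, 0, 1, 0, 1, 3, 4, 3, 1, 0, 1, 3, 1]), (215, false, [1, 0, 1, 0, 2, 4, 0, 1, 3, 1, 3, 1, 3]), (106, true, []), (118, false, [1, 0, 1, 3, 1, 0, 4, 3, 4, 3, 4, 3]), (155, false, [3, 1, 0, 1, 3, 4, 3, 1, 0, 4, 0, 4]), (25, false, [2, 4, 0, 1, 0, 1, 3, 1, 3, 1, 3]), (274, false, [0, 4, 0, 1, 3, 1, 3, 1, 0, 1, 3, 4, 0, 1, 3]), (67, true, [3, 4, 0, 4, 0, 4, 3, 1, 3, 1, 0, 1, 0]), (163, true, [2, 0, 1, 0, 4, 3, 1, 3]), (220, false, [1, 0, 4, 0, 4, 3, 1, 0, 4, 0]), (235, false, [1, 3, 1, 0, 1, 0, 1,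 3, 4, 3, 4, 0, 1, 0]), (235, true, [4, 0, 4, 3, 1, 0, 1, 0, 1, 3, 1, 3, 1]), (67, false, [4, 3, 4, 3, 4, 0, 1, 3, 4, 3, 1]), (67, true, [4, 0, 1, 3, 1, 0, 4, 0, 4, 3, 4, 0, 1, 0, 4]), (42, true, [3, 4, 3, 4, 3, 4, 3, 4, 0, 1, 0, 1, 3, 1]), (201, true, [2, 4, 0, 1, 3, 1, 0, 1, 3, 4, 3, 4]), (261, false, [0, 1, 0, 4, 3, 4, 0, 1, 3, 4, 3, 4]), (25, true, [0, 1, 2, 0, 4, 3, 4, 3, 4, 0, 1, 3, 1]), (220, false, [3, 4, 0, 1, 3, 1, 0, 4, 3, 4, 0, 4]), (46, false, [3, 4, 0, 1, 3, 1, 0, 1, 3, 1, 0, 1]), (214, false, [2, 4, 0, 4, 0, 1, 3, 1, 0, 1, 0, 1, 0, 4, 0, 4]), (226, false, [0, 1, 2, 0, 1, 3, 4, 0, 4, 0, 4, 3, 1, 0, 4, 0, 1]), (275, true, [1, 0, 4, 3, 1, 0, 1, 0, 4, 3, 1, 3, 4]), (274, false, [0, 1, 0, 1, 3, 4, 0, 1, 3, 1,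 3, 4, 3]), (113, false, [0, 1, 3, 1, 0, 1, 0, 1, 0, 1, 3, 1, 3, 1, 0, 4]), (41, false, [2, 0, 4, 0, 4, 3, 4, 0, 4, 0, 4, 3, 1]), (101, true, [1, 0, 2, 4, 0, 4, 3, 4, 3, 1]), (276, true, [0, 1, 0, 4, 3, 4, 0, 4, 3, 4, 0, 1, 0, 1, 3]), (101, true, [1, 2, 0, 1, 3, 1, 3, 4, 3, 4, 0, 4]), (69, true, [0, 1, 0, 1, 0, 2, 4, 0, 1, 3, 1, 3, 1, 0]), (106, true, [0, 4, 0, 4, 3, 4, 3, 4, 3, 4, 3, 4, 0]), (22, false, [0, 2, 4, 3, 4, 0, 1, 3, 1, 0, 1, 0, 1, 3, 4]), (106, false, [3, 1, 0, 1, 3, 4, 0, 1, 3, 1, 0]), (101, false, [1, 0, 1, 2, 0, 4, 0, 1, 3, 4]), (235, true, [1, 3, 1, 0, 4, 3, 1, 3, 1, 0, 1, 3, 4, 0]), (46, false, [3, 4, 0, 1, 3, 1, 0, 1, 3, 1, 0, 1]), (41, true, [1, 2, 0, 1, 3, 1, 0, 1, 3, 4, 3, 4]), (155, false, [0, 1,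 0, 1, 0, 4, 0, 4, 0, 1, 3, 1, 3, 4, 3, 4]), (261, false, [3, 4, 0, 4, 3, 4, 0, 1, 0, 1, 0, 4]), (221, true, [2, 4, 0, 4, 0, 4, 0, 4, 0, 1, 3]), (67, false, [1, 3, 4, 0, 1, 0, 1, 0, 4, 0, 4, 3, 4, 0]), (234, false, [0, 1, 0, 4, 3, 4, 0, 1, 3, 1, 3, 1, 0, 1, 3, 4]), (277, true, [1, 2, 0, 4, 0, 4, 0, 4, 3, 1, 3, 1, 0, 1, 0, 4, 3]), (220, true, [3, 4, 3, 1, 0, 1, 3, 4, 3, 1, 0, 4, 0, 4, 0, 1]), (22, false, [0, 1, 2, 0, 1, 0, 4, 0, 4, 3, 1, 0, 1, 0, 1, 0]), (22, true, [1, 2, 0, 1, 0, 1, 3, 4, 0, 4, 0, 4]), (191, false, [1, 0, 4, 3, 4, 3, 4, 3, 1, 0, 4, 0, 4, 3, 1, 3, 1]), (65, false, [4, 3, 1, 0, 1, 0, 4, 0, 4, 0, 1, 0]), (22, true, [2, 0, 1, 0, 1, 3, 1, 0, 1, 0, 4, 0, 4, 0, 1, 3]), (276, false, [0, 1, 0, 4, 3, 1, 3, 4, 0,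 4, 0, 4, 0, 4]), (118, false, [3, 4, 0, 4, 0, 4, 0, 1, 3, 1, 0, 4]), (42, false, [3, 1, 3, 1, 3, 1, 0, 1, 3, 1, 0, 1, 3]), (229, true, [0, 1, 3, 1, 3, 4, 0, 1, 3, 4]), (106, true, [1, 3, 1, 0, 4, 3, 1, 3, 1, 0, 4, 3, 1]), (221, false, [0, 1, 2, 0, 1, 3, 1, 0, 4, 3, 1, 3, 1, 0, 4]), (155, true, [1, 3, 1, 3, 1, 0, 4, 3, 1, 0, 1, 0]), (277, false, [2, 4, 0, 1, 0, 4, 3, 4, 3, 4, 0, 4, 3, 1, 0, 1, 0]), (275, false, [1, 2, 0, 1, 3, 4, 0, 4, 3, 4, 0, 4, 3]), (215, true, [0, 2, 4, 0, 1, 0, 1, 0, 1, 0, 1]), (116, true, [3, 1, 3, 1, 0, 4, 3, 1, 3, 4]), (101, false, [0, 2, 4, 0, 4, 0, 1, 3, 1, 0, 1, 0, 4, 3]), (46, true, [0, 1, 0, 1, 0, 1, 0, 4, 0, 4, 0, 1, 3, 1, 0]), (106, true, [1, 3, 4, 3, 4, 0, 1, 0, 1, 0, 4, 3]), (86, true,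 [0, 2, 4, 0, 4, 0, 4, 3, 1, 0, 1, 0, 4, 0, 4, 3, 1]), (106, true, [0, 1, 3, 4, 3, 4, 3, 1, 0, 1, 0, 4]), (261, true, [3, 1, 0, 1, 0, 1, 3, 4, 0, 4, 3, 1, 0]), (116, true, [3, 1, 0, 1, 0, 1, 3, 4, 3]), (106, false, [1, 3, 1, 3, 1, 0, 4, 3, 4, 3, 1, 0, 1]), (106, true, []), (211, false, [1, 0, 1, 0, 1, 3, 1, 3, 1, 0, 4]), (163, true, [2, 0, 1, 0, 4, 3, 1, 3]), (86, false, [1, 2, 0, 1, 0, 4, 0, 4, 0, 4, 3, 4, 3, 4, 3]), (214, true, [1, 2, 0, 4, 0, 1, 3, 1, 0, 1, 0, 1, 0, 4]), (118, true, [3, 1, 3, 1, 3, 1, 0, 1, 3, 1, 0, 4, 3]), (116, true, [1, 3, 1, 3, 4, 0, 4, 3, 4, 3]), (274, true, [1, 0, 1, 0, 4, 0, 4, 3, 4, 3, 4, 3, 4]), (261, true, [0, 4, 3, 1, 3, 4, 0, 4, 3, 4, 3, 4, 0, 4, 3]), (274, true, [4, 0, 1, 3, 1, 3, 1, 0,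 1, 0, 4, 3]), (229, false, [0, 4, 0, 1, 0, 1, 3, 1, 3]), (82, true, [0, 1, 0, 2, 4, 0, 4, 0, 1, 3, 4, 3, 4, 3, 4]), (82, false, [4, 3, 1, 3, 1, 0, 4, 3, 1, 0, 1, 0, 1, 3]), (106, true, [1, 3, 1, 0, 4, 3, 1, 3, 1, 0, 4, 3, 1]), (65, true, [1, 0, 4, 3, 1, 3, 1, 0, 1, 3, 1]), (118, true, [3, 1, 3, 1, 0, 1, 0, 1, 0, 4, 0, 4, 3, 4]), (211, true, [2, 4, 0, 4, 3, 4, 3, 1, 0, 1, 0, 4, 3, 4]), (201, false, [2, 4, 0, 4, 0, 4, 3, 4, 3, 4]), (220, true, [3, 1, 0, 1, 0, 4, 0, 4, 3, 1, 0, 4]), (41, false, [2, 0, 4, 0, 4, 3, 4, 0, 4, 0, 4, 3, 1]), (221, false, [0, 1, 2, 0, 4, 0, 1, 3, 1, 0, 4, 3, 4, 3, 1, 0]), (200, false, [1, 0, 4, 3, 4, 0, 4, 0, 4, 3, 1]), (69, false, [0, 2, 4, 3, 1, 3, 1, 0, 4, 3, 4, 3, 4, 0, 4, 0, 4, 3]), (200,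 true, [4, 3, 1, 0, 1, 3, 1, 0, 1, 3, 4, 3, 4]), (234, true, [0, 4, 3, 4, 3, 1, 0, 1, 0, 4, 3, 1, 3, 1]), (261, true, [0, 4, 0, 4, 0, 4, 3, 1, 0, 4, 0, 4, 0]), (275, false, [1, 0, 1, 0, 1, 0, 2, 4, 3, 4, 3, 1, 3]), (116, false, [1, 3, 1, 3, 4, 3, 4, 3, 4, 3, 1]), (235, false, [4, 3, 1, 3, 1, 3, 4, 3, 4, 3, 4, 0, 1]), (275, true, [4, 3, 1, 0, 4, 0, 4, 0, 1, 3]), (155, true, [1, 0, 4, 3, 1, 3, 1, 0, 1, 0, 1]), (46, true, [0, 1, 0, 1, 0, 1, 0, 4, 0, 4, 0, 1, 3, 1, 0]), (41, false, [1, 2, 0, 1, 0, 4, 3, 4, 0, 4, 3, 1, 0]), (261, false, [0, 4, 0, 4, 0, 1, 3, 1, 3, 1, 3, 1, 0, 1, 0]), (226, true, [2, 4, 0, 1, 3, 1, 3, 1, 0, 1, 3, 1, 0, 1, 3, 1, 3, 1]), (260, true, [1, 0, 1, 3, 1, 0, 4, 3, 4, 3, 4, 3, 1, 0]), (221, true, [1,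 0, 1, 0, 2, 4, 0, 1, 0, 1, 0, 1, 3]), (200, false, [4, 0, 4, 0, 4, 3, 4, 0, 4, 0]), (41, true, [1, 2, 0, 1, 3, 1, 0, 1, 3, 4, 3, 4]), (200, true, [3, 1, 3, 1, 3, 4, 0, 4, 0, 4, 0, 4, 3, 1, 0]), (113, true, [2, 4, 0, 4, 3, 4, 0, 1, 3, 1, 0, 1])]
def r107 : List (ℕ × Bool × List ℕ) := [(123, true, [0, 1, 0, 1, 2, 0, 1, 0, 1, 3, 4, 3, 4, 0, 1, 0]), (269, true, [0, 1, 0, 1, 3, 1, 3, 1, 3, 1, 3, 1, 0]), (255, false, [0, 1, 0, 1, 3, 1, 3, 1, 0, 1, 3, 1, 0]), (123, true, [0, 1, 0, 1, 3, 1, 3, 1, 0, 4, 0, 4, 3, 1, 3]), (261, true, [0, 2, 4, 0, 4, 3, 1, 0, 1, 0, 1, 3, 4, 0, 4]), (50, false, [1, 3, 1, 0, 1, 3, 4, 3, 4, 0, 1, 0]), (111, false, [0, 1, 0, 1, 2, 0, 1, 3, 1, 3, 1, 0, 1, 3, 4, 0, 4, 0]), (269, true, [0, 1, 0, 1, 2, 0,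 1, 0, 1, 0, 1, 0, 1, 3]), (235, false, [3, 4, 0, 4, 0, 4, 3, 1, 0, 1, 0, 4, 0]), (255, false, [0, 1, 0, 1, 2, 0, 1, 0, 1, 3, 1, 0, 1, 3]), (233, true, [3, 4, 0, 1, 0, 1, 3, 1, 0, 4, 3]), (261, true, [0, 4, 3, 4, 0, 1, 3, 1, 3, 1, 0, 4, 3, 4]), (50, false, [1, 0, 4, 3, 4, 0, 1, 3, 1, 3, 1, 3, 1]), (49, false, [0, 1, 3, 4, 3, 4, 0, 4, 0, 4, 3, 1]), (263, true, [1, 0, 2, 4, 3, 1, 0, 4, 0, 4, 3, 4, 3, 4, 0, 4]), (197, true, [4, 3, 1, 0, 1, 0, 1, 0, 1, 3, 4, 3, 1]), (98, false, [0, 4, 0, 4, 3, 4, 0, 1, 0, 1, 0, 1, 3, 4, 3]), (111, false, [0, 1, 0, 1, 3, 1, 0, 1, 0, 1, 3, 1, 0, 4, 3, 4, 3]), (72, true, [3, 4, 0, 4, 3, 1, 3, 1, 3, 4, 0, 4, 3, 1, 3, 1]), (235, false, [2, 0, 4, 3, 4, 3, 4, 0, 1, 3, 1, 3, 4, 3]), (98, false, [1,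 2, 0, 1, 3, 1, 3, 4, 3, 4, 0, 1, 3, 1, 0]), (196, false, [1, 3, 1, 0, 1, 3, 1, 3, 4, 0, 1, 0, 1, 0]), (94, false, [0, 1, 0, 1, 3, 1, 3, 1, 0, 1, 3, 1, 0, 1, 0]), (177, false, [0, 4, 0, 1, 3, 4, 0, 4, 3, 1, 3, 4, 0, 4]), (49, false, [0, 1, 2, 0, 4, 0, 4, 3, 4, 3, 4, 0, 1]), (263, true, [1, 0, 4, 0, 1, 3, 4, 3, 4, 0, 4, 0, 4, 3, 4]), (60, true, [0, 4, 0, 4, 3, 1, 3, 1, 3, 4, 0, 4, 3, 1, 3, 1, 0]), (173, false, [4, 3, 4, 3, 4, 0, 4, 3]), (177, true, [0, 4, 0, 4, 3, 4, 3, 1, 0]), (251, false, [0, 1, 0, 4, 0, 4, 0, 4, 3, 4, 0, 1, 3, 4, 0]), (6, true, [1, 2, 0, 1, 0, 1, 0, 1, 3, 1, 3, 1, 3, 1, 0, 1, 0]), (98, false, [0, 2, 4, 3, 4, 0, 4, 3, 1, 3, 1, 3, 1, 0, 4, 0]), (191, true, [2, 0, 4, 3, 1, 3, 1, 3, 1, 0, 4, 0, 4, 3, 1,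 3, 4]), (72, true, [2, 0, 4, 3, 4, 0, 1, 0, 1, 0, 4, 3, 4, 0, 1, 0, 1]), (90, true, [3, 1, 3, 1, 0, 1, 0, 1, 3, 4, 3, 4, 0]), (125, true, [1, 0, 2, 4, 0, 4, 0, 4, 3, 1, 0, 4, 0, 4, 0, 4, 0]), (196, false, [0, 1, 3, 1, 0, 1, 0, 1, 0, 1, 3, 1, 3, 1, 3]), (98, false, [1, 3, 1, 0, 1, 0, 4, 0, 4, 3, 1, 0, 1, 3]), (249, false, [4, 3, 4, 0, 4, 0, 4, 3, 1, 3, 4]), (92, false, [2, 0, 1, 0, 1, 3, 1, 3, 1, 0, 1, 0, 4, 0, 4]), (6, false, [0, 4, 0, 1, 0, 1, 0, 4, 3, 4, 0, 4, 0, 1, 0]), (270, false, [0, 4, 3, 1, 0, 1, 0, 4, 3, 1, 3, 1, 0, 1, 3]), (25, true, [1, 2, 0, 4, 3, 1, 0, 1, 0, 1, 3, 4, 0]), (25, true, [1, 3, 4, 0, 1, 3, 1, 3, 1, 0, 4, 3]), (6, true, [1, 3, 1, 3, 1, 3, 1, 0, 1, 0, 1, 0, 1, 3, 1, 3]), (165, true, [1, 0, 4, 3,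 1, 3, 1, 3, 1, 3]), (233, true, [4, 0, 1, 3, 1, 3, 4, 3, 4, 3, 1]), (107, false, [0, 4, 0, 1, 0, 1, 0, 4, 0, 4, 0, 1, 0]), (107, true, []), (92, false, [3, 1, 3, 1, 0, 1, 0, 1, 3, 1, 3, 4, 3, 4]), (66, false, [2, 4, 3, 1, 0, 1, 0, 1, 3, 1, 0, 1, 3, 4, 3, 4]), (66, false, [4, 0, 1, 3, 1, 3, 1, 0, 1, 3, 1, 0, 4, 0, 4]), (191, true, [3, 4, 0, 1, 0, 1, 0, 1, 3, 4, 3, 4, 0, 1, 0, 4]), (202, true, [0, 1, 0, 1, 3, 4, 3, 1, 0, 1, 3, 1, 3, 4, 0, 1, 3]), (90, true, [2, 0, 1, 0, 1, 3, 1, 3, 1, 0, 4, 0, 4, 3]), (125, true, [1, 0, 4, 3, 4, 3, 4, 0, 1, 3, 4, 3, 4, 3, 4, 3]), (18, false, [1, 0, 4, 3, 4, 3, 1, 0, 1, 3, 4, 3, 4, 3, 4]), (202, false, [1, 3, 1, 0, 1, 3, 4, 3, 4, 3, 4, 0, 1, 0, 4]), (6, false, [0, 2, 4, 3, 1, 3, 1, 3, 4,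 0, 4, 3, 4, 3, 1, 3]), (270, false, [0, 2, 4, 0, 1, 3, 1, 3, 4, 0, 1, 0, 1, 3, 1, 0]), (249, false, [2, 4, 0, 4, 3, 4, 3, 4, 0, 1, 0, 4]), (233, true, [4, 0, 1, 3, 1, 0, 4, 0, 4, 3, 1, 0, 1, 0]), (26, false, [3, 1, 3, 4, 3, 4, 0, 4, 3, 1, 3, 1, 3]), (251, true, [0, 4, 0, 4, 3, 1, 3, 4, 0, 4, 0, 4, 0, 1, 3, 1, 3]), (224, true, [0, 1, 2, 0, 4, 3, 4, 0, 4, 3, 4, 0, 1, 0, 4]), (75, true, [0, 1, 2, 0, 4, 0, 4, 3, 4, 0, 4, 3, 1, 3, 4]), (224, true, [0, 1, 3, 4, 0, 4, 3, 4, 0, 4, 3, 1, 3, 4]), (75, true, [0, 1, 3, 4, 3, 4, 0, 4, 3, 4, 0, 1, 0, 4]), (235, true, [2, 0, 1, 3, 1, 0, 1, 0, 1, 3, 1, 3, 4, 3]), (235, true, [3, 1, 0, 1, 3, 1, 3, 1, 0, 1, 0, 4, 0]), (213, false, [2, 4, 0, 1, 3, 1, 0, 1, 0, 1, 3, 1, 0, 1, 0]), (213, false,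 [4, 3, 1, 0, 1, 3, 1, 3, 1, 0, 1, 3, 1, 3]), (9, false, [1, 0, 4, 0, 1, 3, 1, 3, 1, 0, 1, 3, 4, 0, 4, 0]), (15, false, [1, 0, 4, 0, 1, 3, 4, 0, 4, 3, 4]), (216, true, [3, 1, 0, 4, 3, 4, 0, 4, 0, 1, 3]), (206, false, [1, 0, 1, 3, 1, 3, 4, 3, 4, 0, 4, 0]), (246, true, [0, 4, 3, 4, 0, 1, 0, 1, 0, 1, 3, 1, 0]), (143, false, [3, 4, 3, 4, 3, 4, 0, 1, 0, 1, 3, 1]), (169, true, [1, 0, 1, 3, 1, 0, 4, 0, 4, 3, 1, 3]), (196, true, [1, 0, 4, 3, 4, 3, 1, 0, 4, 0, 4, 3, 4]), (280, true, [1, 0, 1, 0, 1, 0, 1, 3, 4, 0, 1, 0, 4]), (141, true, [0, 1, 2, 0, 4, 3, 4, 3, 4, 3, 1, 0, 4, 3, 4]), (141, true, [0, 1, 3, 4, 0, 4, 0, 4, 0, 1, 3, 4, 0, 4]), (280, true, [0, 4, 3, 1, 0, 1, 0, 4, 3, 4, 3, 1, 3]), (67, false, [0, 1, 0, 2, 4, 0, 1, 3,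 1, 3, 4, 3, 4, 0, 4, 0, 4]), (57, false, [0, 2, 4, 3, 1, 0, 1, 3, 1, 3, 4, 0, 1, 0, 1, 0]), (57, false, [0, 4, 0, 1, 3, 1, 0, 1, 0, 4, 3, 1, 3, 1, 3]), (67, false, [0, 1, 0, 4, 3, 1, 0, 1, 0, 4, 0, 4, 3, 4, 3, 4]), (89, false, [2, 4, 0, 4, 3, 4, 0, 4, 3, 1, 3, 4]), (89, false, [4, 3, 4, 0, 4, 3, 4, 0, 1, 0, 4]), (262, true, [1, 2, 0, 4, 0, 4, 3, 4, 3, 1, 0, 1, 3, 4, 0]), (262, true, [1, 3, 4, 3, 4, 0, 4, 0, 1, 3, 1, 0, 4, 3]), (195, false, [0, 2, 4, 3, 4, 3]), (195, false, [0, 4, 0, 4, 0]), (189, true, [0, 1, 3, 1, 0, 4, 3, 4, 3, 4, 0, 4, 0, 4, 0, 4]), (189, true, [0, 1, 2, 0, 1, 3, 4, 0, 4, 0, 4, 3, 4, 3, 4, 3, 4]), (214, true, [0, 1, 3, 4, 3, 1, 0, 1, 3, 4, 3, 4, 0, 1, 0]), (214, true, [0, 1, 2, 0, 4, 0, 1, 3, 1, 0,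 4, 0, 4, 3, 1, 3]), (140, true, [1, 0, 2, 4, 0, 1, 3, 1, 3, 1, 3]), (140, true, [1, 0, 4, 3, 1, 0, 1, 0, 1, 0]), (204, false, [0, 1, 0, 4, 3, 4, 0, 4, 0, 4, 3, 1, 3, 4, 0, 4]), (36, true, [0, 4, 3, 4, 0, 1, 3, 1, 0, 4, 0, 4, 3, 4]), (36, true, [4, 0, 4, 3, 1, 0, 1, 3, 4, 3, 4, 0, 4]), (204, false, [0, 4, 3, 4, 0, 4, 3, 1, 3, 1, 0, 1, 3, 4, 3, 1]), (262, false, [1, 0, 1, 3, 1, 3, 1, 3, 4, 3, 4, 3, 4]), (262, false, [1, 0, 1, 2, 0, 1, 0, 1, 0, 4, 0, 4, 0, 4]), (254, false, [1, 0, 4, 3, 1, 0, 1, 0, 4, 0, 4, 3, 1, 3, 4, 0]), (254, false, [1, 0, 2, 4, 0, 1, 3, 1, 3, 4, 0, 4, 3, 1, 3, 4, 0]), (86, true, [2, 4, 0, 1, 3, 4, 3, 4, 0, 4, 3, 1, 0, 4]), (86, true, [4, 3, 1, 0, 4, 0, 4, 3, 4, 0, 1, 3, 4]), (207, false, [1, 0, 1, 3,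 4, 0, 4, 3, 1, 0, 1, 0, 4]), (216, false, [0, 1, 0, 1, 3, 4, 0, 4, 3, 4, 3, 4, 0, 4, 3, 4, 3, 1])]

theorem q96 : closeb 18 ps18 base7 rgR om xs x96 orb r96 = true := by decide +kernel
theorem q97 : closeb 18 ps18 base7 rgR om xs x97 orb r97 = true := by decide +kernel
theorem q98 : closeb 18 ps18 base7 rgR om xs x98 orb r98 = true := by decide +kernel
theorem q99 : closeb 18 ps18 base7 rgR om xs x99 orb r99 = true := by decide +kernel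
theorem q100 : closeb 18 ps18 base7 rgR om xs x100 orb r100 = true := by decide +kernel
theorem q101 : closeb 18 ps18 base7 rgR om xs x101 orb r101 = true := by decide +kernel
theorem q102 : closeb 18 ps18 base7 rgR om xs x102 orb r102 = true := by decide +kernel
theorem q103 : closeb 18 ps18 base7 rgR om xs x103 orb r103 = true := by decide +kernel
theorem q104 : closeb 18 ps18 base7 rgR om xs x104 orb r104 = true := by decide +kernel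
theorem q105 : closeb 18 ps18 base7 rgR om xs x105 orb r105 = true := by decide +kernel
theorem q106 : closeb 18 ps18 base7 rgR om xs x106 orb r106 = true := by decide +kernel
theorem q107 : closeb 18 ps18 base7 rgR om xs x107 orb r107 = true := by decide +kernel

theorem c8 : Rows xc8 :=
  Rows.cons q96 (Rows.cons q97 (Rows.cons q98 (Rows.cons q99 (Rows.cons q100 (Rows.cons q101 (Rows.cons q102 (Rows.cons q103 (Rows.cons q104 (Rows.cons q105 (Rows.cons q106 (Rows.cons q107 Rows.nil)))))))))))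

end Cfsg.Agent.H698.U33.Clo
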