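import Cfsg.Agent.H698.U33.Clo.Rows

/-!
# S5525: the closure certificate, rows 108 to 119 (helper698; data of helper819, helper763)
-/

set_option autoImplicit false
set_option maxRecDepth 100000
set_option Elab.async false

namespace Cfsg.Agent.H698.U33.Clo

def r108 : List (ℕ × Bool × List ℕ) := [(189, false, [2, 0, 4, 0, 4, 0, 4, 0, 4, 3, 1, 3, 1, 0, 4, 0]), (245, true, [0, 2, 4, 0, 4, 0, 4, 3, 4, 3, 4, 3, 4, 0, 1]), (167, false, [4, 3, 1, 3, 1, 0, 4, 3, 1, 3, 1, 0, 1]), (147, true, [4, 3, 4, 0, 1, 3, 1, 3, 1, 0, 1, 0, 1, 0, 1]), (147, true, [4, 0, 4, 3, 1, 0, 1, 0, 1, 3, 1, 3, 1, 3, 1, 3]), (228, false, [0, 2, 4, 0, 1, 0, 1, 0, 4]), (52, false, [0, 4, 0, 1, 0, 1, 0, 4, 3, 1, 0]), (189, false, [3, 4, 3, 4, 3, 4, 3,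 4, 0, 1, 0, 1, 3, 4, 0]), (236, false, [0, 2, 4, 3, 4, 0, 4, 3, 1, 0, 1]), (70, true, [0, 1, 2, 0, 1, 3, 4, 0, 4, 0, 1, 0]), (70, true, [0, 1, 3, 1, 0, 4, 3, 4, 3, 1, 0]), (245, true, [0, 4, 3, 4, 3, 4, 0, 4, 0, 4, 0, 4, 3, 1, 3]), (247, true, [2, 0, 1, 3, 4, 3, 4, 3, 1, 0, 4, 0, 4, 0, 1]), (202, false, [0, 1, 0, 1, 2, 0, 1, 0, 4, 3, 4, 3, 1, 0, 4]), (62, true, [1, 0, 1, 2, 0, 4, 0, 4, 0, 4, 3, 1, 3, 4]), (247, true, [3, 1, 0, 4, 0, 4, 0, 1, 3, 4, 3, 4, 3, 1, 3]), (218, true, [0, 2, 4, 3, 4, 3, 4, 0, 4, 0, 4, 0, 4, 3, 4, 3, 1]), (223, false, [2, 4, 0, 4, 3, 4, 3, 4, 0, 4, 0, 1, 3, 1, 3]), (223, false, [4, 3, 4, 0, 4, 0, 4, 3, 4, 3, 1, 0, 1]), (236, false, [1, 0, 1, 2, 0, 1, 0, 1, 3, 4, 0, 1, 0, 1, 3]), (153, true, [4,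 3, 4, 3, 1, 0, 4, 3, 4, 0]), (236, false, [1, 0, 1, 3, 1, 3, 1, 0, 4, 3, 1, 3, 1]), (259, true, [0, 1, 0, 1, 0, 1, 0, 2]), (91, true, [2, 4, 0, 1, 3, 1, 0, 1, 3, 1, 3, 4, 3, 4, 0, 1]), (70, false, [3, 4, 3, 1, 3, 1, 0, 1, 0, 1, 0, 1, 3, 1, 0]), (224, false, [3, 1, 3, 4, 0, 4, 3, 1, 3]), (70, false, [2, 0, 4, 0, 1, 0, 1, 3, 1, 3, 1, 3, 1, 0, 1, 0]), (224, false, [2, 0, 1, 0, 4, 3, 4, 0, 1]), (158, true, [3, 4, 0, 4, 3, 4, 3, 4, 0, 1, 3, 1, 3, 1, 0]), (262, true, [1, 0, 1, 2, 0, 4, 3, 4, 3, 4, 3, 1, 0, 4, 3, 4, 3]), (240, false, [0, 1, 3, 4]), (52, false, [0, 2, 4, 3, 1, 3, 1, 3, 4, 0, 1, 0]), (208, false, [0, 1, 0, 1, 0, 1, 2, 0, 1, 0, 1, 3, 4, 3]), (218, true, [0, 4, 0, 4, 0, 4, 3, 4, 3, 4, 3, 4, 0, 4, 0, 1, 3]), (91,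 false, [1, 0, 1, 3, 1, 0, 1, 3, 1, 0, 1, 0, 4, 0]), (238, false, [3, 4, 3, 4, 3, 4, 3, 1, 0, 1, 3, 4]), (153, true, [2, 4, 0, 4, 0, 1, 3, 4, 0, 4, 0]), (236, false, [0, 4, 0, 4, 3, 4, 0, 1, 3, 1, 3]), (256, true, [2, 4, 0, 4, 0, 4, 3, 4, 3, 1, 0, 1, 3, 4, 3]), (217, false, [2, 0, 1, 0, 1, 0, 4, 0, 4, 3, 1, 0, 1, 3, 1]), (268, false, [4, 0, 4, 0, 1, 3, 1, 0, 4, 0, 4, 0, 1]), (164, false, [1, 0, 2, 4, 0, 1, 0, 4, 3, 4, 3, 4, 3, 4]), (242, false, [3, 4, 0, 4, 3, 4, 3, 1, 0, 4, 0, 1]), (259, true, [0, 1, 0, 1, 0, 1]), (91, true, [1, 3, 1, 3, 4, 0, 1, 0, 1, 3, 4, 0, 1, 0, 1]), (189, true, [2, 4, 3, 1, 3, 4, 0, 4, 3, 4, 0, 4, 3, 1, 3, 4]), (197, true, [0, 1, 0, 4, 3, 4, 0, 1]), (56, false, [1, 0, 1, 3, 1, 0, 1, 3, 1, 0, 1,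 3, 1, 3, 1, 0]), (184, false, [0, 1, 0, 4, 3, 1, 0, 4, 0, 4, 0, 4]), (158, true, [2, 0, 4, 0, 1, 3, 1, 3, 1, 0, 4, 3, 4, 3, 4]), (203, true, [2, 4, 0, 1, 0, 1, 3, 4, 3, 4, 0, 1, 3, 1]), (262, true, [1, 0, 1, 3, 4, 0, 4, 0, 4, 0, 1, 3, 4, 0, 4]), (30, true, [2, 0, 4, 0, 1, 0, 1, 3, 4, 0, 1, 3, 1, 3, 4]), (208, false, [0, 1, 0, 1, 0, 1, 3, 1, 3, 1, 0, 4]), (207, false, [1, 0, 4, 3, 4, 0, 4, 3, 4, 0, 1, 3, 1]), (147, true, [1, 3, 4, 3, 4, 3, 4, 0, 1, 3, 4]), (91, false, [1, 0, 1, 2, 0, 1, 3, 1, 0, 1, 3, 1, 3, 4, 0]), (238, false, [0, 1, 0, 4, 3, 4, 0, 4, 3, 4, 3, 4]), (29, true, [1, 3, 1, 3, 1, 0, 4, 0, 4, 3, 4, 3, 1]), (169, false, [0, 4, 3, 4, 0, 4, 0, 4, 0, 4, 3, 4, 3, 4, 0, 1, 0]), (205, true, [1, 3, 4, 0, 4, 0, 1, 3,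 4, 0, 4, 0, 1, 3, 4]), (256, true, [4, 3, 4, 3, 4, 0, 4, 0, 1, 3, 1, 0, 4]), (268, false, [2, 4, 3, 4, 3, 1, 0, 1, 3, 4, 3, 4, 3, 1, 3]), (164, false, [1, 0, 4, 3, 1, 3, 4, 0, 4, 0, 4, 0, 4, 3]), (256, true, [1, 3, 4, 3, 4, 0, 4, 3, 4, 3, 4]), (50, true, [0, 4, 3, 4, 0, 4, 3, 1, 0]), (172, false, [3, 1, 0, 1, 0, 1, 3, 1, 3, 4, 3, 4, 0, 4, 0]), (184, false, [2, 4, 0, 4, 0, 4, 0, 1, 3, 4, 0, 1]), (94, true, [1, 0, 1, 0, 1, 0, 1, 3, 4, 3, 1, 0]), (189, true, [4, 0, 1, 0, 4, 3, 4, 0, 4, 0, 4, 3, 1, 3, 4, 0]), (208, true, [1, 0, 1, 0, 4, 0, 4, 0, 4, 3, 4, 3, 4]), (77, false, [1, 0, 2, 4, 0, 1, 3, 1, 0, 1, 0, 1, 3, 4, 0]), (76, true, [0, 1, 0, 2, 4, 0, 1, 3, 1, 0, 4, 0]), (96, false, [0, 1, 0, 1, 0, 1, 0, 1, 2, 0, 4, 0, 1,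 3, 1]), (169, true, [1, 2, 0, 4, 3, 4, 0, 4, 3, 4, 0, 4, 0, 4, 3, 1]), (254, true, [1, 0, 1, 0, 2, 4, 0, 4, 0, 1, 3, 4, 3, 4, 3, 4, 0]), (158, false, [2, 0, 1, 3, 1, 3, 4, 3, 4, 0, 1, 0, 1, 0, 4]), (79, true, [4, 3, 1, 3, 1, 3, 1, 0, 4, 3, 1]), (262, false, [0, 4, 3, 4, 3, 4, 3, 1, 0, 1, 3, 4, 3, 4, 3]), (89, false, [0, 1, 3, 1, 3, 4, 3, 4, 0, 4, 3, 4, 0, 1, 3, 4]), (188, true, [2, 4, 3, 4, 3, 4, 0, 1, 3, 1, 3, 1, 0, 1, 0, 1, 3]), (172, false, [2, 0, 1, 0, 1, 0, 1, 3, 1, 3, 4, 3, 4, 0, 4]), (188, true, [4, 0, 4, 0, 4, 3, 1, 0, 1, 0, 1, 3, 1, 3, 1]), (256, true, [1, 2, 0, 4, 0, 4, 3, 4, 0, 4, 0, 4, 3]), (185, true, [0, 1, 0, 1, 2, 0, 4, 3, 4, 0, 4, 0, 4]), (77, false, [1, 0, 4, 3, 1, 0, 1, 3, 1, 3, 1, 0, 4, 0]), (185,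 true, [0, 1, 0, 1, 3, 4, 0, 4, 3, 4, 3, 4, 3]), (208, true, [1, 0, 1, 0, 2, 4, 3, 4, 3, 4, 0, 4, 0, 4, 3]), (53, true, [1, 0, 1, 0, 1, 3, 1, 3, 1, 0, 1, 0, 1]), (76, true, [0, 1, 0, 4, 3, 1, 0, 1, 3, 4, 0]), (245, false, [0, 1, 0, 2, 4, 3, 4, 0, 4, 0, 4, 3, 1, 0, 1]), (96, false, [0, 1, 0, 1, 0, 1, 0, 1, 3, 4, 3, 1, 0, 1, 3]), (147, false, [1, 3, 4, 3, 4, 0, 4, 0, 4, 3, 1, 0, 4]), (254, true, [1, 0, 1, 3, 1, 0, 1, 0, 1, 0, 4, 3, 1, 3, 1]), (271, true, [4, 0, 4, 3, 1, 0, 1, 3, 4, 0]), (158, false, [3, 1, 0, 1, 0, 4, 0, 4, 3, 1, 3, 1, 3, 4, 3]), (238, false, [0, 2, 4, 3, 1, 3, 1, 3, 4, 0, 1, 0, 1]), (262, false, [0, 2, 4, 0, 4, 0, 4, 0, 1, 3, 1, 0, 4, 0, 4]), (243, false, [0, 2, 4, 3, 1, 3, 1, 3, 4, 0, 1, 0, 1]), (89, false,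 [0, 1, 0, 1, 2, 0, 1, 0, 4, 3, 1, 0, 1, 3, 1, 0, 1]), (3, false, [1, 0, 4, 0, 4, 3, 1, 0, 1, 3, 1, 0, 1, 0, 4, 0]), (111, true, [0, 4, 3, 1, 0, 1, 0, 1, 3, 1, 3]), (172, false, [0, 1, 2, 0, 4, 3, 4, 0, 1, 0, 1, 3, 4, 0, 1, 0, 4]), (149, true, [2, 0, 1, 3, 1, 0, 1, 0, 1, 3, 1, 3, 4]), (63, true, [0, 4, 0, 1, 0, 1, 3, 4]), (268, true, [3, 1, 3, 1, 3, 4, 3, 4, 3, 4, 0, 4, 0, 4, 3]), (111, true, [0, 2, 4, 0, 1, 3, 1, 3, 1, 0, 1]), (269, true, [3, 1, 3, 1, 0, 1, 0, 4, 0, 4, 3, 1, 0, 1, 3]), (269, true, [2, 0, 1, 0, 1, 3, 1, 3, 4, 3, 4, 0, 1, 3, 1]), (172, false, [1, 3, 4, 3, 1, 0, 4, 3, 4, 0, 1, 0, 1, 3, 4]), (149, true, [3, 1, 0, 1, 3, 1, 3, 1, 0, 1, 0, 4, 3]), (268, true, [2, 0, 1, 0, 1, 0, 4, 0, 4, 0, 4, 3, 4, 3, 4])]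
def r109 : List (ℕ × Bool × List ℕ) := [(101, false, [2, 0, 4, 3, 1, 0, 4, 0, 4, 3, 4, 0, 1]), (46, false, [0, 1, 3, 1, 0, 1, 3, 1, 3, 4, 0, 4, 3, 4]), (163, false, [2]), (212, true, [3, 4, 3, 4, 0, 4, 0, 1, 3, 4, 0, 4, 0, 1]), (212, false, [0, 2, 4, 0, 4, 0, 4, 3, 1, 3, 1, 0, 1, 0, 1, 3]), (155, true, [0, 1, 3, 1, 0, 4, 3, 4, 3, 1, 0, 1, 3, 4]), (101, true, [0, 2, 4, 0, 4, 0, 4, 3, 4, 3]), (255, true, [0, 2, 4, 0, 1, 3, 1, 0, 4, 3, 1, 3, 1, 0]), (210, true, [2, 4, 0, 4, 3, 4, 0, 4, 3, 1]), (266, true, [2, 4, 0, 1, 3, 4, 0, 4, 3, 1, 3, 4, 0, 1]), (70, true, [3, 1, 3, 1, 3, 4, 3, 4, 3, 4, 0, 4, 3, 4]), (42, true, [1, 2, 0, 1, 0, 1, 0, 1, 3, 4, 3, 1, 0]), (270, true, [4, 3, 1, 3, 1, 3, 1, 0, 4, 0, 4, 3, 4, 3, 4]), (244,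 false, [2, 4, 0, 1, 3, 4, 3, 4, 0, 1, 0, 4]), (223, false, [1, 3, 4, 0, 4, 3, 1, 3, 4, 0, 4]), (124, true, [0, 1, 0, 1, 3, 4, 3, 4, 3, 1, 0, 1, 3, 4, 3, 4, 0]), (85, false, [3, 1, 3, 4, 0, 4, 3, 1, 3, 1, 0, 4, 3, 4, 0]), (269, false, [1, 0, 4, 0, 4, 3, 1, 3, 4, 0, 4, 0, 1, 3, 4, 3, 4, 0]), (233, false, [1, 0, 1, 3, 4, 3, 4, 0, 1, 3, 4, 3, 4]), (165, false, [1, 0, 1, 3, 4, 0, 4, 3, 4, 0, 1, 0]), (120, false, [4, 3, 4, 0, 4, 0, 4, 3, 1, 0, 1, 0, 1]), (89, true, [3, 1, 3, 1, 0, 4, 3, 4, 0, 4, 0, 4, 3, 1, 3]), (90, false, [3, 1, 3, 1, 3, 1, 3, 4, 0, 4, 3, 1, 0, 4]), (191, true, [2, 0, 4, 3, 1, 3, 1, 0, 1, 0, 1, 3, 1, 3, 1]), (255, true, [3, 1, 3, 1, 3, 4, 0, 1, 0, 1, 3, 1, 3]), (270, true, [0, 2, 4, 0, 1, 0, 4, 3, 4, 3, 4,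 3, 1, 0, 1]), (139, false, [1, 0, 2, 4, 3, 4, 3, 1, 0, 4, 0, 4, 0]), (191, false, [1, 3, 1, 3, 4, 3, 4, 3, 4, 0, 4, 3, 1]), (181, true, [4, 0, 1, 3, 1, 0, 4, 3, 4, 3, 4, 3, 1, 3]), (179, false, [0, 2, 4, 3, 4, 0, 4, 0, 1, 3, 4, 0, 4, 3, 1, 3]), (102, false, [4, 0, 4, 0, 4, 3, 1, 0, 1, 0, 4]), (273, false, [1, 2, 0, 4, 3, 1, 3, 1, 3, 1, 3, 4, 0]), (102, false, [1, 0, 1, 2, 0, 4, 3, 4, 3, 4, 3, 1, 0, 4]), (170, false, [0, 1, 2, 0, 1, 0, 1, 0, 1, 3, 4, 0, 4, 3, 4, 0, 4]), (235, true, [4, 0, 1, 0, 1, 3, 1, 3, 1, 3]), (109, false, [3, 4, 0, 4, 3, 4, 0, 1, 0, 1, 3, 1, 0, 1]), (30, false, [0, 2, 4, 0, 4, 3, 1, 3, 1]), (222, true, [1, 0, 1, 0, 1, 3, 4, 0, 4, 3, 1, 0]), (65, true, [3, 4, 0, 4, 3, 4, 0, 1, 3, 1, 3, 1, 3, 1, 0]),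 (71, false, [2, 4, 3, 1, 0, 4, 3, 4, 3, 4, 0, 1, 0]), (123, false, [1, 0, 2, 4, 3, 4, 0, 4, 3, 1, 3, 4, 0, 4, 0, 4, 0]), (193, false, [1, 0, 1, 0, 2, 4, 0, 1, 3, 1, 0, 4, 0]), (51, false, [0, 4, 0, 4, 0, 4, 3, 1, 0, 1, 3, 1, 3]), (109, false, [1, 3, 1, 0, 1, 3, 4, 0, 1, 3, 1, 0]), (270, true, [4, 0, 4, 0, 4, 3, 1, 0, 4]), (272, true, [2, 0, 4, 3, 4, 3, 4, 0, 4, 0, 4, 0, 4, 3]), (114, true, [0, 4, 0, 1, 3, 1, 3, 4]), (42, false, [0, 4, 3, 1, 0, 1, 0, 4, 0, 4, 3, 1, 0]), (43, true, [3, 4, 3, 1, 0, 4, 0, 4, 3, 1]), (179, false, [1, 0, 1, 0, 1, 0, 1, 0, 1, 3, 4, 3, 1, 0, 4]), (71, true, [3, 4, 3, 1, 3, 1, 3, 1, 0, 1, 0, 1, 3, 4, 3, 4]), (105, false, [2, 4, 0, 4, 3, 1, 0, 1, 0, 4, 3, 1]), (190, false, [1, 3, 1, 0, 1, 0, 1,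 3, 4, 0, 1, 0, 1, 0, 1, 3, 4]), (151, true, [1, 2, 0, 1, 0, 1, 0, 1, 0, 1, 3, 1, 3, 4]), (33, true, [0, 1, 3, 1, 0, 1, 0]), (122, true, [4, 3, 1, 0, 1, 0, 4, 0, 4, 0, 1, 3, 4]), (261, false, [2, 4, 0, 4, 0, 4, 3, 1, 0, 1, 3, 4, 3, 1, 0]), (235, true, [0, 4, 0, 4, 3, 1, 3, 1, 0, 4, 0, 4, 3, 1, 3]), (96, false, [0, 2, 4, 0, 1, 0, 4, 3, 4, 3, 4, 3, 4, 3, 4, 0, 1, 0, 1]), (255, true, [1, 2, 0, 1, 3, 1, 0, 1, 3, 4, 0, 4]), (57, true, [2, 4, 3, 4, 0, 4, 0, 4, 3, 4, 3, 4, 0, 1, 3, 1]), (86, false, [2, 4, 3, 4, 0, 4, 0, 4, 3]), (1, true, [0, 4, 3, 4, 3, 4, 0, 1, 0, 1, 3, 1, 0]), (6, false, [0, 1, 2, 0, 1, 3, 4, 0, 4, 0, 4, 0, 1, 3, 4, 0]), (197, true, [0, 4, 0, 4, 0, 1, 3, 4, 0, 4, 0, 4, 3, 4, 0]), (58, true, [1, 3, 1, 0, 4,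 3, 4, 3, 1, 0, 1, 3, 1, 0]), (25, false, [1, 0, 1, 2, 0, 1, 0, 1, 0, 4]), (23, true, [1, 2, 0, 1, 3, 1, 0, 4, 0]), (172, false, [3, 4, 0, 4, 0, 4, 3, 1, 0, 1, 3, 4, 3]), (5, true, [0, 1, 0, 4, 3, 1, 0, 1, 3, 1, 0, 1, 0, 1]), (198, true, [0, 2, 4, 3, 1, 3, 1, 3, 4, 0, 1, 3]), (111, false, [1, 3, 4, 0, 4, 3, 1, 3, 1, 3, 1, 3]), (60, false, [2, 0, 4, 3, 4, 3, 4, 3, 1, 0, 4, 3, 4, 3, 4, 3]), (277, false, [3, 4, 0, 4, 3, 4, 3, 1, 0, 4, 3, 4, 3, 4, 0]), (118, false, [2, 0, 4, 3, 4, 3, 4, 0, 1, 3, 1, 0, 1]), (191, false, [4, 3, 4, 3, 4, 0, 4, 0, 1, 3, 1, 3, 1, 3]), (112, true, [3, 4, 3, 1, 3, 1, 3, 1, 0, 4, 3, 4, 0, 4]), (53, true, [3, 4, 0, 1, 0, 1, 3, 4, 0, 4, 0]), (117, false, [1, 0, 1, 0, 1, 3, 1, 3, 1, 3, 1, 0, 4, 3, 4]),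 (57, true, [2, 4, 0, 1, 3, 4, 3, 4, 3, 4, 0, 4, 3, 4, 0, 4]), (87, false, [0, 1, 3, 4, 0, 1, 3, 1, 0, 1, 0, 4, 3]), (273, false, [4, 3, 1, 3, 1, 3, 4, 3, 4, 0, 1, 0]), (261, false, [3, 4, 0, 4, 3, 1, 3, 1, 0, 1, 0, 1, 3, 4, 0]), (58, false, [1, 0, 1, 2, 0, 4, 0, 4, 0, 1]), (221, true, [4, 0, 4, 0, 4, 3, 4, 3, 1, 0, 1, 0, 1]), (91, false, [2, 0, 1, 0, 1, 3, 1, 3, 1, 0, 4, 3, 1, 3, 1, 3, 4]), (109, false, [1, 3, 1, 0, 1, 3, 4, 0, 1, 3, 1, 0]), (220, false, [4, 0, 1, 0, 1, 0, 1, 3, 4, 0, 1, 0, 1, 0, 1]), (226, false, [1, 0, 2, 4, 0, 4, 0, 1, 3, 4, 0, 4, 0, 4, 0]), (213, true, [1, 3, 1, 0, 4, 0, 4, 3, 1, 3, 1, 3, 1, 0]), (151, false, [1, 0, 1, 0, 1, 0, 1, 0, 1, 0, 2, 4, 3]), (127, false, [2, 0, 1, 3, 4, 3, 4, 0, 4, 0, 4,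 3, 1, 0, 1, 0]), (137, true, [4, 0, 4, 0, 4, 0, 1, 3, 4, 0, 1]), (223, false, [0, 1, 3, 1, 0, 1, 0, 4, 3, 4, 0, 1, 0, 4]), (205, false, [0, 1, 3, 4, 3, 4, 3, 4, 0, 1, 3]), (190, false, [1, 3, 1, 3, 4, 0, 4, 0, 1, 3, 1, 3, 1, 3]), (127, true, [3, 1, 3, 1, 3, 1, 3, 4, 0, 1, 0]), (196, true, [1, 0, 1, 0, 1, 3, 1, 3, 1, 0, 4, 3]), (211, false, [0, 2, 4, 0, 4, 3, 4, 0, 1, 3, 4, 3, 1]), (94, true, [3, 4, 3, 4, 0, 4, 3, 1, 3, 1, 0, 1, 0, 4]), (205, true, [3, 1, 0, 1, 0, 1, 0, 4, 3, 1, 0, 1, 0, 1, 0]), (237, false, [2, 0, 4, 3, 1, 0, 1, 0, 4, 3, 4, 0, 1, 0]), (64, true, [0, 1, 0, 2, 4, 0, 4, 3]), (111, true, [0, 1, 3, 4, 0, 1, 3, 1, 3, 1, 0, 1, 0, 1, 3, 1]), (128, false, [0, 2, 4, 0, 1, 3, 1, 3, 1, 0, 4, 3, 4, 3, 4]), (71, false,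 [0, 2, 4, 3, 1, 0, 4, 3, 4, 3, 4, 3]), (109, false, [0, 4, 0, 1, 3, 4, 0, 1, 0, 1, 3, 4]), (68, false, [2, 0, 1, 3, 4, 0, 4, 3, 1, 3, 1, 0, 1, 0, 1]), (97, false, [4, 3, 1, 3, 4, 0, 1, 3, 1, 3, 4, 3, 4]), (70, true, [1, 0, 1, 0, 1, 3, 4, 3, 4, 0, 1, 0, 1, 0, 1, 3, 4, 3, 4]), (157, true, [0, 4, 0, 1, 0, 1, 0, 4, 3, 4, 0, 1, 0, 4]), (200, false, [3, 1, 3, 1, 0, 1, 3, 1, 3, 1, 0, 4, 3, 4, 0])]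
def r110 : List (ℕ × Bool × List ℕ) := [(122, true, [3, 1, 0, 4, 3, 4, 0, 4, 0, 4]), (66, true, [2, 0, 4, 3, 1, 3, 1, 0, 1, 3, 4, 3]), (154, false, [4, 0, 4, 0, 1, 3, 1, 0, 4, 3, 4, 0, 1, 0]), (113, true, [4, 0, 4, 3, 1, 0, 1, 0, 4, 0, 4, 0, 4]), (220, false, [0, 4, 0, 4, 0, 4, 3, 1, 3, 4, 0]), (73, false, [2, 0, 1, 0, 1, 3, 1, 3, 4, 3, 4, 3, 1, 0, 4]), (81, false, [2, 0, 4, 0, 1, 0, 1, 0, 1, 3, 1, 3, 1, 0, 1]), (77, false, [3, 1, 0, 1, 3, 1, 0, 4, 3, 1, 3]), (225, false, [1, 0, 1, 3, 1, 3, 4, 0, 1, 0, 1, 3, 1, 0, 4, 0]), (199, false, [3, 1, 3, 1, 3, 1, 0, 4, 0, 4, 3, 4, 0]), (27, true, [1, 0, 1, 0, 2, 4, 0, 1, 0, 1, 3, 4, 3, 1, 0, 1]), (16, true, [4, 3, 4, 3, 1, 0, 4, 3, 4, 0, 1, 3]), (176, true, [0, 1, 2, 0, 1, 3, 1,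 0, 4, 3, 1, 3, 1, 0]), (190, false, [3, 1, 0, 4, 3, 4, 3, 4, 0, 1, 3, 4, 3]), (27, true, [4, 3, 1, 0, 4, 0, 4, 3, 4, 0, 1, 3]), (82, true, [3, 4, 0, 4, 3, 4, 0, 4, 3, 1, 3]), (277, false, [1, 0, 1, 2, 0, 1, 3, 4, 3, 4, 0, 4, 3, 1, 0]), (171, true, [0, 1, 3, 1, 3, 1, 3, 1, 3, 4, 3, 4, 3, 1, 3]), (182, false, [1, 0, 1, 0, 1, 0, 1, 2, 0, 1, 0, 4, 3, 4, 0]), (59, true, [0, 1, 3, 4, 3, 1, 0, 1, 3, 1, 0, 1, 3, 1]), (192, true, [1, 2, 0, 1, 0, 4, 3, 4, 0, 4, 3, 1, 0]), (110, false, [1, 3, 1, 3, 1, 0, 1, 3, 4, 0, 4, 3, 1]), (213, true, [3, 4, 3, 1, 0, 1, 0, 4, 3, 4, 3, 1, 0, 1, 0, 1]), (73, false, [2, 4, 0, 4, 0, 4, 3, 1, 0, 1, 0, 4, 0, 4, 0, 1]), (137, true, [2, 4, 0, 1, 3, 4, 0, 4, 3, 1, 3, 4, 0, 1, 3]), (277, false, [0, 4,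 3, 4, 0, 4, 0, 4, 0, 4, 3, 4, 3, 4, 0, 1, 3]), (10, false, [1, 3, 4, 3, 1, 0, 1, 3, 1, 0, 4, 3, 1]), (137, true, [0, 1, 2, 0, 1, 0, 1, 0, 4, 3, 1, 3, 1, 0]), (210, false, [2, 0, 4, 3, 1, 0, 1, 3, 4, 3, 4, 0, 1, 3]), (95, true, [1, 0, 1, 3, 1, 3, 4, 0, 1, 3, 1, 3, 1, 0, 1]), (123, false, [2, 0, 4, 0, 4, 3, 4, 3, 4, 0, 1, 3, 4, 3, 4, 0]), (25, true, [1, 0, 1, 2, 0, 4, 3, 4, 0, 1, 3, 1, 3, 1]), (241, false, [3, 1, 0, 4, 3, 1, 0, 1, 3, 4, 3, 4, 0, 4]), (104, true, [0, 1, 0, 1, 0, 1, 3, 1, 3, 4, 3, 4, 3, 4, 0]), (116, true, [0, 4, 3, 1, 0, 1, 0, 1, 0, 1, 3, 1, 3, 4]), (110, false, [0, 1, 3, 1, 3, 1, 3, 4, 3, 4, 3, 4, 0, 4, 0, 1]), (47, true, [0, 1, 0, 1, 2, 0, 1, 3, 4, 3, 4, 0, 4, 3, 1, 3]), (178, true, [0, 4, 0, 4, 3, 4,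 0, 4, 3, 4, 0, 4, 3]), (82, true, [4, 0, 1, 3, 4, 0, 4, 0, 4, 3, 1, 0, 1, 0, 1]), (103, false, [2, 0, 1, 0, 1, 3, 1, 3, 4, 0, 1, 3, 4]), (69, true, [4, 0, 1, 3, 4, 3, 4, 0, 1, 3, 1, 0, 4]), (64, false, [0, 1, 2, 0, 1, 3, 1, 3, 1, 3, 4, 3, 4, 3, 4, 0, 4]), (193, true, [0, 1, 0, 1, 0, 1, 0, 1, 0, 1, 2, 0, 1, 0, 4, 3]), (85, false, [1, 3, 1, 0, 1, 0, 4, 3, 1, 3, 1, 3, 4]), (214, false, [2, 0, 1, 0, 1, 3, 1, 3, 1, 0, 1, 0, 1, 3, 4, 0, 4]), (69, false, [1, 2, 0, 1, 0, 1, 0, 4, 0, 4, 0, 4, 3, 4]), (80, true, [3, 4, 0, 1, 3, 1, 3, 1, 0, 1, 3]), (26, false, [0, 1, 0, 4, 3, 4, 0, 1, 3, 4, 3, 1]), (114, true, [1, 2, 0, 4, 3, 4, 3, 1, 0, 1, 0, 1, 0, 1]), (154, false, [4, 0, 4, 3, 4, 0, 4, 3, 1, 0, 1, 3]), (81, true, [0, 4, 3, 4,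 3, 4, 0, 1, 3, 1, 3, 4, 3, 4, 3]), (250, false, [0, 4, 3, 1, 0, 1, 0, 4, 0, 4, 0, 1, 0]), (59, false, [3, 4, 0, 4, 3, 1, 0, 1, 3, 1, 0, 1]), (280, true, [0, 1, 3, 1, 0, 4, 3, 4, 3, 4, 0, 4]), (199, false, [3, 1, 0, 4, 3, 4, 3, 1, 0, 1, 0, 4, 3, 4, 3, 1]), (218, true, [0, 1, 3, 1, 3, 1, 0, 4, 3, 4, 0, 1, 0, 1]), (3, true, [1, 0, 1, 3, 1, 0, 1, 0, 4, 0, 4, 0, 1]), (120, false, [1, 3, 4, 0, 1, 3, 1, 0, 1]), (110, true, []), (113, true, [4, 0, 4, 3, 1, 0, 1, 0, 4, 0, 4, 0, 4]), (270, false, [2, 4, 0, 4, 3, 4, 3, 1, 0, 4, 3, 4, 0, 1, 0]), (275, true, [4, 3, 4, 3, 4, 0, 4, 3]), (69, false, [0, 1, 2, 0, 4, 3, 4, 0, 1, 0, 1, 0, 1, 3, 1, 0]), (184, true, [3, 1, 3, 4, 0, 4, 0, 1, 3, 4, 0, 4, 3, 4]), (18, true, [1, 0, 4, 0, 1, 3,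 1, 0, 4]), (26, true, [0, 1, 3, 1, 3, 4, 0, 4, 3, 1, 0, 1, 0, 4]), (5, false, [1, 0, 4, 3, 1, 0, 1, 3, 1, 3, 4, 0]), (165, false, [1, 0, 4, 3, 1, 3, 1, 3, 1]), (220, true, [0, 4, 0, 1, 3, 4, 0, 4, 0, 1, 3, 1]), (116, false, [3, 1, 0, 4, 3, 4, 3, 1, 0, 4, 3]), (18, false, [1, 2, 0, 4, 3, 4, 0, 1, 0, 1, 3]), (137, false, [1, 0, 1, 2, 0, 1, 3, 1, 0, 1, 3, 1, 3, 1, 0]), (46, false, [0, 4, 3, 4, 3, 1, 0, 1, 0, 1, 0, 1, 0]), (82, false, [4, 3, 1, 0, 1, 0, 4, 0, 4, 0, 1, 0]), (166, false, [2, 4, 0, 4, 3, 4, 3, 4, 0, 4, 0, 4, 0]), (80, false, [3, 1, 0, 4, 3, 1, 0, 1, 0, 4, 0, 4, 3]), (260, true, [0, 4, 3, 1, 3, 4, 0, 4, 0, 1, 3, 1, 3, 4, 3]), (110, true, []), (153, true, [1, 2, 0, 4, 0, 4, 0, 4, 3, 4, 3, 4, 0, 1, 3, 4]), (131,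 true, [2, 0, 1, 3, 1, 3, 1, 0, 1, 0, 4]), (7, false, [1, 0, 2, 4, 0, 4, 0, 4, 0, 4, 3, 1, 3, 4, 0]), (210, true, [1, 0, 1, 0, 1, 0, 2, 4, 0, 1, 3, 1]), (195, true, [1, 0, 1, 2, 0, 1, 3, 1, 0, 4, 0, 4, 0, 1, 0]), (57, true, [0, 1, 0, 1, 3, 4, 0, 4, 3, 1, 3, 1, 3, 4, 0]), (260, true, [0, 1, 0, 2, 4, 0, 4, 0, 1, 3, 4, 3, 4, 0, 4, 0]), (85, false, [2, 0, 1, 0, 1, 0, 1, 0, 1, 0, 1, 0]), (180, false, [2, 4, 0, 1, 3, 1, 3, 4, 0, 1, 0, 1, 0, 1, 3, 1]), (277, true, [0, 2, 4, 0, 4, 0, 4, 3, 4, 0, 4, 3, 4, 3, 1, 0]), (57, true, [2, 0, 1, 0, 1, 3, 1, 0, 4, 0, 4, 3, 1, 0, 1]), (225, false, [4, 0, 4, 0, 1, 3, 1, 0, 1, 3, 1, 0, 4, 0, 4, 0]), (73, false, [1, 3, 4, 3, 4, 3, 1, 0, 1, 3, 1, 3, 1, 0]), (3, true, [0, 4, 0, 1, 3, 4, 3, 4,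 3, 4, 0, 1, 0, 1]), (189, true, [1, 0, 1, 3, 1, 0, 1, 0, 1, 3, 4, 0, 4, 3, 4, 0, 1]), (49, true, [2, 0, 1, 0, 4, 3, 4, 3, 4, 3, 4, 0, 1, 0, 4]), (180, true, [1, 2, 0, 4, 3, 1, 0, 1, 3, 1, 0]), (217, true, [4, 0, 1, 3, 4, 0, 4, 3, 1, 0, 4]), (191, true, [0, 1, 0, 1, 3, 1, 3, 4, 0, 4, 0, 1, 3, 4]), (102, false, [1, 3, 1, 3, 1, 0, 1, 0, 1, 0, 1]), (73, true, [0, 4, 3, 1, 0, 4, 0, 4, 0, 4, 3, 1, 3, 4, 0, 1]), (275, false, [0, 4, 0, 4, 0, 4, 3, 1, 0, 1, 0, 4, 0, 4, 3, 4]), (220, true, [0, 2, 4, 3, 4, 3, 1, 0, 1, 0, 4, 0, 4, 0, 1, 3]), (168, true, [0, 4, 0, 1, 3, 1, 3, 1, 3, 1, 0, 4, 3, 4]), (274, false, [1, 2, 0, 4, 0, 4, 0, 4, 3, 1, 0, 1]), (28, true, [2, 4, 0, 1, 3, 1, 3, 1, 0, 1, 0, 4, 0]), (28, false, [2, 0, 1, 0, 1, 0,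 1, 3, 1, 3, 1, 3, 1]), (270, false, [4, 0, 1, 3, 1, 3, 1, 3, 4, 3, 4, 0, 1, 3]), (47, false, [1, 0, 1, 0, 4, 3, 1, 0, 1, 3, 4, 3, 1]), (41, true, [2, 4, 0, 1, 0, 1, 0, 1, 0, 1, 3]), (225, false, [1, 3, 1, 0, 1, 0, 1, 3, 1, 0, 1, 0]), (260, false, [1, 0, 1, 3, 1, 0, 1, 3, 1, 0, 4, 0, 4, 0, 1]), (176, true, [0, 1, 2, 0, 1, 3, 1, 3, 1, 0, 1, 0, 1, 0, 4, 0, 4]), (227, false, [2, 0, 4, 0, 4, 0, 4, 3, 1, 3, 1, 0, 1])]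
def r111 : List (ℕ × Bool × List ℕ) := [(272, true, [3, 4, 0, 1, 0, 1, 0, 4, 0, 4, 3, 1, 0, 1, 3]), (109, false, [0, 4, 0, 4, 0, 4, 0, 1, 3, 1, 0, 4]), (192, false, [2, 4, 0, 1, 3, 1, 3, 1, 0, 4, 3]), (31, false, [4, 0, 1, 3, 4, 3, 1, 0, 1, 3, 1, 0]), (241, true, [2, 4, 3, 4, 3, 4, 0, 4, 0, 4, 3, 4, 0, 4, 3]), (111, false, [1, 0, 1, 0, 1, 0, 4, 0, 4, 0, 1, 3, 1]), (72, false, [4, 3, 1, 3, 4, 0, 4, 3]), (89, true, [1, 2, 0, 1, 0, 1, 0, 4, 3, 1, 0, 1, 3, 4]), (207, true, [1, 0, 1, 0, 1, 0, 1, 0, 4, 0, 4, 0, 4, 3, 4, 0]), (153, false, [0, 4, 3, 4, 0, 4, 3, 4, 0, 4, 0, 1, 3, 1]), (261, false, [2, 4, 3, 4, 3, 4, 3, 4, 0, 1]), (274, true, [1, 3, 1, 3, 1, 0, 1, 0, 4, 3, 1, 3, 1, 3, 4]), (66, false, [1, 3, 4, 0, 4, 3, 4, 3, 4,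 0, 4, 3, 1, 3, 4, 0, 4, 3]), (65, false, [4, 0, 1, 0, 1, 3, 1, 3, 1, 0, 4, 3, 4]), (185, true, [1, 2, 0, 4, 0, 4, 0, 1, 3, 4, 3, 1]), (111, true, [3, 4, 0, 1, 3, 1, 3, 1, 3, 4, 3, 4, 3, 1, 0]), (115, true, [2, 4, 3, 1, 0, 1, 0, 1, 3, 1, 3, 1]), (231, true, [1, 2, 0, 4, 3, 4, 0, 4, 0, 1, 3, 1, 0, 4]), (167, false, [4, 3, 1, 3, 4, 0, 4, 0, 4, 3, 4, 0, 1, 3, 1]), (229, true, [2, 0, 4, 0, 1, 3, 1, 3, 4, 0]), (149, true, [0, 2, 4, 3, 4, 0, 1, 0, 1, 0, 4, 3, 4]), (262, true, [2, 0, 1, 0, 1, 0, 4, 3, 1, 0, 1, 3, 4, 3]), (77, false, [0, 1, 0, 4, 3, 1, 3, 4, 0, 4, 3, 4, 3, 4]), (189, false, [3, 4, 3, 1, 0, 4, 0, 4, 0, 4, 0]), (220, false, [0, 2, 4, 3, 4, 3, 4, 3, 1, 0, 1, 3, 4, 3, 4, 0, 4]), (90, true, [0, 2, 4, 0, 1, 0, 1, 0,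 4, 3, 4, 0, 1, 0, 1, 0]), (236, false, [1, 3, 4, 3, 4, 0, 1, 3, 1, 3, 4, 0]), (258, false, [3, 4, 3, 4, 3, 4, 0, 1, 0, 1, 3, 4, 0, 1, 3]), (92, true, [1, 3, 4, 3, 1, 0, 4, 0, 4, 0, 4, 3, 4]), (109, true, [4, 0, 4, 3, 4, 3, 4, 0, 4, 0, 4, 3, 1, 0, 4, 3]), (28, false, [1, 0, 1, 0, 1, 2, 0, 4, 3, 4, 3, 1, 0]), (118, true, [0, 1, 0, 2, 4, 0, 1, 3, 1, 3, 4, 0]), (108, true, [0, 4, 0, 4, 3, 4, 3, 4, 0, 1, 3]), (61, true, [1, 0, 1, 0, 4, 3, 4, 0, 4, 0, 1, 3, 4]), (86, true, [0, 1, 0, 1, 0, 2, 4, 0, 4, 3, 1, 0, 1, 3, 1, 3]), (220, true, [0, 1, 0, 1, 0, 1, 0, 2, 4, 0, 1, 0]), (226, true, [1, 2, 0, 1, 0, 1, 3, 1, 3, 1, 0, 4, 3]), (260, true, [1, 2, 0, 4, 3, 1, 3, 1, 0, 1, 0, 1, 3, 1]), (220, false, [2, 4, 0, 1, 0, 1, 3, 4, 3, 4,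 0, 1, 0, 1, 3, 4]), (141, true, [0, 1, 0, 1, 0, 1, 2, 0, 1, 3, 1, 0, 1, 3, 1, 0, 1]), (148, false, [3, 4, 0, 4, 0, 4, 0, 4, 0, 4, 3, 4]), (233, true, [0, 4, 3, 4, 0, 1, 3, 1, 3]), (222, false, [0, 1, 3, 4, 0, 4, 0, 4, 0, 1, 0]), (220, false, [0, 1, 0, 1, 0, 1, 3, 1, 3, 1, 0, 1]), (262, false, [0, 2, 4, 3, 4, 0, 1, 3, 1, 3, 4, 3, 4, 0, 1, 0, 4]), (213, false, [3, 4, 3, 1, 0, 4, 3, 4, 3, 4, 0, 4]), (86, true, [1, 0, 1, 0, 1, 0, 4, 3, 1, 3, 1, 0, 1, 3]), (104, false, [2, 4, 3, 1, 3, 1, 3, 1, 0, 1]), (111, true, []), (154, false, [1, 0, 4, 0, 1, 3, 1, 0, 1, 0, 4, 3, 4, 3]), (73, false, [1, 0, 1, 0, 2, 4, 0, 4, 3, 1, 0, 1, 0, 4, 0, 4]), (64, true, [1, 0, 2, 4, 0, 4, 0, 1, 3, 4, 3, 4, 0, 4, 0, 1]), (223, true, [1, 0, 4, 3,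 1, 3, 1, 0, 1, 3, 4, 0, 4, 0, 4]), (276, false, [0, 1, 2, 0, 4, 3, 1, 0, 1, 0, 4, 3, 1, 0]), (184, true, [1, 0, 2, 4, 0, 1, 3, 1, 3, 4, 3, 4, 3, 1, 0]), (180, false, [0, 2, 4, 0, 1, 3, 1, 3, 4, 0, 4, 0, 4, 0, 1]), (65, true, [1, 3, 1, 0, 1, 0, 4, 3, 1, 0, 1, 0, 4, 3]), (128, true, [0, 1, 0, 1, 3, 1, 3, 1, 0, 1, 0, 1]), (57, true, [0, 2, 4, 0, 4, 0, 1, 3, 1, 3, 1, 3, 1, 3, 1, 0, 4, 0, 1]), (111, true, [1, 0, 1, 0, 1, 0, 4, 3, 1, 0, 1, 0, 4, 3, 1]), (141, false, [0, 1, 2, 0, 1, 3, 1, 3, 4, 0]), (254, false, [4, 0, 1, 3, 1, 3, 4, 0, 1, 3, 1, 0, 4]), (35, false, [2, 4, 0, 4, 0, 4, 3, 1, 3, 4, 0, 1, 0]), (111, false, [0, 1, 0, 1, 0, 4, 0, 4, 3, 4, 0, 1, 0]), (249, false, [1, 3, 1, 0, 4, 3, 4, 0, 4, 0, 4, 3, 1, 0, 4, 0]), (107,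 false, [0, 1, 0, 1, 3, 4, 0, 4, 3, 4, 3, 4, 0, 4, 3, 4, 3]), (57, true, [0, 1, 3, 1, 0, 4, 3, 1, 3, 4, 0, 4, 3, 4, 3]), (95, false, [3, 4, 3, 4, 0, 1, 3, 1, 3]), (65, true, [4, 0, 1, 0, 4, 3, 4, 0]), (235, false, [1, 2, 0, 4, 0, 4, 3, 4, 3, 4, 0, 4, 0, 1, 3]), (211, false, [1, 3, 4, 0, 4, 0, 4, 3, 4, 3, 4, 3, 4, 0, 1]), (149, false, [3, 4, 3, 4, 0, 1, 3, 1, 3]), (222, false, [0, 1, 3, 1, 3, 1, 3, 1, 0, 1, 3, 4, 3, 1, 0]), (226, true, [2, 0, 4, 3, 4, 3, 4, 3, 4, 0, 4, 0]), (234, false, [1, 2, 0, 4, 3, 1, 3, 1, 0, 4, 3, 1, 0, 1]), (213, false, [1, 2, 0, 1, 3, 1, 3, 1, 0, 1, 0, 1, 0, 4, 0, 4]), (268, true, [4, 0, 1, 3, 1, 0, 1, 0, 1, 0, 4, 0, 4]), (153, true, [0, 1, 3, 1, 0, 1, 0, 1, 0, 4, 0, 4, 0, 4, 3, 4, 0]), (223, false,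 [3, 1, 0, 1, 0, 1, 3, 4, 3, 4, 0, 1, 0, 1, 3]), (247, false, [1, 0, 1, 0, 4, 0, 4, 3, 1, 0, 1, 3, 1, 0, 4]), (261, false, [0, 2, 4, 3, 1, 0, 1, 0, 1, 3, 1, 3, 1, 3, 1, 0, 4]), (194, false, [0, 4, 0, 4, 0, 1, 3, 1, 3, 4, 3, 4, 3]), (125, false, [1, 0, 2, 4, 3, 4, 3, 1, 0, 1, 3, 4, 3, 4, 3, 4]), (273, true, [1, 2, 0, 4, 0, 4, 3, 4, 0, 1, 3, 1, 3]), (65, true, [1, 0, 1, 0, 1, 2, 0, 4, 0, 4, 3, 4, 0, 1, 3, 4, 0]), (90, true, [4, 0, 1, 3, 1, 0, 4, 3, 4, 0, 1]), (262, false, [0, 4, 0, 1, 3, 1, 0, 4, 0, 4, 3, 1, 0]), (111, false, [3, 4, 3, 4, 0, 1, 3, 1, 3, 4, 0, 1]), (272, false, [0, 4, 0, 1, 3, 1, 0, 1, 0, 4, 3, 4, 0, 4, 3]), (115, true, [1, 0, 1, 0, 1, 0, 1, 2, 0, 4, 3, 1, 3]), (249, false, [1, 0, 1, 3, 1, 3, 1, 0, 4, 3,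 1, 0, 1, 0, 1, 3]), (112, false, [4, 0, 1, 3, 1, 0, 1, 0, 1, 3, 4, 0, 4, 0, 1, 0]), (191, true, [1, 3, 1, 0, 4, 3, 4, 3, 1, 0, 4, 0]), (276, true, [2, 4, 3, 1, 3, 1, 0, 4, 0, 4, 3, 4]), (224, true, [2, 4, 0, 4, 3, 4, 0, 4, 0, 1, 3, 4, 3, 4]), (262, true, [1, 0, 4, 3, 4, 0, 4, 0, 4, 0, 1, 3, 1, 3]), (215, false, [1, 0, 4, 0, 4, 0, 4, 3, 4, 0, 4, 3, 4, 3]), (214, true, [0, 1, 2, 0, 1, 0, 4, 3, 1, 0, 1, 0, 4, 3, 1, 3]), (111, false, [0, 4, 3, 1, 0, 1, 0, 1, 3, 4, 0, 4, 3, 1, 3, 1, 0]), (247, false, [1, 2, 0, 1, 0, 1, 3, 1, 3, 4, 0]), (56, true, [0, 1, 0, 1, 0, 1, 3, 1, 0, 1, 3, 4, 0, 1]), (85, true, [1, 0, 1, 2, 0, 1, 0, 1, 3, 4, 3, 4, 0, 4, 0]), (233, true, [1, 3, 4, 0, 4, 0, 4, 3, 1, 0, 1, 0, 4, 0, 4]), (180, false, [4,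 3, 1, 0, 1, 3, 1, 3, 1, 0, 4, 3, 4, 0, 1]), (224, true, [2, 0, 1, 3, 4, 3, 4, 0, 4, 0, 4, 3, 1, 0, 1, 0]), (189, false, [4, 3, 4, 3, 1, 0, 1, 0, 4, 3, 4, 0, 1, 0]), (277, false, [0, 1, 0, 2, 4, 3, 4, 3, 1, 0, 1, 3, 4, 0, 4, 0, 1]), (217, true, [0, 4, 0, 4, 3, 1, 3, 1, 3, 4, 3, 4, 0, 1]), (181, false, [4, 3, 1, 3, 4, 0, 4, 0, 4, 0, 4, 3, 4, 3]), (211, true, [1, 0, 4, 0, 4, 3, 4, 0, 1, 0, 1]), (136, false, [3, 1, 0, 1, 3, 1, 0, 1, 3, 1, 0, 1]), (118, true, [4, 3, 4, 3, 4, 0, 1, 3, 1, 3, 1, 0])]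
def r112 : List (ℕ × Bool × List ℕ) := [(221, false, [1, 0, 1, 3, 4, 3, 1, 0, 1, 3, 1, 0, 1, 0]), (88, true, [0, 1, 0, 1, 0, 4, 0, 4, 0, 4, 3, 4, 0, 1]), (248, true, [0, 1, 2, 0, 1, 0, 4, 3, 4, 0, 4, 3, 1]), (222, true, [2, 0, 1, 3, 4, 0, 4, 0, 1, 3, 1, 3]), (196, true, [1, 0, 4, 0, 4, 3, 1, 3, 4, 0, 1, 3]), (150, true, [2, 0, 1, 0, 4, 0, 4, 3, 1, 0, 1, 0, 4]), (60, false, [1, 3, 1, 0, 4, 0, 4, 3, 4, 3, 4, 3, 4, 0, 1]), (221, false, [0, 2, 4, 0, 1, 0, 4, 3, 4, 0, 4, 0]), (198, false, [0, 2, 4, 0, 1, 0, 1, 3, 4, 0, 4, 3, 4, 3, 1]), (222, false, [2, 4, 3, 1, 3, 4, 0, 4, 3, 4, 3]), (268, false, [0, 4, 3, 1, 3, 1, 0, 1, 3, 1, 0, 1, 3, 1, 0, 1]), (111, false, [3, 4, 3, 1, 3, 1, 0, 4, 3, 4, 3, 4, 0, 4, 3, 1]), (68, false, [4,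 3, 4, 3, 4, 3, 4, 0, 4, 0, 4, 0, 4, 3, 1]), (112, false, [3, 4, 3, 4, 3, 1, 0, 1, 3, 4, 0, 4, 0, 4, 3, 1]), (216, true, [0, 4, 0, 1, 3, 1, 0, 4, 3, 4, 3, 1, 0]), (179, true, [2, 0, 1, 3, 1, 3, 4, 0, 1, 0, 1, 3, 1]), (84, false, [2, 4, 0, 4, 0, 4, 3, 1, 0, 4, 0, 4, 0, 1, 3]), (71, false, [0, 2, 4, 3, 1, 3, 1, 3, 1, 0, 4, 0, 4, 3, 4, 3, 1]), (164, true, [1, 0, 1, 0, 4]), (98, false, [1, 2, 0, 4, 0, 4, 3, 1, 0, 1, 0, 1, 3, 1, 0, 4, 0]), (262, false, [4, 3, 1, 3, 4, 0, 1, 3, 1, 0, 4]), (79, true, [4, 3, 1, 0, 4, 0, 4, 3, 4, 3, 4, 0, 4, 0, 1]), (67, true, [2, 4, 3, 1, 0, 1, 3, 4, 3, 1, 0, 1, 0, 1]), (213, false, [4, 3, 1, 0, 1, 0, 1, 3, 4, 0, 4, 3, 1, 3]), (253, false, [0, 1, 0, 2, 4, 0, 1, 0, 4, 3, 4, 3, 4]), (261, false,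 [1, 3, 4, 0, 1, 3, 1, 3, 1, 3, 4, 0]), (212, true, []), (232, false, [3, 1, 0, 1, 3, 1, 3, 1, 3, 1, 0, 1, 0, 1, 0]), (123, false, [3, 4, 0, 1, 0, 1, 3, 1, 0, 1, 3, 4]), (66, false, [2, 4, 0, 1, 3, 1, 0, 1, 3, 1, 3, 1, 3, 4]), (187, true, [0, 2, 4, 3, 1, 0, 4, 0, 4, 3, 1, 3, 4, 0, 4, 0]), (72, true, [2, 4, 3, 4, 3, 1, 0, 1, 3, 4, 0, 4, 0, 4]), (67, true, [4, 0, 1, 0, 4, 3, 4, 0, 4, 0, 4, 3, 1, 0, 1]), (89, false, [0, 2, 4, 3, 4, 0, 4, 3, 4, 0, 4, 3]), (90, true, [2, 0, 1, 0, 1, 3, 4, 0, 4, 0, 1, 3, 1]), (149, true, [1, 0, 1, 2, 0, 4, 3, 4, 3, 4, 0, 4, 3]), (27, true, [0, 4, 0, 1, 3, 1, 0, 4, 3, 4, 3]), (57, false, [3, 1, 3, 4, 0, 1, 0, 1, 3, 4, 3, 1, 0, 4, 0, 4]), (204, true, [1, 3, 1, 3, 1, 0, 1, 0, 1, 3, 1, 3, 1, 0,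 4, 0]), (42, false, [0, 4, 3, 4, 0, 4, 0, 4, 0, 1, 3, 1, 3]), (7, false, [4, 0, 1, 3, 1, 3, 4, 3, 4, 0, 1, 3, 1, 0]), (141, false, [1, 0, 4, 3, 4, 3, 1, 0, 1, 3, 1, 3, 4]), (246, true, [1, 3, 1, 0, 1, 0, 1, 3, 1, 3, 4, 0, 4, 3]), (7, true, [4, 0, 1, 3, 1, 3, 1, 0, 1, 0, 4, 0, 4, 0, 4, 0]), (33, true, [2, 4, 3, 1, 3, 1, 3, 1, 0, 1, 3, 1]), (4, false, [3, 1, 3, 4, 0, 4, 3, 4, 3, 4, 0, 1, 3, 4, 0]), (270, true, [1, 2, 0, 4, 0, 4, 3, 1, 0, 4, 0, 4, 3, 4]), (57, false, [4, 0, 1, 0, 1, 0, 4, 0, 4, 0, 1]), (58, true, []), (125, true, [1, 2, 0, 1, 0, 4, 0, 4, 3, 4, 3, 4, 0, 1, 0, 4]), (96, false, [2, 0, 1, 3, 4, 0, 4, 3, 4, 0, 4, 3, 1, 3, 1, 0]), (88, false, [0, 2, 4, 0, 4, 3, 4, 3, 4, 0, 1, 3, 1, 0, 4]), (242, false, [4, 3,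 1, 0, 1, 3, 4, 0, 1, 0, 1, 3, 4, 0]), (190, false, [0, 4, 3, 1, 3, 1, 3, 1, 0, 4, 3, 4, 3]), (71, true, [4, 3, 1, 3, 1, 0, 4, 3, 4, 3, 1]), (170, false, [1, 0, 4, 3, 4, 0, 4, 0, 1, 3, 4, 3, 4, 0, 4, 3]), (66, true, [2, 0, 1, 0, 4, 0, 4, 0, 1, 3, 1, 0, 4, 0, 4, 0, 1]), (112, false, [4, 0, 1, 0, 4, 3, 1, 3, 1, 3, 4, 3, 4, 0, 1]), (151, false, [0, 4, 0, 4, 0, 4, 0, 4, 0, 1, 0]), (237, false, [4, 0, 4, 3, 4, 0, 1, 3, 1, 3, 4, 3, 4, 0, 1]), (214, true, [0, 1, 3, 4, 3, 4, 0, 4, 0, 4, 3, 1, 0, 1, 3, 1]), (191, false, [1, 0, 1, 0, 4, 3, 1, 0, 1, 0, 4, 3, 4, 3, 4]), (124, false, [1, 0, 4, 3, 4, 0, 4, 0, 4, 3, 4, 3, 1, 0]), (273, true, [1, 0, 1, 2, 0, 4, 0, 1, 3, 1, 0, 1, 0, 4, 3]), (276, false, [4, 3, 4, 3, 1, 0, 4, 0, 4, 3, 4,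 0, 4]), (169, true, [1, 3, 1, 0, 1, 3, 4, 0, 4, 3, 4, 0, 4, 0]), (253, true, [1, 0, 1, 0, 2, 4, 0, 4, 3, 1, 0, 1, 3, 4, 3]), (75, true, [0, 1, 2, 0, 1, 0, 4, 3, 4, 0, 1, 0, 4]), (217, true, [3, 1, 0, 4, 3, 1, 3, 4]), (221, false, [0, 4, 3, 4, 0, 4, 3, 1, 0, 4, 0, 4, 3, 4]), (97, true, [1, 0, 4, 3, 1, 3, 1, 0, 4, 3, 1, 0]), (189, false, [1, 2, 0, 4, 0, 4, 3, 4, 3, 4, 0, 1, 3, 4]), (216, true, [2, 4, 0, 4, 0, 1, 3, 1, 0, 1, 0, 1, 0]), (263, false, [1, 2, 0, 1, 0, 4, 0, 4, 3, 4, 0, 1, 3]), (269, true, [3, 1, 0, 4, 3, 1, 3, 4, 0, 4, 3, 1, 3]), (189, false, [2, 0, 1, 0, 4, 3, 4, 3, 1, 0, 1, 0, 4, 3, 4, 3, 1]), (243, false, [1, 3, 1, 0, 1, 3, 1, 3, 1, 0, 4, 3]), (53, true, [0, 1, 0, 1, 2, 0, 4, 3, 4, 3, 4, 0, 1, 0]), (245,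 true, [2, 0, 4, 0, 1, 3, 1, 3, 4, 0, 4]), (83, true, [3, 1, 0, 1, 0, 4, 3, 4, 0]), (151, false, [1, 0, 2, 4, 3, 4, 3, 1, 0, 4, 3, 4, 3, 1, 0, 1]), (236, false, [1, 0, 1, 2, 0, 4, 0, 1, 3, 1, 0, 1, 0, 1, 3, 1]), (212, false, [1, 0, 1, 2, 0, 4, 3, 4, 0, 4, 0, 4]), (141, false, [2, 0, 1, 3, 4, 0, 1, 3, 1, 3, 1, 0, 4, 0]), (67, false, [4, 0, 4, 3, 1, 0, 1, 0]), (120, true, [4, 3, 1, 3, 4, 0, 4, 3, 4, 3, 4]), (212, true, [1, 2, 0, 1, 0, 4, 0, 4, 3, 4, 0, 4, 3, 1, 3]), (237, false, [3, 4, 3, 1, 3, 1, 3, 4, 0, 4, 3, 4, 3, 1, 3]), (112, false, [1, 3, 1, 0, 4, 3, 1, 3, 1, 0, 4, 3, 1]), (223, true, [0, 2, 4, 3, 4, 0, 4, 3, 4, 3, 4, 0, 1, 3, 4, 3, 4]), (261, false, [0, 4, 0, 1, 3, 1, 3, 1, 0, 1, 0, 4, 0]), (262, true, [0, 2, 4,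 0, 4, 0, 1, 3, 1, 0, 4, 3, 1, 3, 1, 0, 4]), (134, false, [0, 1, 3, 1, 0, 1, 0, 1, 3, 1, 0, 4, 0]), (185, true, [0, 1, 3, 1, 3, 4, 0, 1, 3, 1, 0, 4, 0, 1]), (237, true, [1, 0, 1, 0, 1, 0, 1, 3, 4, 0, 4, 3, 4, 3, 1, 0]), (221, true, [2, 4, 3, 1, 3, 1, 0, 4, 0, 4, 3, 4, 3, 1]), (62, false, [2, 4, 3, 1, 3, 4, 0, 4, 0]), (253, true, [2, 0, 4, 0, 1, 3, 4, 0, 4, 0, 4, 3, 1, 0]), (65, true, [1, 0, 4, 0, 1, 3, 1, 3, 4, 0, 1, 3, 1, 3]), (232, false, [2, 0, 4, 3, 4, 0, 4, 3, 1, 3, 1, 3, 4]), (273, false, [0, 2, 4, 3, 4, 0, 4, 3, 1, 3, 4, 0, 4, 0]), (86, true, [1, 0, 1, 2, 0, 1, 3, 4, 0, 4, 3, 1, 3, 1, 3, 1]), (80, false, [1, 0, 4, 3, 4, 0, 4, 0, 4, 3]), (231, false, [1, 0, 1, 0, 4, 0, 4, 3, 4, 3, 4, 0, 4, 3]), (40, false, [0, 1,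 0, 2, 4, 3, 4, 3, 4, 0, 1, 3]), (191, true, [3, 4, 3, 4, 0, 4, 3, 4, 0, 4]), (236, true, [3, 4, 3, 4, 3, 1, 0, 4, 0, 4, 3, 4, 3]), (126, false, [4, 0, 1, 3, 1, 0, 4, 3, 4, 3, 1]), (63, true, [0, 1, 0, 4, 0, 4, 3, 4, 3, 4, 0, 4, 3, 4]), (154, true, [1, 3, 4, 3, 4, 0, 1, 3, 1, 3, 4, 0]), (109, true, [1, 3, 1, 0, 1, 3, 4, 0, 4, 0, 4, 0, 1, 0]), (84, false, [0, 1, 3, 1, 3, 4, 3, 4, 0, 4, 3, 4, 0, 1])]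
def r113 : List (ℕ × Bool × List ℕ) := [(2, false, [1, 0, 1, 3, 4, 0, 4, 3, 4, 0, 4, 3]), (82, false, [0, 4, 3, 1, 0, 1, 0, 1, 3, 1, 0, 4, 3, 1]), (99, true, [1, 0, 1, 0, 1, 0, 4, 3, 1, 0, 1]), (270, false, [2, 0, 1, 3, 4, 0, 4, 3, 4, 3, 1, 0, 4, 3, 4]), (64, false, [0, 1, 0, 1, 0, 4, 3, 1, 3, 1, 0, 1, 0, 1]), (23, true, [3, 4, 3, 4, 0, 4, 0, 4, 3, 1, 0, 4, 3]), (106, true, [1, 3, 4, 0, 1, 3, 1, 0, 4, 0, 4, 3, 1, 0, 4]), (178, false, [1, 3, 1, 0, 1, 0, 4, 3, 1, 3, 4, 0, 4, 3]), (116, true, [2, 0, 4, 0, 1, 3, 1, 0, 4, 3, 4, 3, 4, 0, 1]), (194, true, [0, 2, 4, 0, 4, 3, 4, 3, 1, 0, 4, 3, 4]), (69, true, [0, 1, 3, 1, 0, 1, 0, 4, 3, 4, 0, 4, 3, 4, 0]), (80, false, [0, 2, 4, 0, 4, 0, 4, 0, 1, 3, 1, 0, 1]), (267, true, [4, 3,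 4, 3, 1, 0, 1, 3, 1, 3, 1, 3, 4]), (47, false, [0, 2, 4, 0, 1, 0, 4, 3, 4, 3, 4, 3, 4]), (38, true, [0, 1, 2, 0, 4, 3, 4, 3, 4, 3, 1]), (30, true, [1, 2, 0, 1, 0, 4, 3, 4, 3, 4, 3, 1, 0, 1, 0]), (135, false, [0, 1, 0, 1, 3, 1, 3, 4, 3, 4, 3, 4, 0, 4, 3]), (214, false, [1, 2, 0, 4, 3, 1, 0, 1, 3, 4]), (118, false, [1, 0, 1, 3, 1, 0, 1, 3, 1, 0, 4, 0, 1]), (168, false, [0, 1, 0, 1, 0, 1, 3, 1, 3, 1]), (110, true, [1, 3, 1, 3, 1, 3, 4, 3, 4, 0, 1, 3, 1]), (75, true, [0, 1, 0, 4, 3, 1, 0, 1, 0, 1, 3, 1, 0, 4, 3, 4]), (110, true, [0, 2, 4, 0, 1, 3, 1, 3, 4, 0, 4, 0, 1, 3, 1, 3, 4]), (64, false, [0, 2, 4, 0, 1, 3, 1, 3, 1, 3, 4, 0, 4, 3, 4]), (69, true, [2, 4, 3, 4, 3, 1, 0, 1, 3, 1, 0, 1, 0, 4]), (171, false, [2, 0, 1, 0,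 4, 0, 4, 3, 4, 3, 4, 3, 4, 0, 1, 0]), (194, true, [0, 4, 3, 4, 0, 4, 0, 1, 3, 1, 0, 1, 3, 4]), (116, false, [4, 0, 1, 3, 4, 0, 4, 3, 4, 3, 4, 0, 1, 0]), (90, false, [2, 0, 1, 0, 1, 3, 1, 3, 1, 0, 4, 0, 4, 3, 1, 3]), (71, false, [0, 2, 4, 0, 1, 3, 1, 0, 1, 0, 4, 3, 1]), (85, false, [0, 4, 0, 1, 3, 1, 3, 4, 0, 4, 3, 1, 0, 4, 3]), (272, false, [0, 4, 3, 1, 3, 1, 0, 4, 3, 1, 3, 1, 0, 4, 0]), (205, true, [0, 1, 2, 0, 4, 0, 4, 3, 4, 3, 1, 0, 1, 0]), (135, false, [4, 0, 4, 3, 4, 3, 4, 0, 4, 0, 4, 0, 4]), (22, false, [4, 3, 1, 3, 4, 0, 1, 0, 1, 3, 4, 0, 1]), (2, false, [0, 1, 2, 0, 1, 3, 4, 0, 4, 3, 1]), (158, false, [0, 2, 4, 0, 1, 3, 1, 0, 4, 0, 4, 3, 1, 0, 4, 3]), (171, false, [0, 4, 3, 1, 0, 1, 0, 4, 3, 4, 3, 1, 0, 1, 0,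 4]), (110, true, [0, 2, 4, 0, 1, 3, 1, 3, 4, 0, 4, 0, 1, 3, 1, 3, 4]), (48, false, [3, 4, 3, 4, 0, 4, 0, 4, 3, 4]), (89, false, [0, 2, 4, 0, 4, 3, 4, 0, 1, 0, 1, 3, 1, 0, 1]), (86, true, [0, 2, 4, 0, 4, 3, 1, 0, 1, 3, 4, 3, 1, 0, 1, 3]), (118, false, [2, 4, 0, 1, 3, 4, 0, 4, 3]), (90, false, [0, 4, 3, 1, 3, 1, 3, 4, 0, 4, 3, 1]), (270, false, [3, 4, 0, 4, 3, 4, 0, 4, 3, 1, 3, 1, 0, 1, 3]), (135, false, [0, 1, 0, 1, 2, 0, 4, 0, 4, 0, 4, 3, 4, 0, 4, 3]), (166, false, [3, 4, 3, 1, 0, 4, 0, 4, 3, 4, 0, 1, 0]), (260, true, [2, 0, 4, 3, 1, 0, 1, 3, 1, 3, 1, 0, 4, 3, 1, 3, 1]), (47, false, [1, 2, 0, 4, 3, 4, 3, 4, 3, 4, 0, 1, 0, 4]), (110, true, [1, 3, 1, 3, 1, 3, 4, 3, 4, 0, 1, 3, 1]), (184, false, [1, 2, 0, 4, 3, 4, 0, 1,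 3, 4, 0]), (47, false, [0, 1, 2, 0, 1, 0, 4, 3, 4, 3, 4, 0, 4, 3]), (166, false, [0, 1, 0, 1, 3, 4, 3, 4, 3, 1, 0, 1, 3, 1, 3]), (26, true, [2, 0, 1, 0, 4, 3, 4, 0, 1]), (3, true, [2, 0, 1, 0, 1, 3, 1, 3, 4, 0, 1, 0, 1, 0]), (85, false, [0, 2, 4, 3, 1, 0, 1, 0, 1, 3]), (89, false, [0, 1, 0, 4, 3, 4, 0, 1, 0, 1, 3, 4, 0]), (178, false, [1, 2, 0, 1, 3, 1, 3, 4, 0, 1, 0, 1, 3, 1, 0, 4, 3]), (60, false, [1, 0, 4, 3, 1, 3, 1, 3, 1, 0, 4, 3, 4, 0, 4]), (266, true, [0, 4, 3, 1, 3, 4, 0, 4, 0, 1, 3, 1, 3, 4, 3]), (38, true, [0, 4, 3, 4, 0, 4, 0, 4, 3, 1, 3, 4, 0, 1]), (158, false, [0, 4, 3, 1, 0, 1, 3, 1, 3]), (22, false, [2, 0, 4, 0, 1, 3, 1, 0, 1, 0, 4, 3, 4]), (193, false, [1, 0, 4, 0, 4, 3, 4, 3, 4, 3, 4, 0]), (276, false,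 [2, 4, 3, 1, 3, 1, 0, 1, 0, 4]), (203, false, [2, 4, 3, 1, 3, 1, 3, 4, 0, 4, 3, 4, 3, 4]), (119, true, [4, 3, 4, 3, 4, 0, 4, 3, 1, 3, 4, 0, 4, 0, 4]), (71, false, [0, 1, 3, 1, 0, 1, 3, 1, 0, 4, 0, 4, 3, 1]), (178, false, [1, 0, 1, 0, 2, 4, 0, 1, 3, 1, 3, 4, 0, 1]), (180, true, [1, 0, 4, 3, 4, 3, 4, 3, 4, 0, 1, 0, 1]), (69, true, [2, 0, 4, 0, 4, 0, 1, 3, 1, 0, 1, 0, 1, 0]), (106, true, [2, 4, 0, 4, 3, 4, 0, 1, 3, 1, 0, 1]), (281, true, [4, 0, 1, 0, 4, 3, 4, 3, 4, 0, 4, 0, 4, 0, 1]), (86, true, [0, 4, 0, 4, 3, 4, 3, 1, 0, 1, 0, 1, 3, 1, 3, 4]), (179, false, [0, 4, 3, 1, 0, 1, 3, 4, 0, 4, 0, 4]), (64, true, [0, 4, 3, 1, 0, 1, 0, 1, 0, 4, 3, 4, 0, 4]), (260, false, [1, 0, 1, 3, 4, 3, 4, 0, 1, 3, 1, 3]), (23, true, [2, 0,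 4, 0, 4, 3, 1, 3]), (183, true, [2, 0, 1, 0, 1, 0, 4, 0, 4, 0, 4]), (85, false, [2, 0, 1, 0, 1, 0, 4, 0, 4, 3, 4, 0, 4, 3, 4, 0]), (199, false, [1, 3, 1, 0, 1, 3, 1, 0, 1, 3, 1]), (100, false, [3, 1, 3, 4, 3, 4, 3, 4, 0, 1, 3, 1, 3, 4]), (260, false, [2, 4, 3, 1, 3, 4, 0, 1, 3, 1, 3, 4, 0, 1, 0]), (41, true, [2, 0, 1, 3, 1, 3, 1, 0, 1, 0, 4, 0, 4, 0]), (214, false, [1, 3, 4, 0, 4, 3, 4]), (272, false, [2, 4, 0, 1, 0, 4, 3, 4, 3, 1, 0, 4, 0, 4]), (118, false, [0, 1, 3, 1, 3, 1, 0, 1, 0, 4, 0, 4, 3, 1, 0, 4]), (69, true, [3, 4, 3, 1, 0, 4, 0, 4, 0, 1, 3, 4, 3, 4]), (260, true, [3, 4, 3, 4, 3, 4, 3, 1, 0, 1, 3, 4, 3, 4, 0, 1]), (239, true, [1, 0, 1, 2, 0, 4, 0, 1, 3, 1, 0, 1, 3]), (250, false, [2, 0, 4, 0, 4, 3, 4, 3, 4,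 3, 4, 0, 1]), (193, true, [1, 0, 1, 2, 0, 1, 3, 1, 3, 1, 3, 4, 0, 4, 3, 1]), (29, true, [2, 4, 3, 4, 3, 4, 3, 4, 0, 4, 3, 1, 0]), (85, false, [0, 1, 3, 4, 3, 4, 3, 1, 0, 4, 0, 4]), (171, true, [2, 4, 0, 1, 3, 4, 0, 4, 3, 1, 3, 1, 3, 4]), (199, false, [1, 2, 0, 4, 3, 4, 0, 4, 3, 4, 0, 1, 3]), (178, false, [3, 1, 0, 4, 0, 4, 0, 4, 3, 1, 3, 1, 0, 1]), (135, false, [0, 1, 2, 0, 4, 0, 4, 3, 1, 0, 1, 3, 4, 3, 1, 0]), (59, true, [0, 2, 4, 0, 1, 0, 1, 3, 4, 0, 1, 0, 1]), (64, true, [0, 2, 4, 3, 4, 3, 4, 0, 4, 0, 4, 0, 4, 3, 1, 3, 4]), (171, true, [4, 3, 1, 0, 4, 3, 4, 0, 1, 3, 1, 3, 4]), (135, false, [0, 1, 0, 2, 4, 3, 4, 3, 4, 0, 1, 3, 1, 3]), (104, false, [3, 4, 0, 1, 3, 4, 0, 4, 0, 1, 3, 4, 0]), (41, true, [1, 0, 1, 0, 4,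 3, 4, 3, 4, 0, 4, 0, 4, 0, 4, 3]), (179, false, [2, 4, 3, 4, 0, 1, 3, 1, 3, 1, 0, 4, 0]), (184, true, [0, 2, 4, 0, 4, 0, 4, 3, 4, 3, 1, 0, 4, 0, 4]), (180, true, [0, 1, 0, 1, 2, 0, 4, 3, 4, 0, 1, 0, 1, 0, 1, 3, 1]), (135, false, [1, 0, 1, 0, 4, 3, 4, 3, 4, 3, 1]), (183, true, [3, 4, 0, 4, 0, 4, 3, 4, 3, 1, 0, 4]), (162, true, [0, 1, 3, 1, 0, 1, 0, 1, 0, 4, 0, 4, 0]), (276, false, [4, 0, 1, 0, 1, 0, 1, 3, 4, 3, 1, 0, 4]), (113, true, [])]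
def r114 : List (ℕ × Bool × List ℕ) := [(69, true, [4, 3, 1, 0, 4, 0, 4, 0, 4, 3, 1, 3, 4, 0, 4, 3]), (211, true, [1, 3, 4, 3, 4, 0, 4, 3, 4, 0, 4, 0, 1, 0]), (194, false, [1, 2, 0, 1, 0, 1, 3, 1, 3, 1, 3, 1, 0, 4, 3]), (199, false, [1, 3, 4, 3, 1, 0, 1, 0, 1, 0, 4, 3, 1, 0]), (181, false, [0, 1, 2, 0, 1, 3, 1, 0, 4, 3, 4, 3, 4]), (67, false, [0, 4, 0, 4, 3, 4, 0, 1, 3, 1, 3, 1, 3, 1, 0]), (110, true, [0, 4, 0, 4, 0, 4, 0, 4, 3, 1, 3, 1, 0, 4]), (118, false, [1, 0, 1, 2, 0, 4, 0, 4, 3, 1, 3, 1, 0]), (103, true, [3, 4, 0, 1, 3, 1, 3, 4, 0, 1, 0, 1, 3, 1]), (110, true, [2, 4, 0, 4, 0, 4, 0, 4, 3, 1, 3, 1, 0, 4]), (193, false, [4, 0, 4, 3, 1, 0, 1, 0, 4]), (273, true, [4, 0, 4, 3, 1, 3, 1, 3, 4, 3, 4, 0]), (82, false, [0,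 1, 0, 1, 0, 1, 3, 1, 3, 1, 0, 1, 0, 1]), (199, false, [3, 4, 0, 1, 3, 1, 3, 1, 3, 4, 0, 1, 0, 1]), (200, true, [4, 3, 4, 3, 1, 0, 1, 0, 4, 3, 1, 3, 4, 0, 4]), (154, false, [1, 2, 0, 1, 0, 1, 3, 4, 3, 1, 0, 1, 3, 4, 0, 1]), (185, true, [4, 3, 4, 0, 1, 0, 1, 3]), (90, false, [4, 3, 1, 0, 1, 0, 4, 3, 4, 3, 4, 0]), (66, false, [0, 1, 3, 1, 0, 4, 3, 4, 3, 4, 0, 4, 0, 4, 0, 1]), (254, true, [1, 2, 0, 4, 0, 1, 3, 1, 0, 1, 0, 1, 3, 4]), (182, true, [3, 4, 3, 4, 0, 1, 3, 4, 3]), (127, false, [0, 2, 4, 0, 1, 0, 1, 3, 4, 0, 4, 0, 4, 3, 4, 0]), (140, false, [0, 1, 3, 1, 3, 1, 3, 1, 0, 1, 3]), (65, false, [0, 1, 0, 4, 3, 1, 3, 1, 3, 1, 3]), (136, false, [0, 1, 3, 1, 3, 1, 0, 4, 3, 4, 3, 4, 0, 1]), (133, false, [3, 1, 0, 4, 3, 1, 3,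 1, 3, 4, 3]), (211, false, [1, 0, 1, 0, 1, 0, 1, 2, 0, 1, 0, 1, 0, 1, 0]), (114, true, []), (225, false, [1, 0, 2]), (109, true, [0, 2, 4, 3, 4, 0, 1, 0, 1, 3, 1, 3, 1, 0, 4, 3]), (260, true, [0, 1, 3, 1, 0, 1, 0, 1, 3, 1, 0, 1, 3, 1, 0]), (193, true, [2, 4, 0, 1, 0, 4, 3, 4, 0, 4, 0, 1, 3, 4, 3, 4, 0]), (209, false, [1, 2, 0, 4, 0, 1, 3, 4, 0, 4, 0, 1, 3, 4, 0]), (59, true, [1, 2, 0, 4, 0, 1, 3, 4, 0, 4, 0, 1, 3]), (47, true, [0, 1, 2, 0, 4, 0, 1, 3, 1, 0, 1, 0, 1, 0, 1]), (85, false, [2, 4, 0, 1, 3, 1, 0, 1, 0, 1, 3, 1, 0, 4, 0]), (229, false, [2, 0, 4, 0, 4, 3, 4, 3, 4, 3, 4]), (78, false, [2, 0, 4, 0, 1, 3, 4, 0, 4]), (229, false, [0, 4, 0, 4, 3, 4, 0, 4, 0, 4, 3, 4]), (104, true, [4, 3, 1, 0, 1, 3, 1, 0, 1, 0, 1,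 3, 1, 3]), (88, true, [1, 0, 1, 0, 1, 2, 0, 4, 3, 4, 0, 4, 3, 4, 0, 1, 0]), (23, false, [2, 0, 4, 0, 1, 3, 1, 3, 4, 3, 4, 3, 4, 0, 4, 0]), (18, true, [3, 4, 3, 1, 0, 1, 3, 4, 0, 4, 0, 4]), (7, false, [4, 0, 4, 3, 4, 3, 4, 3, 4, 0, 1, 0]), (141, true, [0, 4, 0, 1, 0, 1, 0, 4, 3, 4, 0, 4, 0, 4, 0, 1]), (181, false, [4, 3, 4, 0, 4, 0, 1, 3, 1, 0, 4, 0, 4, 0, 1]), (136, false, [1, 3, 1, 0, 4, 3, 4, 3, 1, 0, 1, 3, 4, 0]), (200, true, [2, 4, 3, 4, 3, 1, 0, 1, 0, 4, 3, 1, 3, 4, 0, 4]), (7, false, [1, 2, 0, 1, 3, 4, 0, 4, 3, 1, 0, 1, 0, 4, 0, 4, 0, 1]), (109, true, [1, 0, 4, 0, 4, 3, 1, 3]), (83, false, [2, 4, 0, 4, 3, 4, 3, 4, 0, 1, 3, 1, 0, 4, 0]), (225, false, [0, 1, 3, 1, 0, 1, 3, 1, 0, 4, 3, 4]), (139, false, [0, 1, 2, 0,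 1, 0, 4, 0, 4, 3, 4]), (209, true, [0, 4, 3, 4, 0, 4, 0, 1, 3, 1, 0, 1, 3, 4]), (165, false, [3, 1, 3, 4, 0, 4, 0, 1, 3, 1, 3, 4, 0, 4]), (260, true, [1, 0, 1, 2, 0, 1, 0, 4, 3, 1, 0, 1, 3, 4, 3]), (118, false, [0, 4, 3, 4, 3, 1, 0, 1, 0, 1, 0, 4, 0, 4, 3]), (246, false, [1, 0, 1, 0, 4, 3, 4, 3, 4, 3, 4, 0, 1, 0, 1]), (84, true, [0, 1, 2, 0, 4, 0, 1, 3, 1, 0, 1, 3, 1, 0, 4]), (135, false, [1, 3, 1, 0, 1, 3, 1, 3, 4, 3, 4, 0, 1, 0, 1]), (66, true, [0, 1, 3, 1, 0, 1, 3, 4, 0, 4, 0, 4]), (182, true, [2, 4, 3, 1, 0, 1, 0, 1, 3, 1, 3, 1, 3, 1, 0, 1]), (23, false, [0, 1, 3, 1, 0, 4, 0, 4, 0, 1, 3, 1, 0, 4, 0, 1]), (88, true, [0, 1, 3, 1, 0, 1, 3, 1, 0, 4, 3, 4, 3]), (85, true, [0, 1, 0, 2, 4, 3, 4, 3, 1, 0, 1, 3, 1, 3, 4]),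 (174, false, [1, 0, 2, 4, 0, 1, 0, 1, 0, 1, 3, 4, 0]), (82, false, [0, 2, 4, 3, 1, 3, 1, 0, 4, 0]), (140, false, [0, 1, 3, 1, 0, 4, 0, 4, 3, 1]), (234, true, [0, 1, 0, 1, 2, 0, 1, 3, 1, 3, 4, 3, 4, 3, 1]), (199, false, [0, 1, 0, 1, 2, 0, 1, 3, 4, 3, 4, 3, 1, 0, 1, 3, 4]), (82, true, [1, 2, 0, 4, 0, 1, 3, 1, 0, 1, 3, 4]), (211, false, [3, 4, 0, 1, 3, 4, 0, 4, 0, 4, 3, 1, 0, 4]), (254, true, [0, 4, 0, 1, 0, 1, 3, 1, 0, 1, 3, 1, 3, 1, 0]), (47, true, [0, 4, 3, 1, 0, 1, 0, 1, 0, 4, 3, 1]), (120, false, [0, 1, 0, 1, 0, 1, 3, 4, 0, 4, 3, 1, 3, 1]), (66, false, [1, 2, 0, 1, 0, 1, 3, 4, 0, 4, 0, 4, 3, 1, 0, 4, 3]), (35, true, [3, 4, 0, 4, 3, 1, 3, 1, 0, 1, 3, 4, 3]), (23, true, [1, 0, 4, 3, 4, 0, 4, 0, 4, 3, 4, 3, 1]), (118,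 false, [0, 1, 3, 4, 3, 1, 0, 4, 3, 4, 3, 4, 0, 1]), (268, true, [4, 3, 4, 3, 1, 0, 1, 3, 1, 3, 1, 3, 4]), (131, true, [2, 4, 3, 4, 3, 4, 0, 4, 0]), (154, false, [4, 3, 1, 0, 4, 0, 4, 0, 4, 0, 4]), (100, false, [0, 2, 4, 0, 1, 3, 1, 0, 1, 0]), (218, true, [4, 3, 4, 0, 4, 3, 4, 3, 4, 0, 4, 0, 4]), (268, true, [1, 2, 0, 4, 3, 1, 0, 1, 0, 1, 0, 1, 0, 4]), (136, false, [2, 4, 3, 1, 0, 1, 3, 4, 3, 4, 0, 4, 0]), (69, false, [0, 2, 4, 3, 1, 3, 1, 3, 1, 0, 4, 3, 4, 0, 1, 0]), (84, true, [1, 0, 1, 0, 1, 2]), (66, true, [2, 0, 1, 0, 1, 0, 4, 0, 4, 3, 1, 0, 1, 0, 1]), (127, false, [0, 1, 0, 1, 0, 1, 0, 1, 0, 1, 3, 1, 3, 4, 0, 4]), (145, false, [0, 1, 3, 1, 3, 1, 0, 1, 3, 4, 0, 1]), (118, false, [1, 0, 4, 3, 4, 0, 4, 3, 1, 0, 1, 0,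 1]), (194, false, [3, 4, 3, 1, 0, 1, 0, 1, 0, 4, 3, 1, 3, 4, 0]), (90, false, [2, 4, 3, 1, 0, 4, 3, 4, 0, 4, 0, 4, 3, 4]), (23, true, [2, 0, 4, 3, 4, 0, 4, 0, 4, 0, 4, 3, 1]), (30, true, [0, 1, 0, 1, 0, 1, 0, 2, 4, 3, 4, 3, 4, 0]), (234, true, [3, 1, 0, 1, 3, 1, 3, 1, 0, 1, 0, 1, 3, 4, 0]), (69, true, [0, 1, 0, 1, 0, 1, 0, 1, 0, 2, 4, 3, 4, 3, 1]), (199, false, [0, 2, 4, 3, 1, 0, 1, 0, 1, 0, 1, 3, 1, 0]), (69, false, [0, 1, 0, 1, 0, 4, 3, 1, 3, 1, 0, 1, 0, 1, 3, 1]), (67, false, [0, 2, 4, 0, 1, 3, 1, 0, 4, 0, 4, 3, 1]), (65, false, [0, 2, 4, 0, 1, 0, 4, 3, 4, 0, 4, 3, 4, 3, 4, 0]), (61, false, [0, 1, 0, 1, 2, 0, 1, 0, 4, 3, 4, 3, 4, 3, 4, 0, 1]), (85, true, [0, 1, 3, 1, 3, 4, 0, 4, 0, 1, 0]), (114, false, [2, 0, 4, 3,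 4, 0, 1, 3, 1, 0]), (114, false, [1, 3, 1, 0, 4, 3, 4, 0, 4, 3, 4, 3, 1, 0]), (141, true, [1, 0, 1, 0, 1, 0, 1, 0, 2, 4, 0]), (85, false, [1, 3, 4, 0, 1, 3, 1, 3, 4, 0, 1, 3, 1, 0, 4]), (246, false, [0, 2, 4, 0, 4, 0, 4, 3, 4, 0, 1]), (280, true, [1, 0, 1, 3, 1, 3, 1, 3, 4, 3, 4, 3, 4, 0]), (218, true, [1, 2, 0, 1, 0, 4, 3, 4, 3, 4, 3, 1, 0, 4, 3, 4, 3, 4]), (114, false, [2, 4, 3, 1, 0, 1, 0, 1, 3, 1, 0, 4, 3, 4, 0])]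
def r115 : List (ℕ × Bool × List ℕ) := [(64, false, [0, 1, 0, 1, 2, 0, 1, 0, 1, 0, 1, 3, 4, 3]), (269, true, [0, 1, 0, 1, 0, 4, 0, 4, 3, 4, 0, 1, 0, 1, 0]), (66, false, [0, 1, 2, 0, 1, 0, 4, 0, 4, 0, 4, 3, 4, 0, 1, 3]), (122, false, [1, 0, 4, 0, 4, 3, 4, 3, 1, 0, 1, 3, 1, 0]), (276, false, [2, 0, 1, 0, 1, 0, 4, 0, 4, 3, 1, 0, 4, 0, 4]), (151, true, [1, 0, 1, 2, 0, 1, 3, 1, 3, 4, 0, 1, 0]), (92, false, [1, 2, 0, 4, 0, 1, 3, 4, 3, 4, 0]), (67, false, [1, 0, 2, 4, 0, 4, 3, 4, 0, 1, 3, 4, 3, 4, 0]), (255, false, [0, 4, 0, 4, 0, 4, 3, 1, 3, 1, 0, 1, 0, 1, 3, 4]), (248, false, [1, 0, 4, 3, 4, 0, 4, 0, 4, 3, 4]), (154, false, [0, 4, 0, 4, 0, 4, 3, 4, 3, 4, 0, 1, 3, 4]), (190, false, [1, 2, 0, 4, 0, 1, 3, 1, 3, 1, 3, 1, 0]),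 (94, true, [4, 0, 1, 0, 1, 0, 4, 0, 4, 3, 4, 0, 1]), (242, true, [0, 4, 3, 1, 3, 1, 3, 1, 0, 4, 0, 4, 3]), (228, false, [4, 3, 4, 0, 1]), (237, true, [4, 0, 1, 0, 1, 3, 4, 3, 4, 0, 1, 3, 1, 0, 4]), (242, false, [4, 0, 4, 3, 4, 0, 1, 0, 1, 0, 4, 3, 4]), (154, true, [4, 0, 4, 3, 1, 0, 1, 0, 1, 3, 1, 3, 1, 3]), (20, false, [2, 0, 1, 3, 4, 0, 1, 0, 1, 3, 4, 3, 1]), (222, false, [1, 0, 2, 4, 0, 4, 0, 4, 3, 4, 0, 4, 3, 1, 3, 4]), (261, false, [0, 1, 0, 1, 0, 4, 3, 4, 0, 4, 0, 4, 3, 1, 3, 4]), (6, true, [2, 0, 4, 0, 4, 0, 4, 3, 1, 0, 4, 0, 4, 0, 1]), (4, false, [2, 0, 4, 3, 4, 0, 1, 0, 1]), (67, true, [0, 2, 4, 0, 1, 3, 1, 3, 1, 3, 4, 0, 4, 3, 4]), (111, true, [2, 4, 3, 4, 3, 4, 0, 4, 0, 4, 3, 1]), (190, true, [1, 0, 1, 3, 1,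 3, 1, 0, 1, 3, 1, 0, 1, 3, 1, 3, 1, 0, 1]), (153, false, [1, 2, 0, 4, 0, 1, 3, 1, 3, 1, 3, 4, 0, 1, 0, 1, 3]), (6, false, [1, 2, 0, 1, 3, 1, 0, 4, 3, 1, 3, 1]), (221, true, [0, 4, 0, 4, 3, 1, 3, 4, 0, 4, 0, 4, 0, 1, 3, 1, 3]), (221, false, [0, 4, 3, 4, 3, 4, 0, 4, 0, 4, 3, 1, 3, 4]), (219, false, [1, 0, 1, 0, 1, 0, 1, 3, 4, 3, 4, 0, 4, 0]), (277, false, [0, 1, 0, 1, 0, 4, 0, 4, 3, 1, 0, 4, 0]), (236, false, [1, 0, 1, 0, 1, 0, 2, 4, 3, 4, 0, 4, 3, 4, 0]), (111, false, [0, 1, 0, 1, 2, 0, 1, 0, 4, 0, 4, 3, 1, 3, 1]), (72, false, [2, 4, 3, 4, 0, 4, 3, 4, 0, 1, 3, 1]), (67, true, [2, 4, 0, 1, 0, 1, 0, 1, 0, 1, 3, 4, 3, 1, 0, 1, 0]), (191, false, [1, 0, 1, 2, 0, 1, 0, 1, 3, 1, 0, 4, 0, 4, 3]), (222, true, [2, 4, 3, 1, 0, 4,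 3, 4, 0, 1, 3, 1, 3, 1, 3, 1, 0, 1]), (181, true, [3, 4, 3, 4, 3, 1, 0, 1, 3, 1, 0, 1, 0]), (120, true, [0, 4, 3, 4, 3, 4, 0, 4, 0, 4, 3, 1, 3, 4]), (72, true, [2, 0, 1, 3, 1, 3, 1, 0, 1, 0, 1, 0, 1]), (251, false, [0, 1, 0, 1, 0, 1, 3, 1, 3, 4, 3, 4, 3, 4, 0, 1]), (1, false, [2, 0, 4, 3, 1, 0, 1, 0, 1, 3, 1, 3, 4]), (10, false, [0, 4, 3, 1, 3, 4, 0, 1, 0, 1, 0, 4, 0]), (276, true, [1, 2, 0, 1, 3, 4, 3, 4, 3, 4, 0, 4, 0]), (122, true, [3, 1, 3, 1, 3, 1, 3, 1, 3, 4, 3, 4, 0, 4, 3]), (209, false, [2, 4, 0, 4, 3, 4, 3, 1, 0, 1, 0, 1, 0]), (191, true, [0, 1, 0, 1, 0, 2, 4, 0, 4, 3, 1, 0, 4, 3]), (4, true, [0, 2, 4, 3, 4, 3, 4, 0, 4, 0, 4, 3]), (10, false, [0, 2, 4, 3, 1, 0, 1, 0, 4, 0]), (1, false, [2, 0, 4, 3, 1, 0, 1, 0,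 1, 3, 1, 3, 4]), (165, true, [4, 3, 1, 3, 1, 0, 1, 0, 1, 3, 4, 0, 4]), (236, true, [1, 0, 1, 0, 2, 4, 0, 4, 3, 1, 3, 1, 0, 1, 0]), (209, true, [1, 2, 0, 1, 0, 1, 3, 1, 3, 1, 0, 1, 3, 1]), (193, false, [2, 4, 0, 4, 0, 4, 3, 1, 3, 1]), (222, false, [0, 1, 2, 0, 4, 0, 1, 3, 1, 0, 4, 3, 4, 0, 4]), (261, false, [0, 2, 4, 0, 4, 3, 1, 3, 4, 0, 4, 3, 1, 0, 1, 3]), (187, false, [0, 1, 0, 1, 3, 1, 3, 1, 0, 1, 3, 1, 0, 4]), (72, false, [1, 3, 1, 3, 1, 3, 4, 0, 1, 3, 1, 0, 4]), (193, false, [2, 4, 0, 1, 3, 4, 3, 1, 0, 1, 0, 4, 3, 4, 3]), (261, true, [0, 4, 3, 4, 0, 4, 0, 4, 0, 1, 3, 1, 3]), (228, true, [0, 1, 3, 4, 0, 4, 3, 4, 0, 1, 0]), (115, false, [1, 3, 4, 3, 4, 0, 1, 3, 1, 3, 4, 0]), (115, true, [3, 1, 0, 1, 3, 4, 0, 4, 0, 4,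 3, 4, 3, 1]), (124, true, [0, 1, 3, 4, 0, 1, 0, 1, 0, 1, 3, 4, 3, 4, 3]), (120, false, [0, 1, 2, 0, 1, 3, 4, 3, 4, 3, 4, 3, 1, 0, 1, 3]), (251, true, [0, 4, 0, 4, 3, 1, 3, 1, 3, 4, 3, 4, 0, 1, 0]), (165, false, [4, 3, 1, 0, 1, 0, 4, 0, 4, 3, 1]), (222, true, [1, 0, 2, 4, 0, 4, 3, 4, 3, 4, 0, 1, 3, 4, 0]), (27, true, [0, 1, 0, 1, 0, 2, 4, 0, 1, 3, 1, 3, 1, 0, 1, 3]), (66, true, [2, 4, 3, 1, 3, 1, 0, 1, 0, 1, 3, 1]), (20, true, [2, 4, 3, 4, 3, 1, 0, 4, 3, 4, 3, 1]), (190, false, [4, 0, 1, 0, 1, 3, 4, 0, 4, 0, 4, 3, 4, 0]), (261, true, [0, 1, 2, 0, 4, 0, 1, 3, 1, 3, 1, 0, 1, 0, 1, 3]), (6, false, [1, 0, 1, 2, 0, 1, 0, 4, 3, 1, 3, 4, 0, 4, 0, 4]), (92, true, [1, 2, 0, 1, 3, 1, 0, 4, 0, 4, 0, 4, 3, 1, 0]), (251, false, [3,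 4, 3, 1, 3, 1, 3, 1, 0, 4, 0, 4, 3, 4, 3]), (124, false, [1, 0, 1, 0, 1, 0, 4, 0, 4, 0]), (64, true, [0, 2, 4, 3, 1, 0, 1, 0, 4, 3, 4, 0, 4, 0]), (197, true, [2, 0, 4, 0, 4, 3, 4, 0, 1, 3, 1, 3, 4, 0]), (248, true, [0, 1, 3, 4, 0, 4, 3, 1, 3, 1, 3, 4, 3, 4, 0]), (248, false, [0, 1, 3, 1, 0, 1, 3, 4, 3, 4, 0, 4, 3, 1, 0]), (94, false, [0, 4, 0, 1, 3, 4, 3, 4, 0, 4, 0, 1, 3]), (141, true, [4, 0, 4, 3, 1, 0, 1, 3, 4, 3, 1, 0, 1, 3, 4]), (277, true, [3, 1, 0, 4, 3, 4, 3, 1, 0, 1, 0, 1, 0, 1, 3, 4]), (197, false, [1, 0, 1, 0, 1, 0, 1, 3, 1, 0, 4, 0, 1]), (153, true, [2, 4, 3, 1, 3, 1, 0, 4, 3, 1, 3, 1, 3, 1, 0]), (190, false, [0, 4, 3, 4, 0, 1, 0, 1, 3, 1, 0, 1, 3]), (181, false, [1, 3, 1, 3, 4, 0, 4, 0, 4, 0, 4, 3, 1, 3,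 1]), (255, true, [1, 3, 1, 0, 1, 3, 1, 0, 4, 0]), (72, true, [3, 1, 3, 1, 0, 4, 3, 4, 0, 1, 0, 1, 0, 1]), (251, true, [1, 0, 1, 0, 1, 3, 4, 0, 4, 0]), (190, true, [1, 0, 1, 0, 1, 0, 4, 3, 1, 0, 1, 0, 4, 3, 1]), (111, false, [2, 4, 3, 4, 3, 1, 0, 1, 0, 1, 0, 1, 3, 4, 0, 4]), (256, false, [2, 4, 3, 1, 3, 1, 3, 1, 0, 4, 3, 1, 3, 1, 0]), (237, false, [0, 1, 0, 1, 3, 4, 3, 1, 0, 1, 3, 4, 0, 1, 0, 4]), (219, true, [0, 1, 0, 4, 3, 1, 0, 1, 0, 4, 3, 1, 3, 1, 0, 1]), (191, false, [1, 2, 0, 1, 0, 4, 3, 4, 0, 4, 3, 1, 0, 1]), (111, true, [0, 2, 4, 3, 1, 0, 4, 3, 4, 3, 4, 3, 4]), (248, true, [0, 1, 0, 1, 3, 1, 3, 4, 0, 4, 0, 1, 3]), (141, false, [1, 0, 1, 0, 4, 3, 4, 3, 4, 3, 1, 0, 4, 3, 4]), (27, false, [1, 0, 1, 2, 0, 1, 3, 4,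 3, 4, 0, 4, 3, 4]), (269, false, [1, 0, 4, 3, 4, 3, 4, 3, 4, 0, 4, 0, 1, 3]), (151, false, [0, 1, 0, 2, 4, 3, 4, 0, 1, 3, 1, 3, 1, 0, 1, 0, 1, 3]), (102, false, [4, 3, 4, 3, 1, 0, 1, 0, 1, 0, 4, 3]), (102, false, [1, 3, 4, 3, 4, 0, 1, 0, 1, 0, 1]), (67, false, [2, 0, 1, 3, 1, 0, 4, 3, 4, 0, 4, 3, 4, 3, 4]), (187, true, [0, 1, 3, 1, 3, 4, 3, 4, 0, 1, 0]), (191, true, [0, 1, 2, 0, 1, 0, 4, 3, 1, 0, 1, 0, 4, 3, 1]), (190, true, [2, 4, 0, 1, 3, 4, 3, 4, 3]), (256, true, [0, 2, 4, 0, 4, 3, 4, 3, 4, 0, 1, 3, 1, 0, 1]), (6, true, [1, 0, 2, 4, 3, 1, 0, 4, 0, 4, 3, 4, 3, 1])]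
def r116 : List (ℕ × Bool × List ℕ) := [(59, true, [4, 0, 1, 3, 1, 0, 4, 3, 4, 3, 4, 0, 4, 0, 1]), (225, true, [0, 4, 0, 1, 3, 4, 3, 4, 0, 4, 0, 4, 3, 4]), (116, false, [1, 0, 1, 0, 1, 0, 1, 3, 4, 3, 4, 0, 4, 3, 1, 3]), (48, true, [1, 3, 4, 3, 4, 0, 4, 3, 4, 0, 4]), (87, true, [1, 0, 1, 0, 2, 4, 0, 1, 3, 1, 0, 4, 0, 4, 3, 1, 0]), (171, false, [1, 3, 1, 3, 1, 0, 4, 0, 4, 0]), (180, true, [0, 2, 4, 0, 4, 3, 1, 0, 1, 3, 1, 0, 1, 0, 4]), (22, true, [2, 4, 0, 1, 3, 4, 3, 4, 3, 1, 0, 1]), (260, false, [1, 3, 1, 3, 1, 0, 1, 0, 1, 3, 1, 0, 1, 3]), (116, false, [1, 3, 1, 0, 1, 3, 1, 3, 4, 3, 4, 0, 1]), (45, true, [1, 3, 4, 3, 4, 3, 1, 0, 4, 0, 4, 0, 1, 0]), (46, false, [1, 0, 1, 0, 4, 0, 4, 3, 4, 0, 4, 3, 4]), (180, true, [1,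 0, 1, 0, 2, 4, 3, 4, 0, 4, 0, 4, 0, 1]), (34, true, [4, 0, 4, 3, 1, 3, 4, 0, 4, 0, 1, 3, 4, 3, 1, 0]), (277, false, [1, 2, 0, 4, 3, 4, 0, 4, 0, 4, 0, 4, 3, 1, 3, 4]), (248, false, [4, 3, 4, 3, 4, 0, 1, 0, 1, 3, 4, 3, 4, 0, 1]), (34, false, [0, 1, 0, 4, 3, 4, 3, 1, 0, 1, 0, 1, 3, 1]), (45, false, [0, 2, 4, 0, 1, 3, 1, 3]), (110, true, [0, 1, 0, 1, 3, 4, 3, 1, 0, 4, 3, 4, 3, 4, 0, 1]), (116, false, [3, 4, 3, 1, 0, 4, 3, 4, 0, 1, 3, 1]), (210, true, [3, 4, 0, 1, 3, 1, 3, 1, 3, 1]), (260, true, [3, 1, 0, 1, 3, 4, 3, 1, 0, 1, 0, 1, 0]), (23, false, [1, 2, 0, 4, 3, 4, 3, 4, 3, 4, 0, 1, 3, 4]), (199, false, [3, 1, 3, 4, 0, 1, 0, 1, 0, 1, 0]), (47, true, [4, 3, 1, 0, 1, 0, 1, 0, 1, 0, 1, 3, 4]), (199, false, [3, 4, 3, 4, 0, 4,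 0, 4, 0, 1]), (59, true, [4, 0, 1, 0, 4, 3, 4, 0, 4, 0, 4, 3, 1]), (260, false, [1, 3, 4, 0, 4, 3, 4, 0, 1, 0, 1, 3, 1, 0]), (226, true, [2, 4, 3, 4, 0, 4, 0, 4, 3, 4, 0, 4]), (226, false, [0, 1, 2, 0, 4, 3, 1, 0, 1, 0, 4, 0, 4, 0, 1, 0]), (220, false, [1, 0, 1, 3, 1, 3, 1, 3, 4, 3]), (106, true, [4, 0, 4, 3, 4, 0, 1, 3, 1, 3, 1, 0, 1]), (210, true, [2, 0, 4, 3, 1, 0, 1]), (37, false, [1, 3, 4, 3, 4, 3, 4, 0, 4, 3, 4, 0, 4, 3]), (103, false, [0, 1, 0, 1, 3, 4, 3, 4, 0, 1, 0]), (22, false, [2, 0, 4, 0, 1, 3, 4, 0, 4, 0, 4, 0, 4]), (22, true, [2, 0, 4, 3, 4, 3, 4, 3, 4, 0, 1, 3]), (116, true, [0, 1, 0, 4, 0, 4, 0, 4, 3, 4, 0, 4, 3, 4, 0, 4]), (148, false, [0, 1, 3, 4, 0, 4, 3, 4, 3, 1, 0, 1, 0, 1]), (67, false, [0, 1, 3,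 4, 0, 1, 3, 1, 0, 1, 0, 1, 3, 1, 3]), (103, true, [0, 4, 3, 1, 3, 1, 0, 1, 3, 1, 0, 4]), (27, true, [0, 1, 2, 0, 1, 3, 4, 0, 4, 3, 4, 0, 4, 0, 4]), (110, true, [1, 0, 4, 0, 4, 3, 4, 3, 4, 3, 4, 0, 1, 3]), (34, true, [1, 3, 1, 0, 4, 3, 1, 3]), (87, false, [0, 1, 0, 1, 0, 2, 4, 0, 1, 0, 4, 3, 4, 0]), (48, true, [1, 3, 4, 3, 4, 0, 4, 3, 4, 0, 4]), (116, true, []), (22, false, [2, 0, 4, 0, 1, 3, 1, 0, 1, 3, 1, 0, 4, 0, 4, 0]), (23, true, [2, 0, 4, 3, 4, 3, 1, 0, 1, 0, 1, 0, 4]), (34, false, [1, 0, 1, 0, 4, 0, 4, 3, 1, 0, 1, 0, 1, 3, 1]), (110, false, [0, 1, 0, 1, 3, 1, 0, 1, 3, 1, 3, 1, 3, 4, 3, 4]), (92, false, [3, 1, 0, 1, 0, 1, 0, 4, 0, 4, 0, 4, 3, 4, 3, 4]), (210, false, [1, 0, 2, 4, 3, 1, 0, 4, 3, 4, 0, 4, 0, 4]), (116,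 true, []), (250, true, [1, 3, 4, 0, 4, 0, 4, 0, 4, 3, 1, 0]), (37, false, [3, 4, 0, 4, 3, 1, 3, 4, 0, 4, 3]), (276, false, [1, 3, 1, 3, 4, 0, 1, 3, 1, 3, 1, 0, 1, 3, 4]), (41, true, [1, 0, 2, 4, 3, 1, 0, 1, 0, 1]), (171, false, [0, 1, 0, 4, 3, 1, 3, 1, 0, 1, 0, 1, 3, 1]), (250, false, [1, 3, 1, 0, 1, 0, 1, 3, 4, 3, 4, 0]), (210, true, [3, 4, 0, 1, 3, 1, 0, 4, 0, 4, 0, 1, 3, 4]), (277, true, [1, 2, 0, 1, 3, 4, 0, 4, 0, 1, 3, 1, 3]), (250, false, [1, 0, 1, 0, 1, 2, 0, 4, 0, 4, 0, 1]), (250, true, [3, 1, 0, 1, 0, 4, 3, 1, 3, 1]), (210, true, [2, 4, 3, 1, 3, 4, 0, 1, 3, 1, 0]), (67, true, [1, 3, 4, 3, 4, 3, 4, 3, 1, 0, 4, 0, 1]), (113, false, [3, 4, 3, 1, 0, 1, 0, 1, 3, 1, 0, 4, 3, 1]), (92, true, [4, 0, 1, 0, 1, 3, 1, 0,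 1, 3, 1, 0, 1, 0, 1, 3, 4, 0]), (37, true, [3, 4, 3, 4, 0, 4, 0, 4, 3, 1, 0, 1, 3, 4]), (106, true, [0, 1, 0, 1, 3, 1, 0, 4, 0, 4]), (116, false, [4, 0, 4, 3, 1, 0, 1, 3, 4, 0, 1, 0]), (110, false, [0, 1, 3, 4, 0, 1, 0, 1, 3, 4, 0]), (199, true, [4, 3, 1, 0, 1, 3, 4, 0, 4, 3, 1, 3, 1, 3, 4]), (276, true, [0, 4, 0, 1, 3, 1, 0, 1, 3]), (201, true, [2, 4, 3, 1, 3, 4, 0, 4, 3, 1]), (180, false, [1, 2, 0, 1, 0, 1, 3, 4, 0, 4, 0, 4, 3, 1, 0, 4, 3]), (113, true, [2, 4, 0, 1, 3, 1, 3, 1, 0, 4, 3, 4, 0, 1, 0]), (210, true, [1, 0, 2, 4, 0, 1, 3, 1, 3, 4, 3, 4, 0, 1, 3]), (59, false, [2, 4, 3, 1, 3, 4, 0, 4, 3, 4, 3, 4, 0, 1]), (116, true, []), (37, false, [1, 0, 4, 3, 1, 3, 4, 0, 4, 3, 1, 3]), (37, true, [4, 0, 1, 3, 1, 3, 4, 3,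 4]), (180, false, [1, 2, 0, 1, 0, 1, 3, 4, 0, 4, 3, 1, 3, 1, 3, 4]), (265, false, [0, 2, 4, 0, 1, 0, 4, 3, 1, 0, 1, 0, 1]), (106, true, [0, 1, 0, 4, 3, 4, 3, 4, 0]), (116, true, []), (59, false, [2, 0, 1, 3, 1, 0, 1, 3, 4, 3, 4, 3, 1, 3]), (180, true, [4, 0, 1, 3, 1, 0, 1, 3, 1, 0, 1, 0, 1, 3, 4, 0]), (148, true, [0, 1, 3, 1, 0, 4, 3, 4, 3, 4, 3, 4, 0, 1]), (260, true, [0, 4, 3, 1, 3, 4, 0, 4, 0, 4, 3, 4, 0]), (171, true, [4, 3, 1, 3, 1, 0, 4, 3, 4, 0, 1, 3]), (27, false, [0, 1, 2, 0, 1, 3, 1, 0, 1, 0, 4, 0, 4, 3, 1, 0, 1]), (180, false, [4, 0, 1, 3, 1, 3, 1, 3, 4, 3, 4, 3, 4, 0, 1]), (47, false, [0, 1, 0, 1, 3, 1, 0, 4, 0, 4, 0, 4, 3, 4, 3]), (200, false, [0, 4, 3, 4, 0, 4, 0, 1, 3, 1, 0, 4, 3, 1, 3, 1, 3]), (248, true,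 [3, 4, 3, 1, 3, 1, 0, 4, 3, 1, 3, 4, 0]), (220, true, [3, 1, 0, 1, 3, 1, 3, 1, 0, 4, 0, 1]), (277, false, [0, 1, 2, 0, 4, 0, 4, 0, 1, 3, 1, 0, 4, 0, 4, 0, 4, 3]), (37, true, [1, 0, 1, 0, 4, 0, 4, 0, 4, 3, 4, 0]), (116, true, [0, 1, 3, 1, 0, 1, 0, 4, 0, 4, 3, 1, 0, 1, 3, 1]), (265, true, [2, 4, 0, 4, 3, 1, 3, 1, 3, 1, 0]), (106, true, [1, 0, 4, 0, 1, 3, 4, 0, 4, 0]), (225, false, [1, 0, 1, 0, 4, 3, 4, 0, 1, 3]), (171, true, [1, 3, 4, 0, 1, 3, 1, 3, 1, 0, 1, 0, 1, 0]), (46, false, [1, 3, 1, 3, 1, 0, 4, 3, 1, 3, 1, 3, 1]), (46, true, [1, 3, 1, 0, 1, 3, 1, 0, 1, 0, 4, 3, 1]), (199, true, [0, 1, 0, 4, 0, 4, 3, 4, 0, 4, 3, 4, 0]), (41, false, [0, 2, 4, 3, 1, 0, 1, 3, 4, 0, 1, 3, 1, 3, 4]), (277, true, [1, 2, 0, 4, 3, 4, 0,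 1, 3, 1, 3, 1, 0, 4]), (46, true, [0, 1, 0, 1, 3, 1, 0, 1, 0, 1]), (200, true, [3, 4, 3, 4, 0, 4, 3, 4, 0, 1, 3, 1, 3]), (201, false, [2, 4, 3, 1, 0, 4, 0, 4, 3, 4])]
def r117 : List (ℕ × Bool × List ℕ) := [(135, true, [2, 0, 4, 0, 4, 3, 1, 3, 1, 0, 1, 0, 4, 3, 4]), (237, false, [0, 1, 2, 0, 4, 3, 4, 0, 1, 3, 1, 0, 4]), (175, true, [2, 4, 3, 1, 0, 4, 0, 4, 3, 1]), (276, false, [2, 4, 3, 1, 0, 4, 0, 4, 3, 1, 0, 1, 3, 4]), (202, true, [3, 4, 0, 1, 3, 4, 0]), (80, true, [0, 1, 0, 1, 2, 0, 1, 0, 1, 3, 1, 0, 1]), (124, false, [0, 4, 0, 1, 3, 1, 0, 1, 3, 4, 0, 1, 0, 4]), (252, false, [4, 3, 4, 3, 4, 3, 4, 3, 4, 0]), (127, true, [2, 4, 3, 1, 0, 1, 0, 1, 3, 4, 0, 4, 0, 1]), (243, false, [0, 4, 3, 1, 3, 1, 0, 1, 0, 4, 3, 4, 0]),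 (0, false, [1, 0, 2, 4, 0, 1, 3, 4, 3]), (232, true, [0, 1, 2, 0, 1, 3, 1, 3, 1, 3, 1, 0, 1, 0, 4]), (80, false, [1, 0, 2, 4, 0, 4, 3, 4, 0, 4, 0, 4, 3, 4, 3]), (49, false, [2, 0, 1, 3, 1, 3, 4, 3, 4, 0]), (191, false, [1, 3, 1, 3, 4, 0, 4, 3, 1, 0, 1]), (169, true, [2, 4, 3, 1, 0, 1, 3, 4, 3, 4, 0, 1, 3, 4]), (224, true, [4, 3, 1, 3, 1, 3, 4, 0, 4, 3, 1, 0]), (222, false, [1, 0, 2, 4, 0, 4, 3, 1, 0, 1, 0, 4, 3, 4, 3, 4, 0]), (127, true, [1, 0, 4, 3, 4, 0, 1, 0, 1, 0, 4, 3, 4, 0, 1]), (4, false, [0, 2, 4, 3, 4, 3, 1, 0, 1, 0, 4, 0, 4, 0, 4, 0]), (202, false, [1, 0, 1, 0, 1, 3, 1, 0, 4, 3, 4]), (235, true, [1, 0, 1, 2, 0, 4, 0, 4, 0, 1, 3, 1, 0]), (187, false, [4, 0, 1, 3, 1, 0, 1, 0, 1, 3, 1, 0, 4]), (134, false, [4,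 3, 1, 0, 1, 3, 1, 0, 4, 0, 1]), (269, false, [0, 1, 2, 0, 4, 3, 4, 0, 4, 3, 4, 0, 4]), (109, false, [0, 2, 4, 3, 4, 0, 4, 3, 1, 3, 1, 3, 1, 0, 1, 0]), (51, false, [0, 1, 3, 1, 3, 1, 3, 4, 0, 4, 3, 1, 0, 4, 3]), (189, false, [2, 4, 3, 1, 3, 4, 0, 4, 3, 4, 0, 1]), (188, true, [0, 1, 2, 0, 1, 3, 4, 3, 4, 3, 4, 0, 1, 3, 4]), (117, false, [0, 2, 4, 0, 1, 3, 4, 0, 4, 0, 4, 0, 4, 3, 1, 0]), (134, false, [0, 1, 3, 4, 3, 1, 0, 1, 0, 4, 0, 4, 3]), (33, true, [1, 2, 0, 4, 3, 4, 0, 1, 0, 1, 0, 1, 3, 4, 3]), (0, false, [3, 1, 0, 4, 3, 1, 0, 1, 3, 4, 0, 4]), (257, false, [1, 0, 1, 3, 4, 3, 4, 0, 4, 3, 1, 3, 4, 0]), (156, false, [4, 3, 1, 3, 4, 0, 1, 3, 1, 3, 4, 3, 4]), (230, true, [3, 1, 3, 1, 0, 1, 3, 4, 3, 4, 0, 1, 3, 4]), (33, true,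 [0, 4, 0, 1, 0, 1, 0, 1, 3, 4, 0, 4, 3, 1]), (117, false, [0, 1, 0, 4, 3, 1, 0, 4, 0, 4, 0, 1]), (156, false, [4, 3, 1, 0, 4, 3, 4]), (68, false, [2, 4, 0, 1, 0, 1, 3, 1, 0, 1, 3, 4, 0, 4, 0, 1]), (191, false, [2, 0, 4, 0, 4, 3, 4, 0, 1, 3, 1, 3, 1, 3, 4, 0, 1]), (269, false, [4, 3, 1, 0, 1, 3, 1, 3, 4, 0, 4, 3]), (119, false, [0, 4, 0, 4, 3, 4, 3, 1, 0, 4, 3, 4, 3, 1, 0]), (263, false, [0, 2, 4, 3, 1, 3, 1, 0, 1, 3, 4, 3, 4, 0]), (130, false, [2, 0, 4, 0, 4, 3, 1, 3, 1, 0, 1, 3, 4]), (33, true, [1, 2, 0, 4, 3, 4, 0, 1, 0, 1, 0, 1, 3, 4, 3]), (256, false, [3, 4, 0, 4, 0, 1, 3, 1, 0, 4, 0, 4, 0, 1, 0]), (156, false, [0, 1, 2, 0, 1, 0, 1, 0, 1, 0, 1, 0, 1]), (156, true, [1, 0, 4, 3, 1, 0, 1, 0, 1, 0, 4, 3, 1, 3]), (203,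 true, [4, 0, 1, 3, 4, 0, 4, 0, 1, 3, 4]), (235, true, [3, 4, 0, 4, 3, 1, 3, 1, 0, 1, 3, 4, 3, 1, 0]), (263, true, [1, 2, 0, 1, 3, 4, 0, 4, 0, 4, 3, 1, 3]), (235, true, [0, 2, 4, 0, 1, 0, 1, 3, 4, 3, 4, 0]), (200, false, [0, 1, 0, 1, 0, 2, 4, 3, 4, 3, 4, 0, 4, 0, 4, 3, 4, 0]), (121, false, [1, 0, 1, 0, 1, 3, 1, 0, 1, 0, 4]), (202, true, [0, 1, 3, 1, 0, 1, 3, 4, 3, 1, 0, 4, 0, 4]), (195, true, [1, 0, 2, 4, 0, 4, 0, 1, 3, 1, 3, 1, 0]), (252, true, [1, 0, 2, 4, 0, 1, 0, 1, 0, 1, 0, 4]), (4, false, [0, 1, 0, 4, 3, 4, 3, 1, 0, 4, 0, 4, 0, 4, 3]), (216, false, [1, 3, 1, 0, 1, 3, 1, 0, 1, 3, 1]), (98, true, [0, 4, 0, 1, 3, 1, 3, 4, 3, 4, 0, 1, 3, 1, 3, 4]), (222, false, [3, 1, 3, 1, 3, 1, 3, 4, 0, 4, 3, 1, 0, 4]), (202, false,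 [4, 0, 1, 3, 1, 3, 1, 3, 1, 0, 4, 0]), (186, false, [0, 1, 0, 1, 3, 1, 0, 4, 3, 4, 3, 4, 3, 1, 0, 1]), (252, false, [2, 0, 1, 0, 1, 0, 1, 0, 4, 3, 4]), (117, false, [1, 3, 4, 3, 4, 0, 1, 3, 1, 3, 4, 0]), (121, false, [3, 4, 0, 1, 3, 1, 0, 1, 0, 1, 3, 4, 0, 1, 0]), (109, false, [1, 0, 1, 3, 4, 0, 4, 0, 4, 0, 4, 3, 4, 3, 4]), (269, true, [1, 0, 1, 3, 4, 3, 1, 0, 1, 0, 4, 0, 4, 0, 1, 0]), (94, false, [0, 4, 0, 4, 3, 4, 0, 1, 0, 1, 0, 1, 3, 1]), (191, false, [0, 2, 4, 3, 1, 0, 1, 3, 4, 3, 4, 0, 1, 0]), (212, false, [1, 0, 2, 4, 0, 4, 3, 1, 0, 1, 0, 4, 3, 4, 0, 1, 3]), (140, false, [0, 1, 2, 0, 4, 0, 4, 3, 4, 3, 1]), (0, false, [1, 3, 1, 3, 1, 0, 4, 3, 4, 0, 1, 0, 1, 0, 4]), (130, true, [0, 1, 3, 1, 3, 4, 3, 4, 3, 4, 0, 1]),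 (134, false, [3, 1, 3, 4, 0, 4, 0, 1, 3, 4, 0]), (124, false, [0, 1, 0, 1, 0, 2, 4, 0, 4, 3, 4, 0, 4, 3, 1, 3, 1, 0]), (165, true, [0, 4, 0, 4, 0, 1, 3, 1, 3, 1, 3, 1, 0, 1, 3, 4]), (188, true, [1, 3, 1, 0, 1, 0, 1, 3, 1, 0, 4, 0, 4, 0, 1]), (188, true, [0, 4, 3, 4, 0, 1, 0, 1, 3, 4, 3, 4, 0, 1]), (195, true, [0, 4, 0, 4, 3, 1, 0, 1, 3, 1, 3, 4, 0, 4]), (117, false, [1, 0, 1, 0, 4, 0, 4, 3, 1, 0, 1, 0, 4, 0, 4, 0]), (212, false, [4, 0, 1, 3, 1, 3, 4, 0, 4, 3, 4, 3]), (156, true, [0, 1, 0, 4, 0, 4, 0, 4, 3, 1, 0, 4]), (252, true, [3, 4, 0, 4, 0, 4, 0, 4, 3, 1, 0, 4]), (222, false, [1, 2, 0, 1, 3, 1, 0, 1, 3, 1, 3, 4, 3, 4, 3, 4, 0]), (189, false, [3, 1, 0, 1, 0, 4, 0, 4, 0, 4, 3, 4, 0, 1, 3, 1]), (98, true, [0, 1, 0, 2,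 4, 0, 1, 0, 1, 3, 1]), (51, true, [2, 4, 3, 1, 0, 4, 0, 4, 0, 1, 3, 4, 3, 4]), (202, true, [2, 4, 3, 1, 0, 1, 0, 1, 0, 1, 3, 4, 3, 4, 0, 1]), (175, true, [1, 0, 1, 0, 4, 0, 4, 3, 4, 0, 4, 0]), (177, true, [0, 1, 2, 0, 4, 3, 4, 0, 1, 3]), (228, false, [1, 0, 1, 0, 2, 4, 0, 4, 0, 1, 3, 1, 0, 1]), (263, false, [0, 1, 3, 1, 3, 1, 0, 4, 3, 4, 3, 1, 0, 1]), (257, false, [0, 1, 3, 1, 0, 4, 3, 4, 3, 4, 0, 1, 3]), (191, false, [1, 3, 1, 0, 1, 3, 1, 3, 1, 0, 1, 3, 1, 0]), (188, true, [0, 1, 2, 0, 4, 3, 4, 0, 4, 0, 1, 3, 1, 3, 1]), (256, false, [2, 4, 0, 4, 0, 1, 3, 1, 0, 4, 0, 4, 0, 1, 0]), (68, false, [1, 0, 1, 0, 1, 3, 1, 0, 1, 3, 4, 3]), (165, false, [0, 1, 2, 0, 1, 3, 1, 3, 1, 0, 1, 0, 1, 0, 1, 3, 4]), (224, true, [0, 2, 4,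 0, 4, 3, 4, 0, 4, 0, 4, 3, 1, 0, 1, 0, 4, 0]), (33, true, [0, 4, 0, 1, 0, 1, 0, 1, 3, 4, 0, 4, 3, 1]), (200, false, [1, 0, 1, 3, 1, 0, 1, 3, 1, 0, 4, 0, 4, 0]), (263, true, [4, 0, 1, 0, 1, 0, 4, 3, 4, 0, 1, 0, 1, 3, 1, 3]), (276, false, [3, 4, 3, 4, 3, 4, 0, 4, 3, 4, 0, 1, 3, 1]), (243, true, [0, 1, 0, 2, 4, 0, 1, 0, 1, 3, 1, 3]), (174, true, [2, 4, 3, 4, 3, 4, 0, 1, 3, 4, 0]), (235, true, [0, 4, 0, 1, 3, 1, 3, 4, 3, 4, 3, 4, 0, 4, 0, 4]), (269, true, [2, 0, 4, 0, 1, 3, 4, 3, 1, 0, 1, 3, 1, 3, 1, 0]), (280, false, [1, 3, 4, 3, 1, 0, 4, 0, 4, 0, 1, 3, 4, 3, 4]), (222, false, [0, 1, 0, 1, 0, 1, 3, 1, 3, 1, 3, 4, 0]), (237, false, [0, 1, 0, 1, 0, 1, 3, 1, 3, 1, 3])]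
def r118 : List (ℕ × Bool × List ℕ) := [(22, false, [2, 4, 0, 1, 3, 4, 3, 1, 0, 1, 3, 1, 0, 4]), (114, false, [2, 0, 4, 3, 4, 3, 1, 0, 1, 0, 4, 3, 4]), (204, false, [0, 2, 4, 3, 1, 3, 1, 3, 1, 3, 1, 3, 1]), (229, false, [1, 3, 1, 0, 1, 0, 4, 0, 4, 3, 4]), (111, true, [2, 0, 1, 3, 4, 3, 4, 0, 1, 3, 4, 3]), (23, true, [2, 4, 0, 1, 3, 4, 3, 1, 0, 1, 3, 4]), (266, true, [0, 1, 0, 2, 4, 0, 4, 3, 4, 3, 4, 0]), (194, true, [3, 1, 0, 4, 3, 1, 0, 1, 3, 1, 0]), (237, false, [4, 0, 1, 0, 4, 3, 1, 0, 1, 0, 4, 0, 4, 3, 1]), (114, false, [0, 1, 3, 1, 3, 4, 3, 4, 3, 4, 0, 1, 0, 1, 3]), (29, true, [0, 4, 3, 4, 0, 4, 3, 4, 0, 1, 3, 1, 3, 1, 0]), (113, false, [0, 1, 0, 1, 0, 1, 3, 1, 3, 1, 0, 4, 3, 4, 3, 1]), (136, true, [0, 1, 0, 4, 0,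 4, 0, 1, 0]), (262, false, [2, 0, 1, 3, 1, 3, 1, 3, 4, 3, 4, 0]), (220, false, [1, 2, 0, 4, 0, 1, 3, 4, 3, 4, 3, 4, 0, 1, 0]), (161, true, [0, 4, 0, 4, 3, 1, 3, 1, 3, 1]), (22, false, [0, 1, 3, 4, 3, 4, 3, 1, 0, 1, 3, 4, 3, 4]), (25, false, [2, 0, 4, 0, 4, 3, 1, 3, 1, 3, 1, 0, 4, 0, 1]), (207, false, [4, 0, 4, 0, 4, 0, 4, 3, 1, 3, 1, 0, 4]), (113, false, [4, 3, 1, 3, 4, 0, 4, 3, 4, 0, 4, 3, 4]), (25, false, [0, 1, 0, 1, 0, 1, 0, 1, 0, 1, 0, 4]), (209, true, [2, 4, 0, 1, 3, 1, 0, 4, 3, 4, 0, 1]), (194, true, [2, 4, 0, 1, 3, 1, 0, 4, 3, 4, 0]), (6, true, [2, 0, 1, 0, 1, 3, 4, 0, 4, 3, 1, 3, 1, 0, 4]), (106, false, [0, 1, 0, 1, 2, 0, 4, 0, 4, 3, 4, 3, 4, 0, 1, 0]), (268, false, [4, 0, 4, 3, 4, 0, 1, 3, 1, 3, 4, 0, 4, 0]),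 (65, true, [1, 2, 0, 4, 0, 4, 3, 4, 3, 4, 0, 4, 0, 1]), (262, false, [1, 0, 1, 0, 4, 0, 4, 0, 4, 0, 1, 3, 4]), (118, false, [0, 2, 4, 3, 1, 0, 1, 3, 4, 0, 4, 3, 1, 3]), (258, false, [3, 1, 0, 1, 0, 1, 0, 1, 0, 1, 3, 1, 3]), (79, true, [0, 4, 0, 1, 3, 1, 3, 1, 0, 1, 0, 4]), (182, true, [2, 4, 3, 1, 3, 1, 0, 1, 0, 1, 3, 4, 3, 1, 0, 1]), (149, true, [0, 4, 3, 1, 0, 1, 0, 4, 0, 4, 3, 1]), (111, true, [3, 4, 0, 4, 0, 4, 3, 1, 0, 1, 0, 1]), (255, false, [2, 4, 0, 1, 0, 1, 0, 1, 3, 1]), (182, true, [0, 1, 3, 4, 0, 1, 3, 1, 3, 1, 0, 4, 3, 4, 3]), (135, false, [0, 4, 0, 4, 0, 4, 3, 1, 0, 1, 0, 1]), (232, false, [3, 1, 3, 1, 3, 4, 0, 4, 3, 1, 3, 4, 0, 4]), (276, false, [1, 3, 4, 0, 4, 3, 1, 0, 1, 3, 4, 3, 1, 0, 4, 3]), (109, false,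 [1, 3, 1, 0, 4, 3, 4, 0, 1, 3, 4, 3, 1, 0]), (209, true, []), (23, true, [0, 1, 3, 4, 0, 4, 0, 4, 0, 4, 3, 4, 0]), (258, false, [1, 2, 0, 1, 3, 4, 0, 1, 3, 1, 3, 1, 0, 4, 3]), (41, true, [3, 1, 3, 1, 3, 4, 0, 4, 3, 1, 3, 1, 3, 1, 0, 1]), (143, true, [0, 1, 0, 4, 3, 1, 0, 1, 0, 1, 3]), (176, false, [3, 4, 0, 1, 3, 4, 3, 1, 0, 1, 0, 4, 3, 1]), (23, true, [1, 3, 4, 3, 4, 3, 4, 0, 4, 3, 1, 0, 4, 3]), (29, true, [0, 1, 0, 1, 3, 1, 0, 4, 0, 4, 3, 1]), (106, false, [0, 1, 0, 1, 0, 1, 3, 4, 0, 4, 3, 4]), (266, false, [0, 1, 0, 4, 3, 1, 3, 1, 3, 4, 3, 4, 0]), (111, true, [0, 4, 3, 4, 3, 1, 0, 4, 0, 4, 3, 1, 3, 4, 0]), (220, false, [0, 1, 2, 0, 4, 3, 1, 0, 1, 0, 1, 3, 1, 0, 4, 0]), (255, false, [1, 3, 1, 0, 1, 0, 1, 0, 1, 3, 1]),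 (274, false, [2, 0, 4, 0, 1, 0, 1, 3, 1, 0, 1, 3, 1, 3, 1, 3]), (65, true, [0, 2, 4, 3, 1, 0, 1, 0, 4, 3, 1, 0, 1]), (263, true, [0, 1, 3, 1, 3, 4, 3, 4, 3, 1, 0, 1, 0]), (188, true, [1, 2, 0, 1, 0, 1, 0, 4, 0, 4, 0, 4, 0, 4]), (78, false, [0, 1, 3, 4, 0, 4, 0, 4, 3, 4, 3, 1, 0, 4]), (45, false, [0, 1, 2, 0, 1, 0, 1, 0, 4]), (188, true, [4, 0, 1, 3, 1, 3, 1, 0, 1, 3, 4, 0, 4, 3]), (37, false, [4, 0, 4, 3, 1, 0, 1, 3, 1, 3]), (23, true, [0, 2, 4, 0, 4, 3, 1, 0, 1, 0, 1, 3, 1, 3, 4]), (118, false, [0, 1, 0, 2, 4, 0, 4, 0, 1, 3, 1, 0, 4, 3, 4]), (235, true, [0, 2, 4, 0, 4, 0, 1, 3, 1, 3, 1, 3, 1, 3, 1, 0, 4, 0, 1]), (173, false, [0, 1, 3, 1, 0, 4, 0, 4, 0, 4, 3, 4, 0]), (118, true, []), (118, false, [1, 2, 0, 4, 3, 4, 0,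 1, 3, 1, 3, 4, 0]), (118, false, [1, 3, 4, 3, 4, 0, 1, 3, 1, 3, 4, 0]), (268, false, [2, 0, 4, 3, 4, 0, 4, 0, 1, 3, 1, 0, 4, 3, 1, 0]), (212, false, [0, 1, 0, 1, 3, 1, 3, 1, 0, 1, 0, 1, 0]), (276, false, [2, 0, 4, 3, 1, 3, 1, 3, 4, 3, 4, 0, 1, 3, 1, 3]), (231, false, [1, 2, 0, 1, 3, 1, 3, 4, 3, 4, 0, 1, 0]), (16, false, [0, 1, 3, 1, 3, 1, 0, 1, 0, 1, 0, 4, 0, 4, 0, 4]), (139, false, [2, 0, 4, 3, 1, 0, 4, 3, 4]), (27, false, [1, 2, 0, 1, 3, 1, 3, 1, 3, 4, 3, 4, 3, 4, 0, 4]), (114, false, [4, 3, 4, 3, 4, 3, 4, 0, 4, 0, 4, 3, 1, 0, 1]), (253, false, [3, 1, 0, 4, 0, 4, 3, 1, 0, 1, 0, 1, 0, 4]), (86, false, [0, 1, 0, 1, 0, 2, 4, 0, 4, 3, 4, 0, 4, 3, 1, 3, 4]), (136, true, [1, 3, 4, 3, 4, 3, 1, 0, 1, 3, 4, 0, 4]), (86, false,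 [4, 0, 4, 3, 1, 0, 1, 3]), (231, false, [0, 2, 4, 3, 1, 3, 1, 3, 1, 3, 1, 3, 1]), (106, false, [1, 0, 1, 2, 0, 1, 3, 4, 0, 4, 0, 4, 3, 4, 0, 1, 3]), (149, true, [1, 0, 1, 0, 1, 2, 0, 4, 3, 4, 3, 4, 0, 1, 3, 4]), (104, true, [0, 1, 2, 0, 1, 0, 1, 3, 4, 0, 4, 3, 4, 3]), (212, false, [0, 1, 0, 1, 0, 1, 0, 1, 2, 0, 1, 0, 1, 0]), (104, true, [1, 3, 4, 0, 1, 0, 1, 3, 1, 0, 1]), (84, true, [1, 3, 1, 3, 1, 0, 4, 0, 4, 3, 1, 3, 1, 0, 1]), (260, true, [2, 0, 4, 3, 1, 3, 1, 0, 1, 0, 1, 3]), (27, false, [1, 0, 4, 0, 1, 3, 4, 3, 4, 0, 1, 3]), (6, true, [1, 3, 4, 3, 4, 0, 1, 3, 1, 3, 4, 3, 4, 0, 1]), (114, false, [4, 3, 4, 3, 4, 0, 1, 3, 1, 0, 1, 3, 4]), (113, false, [0, 1, 2, 0, 1, 3, 4, 0, 1]), (253, false, [0, 2, 4, 0, 1, 3, 1,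 3, 1, 3, 1, 0, 1, 0, 4, 0, 4, 3]), (118, false, [0, 1, 2, 0, 1, 3, 4, 0, 4, 3, 1, 3, 1, 0, 4]), (229, false, [0, 1, 0, 1, 2, 0, 1, 3, 4, 0, 4, 3, 1, 3]), (263, true, [2, 0, 4, 3, 1, 0, 1, 0, 1, 3, 4, 0, 4, 0, 4]), (231, false, [0, 1, 3, 4, 0, 1, 3, 1, 3, 4, 0, 1, 0]), (34, true, [4, 3, 1, 3, 1, 0, 4, 0]), (230, false, [1, 0, 1, 0, 1, 3, 1, 0, 1, 3, 1, 3]), (109, false, [2, 4, 0, 4, 3, 4, 0, 1, 3, 1, 3, 1, 0]), (82, true, [1, 0, 4, 0, 4, 3, 4, 3, 4, 0, 4, 0, 1]), (235, true, [3, 1, 0, 4, 0, 4, 3, 1, 3, 1, 3, 1, 0, 1, 0]), (65, true, [3, 4, 3, 1, 3, 1, 3, 1, 0, 4, 3, 4, 3]), (111, true, [2, 0, 4, 3, 1, 0, 1, 3, 4, 3, 1, 0, 4, 0, 4, 0, 1]), (220, false, [3, 4, 0, 4, 0, 4, 3, 4, 3, 4, 0, 1, 3, 1]), (237, false, [0, 1, 2,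 0, 1, 3, 1, 3, 4, 3, 4, 0, 1, 3, 1, 3]), (260, true, [0, 4, 3, 4, 3, 1, 0, 1, 3, 4, 0, 4, 0, 4, 3, 4, 3]), (220, false, [0, 1, 0, 4, 0, 4, 3, 1, 3, 4, 0, 4, 3, 4]), (65, true, [4, 3, 1, 3, 1, 3, 1, 0, 4, 3, 4, 0]), (106, false, [1, 3, 4, 0, 4, 3, 1, 3, 1, 3, 1, 0]), (41, true, [0, 1, 2, 0, 1, 0, 4, 0, 4, 3, 1, 0, 1, 0, 1]), (258, false, [0, 1, 0, 4, 3, 1])]
def r119 : List (ℕ × Bool × List ℕ) := [(176, false, [4, 0, 4, 0, 4, 3, 4, 0, 1, 3]), (218, false, [0, 2, 4, 3, 4, 0, 1, 0, 1, 0, 4, 3, 4, 0, 4, 3]), (158, false, [0, 2, 4, 3, 1, 3, 1, 3, 1, 0, 1, 0, 1, 3, 4, 3]), (176, false, [4, 3, 1, 3, 1, 0, 1, 3, 4, 3]), (124, true, [0, 2, 4, 0, 4, 0, 4, 0, 4, 3, 4, 3]), (123, false, [1, 3, 1, 3, 1, 0, 1, 3, 1, 0, 1, 3, 1]), (103,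 false, [3, 4, 3, 1, 3, 1, 0, 1, 0, 1, 3]), (191, false, [1, 2, 0, 1, 3, 4, 3, 4, 0, 1, 0, 1, 0, 1, 3, 1]), (113, true, [1, 3, 1, 0, 1, 3, 4, 3, 1, 0, 1, 0, 1, 0, 1]), (202, true, [3, 4, 0, 1, 3, 4, 3, 4, 0, 4, 0, 4]), (6, true, [4, 0, 4, 3, 1, 3, 1, 3, 1, 0, 4, 0, 4, 3]), (230, true, [2, 4, 0, 4, 3, 4, 0, 4, 3, 4, 3, 4, 0, 1]), (7, true, [1, 2, 0, 4, 0, 1, 3, 1, 0, 4, 3, 1, 3]), (199, true, [1, 2, 0, 4, 3, 1, 3, 1, 3, 1, 0, 1, 3]), (171, false, [0, 4, 3, 1, 3, 1, 0, 4, 3, 1, 3, 1, 0, 1, 0, 4]), (57, false, [1, 0, 4, 0, 4, 0, 4, 3, 1, 3, 1, 0, 1]), (253, true, [3, 4, 3, 4, 0, 4, 3, 4, 3, 4, 0, 1, 3, 1, 0, 4]), (52, true, [1, 0, 1, 3, 1, 3, 4, 3, 4, 3]), (199, true, [0, 1, 3, 4, 0, 4, 0, 1, 3, 1, 3, 1, 3, 1]), (117, false,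 [0, 2, 4, 0, 1, 0, 1, 0, 4, 0, 4, 3, 1, 3, 1]), (58, true, [0, 1, 3, 1, 0, 4, 0, 4, 0, 1, 3, 1, 0, 4, 3, 4]), (171, false, [0, 1, 2, 0, 1, 0, 1, 3, 4, 0, 1, 0, 1, 3]), (81, false, [3, 4, 3, 1, 0, 4, 0, 4, 3, 1, 3, 4, 0, 4, 3]), (55, false, [0, 1, 3, 1, 3, 1, 0, 4, 0, 1]), (225, true, [3, 1, 0, 1, 0, 4, 0, 4, 3, 4, 0, 4, 3, 1, 0, 4]), (261, true, [0, 1, 0, 2, 4, 0, 1, 3, 1, 0, 4, 0, 4, 3, 4, 0]), (218, false, [1, 3, 4, 3, 4, 0, 1, 3, 1, 3, 4, 0]), (222, false, [1, 3, 1, 0, 1, 3, 4, 3, 4, 3, 4, 3]), (29, true, [2, 0, 4, 3, 1, 3, 1, 0, 1, 3, 1, 0]), (242, true, [1, 3, 1, 0, 1, 3, 1, 0, 1, 0, 1, 0]), (179, true, [3, 1, 0, 1, 0, 1, 0, 4, 0, 4, 0, 1, 3, 1, 0]), (187, false, [1, 2, 0, 4, 0, 4, 3, 1, 3, 1, 0, 1, 0, 1]), (167,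 true, [1, 3, 4, 0, 4, 0, 1, 3, 1, 0, 4, 3, 4, 3, 4, 0]), (225, true, [2, 0, 1, 0, 1, 3, 1, 3, 1, 0, 4, 3, 4, 3]), (7, true, [1, 0, 1, 0, 1, 0, 1, 0, 4, 0, 4, 0, 4, 3, 4, 3]), (195, false, [2, 0, 1, 3, 1, 3, 4, 0, 4, 3, 1, 3, 1, 3]), (261, true, [0, 4, 0, 4, 3, 1, 0, 1, 0, 4, 0, 4, 0, 4, 3]), (172, true, [3, 1, 0, 1, 0, 1, 3, 4, 3, 4, 0, 1, 0, 1, 0, 1]), (12, true, [1, 3, 4, 3, 1, 0, 1, 0, 4, 3, 4, 0, 1]), (125, true, [4, 0, 4, 0, 1, 3, 4, 3, 4, 3, 1, 0, 1, 3, 4]), (250, false, [3, 1, 3, 4, 0, 1, 3, 1, 0, 1]), (237, true, [0, 1, 0, 1, 3, 1, 0, 4, 0, 4, 3, 1, 0, 4, 0]), (178, true, [1, 2, 0, 4, 0, 1, 3, 1, 0, 4, 0, 4, 0, 1, 3, 1, 3]), (151, true, [4, 3, 1, 0, 1, 0, 1, 0, 4, 0, 4, 0, 4, 3]), (235, true, [2, 4, 0, 4, 3, 1,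 0, 1, 0, 1, 3, 1, 3, 4, 0]), (257, false, [1, 0, 1, 2, 0, 4, 3, 1, 3, 1, 0, 1]), (254, true, [3, 4, 0, 4, 3, 4, 3, 1, 0, 4, 3, 4, 3, 1, 3]), (124, true, [1, 0, 4, 0, 1, 3, 4, 0, 4, 3, 4, 0, 1, 0]), (75, false, [2, 0, 1, 3, 4, 3, 4, 3, 1, 0, 1, 3, 4, 0, 4]), (127, false, [0, 1, 0, 1, 3, 1, 0, 1, 3, 1, 0, 1, 3, 1, 3]), (151, true, [1, 2, 0, 1, 0, 4, 3, 4, 0, 1, 0, 1, 3, 4]), (178, true, [0, 1, 0, 4, 0, 4, 0, 4, 3, 4, 3, 4, 0, 4, 0]), (204, true, [1, 0, 1, 0, 1, 2, 0, 1, 0, 1, 3]), (254, true, [0, 1, 0, 1, 0, 1, 2, 0, 1, 3, 4, 0, 1]), (237, true, [2, 0, 4, 3, 4, 3, 4, 0, 4, 0, 1, 3, 1, 3, 1, 3, 1]), (91, false, [0, 1, 3, 1, 3, 1, 0, 4, 3, 4, 3, 4, 0, 4, 0, 1]), (198, true, [1, 0, 4, 3, 1, 0, 1, 3, 1, 3, 1, 0, 4, 3]), (246,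 true, [2, 4, 0, 1, 3, 1, 0, 1, 0, 4, 3, 1, 3]), (209, false, [0, 1, 3, 4, 3, 4, 3, 4, 0, 4, 3, 4, 0, 4, 0, 4]), (7, true, [2, 0, 4, 0, 1, 3, 4, 3, 4, 3, 4, 0, 1, 0, 1, 0]), (3, false, [0, 1, 0, 2, 4, 0, 4, 3, 1, 3, 1, 0, 1, 3]), (124, true, [1, 0, 2, 4, 3, 4, 0, 1, 3, 1, 0, 4, 0]), (84, false, [3, 1, 0, 1, 0, 1, 3, 1, 3, 4]), (267, false, [4, 0, 4, 3, 1, 3, 1, 0, 4, 3, 4, 0, 4]), (126, false, [0, 4, 3, 1, 0, 4, 0, 4, 3, 4]), (127, false, [2]), (200, true, [0, 4, 3, 1, 3, 4, 0, 4, 0, 1, 3, 4, 3, 4, 0, 1]), (125, true, [1, 0, 1, 0, 1, 2, 0, 4, 0, 1, 3, 4, 0, 4, 0, 4, 3, 4]), (235, true, [3, 4, 0, 1, 0, 1, 3, 1, 0, 1, 3, 4, 3, 1, 0]), (179, true, [1, 0, 2, 4, 3, 4, 3, 4, 3, 1, 0, 4, 3, 4]), (219, false, [1, 3, 4, 0, 1, 0,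 1, 3, 1, 3, 1, 0, 1, 0, 1, 3]), (54, false, [2, 4, 3, 1, 3, 4, 0, 1, 0, 1, 3, 4]), (222, false, [1, 2, 0, 4, 0, 1, 3, 1, 0, 1, 0, 4, 3, 1, 3, 1, 0]), (216, false, [1, 0, 1, 3, 4, 0, 4, 3, 4, 3, 4, 0, 1]), (172, true, [1, 2, 0, 4, 0, 4, 0, 4, 3, 1, 0, 4, 0, 4, 0, 4]), (6, true, [0, 2, 4, 0, 4, 0, 4, 3, 4, 3, 4, 0, 4, 3]), (57, false, [0, 1, 2, 0, 1, 3, 1, 3, 1, 3, 4, 3, 4, 3, 4, 3]), (231, false, [1, 0, 1, 2, 0, 1, 0, 1, 3, 1, 3, 1, 3, 4]), (140, true, [1, 0, 4, 0, 4, 3, 4, 0, 1, 0, 1, 3, 4]), (218, false, [2, 0, 1, 0, 1, 3, 4, 0, 4, 0, 4, 0, 1, 0]), (123, false, [2, 4, 3, 1, 0, 1, 3, 1, 0, 1, 3, 1]), (216, true, [1, 0, 1, 0, 1, 0, 1, 3, 1, 3, 1, 0, 1, 0, 4]), (75, true, [3, 4, 0, 1, 0, 1, 0, 4, 0, 4, 3, 1, 0]), (7, true,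 [1, 0, 1, 0, 1, 3, 1, 0, 4, 3, 4, 0, 1, 0]), (158, false, [1, 0, 1, 3, 1, 0, 4, 0, 4, 0, 1, 3, 1, 0, 4]), (144, false, [1, 0, 4, 0, 1, 3, 1, 3, 1, 3, 4]), (176, false, [3, 4, 3, 1, 0, 4, 3, 4, 3, 4, 0, 1, 3]), (202, true, [0, 1, 0, 1, 0, 4, 3, 4, 0, 1, 0, 1, 0]), (172, true, [0, 2, 4, 3, 1, 3, 1, 0, 4, 0, 4, 0, 4]), (58, true, [1, 2, 0, 4, 3, 1, 0, 1, 3, 1, 3, 1, 0, 4, 3]), (250, false, [2, 4, 3, 1, 3, 1, 3, 1, 0, 4, 3, 4, 0, 4, 0]), (209, false, [0, 1, 0, 1, 2, 0, 1, 0, 1, 0, 4, 0, 4, 3]), (54, false, [2, 4, 0, 4, 3, 4, 3, 4]), (219, false, [2, 4, 0, 1, 0, 4, 3, 1, 3, 4]), (200, true, [0, 2, 4, 0, 4, 0, 4, 3, 4, 3, 4, 0, 4, 3, 1]), (126, false, [1, 0, 2, 4, 0, 4, 3, 1, 0, 1, 0, 4, 0, 4, 0, 1, 0]), (195, false, [4, 0,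 1, 0, 1, 0, 4, 3, 4, 0, 4, 0, 4]), (91, false, [2, 0, 1, 0, 1, 3, 4, 0, 4, 3, 4, 3, 4, 0, 1, 0]), (187, false, [0, 4, 3, 1, 3, 1, 0, 1, 0, 1]), (253, true, [1, 0, 2, 4, 0, 4, 0, 4, 0, 4, 3, 4, 3, 4, 0, 1]), (167, false, [4, 3, 4, 3, 1, 0, 1, 0, 4, 0, 4, 0, 1, 3]), (230, true, [1, 3, 4, 3, 4, 0, 4, 3, 1, 0, 1, 0, 1, 0, 1]), (124, true, [3, 4, 0, 1, 3, 1, 0, 1, 3, 4, 3, 4]), (119, true, []), (166, true, [2, 0, 4, 3, 1, 0, 4, 3, 4, 3, 4]), (228, true, [0, 1, 3, 1, 3, 4, 0, 4, 3, 4, 0, 1]), (172, true, [0, 1, 0, 1, 0, 1, 2, 0, 4, 0, 1, 3, 4, 0, 4, 0, 4]), (172, true, [4, 3, 1, 3, 1, 0, 4, 3, 4, 0, 1, 0, 1, 0, 4]), (218, false, [0, 1, 3, 1, 0, 1, 3, 4, 3, 1, 0, 1, 0, 1, 0, 4, 3]), (191, false, [0, 1, 3, 1, 3, 4, 3, 4, 0, 1,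 3, 1, 3, 1, 3]), (231, false, [1, 3, 1, 0, 1, 0, 1, 3, 1, 3, 1, 3, 4]), (172, true, [0, 4, 3, 4, 3, 4, 0, 4, 0, 4, 3, 1, 0, 1, 0, 4])]

theorem q108 : closeb 18 ps18 base7 rgR om xs x108 orb r108 = true := by decide +kernel
theorem q109 : closeb 18 ps18 base7 rgR om xs x109 orb r109 = true := by decide +kernel
theorem q110 : closeb 18 ps18 base7 rgR om xs x110 orb r110 = true := by decide +kernel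
theorem q111 : closeb 18 ps18 base7 rgR om xs x111 orb r111 = true := by decide +kernel
theorem q112 : closeb 18 ps18 base7 rgR om xs x112 orb r112 = true := by decide +kernel
theorem q113 : closeb 18 ps18 base7 rgR om xs x113 orb r113 = true := by decide +kernel
theorem q114 : closeb 18 ps18 base7 rgR om xs x114 orb r114 = true := by decide +kernel
theorem q115 : closeb 18 ps18 base7 rgR om xs x115 orb r115 = true := by decide +kernel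
theorem q116 : closeb 18 ps18 base7 rgR om xs x116 orb r116 = true := by decide +kernel
theorem q117 : closeb 18 ps18 base7 rgR om xs x117 orb r117 = true := by decide +kernel
theorem q118 : closeb 18 ps18 base7 rgR om xs x118 orb r118 = true := by decide +kernel
theorem q119 : closeb 18 ps18 base7 rgR om xs x119 orb r119 = true := by decide +kernel

theorem c9 : Rows xc9 :=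
  Rows.cons q108 (Rows.cons q109 (Rows.cons q110 (Rows.cons q111 (Rows.cons q112 (Rows.cons q113 (Rows.cons q114 (Rows.cons q115 (Rows.cons q116 (Rows.cons q117 (Rows.cons q118 (Rows.cons q119 Rows.nil)))))))))))

end Cfsg.Agent.H698.U33.Clo
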