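import Cfsg.Agent.H698.U33.Frame

/-!
# S5525: the closure certificate, data (helper698; data of helper819, helper763)
-/

set_option autoImplicit false
set_option maxRecDepth 100000
set_option Elab.async false

namespace Cfsg.Agent.H698.U33.Clo

/-- `ω` -/
def om : List ℕ := [9, 1, 0, 34, 18, 31, 27, 1, 10, 21]

def i0 : ℕ := 53

/-- the orbit of `ω` under `R` -/
def orb : List (ℕ × List ℕ) := [(53, []),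
  (248, [0]),
  (249, [1]),
  (201, [2]),
  (903, [3]),
  (909, [4]),
  (904, [0, 1]),
  (157, [0, 2]),
  (1065, [0, 4]),
  (751, [1, 0]),
  (1748, [1, 3]),
  (750, [2, 0]),
  (508, [2, 4]),
  (1939, [3, 1]),
  (2857, [3, 4]),
  (1415, [4, 3]),
  (1941, [0, 1, 0]),
  (565, [0, 1, 2]),
  (1072, [0, 1, 3]),
  (1486, [0, 2, 4]),
  (1262, [0, 4, 0]),
  (2278, [0, 4, 3]),
  (2663, [1, 3, 1]),
  (3366, [1, 3, 4]),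
  (1746, [2, 0, 1]),
  (2659, [2, 0, 4]),
  (2658, [3, 1, 3]),
  (3364, [3, 4, 3]),
  (2047, [4, 3, 1]),
  (2025, [4, 3, 4]),
  (2055, [0, 1, 0, 1]),
  (2362, [0, 1, 0, 2]),
  (2980, [0, 1, 0, 4]),
  (1403, [0, 1, 2, 0]),
  (631, [0, 1, 3, 1]),
  (1565, [0, 1, 3, 4]),
  (2420, [0, 2, 4, 0]),
  (1861, [0, 2, 4, 3]),
  (497, [0, 4, 0, 1]),
  (414, [0, 4, 0, 4]),
  (3162, [0, 4, 3, 1]),
  (3417, [0, 4, 3, 4]),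
  (3152, [1, 3, 1, 0]),
  (2831, [1, 3, 1, 3]),
  (2971, [1, 3, 4, 3]),
  (2934, [3, 1, 3, 1]),
  (3131, [3, 1, 3, 4]),
  (3501, [3, 4, 3, 1]),
  (3409, [3, 4, 3, 4]),
  (1041, [4, 3, 1, 3]),
  (658, [4, 3, 4, 0]),
  (1017, [4, 3, 4, 3]),
  (3276, [0, 1, 0, 2, 4]),
  (3478, [0, 1, 0, 4, 0]),
  (450, [0, 1, 2, 0, 1]),
  (910, [0, 1, 2, 0, 4]),
  (1564, [0, 1, 3, 1, 0]),
  (2480, [0, 1, 3, 4, 0]),
  (3252, [0, 2, 4, 0, 1]),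
  (3492, [0, 2, 4, 0, 4]),
  (304, [0, 2, 4, 3, 1]),
  (1395, [0, 4, 0, 1, 0]),
  (3493, [0, 4, 3, 1, 0]),
  (3135, [0, 4, 3, 4, 0]),
  (1777, [1, 3, 1, 0, 1]),
  (2685, [1, 3, 1, 0, 4]),
  (1837, [1, 3, 1, 3, 1]),
  (2734, [1, 3, 1, 3, 4]),
  (1605, [3, 1, 3, 1, 0]),
  (2026, [3, 1, 3, 1, 3]),
  (182, [4, 3, 4, 0, 4]),
  (289, [4, 3, 4, 3, 4]),
  (1571, [0, 1, 3, 1, 0, 1]),
  (1725, [0, 1, 3, 1, 0, 4]),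
  (3137, [0, 1, 3, 4, 0, 1]),
  (3438, [0, 1, 3, 4, 0, 4]),
  (3475, [0, 4, 3, 1, 0, 1]),
  (3506, [0, 4, 3, 1, 0, 4]),
  (2505, [0, 4, 3, 4, 0, 1]),
  (2838, [0, 4, 3, 4, 0, 4]),
  (1726, [1, 3, 1, 0, 1, 0]),
  (771, [1, 3, 1, 0, 1, 3]),
  (912, [1, 3, 1, 3, 1, 0]),
  (827, [1, 3, 1, 3, 1, 3]),
  (657, [4, 3, 4, 0, 4, 0]),
  (209, [4, 3, 4, 0, 4, 3]),
  (528, [4, 3, 4, 3, 4, 0]),
  (1444, [4, 3, 4, 3, 4, 3]),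
  (895, [0, 1, 3, 1, 0, 1, 0]),
  (638, [0, 1, 3, 1, 0, 1, 3]),
  (223, [0, 1, 3, 1, 0, 4, 0]),
  (737, [0, 1, 3, 1, 0, 4, 3]),
  (2853, [0, 1, 3, 4, 0, 4, 0]),
  (2852, [0, 1, 3, 4, 0, 4, 3]),
  (3439, [0, 4, 3, 1, 0, 1, 0]),
  (2967, [0, 4, 3, 1, 0, 1, 3]),
  (2399, [0, 4, 3, 4, 0, 1, 0]),
  (1600, [0, 4, 3, 4, 0, 1, 3]),
  (2081, [0, 4, 3, 4, 0, 4, 0]),
  (1907, [0, 4, 3, 4, 0, 4, 3]),
  (684, [1, 3, 1, 0, 1, 0, 1]),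
  (1385, [1, 3, 1, 0, 1, 3, 1]),
  (1661, [1, 3, 1, 3, 1, 0, 1]),
  (1355, [1, 3, 1, 3, 1, 3, 1]),
  (2506, [4, 3, 4, 0, 4, 0, 4]),
  (3231, [4, 3, 4, 3, 4, 3, 4]),
  (1253, [0, 1, 3, 1, 0, 1, 0, 1]),
  (889, [0, 1, 3, 1, 0, 1, 3, 1]),
  (1929, [0, 1, 3, 4, 0, 4, 0, 4]),
  (1928, [0, 1, 3, 4, 0, 4, 3, 4]),
  (2335, [1, 3, 1, 0, 1, 0, 1, 3]),
  (3497, [4, 3, 4, 0, 4, 0, 4, 3])]

def x0 : List ℕ := [0, 12, 17, 16, 0, 12, 17, 16, 0, 12, 17, 16]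
def x1 : List ℕ := [0, 30, 35, 16, 0, 30, 35, 16, 0, 30, 35, 16]
def x2 : List ℕ := [30, 17, 34, 0, 30, 17, 34, 0, 30, 17, 34, 0]
def x3 : List ℕ := [18, 16, 12, 17, 18, 16, 12, 17, 18, 16, 12, 17]
def x4 : List ℕ := [30, 18, 35, 34, 30, 18, 35, 34, 30, 18, 35, 34]
def x5 : List ℕ := [17, 34, 0, 12, 17, 34, 0, 12, 17, 34, 0, 12]
def x6 : List ℕ := [17, 0, 12, 34, 17, 0, 12, 34, 17, 0, 12, 34]
def x7 : List ℕ := [35, 34, 0, 30, 35, 34, 0, 30, 35, 34, 0, 30]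
def x8 : List ℕ := [14, 0, 8, 4, 30, 0, 1, 14, 0, 8, 4, 30, 0, 1]
def x9 : List ℕ := [3, 14, 0, 8, 4, 30, 0, 1, 14, 0, 8, 4, 30, 0, 1, 3]
def x10 : List ℕ := [34, 17, 0, 6, 3, 34, 17, 0, 6, 3, 34, 17, 0, 6, 3]
def x11 : List ℕ := [31, 0, 30, 35, 16, 0, 30, 35, 16, 0, 30, 35, 16, 13]
def x12 : List ℕ := [31, 35, 0, 30, 16, 35, 0, 30, 16, 35, 0, 30, 16, 13]
def x13 : List ℕ := [7, 14, 0, 8, 4, 30, 0, 1, 14, 0, 8, 4, 30, 0, 1, 7]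
def x14 : List ℕ := [30, 14, 0, 8, 4, 30, 0, 1, 14, 0, 8, 4, 30, 0, 1, 12]
def x15 : List ℕ := [31, 14, 0, 8, 4, 30, 0, 1, 14, 0, 8, 4, 30, 0, 1, 13]
def x16 : List ℕ := [2, 13, 34, 17, 30, 2, 13, 34, 17, 30, 2, 13, 34, 17, 30]
def x17 : List ℕ := [31, 3, 14, 0, 8, 4, 30, 0, 1, 14, 0, 8, 4, 30, 0, 1, 3, 13]
def x18 : List ℕ := [16, 35, 15, 16, 35, 15, 16, 35, 15]
def x19 : List ℕ := [12, 35, 2, 13, 34, 12, 35, 2, 13, 34, 12, 35, 2, 13, 34]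
def x20 : List ℕ := [31, 18, 14, 0, 8, 4, 30, 0, 1, 14, 0, 8, 4, 30, 0, 1, 0, 13]
def x21 : List ℕ := [15, 34, 17, 15, 34, 17, 15, 34, 17]
def x22 : List ℕ := [16, 15, 17, 16, 15, 17, 16, 15, 17]
def x23 : List ℕ := [34, 33, 17, 34, 33, 17, 34, 33, 17]
def x24 : List ℕ := [35, 16, 30, 2, 31, 35, 16, 30, 2, 31, 35, 16, 30, 2, 31]
def x25 : List ℕ := [35, 34, 15, 35, 34, 15, 35, 34, 15]
def x26 : List ℕ := [35, 34, 17, 0, 34, 0, 35, 34, 17, 0, 34, 0]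
def x27 : List ℕ := [3, 12, 35, 2, 13, 34, 12, 35, 2, 13, 34, 12, 35, 2, 13, 34, 3]
def x28 : List ℕ := [3, 35, 16, 30, 2, 31, 35, 16, 30, 2, 31, 35, 16, 30, 2, 31, 3]
def x29 : List ℕ := [9, 14, 0, 8, 4, 30, 0, 1, 14, 0, 8, 4, 30, 0, 1, 9]
def x30 : List ℕ := [31, 3, 18, 14, 0, 8, 4, 30, 0, 1, 14, 0, 8, 4, 30, 0, 1, 0, 3, 13]
def x31 : List ℕ := [5, 34, 17, 33, 5, 34, 17, 33, 5, 34, 17, 33]
def x32 : List ℕ := [30, 8, 14, 0, 8, 4, 30, 0, 1, 14, 0, 8, 4, 30, 0, 1, 8, 12]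
def x33 : List ℕ := [3, 35, 34, 17, 0, 34, 0, 35, 34, 17, 0, 34, 0, 3]
def x34 : List ℕ := [7, 35, 31, 16, 13, 5, 2, 16, 35, 31, 16, 13, 5, 2, 16, 7]
def x35 : List ℕ := [9, 3, 14, 0, 8, 4, 30, 0, 1, 14, 0, 8, 4, 30, 0, 1, 3, 9]
def x36 : List ℕ := [31, 7, 14, 0, 8, 4, 30, 0, 1, 14, 0, 8, 4, 30, 0, 1, 7, 13]
def x37 : List ℕ := [16, 35, 9, 13, 34, 31, 16, 35, 9, 13, 34, 31]
def x38 : List ℕ := [11, 14, 0, 8, 4, 30, 0, 1, 14, 0, 8, 4, 30, 0, 1, 11]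
def x39 : List ℕ := [9, 0, 3, 14, 0, 8, 4, 30, 0, 1, 14, 0, 8, 4, 30, 0, 1, 3, 18, 9]
def x40 : List ℕ := [4, 0, 16, 35, 4, 0, 16, 35, 4, 0, 16, 35, 4, 0, 16, 35]
def x41 : List ℕ := [6, 35, 16, 30, 2, 31, 35, 16, 30, 2, 31, 35, 16, 30, 2, 31, 6]
def x42 : List ℕ := [8, 35, 16, 30, 2, 31, 35, 16, 30, 2, 31, 35, 16, 30, 2, 31, 8]
def x43 : List ℕ := [30, 31, 35, 34, 30, 2, 31, 35, 34, 30, 2, 31, 35, 34, 30, 2, 12]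
def x44 : List ℕ := [35, 14, 0, 8, 4, 30, 0, 1, 14, 0, 8, 4, 30, 0, 1, 17]
def x45 : List ℕ := [30, 9, 14, 0, 8, 4, 30, 0, 1, 14, 0, 8, 4, 30, 0, 1, 9, 12]
def x46 : List ℕ := [6, 3, 12, 35, 2, 13, 34, 12, 35, 2, 13, 34, 12, 35, 2, 13, 34, 3, 6]
def x47 : List ℕ := [31, 9, 14, 0, 8, 4, 30, 0, 1, 14, 0, 8, 4, 30, 0, 1, 9, 13]
def x48 : List ℕ := [31, 9, 18, 14, 0, 8, 4, 30, 0, 1, 14, 0, 8, 4, 30, 0, 1, 0, 9, 13]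
def x49 : List ℕ := [9, 31, 3, 14, 0, 8, 4, 30, 0, 1, 14, 0, 8, 4, 30, 0, 1, 3, 13, 9]
def x50 : List ℕ := [9, 31, 0, 14, 0, 8, 4, 30, 0, 1, 14, 0, 8, 4, 30, 0, 1, 18, 13, 9]
def x51 : List ℕ := [9, 31, 18, 14, 0, 8, 4, 30, 0, 1, 14, 0, 8, 4, 30, 0, 1, 0, 13, 9]
def x52 : List ℕ := [9, 31, 3, 18, 14, 0, 8, 4, 30, 0, 1, 14, 0, 8, 4, 30, 0, 1, 0, 3, 13, 9]
def x53 : List ℕ := [9, 31, 0, 3, 14, 0, 8, 4, 30, 0, 1, 14, 0, 8, 4, 30, 0, 1, 3, 18, 13, 9]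
def x54 : List ℕ := [16, 12, 16, 0, 17, 12, 16, 0, 17, 12, 16, 0, 17, 34]
def x55 : List ℕ := [3, 14, 19, 0, 6, 14, 19, 0, 6, 14, 19, 0, 6, 3]
def x56 : List ℕ := [35, 31, 14, 0, 8, 4, 30, 0, 1, 14, 0, 8, 4, 30, 0, 1, 13, 17]
def x57 : List ℕ := [16, 14, 0, 8, 4, 30, 0, 1, 14, 0, 8, 4, 30, 0, 1, 34]
def x58 : List ℕ := [34, 14, 0, 8, 4, 30, 0, 1, 14, 0, 8, 4, 30, 0, 1, 16]
def x59 : List ℕ := [16, 0, 0, 12, 17, 16, 0, 12, 17, 16, 0, 12, 17, 16, 18, 34]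
def x60 : List ℕ := [16, 0, 17, 16, 12, 18, 17, 16, 12, 18, 17, 16, 12, 18, 18, 34]
def x61 : List ℕ := [16, 18, 17, 12, 18, 34, 17, 12, 18, 34, 17, 12, 18, 34, 0, 34]
def x62 : List ℕ := [34, 0, 17, 0, 12, 34, 17, 0, 12, 34, 17, 0, 12, 34, 18, 16]
def x63 : List ℕ := [34, 18, 18, 16, 12, 17, 18, 16, 12, 17, 18, 16, 12, 17, 0, 16]
def x64 : List ℕ := [16, 0, 0, 30, 35, 16, 0, 30, 35, 16, 0, 30, 35, 16, 18, 34]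
def x65 : List ℕ := [16, 0, 17, 0, 12, 34, 17, 0, 12, 34, 17, 0, 12, 34, 18, 34]
def x66 : List ℕ := [16, 18, 18, 16, 12, 17, 18, 16, 12, 17, 18, 16, 12, 17, 0, 34]
def x67 : List ℕ := [16, 18, 12, 16, 0, 17, 12, 16, 0, 17, 12, 16, 0, 17, 0, 34]
def x68 : List ℕ := [34, 0, 0, 12, 17, 16, 0, 12, 17, 16, 0, 12, 17, 16, 18, 16]
def x69 : List ℕ := [34, 0, 0, 30, 35, 16, 0, 30, 35, 16, 0, 30, 35, 16, 18, 16]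
def x70 : List ℕ := [34, 18, 12, 16, 0, 17, 12, 16, 0, 17, 12, 16, 0, 17, 0, 16]
def x71 : List ℕ := [34, 18, 30, 18, 35, 34, 30, 18, 35, 34, 30, 18, 35, 34, 0, 16]
def x72 : List ℕ := [34, 18, 30, 17, 34, 0, 30, 17, 34, 0, 30, 17, 34, 0, 0, 16]
def x73 : List ℕ := [34, 18, 35, 34, 0, 30, 35, 34, 0, 30, 35, 34, 0, 30, 0, 16]
def x74 : List ℕ := [35, 30, 3, 14, 0, 8, 4, 30, 0, 1, 14, 0, 8, 4, 30, 0, 1, 3, 12, 17]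
def x75 : List ℕ := [16, 3, 14, 0, 8, 4, 30, 0, 1, 14, 0, 8, 4, 30, 0, 1, 3, 34]
def x76 : List ℕ := [16, 0, 14, 0, 8, 4, 30, 0, 1, 14, 0, 8, 4, 30, 0, 1, 18, 34]
def x77 : List ℕ := [34, 3, 14, 0, 8, 4, 30, 0, 1, 14, 0, 8, 4, 30, 0, 1, 3, 16]
def x78 : List ℕ := [34, 0, 14, 0, 8, 4, 30, 0, 1, 14, 0, 8, 4, 30, 0, 1, 18, 16]
def x79 : List ℕ := [35, 31, 3, 14, 0, 8, 4, 30, 0, 1, 14, 0, 8, 4, 30, 0, 1, 3, 13, 17]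
def x80 : List ℕ := [35, 31, 18, 14, 0, 8, 4, 30, 0, 1, 14, 0, 8, 4, 30, 0, 1, 0, 13, 17]
def x81 : List ℕ := [16, 4, 18, 18, 16, 12, 17, 18, 16, 12, 17, 18, 16, 12, 17, 0, 4, 34]
def x82 : List ℕ := [16, 0, 4, 17, 0, 12, 34, 17, 0, 12, 34, 17, 0, 12, 34, 4, 18, 34]
def x83 : List ℕ := [34, 4, 18, 30, 17, 34, 0, 30, 17, 34, 0, 30, 17, 34, 0, 0, 4, 16]
def x84 : List ℕ := [34, 0, 4, 17, 0, 12, 34, 17, 0, 12, 34, 17, 0, 12, 34, 4, 18, 16]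
def x85 : List ℕ := [16, 4, 18, 12, 16, 0, 17, 12, 16, 0, 17, 12, 16, 0, 17, 0, 4, 34]
def x86 : List ℕ := [16, 4, 18, 30, 17, 34, 0, 30, 17, 34, 0, 30, 17, 34, 0, 0, 4, 34]
def x87 : List ℕ := [16, 0, 4, 0, 30, 35, 16, 0, 30, 35, 16, 0, 30, 35, 16, 4, 18, 34]
def x88 : List ℕ := [34, 4, 18, 18, 16, 12, 17, 18, 16, 12, 17, 18, 16, 12, 17, 0, 4, 16]
def x89 : List ℕ := [34, 4, 18, 12, 16, 0, 17, 12, 16, 0, 17, 12, 16, 0, 17, 0, 4, 16]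
def x90 : List ℕ := [34, 4, 18, 35, 34, 0, 30, 35, 34, 0, 30, 35, 34, 0, 30, 0, 4, 16]
def x91 : List ℕ := [34, 0, 4, 0, 12, 17, 16, 0, 12, 17, 16, 0, 12, 17, 16, 4, 18, 16]
def x92 : List ℕ := [34, 0, 4, 17, 16, 12, 18, 17, 16, 12, 18, 17, 16, 12, 18, 4, 18, 16]
def x93 : List ℕ := [30, 14, 19, 0, 6, 14, 19, 0, 6, 14, 19, 0, 6, 12]
def x94 : List ℕ := [31, 14, 19, 0, 6, 14, 19, 0, 6, 14, 19, 0, 6, 13]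
def x95 : List ℕ := [16, 0, 3, 14, 0, 8, 4, 30, 0, 1, 14, 0, 8, 4, 30, 0, 1, 3, 18, 34]
def x96 : List ℕ := [16, 18, 34, 17, 0, 6, 3, 34, 17, 0, 6, 3, 34, 17, 0, 6, 3, 0, 34]
def x97 : List ℕ := [34, 31, 0, 12, 17, 16, 0, 12, 17, 16, 0, 12, 17, 16, 13, 16]
def x98 : List ℕ := [16, 31, 0, 12, 17, 16, 0, 12, 17, 16, 0, 12, 17, 16, 13, 34]
def x99 : List ℕ := [16, 30, 14, 0, 8, 4, 30, 0, 1, 14, 0, 8, 4, 30, 0, 1, 12, 34]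
def x100 : List ℕ := [31, 3, 14, 19, 0, 6, 14, 19, 0, 6, 14, 19, 0, 6, 3, 13]
def x101 : List ℕ := [34, 31, 14, 0, 8, 4, 30, 0, 1, 14, 0, 8, 4, 30, 0, 1, 13, 16]
def x102 : List ℕ := [35, 9, 3, 14, 0, 8, 4, 30, 0, 1, 14, 0, 8, 4, 30, 0, 1, 3, 9, 17]
def x103 : List ℕ := [31, 3, 6, 14, 19, 0, 6, 14, 19, 0, 6, 14, 19, 0, 3, 13]
def x104 : List ℕ := [16, 7, 14, 0, 8, 4, 30, 0, 1, 14, 0, 8, 4, 30, 0, 1, 7, 34]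
def x105 : List ℕ := [16, 8, 14, 0, 8, 4, 30, 0, 1, 14, 0, 8, 4, 30, 0, 1, 8, 34]
def x106 : List ℕ := [16, 31, 14, 0, 8, 4, 30, 0, 1, 14, 0, 8, 4, 30, 0, 1, 13, 34]
def x107 : List ℕ := [34, 30, 14, 0, 8, 4, 30, 0, 1, 14, 0, 8, 4, 30, 0, 1, 12, 16]
def x108 : List ℕ := [35, 31, 30, 14, 0, 8, 4, 30, 0, 1, 14, 0, 8, 4, 30, 0, 1, 12, 13, 17]
def x109 : List ℕ := [31, 34, 14, 0, 8, 4, 30, 0, 1, 14, 0, 8, 4, 30, 0, 1, 16, 13]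
def x110 : List ℕ := [16, 14, 14, 0, 8, 4, 30, 0, 1, 14, 0, 8, 4, 30, 0, 1, 14, 34]
def x111 : List ℕ := [34, 7, 14, 0, 8, 4, 30, 0, 1, 14, 0, 8, 4, 30, 0, 1, 7, 16]
def x112 : List ℕ := [34, 8, 14, 0, 8, 4, 30, 0, 1, 14, 0, 8, 4, 30, 0, 1, 8, 16]
def x113 : List ℕ := [31, 16, 0, 17, 16, 12, 18, 17, 16, 12, 18, 17, 16, 12, 18, 18, 34, 13]
def x114 : List ℕ := [31, 34, 0, 0, 12, 17, 16, 0, 12, 17, 16, 0, 12, 17, 16, 18, 16, 13]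
def x115 : List ℕ := [31, 34, 18, 18, 16, 12, 17, 18, 16, 12, 17, 18, 16, 12, 17, 0, 16, 13]
def x116 : List ℕ := [31, 34, 18, 35, 34, 0, 30, 35, 34, 0, 30, 35, 34, 0, 30, 0, 16, 13]
def x117 : List ℕ := [16, 30, 18, 12, 16, 0, 17, 12, 16, 0, 17, 12, 16, 0, 17, 0, 12, 34]
def x118 : List ℕ := [16, 30, 18, 30, 17, 34, 0, 30, 17, 34, 0, 30, 17, 34, 0, 0, 12, 34]
def x119 : List ℕ := [34, 6, 18, 17, 34, 0, 12, 17, 34, 0, 12, 17, 34, 0, 12, 0, 6, 16]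
def x120 : List ℕ := [34, 18, 31, 0, 30, 35, 16, 0, 30, 35, 16, 0, 30, 35, 16, 13, 0, 16]
def x121 : List ℕ := [34, 31, 2, 18, 16, 12, 17, 18, 16, 12, 17, 18, 16, 12, 17, 2, 13, 16]
def x122 : List ℕ := [31, 16, 0, 0, 12, 17, 16, 0, 12, 17, 16, 0, 12, 17, 16, 18, 34, 13]
def x123 : List ℕ := [31, 34, 0, 17, 16, 12, 18, 17, 16, 12, 18, 17, 16, 12, 18, 18, 16, 13]
def x124 : List ℕ := [31, 34, 18, 17, 34, 0, 12, 17, 34, 0, 12, 17, 34, 0, 12, 0, 16, 13]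
def x125 : List ℕ := [16, 18, 31, 0, 30, 35, 16, 0, 30, 35, 16, 0, 30, 35, 16, 13, 0, 34]
def x126 : List ℕ := [16, 30, 0, 17, 16, 12, 18, 17, 16, 12, 18, 17, 16, 12, 18, 18, 12, 34]
def x127 : List ℕ := [16, 30, 18, 18, 16, 12, 17, 18, 16, 12, 17, 18, 16, 12, 17, 0, 12, 34]
def x128 : List ℕ := [34, 30, 18, 18, 16, 12, 17, 18, 16, 12, 17, 18, 16, 12, 17, 0, 12, 16]
def x129 : List ℕ := [16, 30, 3, 14, 0, 8, 4, 30, 0, 1, 14, 0, 8, 4, 30, 0, 1, 3, 12, 34]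
def x130 : List ℕ := [16, 31, 3, 14, 0, 8, 4, 30, 0, 1, 14, 0, 8, 4, 30, 0, 1, 3, 13, 34]
def x131 : List ℕ := [16, 14, 3, 14, 0, 8, 4, 30, 0, 1, 14, 0, 8, 4, 30, 0, 1, 3, 14, 34]
def x132 : List ℕ := [34, 31, 18, 14, 0, 8, 4, 30, 0, 1, 14, 0, 8, 4, 30, 0, 1, 0, 13, 16]
def x133 : List ℕ := [34, 31, 35, 34, 30, 2, 31, 35, 34, 30, 2, 31, 35, 34, 30, 2, 16]
def x134 : List ℕ := [35, 9, 0, 3, 14, 0, 8, 4, 30, 0, 1, 14, 0, 8, 4, 30, 0, 1, 3, 18, 9, 17]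
def x135 : List ℕ := [31, 3, 2, 14, 19, 0, 6, 14, 19, 0, 6, 14, 19, 0, 6, 2, 3, 13]
def x136 : List ℕ := [16, 7, 0, 14, 0, 8, 4, 30, 0, 1, 14, 0, 8, 4, 30, 0, 1, 18, 7, 34]
def x137 : List ℕ := [31, 34, 4, 18, 30, 17, 34, 0, 30, 17, 34, 0, 30, 17, 34, 0, 0, 4, 16, 13]
def x138 : List ℕ := [16, 4, 31, 35, 34, 30, 2, 31, 35, 34, 30, 2, 31, 35, 34, 30, 2, 4, 34]
def x139 : List ℕ := [35, 9, 30, 14, 0, 8, 4, 30, 0, 1, 14, 0, 8, 4, 30, 0, 1, 12, 9, 17]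
def x140 : List ℕ := [31, 30, 14, 19, 0, 6, 14, 19, 0, 6, 14, 19, 0, 6, 12, 13]
def x141 : List ℕ := [35, 9, 31, 14, 0, 8, 4, 30, 0, 1, 14, 0, 8, 4, 30, 0, 1, 13, 9, 17]
def x142 : List ℕ := [16, 4, 3, 31, 35, 34, 30, 2, 31, 35, 34, 30, 2, 31, 35, 34, 30, 2, 3, 4, 34]
def x143 : List ℕ := [16, 31, 8, 14, 0, 8, 4, 30, 0, 1, 14, 0, 8, 4, 30, 0, 1, 8, 13, 34]
def x144 : List ℕ := [31, 30, 3, 14, 19, 0, 6, 14, 19, 0, 6, 14, 19, 0, 6, 3, 12, 13]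
def x145 : List ℕ := [16, 30, 7, 14, 0, 8, 4, 30, 0, 1, 14, 0, 8, 4, 30, 0, 1, 7, 12, 34]
def x146 : List ℕ := [16, 30, 8, 14, 0, 8, 4, 30, 0, 1, 14, 0, 8, 4, 30, 0, 1, 8, 12, 34]
def x147 : List ℕ := [34, 30, 7, 14, 0, 8, 4, 30, 0, 1, 14, 0, 8, 4, 30, 0, 1, 7, 12, 16]
def x148 : List ℕ := [30, 16, 31, 14, 0, 8, 4, 30, 0, 1, 14, 0, 8, 4, 30, 0, 1, 13, 34, 12]
def x149 : List ℕ := [34, 31, 7, 14, 0, 8, 4, 30, 0, 1, 14, 0, 8, 4, 30, 0, 1, 7, 13, 16]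
def x150 : List ℕ := [34, 31, 8, 14, 0, 8, 4, 30, 0, 1, 14, 0, 8, 4, 30, 0, 1, 8, 13, 16]
def x151 : List ℕ := [9, 0, 16, 14, 0, 8, 4, 30, 0, 1, 14, 0, 8, 4, 30, 0, 1, 34, 18, 9]
def x152 : List ℕ := [9, 18, 16, 14, 0, 8, 4, 30, 0, 1, 14, 0, 8, 4, 30, 0, 1, 34, 0, 9]
def x153 : List ℕ := [31, 34, 31, 14, 0, 8, 4, 30, 0, 1, 14, 0, 8, 4, 30, 0, 1, 13, 16, 13]
def x154 : List ℕ := [16, 0, 9, 14, 0, 8, 4, 30, 0, 1, 14, 0, 8, 4, 30, 0, 1, 9, 18, 34]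
def x155 : List ℕ := [31, 30, 16, 18, 17, 12, 18, 34, 17, 12, 18, 34, 17, 12, 18, 34, 0, 34, 12, 13]
def x156 : List ℕ := [31, 30, 34, 0, 0, 12, 17, 16, 0, 12, 17, 16, 0, 12, 17, 16, 18, 16, 12, 13]
def x157 : List ℕ := [31, 30, 34, 18, 12, 16, 0, 17, 12, 16, 0, 17, 12, 16, 0, 17, 0, 16, 12, 13]
def x158 : List ℕ := [31, 30, 34, 18, 35, 34, 0, 12, 35, 34, 0, 12, 35, 34, 0, 12, 0, 16, 12, 13]
def x159 : List ℕ := [16, 30, 16, 35, 15, 16, 35, 15, 16, 35, 15, 12, 34]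
def x160 : List ℕ := [34, 30, 34, 35, 33, 34, 35, 33, 34, 35, 33, 12, 16]
def x161 : List ℕ := [34, 14, 2, 13, 34, 17, 30, 2, 13, 34, 17, 30, 2, 13, 34, 17, 30, 14, 16]
def x162 : List ℕ := [31, 16, 31, 0, 14, 0, 8, 4, 30, 0, 1, 14, 0, 8, 4, 30, 0, 1, 18, 13, 34, 13]
def x163 : List ℕ := [34, 31, 7, 18, 14, 0, 8, 4, 30, 0, 1, 14, 0, 8, 4, 30, 0, 1, 0, 7, 13, 16]
def x164 : List ℕ := [31, 30, 16, 12, 0, 35, 34, 0, 12, 0, 35, 34, 0, 12, 0, 35, 34, 0, 34, 12, 13]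
def x165 : List ℕ := [9, 31, 6, 14, 19, 0, 6, 14, 19, 0, 6, 14, 19, 0, 13, 9]
def x166 : List ℕ := [31, 9, 14, 19, 0, 6, 14, 19, 0, 6, 14, 19, 0, 6, 9, 13]
def x167 : List ℕ := [31, 30, 16, 18, 14, 0, 8, 4, 30, 0, 1, 14, 0, 8, 4, 30, 0, 1, 0, 34, 12, 13]
def x168 : List ℕ := [31, 30, 34, 3, 14, 0, 8, 4, 30, 0, 1, 14, 0, 8, 4, 30, 0, 1, 3, 16, 12, 13]
def x169 : List ℕ := [31, 30, 34, 18, 14, 0, 8, 4, 30, 0, 1, 14, 0, 8, 4, 30, 0, 1, 0, 16, 12, 13]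
def x170 : List ℕ := [31, 30, 34, 12, 0, 35, 34, 0, 12, 0, 35, 34, 0, 12, 0, 35, 34, 0, 16, 12, 13]
def x171 : List ℕ := [31, 16, 14, 0, 14, 0, 8, 4, 30, 0, 1, 14, 0, 8, 4, 30, 0, 1, 18, 14, 34, 13]
def x172 : List ℕ := [34, 3, 18, 35, 34, 17, 0, 34, 0, 35, 34, 17, 0, 34, 0, 0, 3, 16]
def x173 : List ℕ := [34, 30, 2, 16, 35, 15, 16, 35, 15, 16, 35, 15, 2, 12, 16]
def x174 : List ℕ := [9, 31, 0, 14, 19, 0, 6, 14, 19, 0, 6, 14, 19, 0, 6, 18, 13, 9]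
def x175 : List ℕ := [17, 16, 14, 0, 8, 4, 30, 0, 1, 14, 0, 8, 4, 30, 0, 1, 34, 35]
def x176 : List ℕ := [9, 31, 3, 14, 19, 0, 6, 14, 19, 0, 6, 14, 19, 0, 6, 3, 13, 9]
def x177 : List ℕ := [17, 34, 14, 0, 8, 4, 30, 0, 1, 14, 0, 8, 4, 30, 0, 1, 16, 35]
def x178 : List ℕ := [33, 16, 18, 14, 0, 8, 4, 30, 0, 1, 14, 0, 8, 4, 30, 0, 1, 0, 34, 15]
def x179 : List ℕ := [16, 18, 17, 34, 0, 4, 17, 34, 0, 4, 17, 34, 0, 4, 17, 34, 0, 4, 0, 34]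
def x180 : List ℕ := [16, 31, 35, 34, 17, 0, 34, 0, 35, 34, 17, 0, 34, 0, 13, 34]
def x181 : List ℕ := [34, 0, 4, 0, 16, 35, 4, 0, 16, 35, 4, 0, 16, 35, 4, 0, 16, 35, 18, 16]
def x182 : List ℕ := [34, 0, 4, 17, 0, 16, 4, 17, 0, 16, 4, 17, 0, 16, 4, 17, 0, 16, 18, 16]
def x183 : List ℕ := [34, 31, 35, 34, 17, 0, 34, 0, 35, 34, 17, 0, 34, 0, 13, 16]
def x184 : List ℕ := [17, 16, 18, 30, 18, 35, 34, 30, 18, 35, 34, 30, 18, 35, 34, 0, 34, 35]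
def x185 : List ℕ := [17, 34, 18, 30, 17, 34, 0, 30, 17, 34, 0, 30, 17, 34, 0, 0, 16, 35]
def x186 : List ℕ := [35, 34, 0, 0, 30, 35, 16, 0, 30, 35, 16, 0, 30, 35, 16, 18, 16, 17]
def x187 : List ℕ := [35, 34, 18, 12, 16, 0, 17, 12, 16, 0, 17, 12, 16, 0, 17, 0, 16, 17]
def x188 : List ℕ := [17, 34, 0, 0, 30, 35, 16, 0, 30, 35, 16, 0, 30, 35, 16, 18, 16, 35]
def x189 : List ℕ := [35, 16, 18, 18, 16, 12, 17, 18, 16, 12, 17, 18, 16, 12, 17, 0, 34, 17]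
def x190 : List ℕ := [35, 16, 18, 30, 18, 35, 34, 30, 18, 35, 34, 30, 18, 35, 34, 0, 34, 17]
def x191 : List ℕ := [35, 34, 18, 18, 16, 12, 17, 18, 16, 12, 17, 18, 16, 12, 17, 0, 16, 17]
def x192 : List ℕ := [16, 18, 9, 30, 14, 0, 8, 4, 30, 0, 1, 14, 0, 8, 4, 30, 0, 1, 12, 9, 0, 34]
def x193 : List ℕ := [34, 7, 0, 9, 14, 0, 8, 4, 30, 0, 1, 14, 0, 8, 4, 30, 0, 1, 9, 18, 7, 16]
def x194 : List ℕ := [34, 31, 2, 35, 34, 17, 0, 34, 0, 35, 34, 17, 0, 34, 0, 2, 13, 16]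
def x195 : List ℕ := [17, 16, 3, 14, 0, 8, 4, 30, 0, 1, 14, 0, 8, 4, 30, 0, 1, 3, 34, 35]
def x196 : List ℕ := [17, 16, 0, 14, 0, 8, 4, 30, 0, 1, 14, 0, 8, 4, 30, 0, 1, 18, 34, 35]
def x197 : List ℕ := [17, 34, 0, 14, 0, 8, 4, 30, 0, 1, 14, 0, 8, 4, 30, 0, 1, 18, 16, 35]
def x198 : List ℕ := [35, 16, 0, 14, 0, 8, 4, 30, 0, 1, 14, 0, 8, 4, 30, 0, 1, 18, 34, 17]
def x199 : List ℕ := [16, 31, 2, 35, 34, 17, 0, 34, 0, 35, 34, 17, 0, 34, 0, 2, 13, 34]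
def x200 : List ℕ := [17, 16, 0, 4, 0, 30, 35, 16, 0, 30, 35, 16, 0, 30, 35, 16, 4, 18, 34, 35]
def x201 : List ℕ := [31, 6, 0, 34, 31, 14, 0, 8, 4, 30, 0, 1, 14, 0, 8, 4, 30, 0, 1, 13, 16, 18, 6, 13]
def x202 : List ℕ := [16, 31, 0, 34, 35, 4, 0, 34, 35, 4, 0, 34, 35, 4, 0, 34, 35, 4, 13, 34]
def x203 : List ℕ := [34, 17, 0, 3, 14, 0, 8, 4, 30, 0, 1, 14, 0, 8, 4, 30, 0, 1, 3, 18, 35, 16]
def x204 : List ℕ := [34, 35, 0, 3, 14, 0, 8, 4, 30, 0, 1, 14, 0, 8, 4, 30, 0, 1, 3, 18, 17, 16]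
def x205 : List ℕ := [35, 16, 0, 3, 14, 0, 8, 4, 30, 0, 1, 14, 0, 8, 4, 30, 0, 1, 3, 18, 34, 17]
def x206 : List ℕ := [17, 16, 30, 14, 0, 8, 4, 30, 0, 1, 14, 0, 8, 4, 30, 0, 1, 12, 34, 35]
def x207 : List ℕ := [35, 16, 30, 14, 0, 8, 4, 30, 0, 1, 14, 0, 8, 4, 30, 0, 1, 12, 34, 17]
def x208 : List ℕ := [12, 2, 15, 16, 14, 0, 8, 4, 30, 0, 1, 14, 0, 8, 4, 30, 0, 1, 34, 33, 2, 30]
def x209 : List ℕ := [31, 16, 31, 35, 34, 17, 0, 34, 0, 35, 34, 17, 0, 34, 0, 13, 34, 13]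
def x210 : List ℕ := [31, 34, 31, 35, 34, 17, 0, 34, 0, 35, 34, 17, 0, 34, 0, 13, 16, 13]
def x211 : List ℕ := [34, 14, 31, 35, 34, 17, 0, 34, 0, 35, 34, 17, 0, 34, 0, 13, 14, 16]
def x212 : List ℕ := [16, 0, 6, 14, 19, 0, 6, 14, 19, 0, 6, 14, 19, 0, 18, 34]
def x213 : List ℕ := [34, 0, 6, 14, 19, 0, 6, 14, 19, 0, 6, 14, 19, 0, 18, 16]
def x214 : List ℕ := [35, 16, 14, 14, 0, 8, 4, 30, 0, 1, 14, 0, 8, 4, 30, 0, 1, 14, 34, 17]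
def x215 : List ℕ := [17, 16, 31, 2, 18, 16, 12, 17, 18, 16, 12, 17, 18, 16, 12, 17, 2, 13, 34, 35]
def x216 : List ℕ := [35, 16, 30, 18, 12, 16, 0, 17, 12, 16, 0, 17, 12, 16, 0, 17, 0, 12, 34, 17]
def x217 : List ℕ := [35, 34, 6, 18, 35, 34, 0, 30, 35, 34, 0, 30, 35, 34, 0, 30, 0, 6, 16, 17]
def x218 : List ℕ := [16, 0, 34, 30, 17, 34, 0, 30, 17, 34, 0, 30, 17, 34, 0, 16, 18, 34]
def x219 : List ℕ := [17, 34, 6, 18, 35, 34, 0, 30, 35, 34, 0, 30, 35, 34, 0, 30, 0, 6, 16, 35]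
def x220 : List ℕ := [17, 34, 30, 18, 12, 16, 0, 17, 12, 16, 0, 17, 12, 16, 0, 17, 0, 12, 16, 35]
def x221 : List ℕ := [17, 34, 31, 2, 18, 16, 12, 17, 18, 16, 12, 17, 18, 16, 12, 17, 2, 13, 16, 35]
def x222 : List ℕ := [35, 16, 30, 18, 18, 16, 12, 17, 18, 16, 12, 17, 18, 16, 12, 17, 0, 12, 34, 17]
def x223 : List ℕ := [35, 16, 31, 2, 18, 16, 12, 17, 18, 16, 12, 17, 18, 16, 12, 17, 2, 13, 34, 17]
def x224 : List ℕ := [35, 34, 30, 18, 18, 16, 12, 17, 18, 16, 12, 17, 18, 16, 12, 17, 0, 12, 16, 17]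
def x225 : List ℕ := [35, 34, 30, 18, 12, 16, 0, 17, 12, 16, 0, 17, 12, 16, 0, 17, 0, 12, 16, 17]
def x226 : List ℕ := [35, 34, 31, 2, 18, 16, 12, 17, 18, 16, 12, 17, 18, 16, 12, 17, 2, 13, 16, 17]
def x227 : List ℕ := [35, 16, 31, 35, 34, 30, 2, 31, 35, 34, 30, 2, 31, 35, 34, 30, 2, 34, 17]
def x228 : List ℕ := [17, 34, 30, 3, 14, 0, 8, 4, 30, 0, 1, 14, 0, 8, 4, 30, 0, 1, 3, 12, 16, 35]
def x229 : List ℕ := [34, 14, 31, 0, 35, 34, 17, 0, 34, 0, 35, 34, 17, 0, 34, 0, 18, 13, 14, 16]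
def x230 : List ℕ := [16, 3, 18, 6, 14, 19, 0, 6, 14, 19, 0, 6, 14, 19, 0, 0, 3, 34]
def x231 : List ℕ := [16, 35, 30, 3, 14, 0, 8, 4, 30, 0, 1, 14, 0, 8, 4, 30, 0, 1, 3, 12, 17, 34]
def x232 : List ℕ := [34, 35, 14, 0, 14, 0, 8, 4, 30, 0, 1, 14, 0, 8, 4, 30, 0, 1, 18, 14, 17, 16]
def x233 : List ℕ := [35, 34, 30, 3, 14, 0, 8, 4, 30, 0, 1, 14, 0, 8, 4, 30, 0, 1, 3, 12, 16, 17]
def x234 : List ℕ := [16, 30, 35, 18, 14, 0, 8, 4, 30, 0, 1, 14, 0, 8, 4, 30, 0, 1, 0, 17, 12, 34]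
def x235 : List ℕ := [16, 35, 14, 0, 14, 0, 8, 4, 30, 0, 1, 14, 0, 8, 4, 30, 0, 1, 18, 14, 17, 34]
def x236 : List ℕ := [34, 0, 3, 6, 14, 19, 0, 6, 14, 19, 0, 6, 14, 19, 0, 3, 18, 16]
def x237 : List ℕ := [34, 30, 35, 18, 14, 0, 8, 4, 30, 0, 1, 14, 0, 8, 4, 30, 0, 1, 0, 17, 12, 16]
def x238 : List ℕ := [3, 1, 35, 0, 30, 16, 35, 0, 30, 16, 35, 0, 30, 16, 19, 3]
def x239 : List ℕ := [3, 19, 0, 30, 17, 16, 0, 30, 17, 16, 0, 30, 17, 16, 1, 3]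
def x240 : List ℕ := [3, 19, 30, 18, 35, 34, 30, 18, 35, 34, 30, 18, 35, 34, 1, 3]
def x241 : List ℕ := [3, 1, 30, 18, 35, 34, 30, 18, 35, 34, 30, 18, 35, 34, 19, 3]
def x242 : List ℕ := [3, 1, 16, 0, 12, 17, 16, 0, 12, 17, 16, 0, 12, 17, 19, 3]
def x243 : List ℕ := [3, 1, 17, 0, 12, 34, 17, 0, 12, 34, 17, 0, 12, 34, 19, 3]
def x244 : List ℕ := [3, 1, 17, 34, 0, 12, 17, 34, 0, 12, 17, 34, 0, 12, 19, 3]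
def x245 : List ℕ := [3, 1, 35, 30, 18, 16, 35, 30, 18, 16, 35, 30, 18, 16, 19, 3]
def x246 : List ℕ := [3, 1, 35, 34, 0, 12, 35, 34, 0, 12, 35, 34, 0, 12, 19, 3]
def x247 : List ℕ := [3, 19, 16, 0, 12, 17, 16, 0, 12, 17, 16, 0, 12, 17, 1, 3]
def x248 : List ℕ := [3, 19, 17, 34, 0, 12, 17, 34, 0, 12, 17, 34, 0, 12, 1, 3]
def x249 : List ℕ := [3, 19, 35, 30, 18, 16, 35, 30, 18, 16, 35, 30, 18, 16, 1, 3]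
def x250 : List ℕ := [33, 30, 16, 31, 14, 0, 8, 4, 30, 0, 1, 14, 0, 8, 4, 30, 0, 1, 13, 34, 12, 15]
def x251 : List ℕ := [33, 30, 34, 31, 14, 0, 8, 4, 30, 0, 1, 14, 0, 8, 4, 30, 0, 1, 13, 16, 12, 15]
def x252 : List ℕ := [35, 16, 31, 3, 18, 14, 0, 8, 4, 30, 0, 1, 14, 0, 8, 4, 30, 0, 1, 0, 3, 13, 34, 17]
def x253 : List ℕ := [30, 16, 6, 14, 19, 0, 6, 14, 19, 0, 6, 14, 19, 0, 34, 12]
def x254 : List ℕ := [30, 34, 6, 14, 19, 0, 6, 14, 19, 0, 6, 14, 19, 0, 16, 12]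
def x255 : List ℕ := [16, 30, 14, 19, 0, 6, 14, 19, 0, 6, 14, 19, 0, 6, 12, 34]
def x256 : List ℕ := [16, 17, 31, 0, 3, 14, 0, 8, 4, 30, 0, 1, 14, 0, 8, 4, 30, 0, 1, 3, 18, 13, 35, 34]
def x257 : List ℕ := [3, 1, 3, 30, 18, 35, 34, 30, 18, 35, 34, 30, 18, 35, 34, 3, 19, 3]
def x258 : List ℕ := [16, 30, 0, 14, 19, 0, 6, 14, 19, 0, 6, 14, 19, 0, 6, 18, 12, 34]
def x259 : List ℕ := [35, 34, 18, 35, 34, 17, 0, 34, 0, 35, 34, 17, 0, 34, 0, 0, 16, 17]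
def x260 : List ℕ := [31, 34, 14, 31, 35, 34, 17, 0, 34, 0, 35, 34, 17, 0, 34, 0, 13, 14, 16, 13]
def x261 : List ℕ := [16, 30, 17, 31, 14, 0, 8, 4, 30, 0, 1, 14, 0, 8, 4, 30, 0, 1, 13, 35, 12, 34]
def x262 : List ℕ := [34, 6, 0, 14, 19, 0, 6, 14, 19, 0, 6, 14, 19, 0, 6, 18, 6, 16]
def x263 : List ℕ := [34, 0, 9, 17, 14, 0, 8, 4, 30, 0, 1, 14, 0, 8, 4, 30, 0, 1, 35, 9, 18, 16]
def x264 : List ℕ := [31, 19, 17, 34, 0, 12, 17, 34, 0, 12, 17, 34, 0, 12, 1, 13]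
def x265 : List ℕ := [34, 31, 34, 18, 30, 18, 35, 34, 30, 18, 35, 34, 30, 18, 35, 34, 0, 16, 13, 16]
def x266 : List ℕ := [16, 31, 34, 18, 18, 16, 12, 17, 18, 16, 12, 17, 18, 16, 12, 17, 0, 16, 13, 34]
def x267 : List ℕ := [16, 31, 34, 18, 35, 34, 0, 12, 35, 34, 0, 12, 35, 34, 0, 12, 0, 16, 13, 34]
def x268 : List ℕ := [30, 1, 18, 34, 35, 12, 18, 34, 35, 12, 18, 34, 35, 12, 19, 12]
def x269 : List ℕ := [30, 1, 30, 18, 35, 34, 30, 18, 35, 34, 30, 18, 35, 34, 19, 12]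
def x270 : List ℕ := [30, 19, 35, 30, 18, 16, 35, 30, 18, 16, 35, 30, 18, 16, 1, 12]
def x271 : List ℕ := [34, 0, 31, 16, 18, 17, 12, 18, 34, 17, 12, 18, 34, 17, 12, 18, 34, 0, 34, 13, 18, 16]
def x272 : List ℕ := [30, 3, 19, 35, 0, 30, 16, 35, 0, 30, 16, 35, 0, 30, 16, 1, 3, 12]
def x273 : List ℕ := [31, 1, 3, 30, 18, 35, 34, 30, 18, 35, 34, 30, 18, 35, 34, 3, 19, 13]
def x274 : List ℕ := [31, 19, 3, 0, 12, 16, 17, 0, 12, 16, 17, 0, 12, 16, 17, 3, 1, 13]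
def x275 : List ℕ := [31, 19, 3, 17, 16, 12, 18, 17, 16, 12, 18, 17, 16, 12, 18, 3, 1, 13]
def x276 : List ℕ := [30, 19, 3, 34, 0, 30, 17, 34, 0, 30, 17, 34, 0, 30, 17, 3, 1, 12]
def x277 : List ℕ := [31, 3, 19, 0, 34, 30, 18, 35, 34, 30, 18, 35, 34, 30, 18, 35, 18, 1, 3, 13]
def x278 : List ℕ := [30, 1, 5, 3, 14, 0, 8, 4, 30, 0, 1, 14, 0, 8, 4, 30, 0, 1, 3, 5, 19, 12]
def x279 : List ℕ := [17, 34, 17, 0, 14, 0, 8, 4, 30, 0, 1, 14, 0, 8, 4, 30, 0, 1, 18, 35, 16, 35]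
def x280 : List ℕ := [17, 34, 35, 0, 14, 0, 8, 4, 30, 0, 1, 14, 0, 8, 4, 30, 0, 1, 18, 17, 16, 35]
def x281 : List ℕ := [30, 19, 35, 31, 16, 13, 5, 2, 16, 35, 31, 16, 13, 5, 2, 16, 1, 12]

def xc0 : List (List ℕ) := [x0, x1, x2, x3, x4, x5, x6, x7, x8, x9, x10, x11]

def xc1 : List (List ℕ) := [x12, x13, x14, x15, x16, x17, x18, x19, x20, x21, x22, x23]

def xc2 : List (List ℕ) := [x24, x25, x26, x27, x28, x29, x30, x31, x32, x33, x34, x35]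

def xc3 : List (List ℕ) := [x36, x37, x38, x39, x40, x41, x42, x43, x44, x45, x46, x47]

def xc4 : List (List ℕ) := [x48, x49, x50, x51, x52, x53, x54, x55, x56, x57, x58, x59]

def xc5 : List (List ℕ) := [x60, x61, x62, x63, x64, x65, x66, x67, x68, x69, x70, x71]

def xc6 : List (List ℕ) := [x72, x73, x74, x75, x76, x77, x78, x79, x80, x81, x82, x83]

def xc7 : List (List ℕ) := [x84, x85, x86, x87, x88, x89, x90, x91, x92, x93, x94, x95]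

def xc8 : List (List ℕ) := [x96, x97, x98, x99, x100, x101, x102, x103, x104, x105, x106, x107]

def xc9 : List (List ℕ) := [x108, x109, x110, x111, x112, x113, x114, x115, x116, x117, x118, x119]

def xc10 : List (List ℕ) := [x120, x121, x122, x123, x124, x125, x126, x127, x128, x129, x130, x131]

def xc11 : List (List ℕ) := [x132, x133, x134, x135, x136, x137, x138, x139, x140, x141, x142, x143]

def xc12 : List (List ℕ) := [x144, x145, x146, x147, x148, x149, x150, x151, x152, x153, x154, x155]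

def xc13 : List (List ℕ) := [x156, x157, x158, x159, x160, x161, x162, x163, x164, x165, x166, x167]

def xc14 : List (List ℕ) := [x168, x169, x170, x171, x172, x173, x174, x175, x176, x177, x178, x179]

def xc15 : List (List ℕ) := [x180, x181, x182, x183, x184, x185, x186, x187, x188, x189, x190, x191]

def xc16 : List (List ℕ) := [x192, x193, x194, x195, x196, x197, x198, x199, x200, x201, x202, x203]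

def xc17 : List (List ℕ) := [x204, x205, x206, x207, x208, x209, x210, x211, x212, x213, x214, x215]

def xc18 : List (List ℕ) := [x216, x217, x218, x219, x220, x221, x222, x223, x224, x225, x226, x227]

def xc19 : List (List ℕ) := [x228, x229, x230, x231, x232, x233, x234, x235, x236, x237, x238, x239]

def xc20 : List (List ℕ) := [x240, x241, x242, x243, x244, x245, x246, x247, x248, x249, x250, x251]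

def xc21 : List (List ℕ) := [x252, x253, x254, x255, x256, x257, x258, x259, x260, x261, x262, x263]

def xc22 : List (List ℕ) := [x264, x265, x266, x267, x268, x269, x270, x271, x272, x273, x274, x275]

def xc23 : List (List ℕ) := [x276, x277, x278, x279, x280, x281]

/-- the representatives -/
def xs : List (List ℕ) := [x0, x1, x2, x3, x4, x5, x6, x7, x8, x9, x10, x11, x12, x13, x14, x15, x16, x17, x18, x19, x20, x21, x22, x23, x24, x25, x26, x27, x28, x29, x30, x31, x32, x33, x34, x35, x36, x37, x38, x39, x40, x41, x42, x43, x44, x45, x46, x47, x48, x49, x50, x51, x52, x53, x54, x55, x56, x57, x58, x59, x60, x61, x62, x63, x64, x65, x66, x67, x68, x69, x70, x71, x72, x73, x74, x75, x76, x77, x78, x79, x80, x81, x82, x83, x84, x85, x86, x87, x88, x89, x90, x91, x92, x93, x94, x95, x96, x97, x98,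 x99, x100, x101, x102, x103, x104, x105, x106, x107, x108, x109, x110, x111, x112, x113, x114, x115, x116, x117, x118, x119, x120, x121, x122, x123, x124, x125, x126, x127, x128, x129, x130, x131, x132, x133, x134, x135, x136, x137, x138, x139, x140, x141, x142, x143, x144, x145, x146, x147, x148, x149, x150, x151, x152, x153, x154, x155, x156, x157, x158, x159, x160, x161, x162, x163, x164, x165, x166, x167, x168, x169, x170, x171, x172, x173, x174, x175, x176, x177, x178, x179, x180, x181, x182, x183, x184, x185, x186, x187, x188, x189, x190, x191, x192, x193, x194, x195, x196, x197, x198, x199, x200, x201, x202, x203, x204, x205, x206, x207, x208, x209, x210, x211, x212, x213, x214, x215, x216, x217, x218, x219, x220, x221, x222, x223, x224, x225, x226, x227, x228, x229, x230, x231, x232, x233,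 x234, x235, x236, x237, x238, x239, x240, x241, x242, x243, x244, x245, x246, x247, x248, x249, x250, x251, x252, x253, x254, x255, x256, x257, x258, x259, x260, x261, x262, x263, x264, x265, x266, x267, x268, x269, x270, x271, x272, x273, x274, x275, x276, x277, x278, x279, x280, x281]

theorem xs_eq : xs = xc0 ++ (xc1 ++ (xc2 ++ (xc3 ++ (xc4 ++ (xc5 ++ (xc6 ++ (xc7 ++ (xc8 ++ (xc9 ++ (xc10 ++ (xc11 ++ (xc12 ++ (xc13 ++ (xc14 ++ (xc15 ++ (xc16 ++ (xc17 ++ (xc18 ++ (xc19 ++ (xc20 ++ (xc21 ++ (xc22 ++ (xc23))))))))))))))))))))))) := rfl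

/-- the generators as words in `ω` and the generators of `R` -/
def gw : List (List ℕ) := [[1],
  [2],
  [3],
  [5, 0, 3, 0, 4, 0, 2, 1, 0, 3, 1, 0, 4, 5, 0, 1, 0, 6, 0, 2],
  [2, 1, 2, 1, 3, 5, 4, 5, 1, 2, 4, 2, 4, 5, 4, 5],
  [1, 2, 4, 5, 4, 5, 1, 2, 4, 2, 4, 5],
  [4, 0, 2, 3, 1, 0, 3, 0, 1, 5, 0, 1, 2, 0, 5, 0, 5, 0, 5, 1, 5, 4, 0, 1, 2, 4, 0],
  [2, 0, 5, 0, 3, 5, 1, 0, 2, 1, 2, 4, 0, 3, 0, 4, 0, 2, 6, 0, 5, 0, 5, 4, 0, 2, 0],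
  [5, 1, 5, 1, 5, 0, 4, 5, 0, 4, 2, 4, 5, 0, 4, 6, 0, 2, 1, 0, 2, 4, 2, 0, 4, 2],
  [1, 2, 1, 2, 1, 2, 0, 2, 3, 0, 5, 4, 5, 0, 4, 0, 6, 0, 1, 0, 4, 0, 5, 4, 0, 4],
  [5, 1, 2, 4, 0, 1, 0, 1, 2, 0, 2, 1, 2, 0, 6, 4, 0, 5, 1, 5, 0, 5, 0, 2, 4, 0, 4],
  [1, 5, 1, 0, 2, 1, 2, 1, 3, 5, 4, 5, 0, 4, 2, 4],
  [3, 0, 2, 1, 0, 2, 0, 4, 5, 0, 3, 0, 1, 0, 1, 5, 0, 6, 0, 2, 1, 0, 4, 0, 4],
  [0, 2, 0, 5, 4, 0, 3, 0, 1, 5, 0, 5, 1, 0, 6, 0, 2, 0, 1, 0, 5, 0, 4, 2, 0, 6],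
  [2, 4, 2, 1, 2, 4, 5, 1, 5, 4, 5, 1, 5, 1],
  [4, 0, 3, 0, 5, 0, 3, 0, 5, 1, 0, 1, 3, 0, 4, 5, 0, 6, 0, 4, 6],
  [4, 2, 4, 2, 0, 3, 0, 2, 0, 4, 0, 2, 4, 5, 4, 0, 4, 2, 1, 0, 2, 4, 2, 0, 2, 0, 4, 0],
  [2, 1, 0, 5, 1, 2, 4, 2, 1, 0, 1, 2, 1, 2, 0, 6, 4, 0, 4, 5, 0, 4, 6, 5, 4]]

end Cfsg.Agent.H698.U33.Clo
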